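import Mathlib

/-!
# Sign of a product of two involutions

`a` a fixed-point-free involution, `b` an involution with no or exactly two fixed points.
-/

set_option autoImplicit false

namespace Cfsg.Agent.Helper44

open Equiv

variable {α : Type*} [Fintype α] [DecidableEq α]

theorem card_fixedPoints_eq_zero_of_forall_ne (a : Perm α) (h : ∀ x, a x ≠ x) :
    Fintype.card (Function.fixedPoints a) = 0 := by
  rw [Fintype.card_eq_zero_iff]
  exact ⟨fun x => h x.1 x.2⟩

theorem two_dvd_card_of_fixedPointFree_involution (a : Perm α) (ha : a ^ 2 = 1)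
    (h : ∀ x, a x ≠ x) : 2 ∣ Fintype.card α := by
  have h1 := Equiv.Perm.two_dvd_card_support ha
  have h2 : a.support = Finset.univ := by
    ext x
    simp [Equiv.Perm.mem_support, h x]
  rw [h2] at h1
  exact h1

theorem sign_mul_involutions_of_no_fixed (a b : Perm α) (ha : a ^ 2 = 1) (hb : b ^ 2 = 1)
    (hfa : ∀ x, a x ≠ x) (hfb : ∀ x, b x ≠ x) : Perm.sign (a * b) = 1 := by
  rw [map_mul, Equiv.Perm.sign_of_pow_two_eq_one ha, Equiv.Perm.sign_of_pow_two_eq_one hb,
    card_fixedPoints_eq_zero_of_forall_ne a hfa, card_fixedPoints_eq_zero_of_forall_ne b hfb,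
    ← pow_add, ← two_mul, pow_mul]
  simp

theorem sign_mul_involutions_of_two_fixed (a b : Perm α) (ha : a ^ 2 = 1) (hb : b ^ 2 = 1)
    (hfa : ∀ x, a x ≠ x) (y z : α) (hyz : y ≠ z) (hfb : ∀ x, b x = x ↔ x = y ∨ x = z) :
    Perm.sign (a * b) = -1 := by
  have hy : b y = y := (hfb y).2 (Or.inl rfl)
  have hz : b z = z := (hfb z).2 (Or.inr rfl)
  have hcard : Fintype.card (Function.fixedPoints b) = 2 := by
    rw [← Nat.card_eq_fintype_card, Nat.card_eq_two_iff]
    refine ⟨⟨y, hy⟩, ⟨z, hz⟩, fun h => hyz (congrArg Subtype.val h), ?_⟩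
    ext x
    simp only [Set.mem_univ, Set.mem_insert_iff, Set.mem_singleton_iff, iff_true]
    rcases (hfb x.1).1 x.2 with h | h
    · exact Or.inl (Subtype.ext h)
    · exact Or.inr (Subtype.ext h)
  obtain ⟨k, hk⟩ := two_dvd_card_of_fixedPointFree_involution a ha hfa
  have hk1 : 1 ≤ k := by
    have h2 : Fintype.card (Function.fixedPoints b) ≤ Fintype.card α :=
      Fintype.card_subtype_le _
    omega
  rw [map_mul, Equiv.Perm.sign_of_pow_two_eq_one ha, Equiv.Perm.sign_of_pow_two_eq_one hb,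
    card_fixedPoints_eq_zero_of_forall_ne a hfa, hcard, hk, ← pow_add]
  have h3 : (2 * k - 0) / 2 + (2 * k - 2) / 2 = 2 * (k - 1) + 1 := by omega
  rw [h3, pow_succ, pow_mul]
  simp

end Cfsg.Agent.Helper44
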