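import Mathlib
import Cfsg.Prelude.Def_ClassicalGeometry
import Cfsg.Agent.Helper13.Isom
import Cfsg.Agent.Helper44.InvSign

/-!
# A spinor-norm type character of a finite orthogonal group in odd characteristic

For a quadratic form `Q` on `F^ι`, `F` a finite field of odd order, the isometry group acts on each
level set `{v | Q v = c}`; the sign of this permutation action is a character `signChar Q c`.
For `c ≠ 0` the reflection in `u` has sign `-1` exactly when `c * Q u` is a square.
-/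

set_option autoImplicit false

namespace Cfsg.Agent.Helper44

open Matrix

variable {F : Type*} [Field F] {ι : Type} [Fintype ι] [DecidableEq ι]

/-- Two isometries are equal when they act in the same way on vectors. -/
theorem isometryGroup_ext {Q : (ι → F) → F} {g h : Cfsg.isometryGroup F Q}
    (H : ∀ x, (g.1 : Matrix ι ι F) *ᵥ x = (h.1 : Matrix ι ι F) *ᵥ x) : g = h :=
  Subtype.ext (Units.ext (Matrix.mulVec_injective (funext H)))

theorem isometryGroup_apply {Q : (ι → F) → F} (g : Cfsg.isometryGroup F Q) (x : ι → F) :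
    Q ((g.1 : Matrix ι ι F) *ᵥ x) = Q x :=
  (Helper13.mem_isometryGroup_iff Q g.1).1 g.2 x

theorem isometryGroup_mul_mulVec {Q : (ι → F) → F} (g h : Cfsg.isometryGroup F Q) (x : ι → F) :
    ((g * h).1 : Matrix ι ι F) *ᵥ x = (g.1 : Matrix ι ι F) *ᵥ ((h.1 : Matrix ι ι F) *ᵥ x) := by
  rw [Matrix.mulVec_mulVec]
  rfl

theorem isometryGroup_one_mulVec {Q : (ι → F) → F} (x : ι → F) :
    (((1 : Cfsg.isometryGroup F Q)).1 : Matrix ι ι F) *ᵥ x = x := by
  show (1 : Matrix ι ι F) *ᵥ x = x
  rw [Matrix.one_mulVec]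

/-- The level set `{v | Q v = c}` as a type. -/
structure LevelSet (Q : (ι → F) → F) (c : F) where
  /-- the underlying vector -/
  val : ι → F
  /-- it lies on the level set -/
  prop : Q val = c

namespace LevelSet

variable (Q : (ι → F) → F) (c : F)

omit [Field F] [Fintype ι] [DecidableEq ι] in
theorem ext' {Q : (ι → F) → F} {c : F} {x y : LevelSet Q c} (h : x.val = y.val) : x = y := by
  cases x; cases y; cases h; rfl

instance [Finite F] : Finite (LevelSet Q c) :=
  Finite.of_injective (fun x : LevelSet Q c => x.val) (fun _ _ h => ext' h)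

noncomputable instance [Finite F] : Fintype (LevelSet Q c) := Fintype.ofFinite _

noncomputable instance : DecidableEq (LevelSet Q c) := Classical.decEq _

instance : MulAction (Cfsg.isometryGroup F Q) (LevelSet Q c) where
  smul g x := ⟨(g.1 : Matrix ι ι F) *ᵥ x.val, (isometryGroup_apply g x.val).trans x.prop⟩
  one_smul x := ext' (isometryGroup_one_mulVec x.val)
  mul_smul g h x := ext' (isometryGroup_mul_mulVec g h x.val)

variable {Q c}

theorem smul_val (g : Cfsg.isometryGroup F Q) (x : LevelSet Q c) :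
    (g • x).val = (g.1 : Matrix ι ι F) *ᵥ x.val := rfl

end LevelSet

/-- The sign of the permutation action of the isometry group on the level set `{Q = c}`. -/
noncomputable def signChar [Finite F] (Q : (ι → F) → F) (c : F) : Cfsg.isometryGroup F Q →* ℤˣ :=
  Equiv.Perm.sign.comp (MulAction.toPermHom (Cfsg.isometryGroup F Q) (LevelSet Q c))

theorem signChar_apply [Finite F] (Q : (ι → F) → F) (c : F) (g : Cfsg.isometryGroup F Q) :
    signChar Q c g = Equiv.Perm.sign (MulAction.toPerm g : Equiv.Perm (LevelSet Q c)) := rfl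

/-- Characters to a commutative group kill `Ω`. -/
theorem hom_eq_one_of_mem_Omega {Q : (ι → F) → F} {A : Type*} [CommGroup A]
    (f : Cfsg.isometryGroup F Q →* A) {g : Cfsg.isometryGroup F Q} (hg : g ∈ Cfsg.Omega F Q) :
    f g = 1 := by
  have h : commutator (Cfsg.isometryGroup F Q) ≤ f.ker := Abelianization.commutator_subset_ker f
  exact h hg

/-! ### Reflections and `-1` as isometries -/

section QuadForm

variable (Q : QuadraticForm F (ι → F))

/-- the reflection in `u` as an element of the isometry group -/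
noncomputable def refl (u : ι → F) (hu : Q u ≠ 0) : Cfsg.isometryGroup F ⇑Q :=
  ⟨Helper13.reflectionGL Q u hu, Helper13.reflectionGL_mem Q u hu⟩

theorem refl_coe (u : ι → F) (hu : Q u ≠ 0) :
    ((refl Q u hu).1 : Matrix ι ι F) = Cfsg.reflectionMatrix ⇑Q u := rfl

theorem refl_mulVec (u : ι → F) (hu : Q u ≠ 0) (x : ι → F) :
    ((refl Q u hu).1 : Matrix ι ι F) *ᵥ x = x - ((Q u)⁻¹ * QuadraticMap.polar ⇑Q u x) • u := by
  rw [refl_coe, Helper13.reflectionMatrix_mulVec]

theorem refl_mulVec_self (u : ι → F) (hu : Q u ≠ 0) :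
    ((refl Q u hu).1 : Matrix ι ι F) *ᵥ u = -u := by
  rw [refl_coe, Helper13.reflectionMatrix_mulVec_self Q u hu]

theorem refl_mulVec_smul_self (u : ι → F) (hu : Q u ≠ 0) (t : F) :
    ((refl Q u hu).1 : Matrix ι ι F) *ᵥ (t • u) = -(t • u) := by
  rw [Matrix.mulVec_smul, refl_mulVec_self, smul_neg]

theorem refl_mul_self (u : ι → F) (hu : Q u ≠ 0) : refl Q u hu * refl Q u hu = 1 := by
  apply isometryGroup_ext
  intro x
  rw [isometryGroup_mul_mulVec, isometryGroup_one_mulVec, refl_mulVec Q u hu x, Matrix.mulVec_sub,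
    Matrix.mulVec_smul, refl_mulVec_self, refl_mulVec]
  rw [smul_neg, sub_neg_eq_add, sub_add_cancel]

theorem refl_inv (u : ι → F) (hu : Q u ≠ 0) : (refl Q u hu)⁻¹ = refl Q u hu :=
  inv_eq_of_mul_eq_one_left (refl_mul_self Q u hu)

/-- `-1` as an isometry -/
def negOne : Cfsg.isometryGroup F ⇑Q :=
  ⟨-1, by
    rw [Helper13.mem_isometryGroup_iff]
    intro u
    rw [Units.val_neg, Units.val_one, Matrix.neg_mulVec, Matrix.one_mulVec, QuadraticMap.map_neg]⟩

theorem negOne_mulVec (x : ι → F) : ((negOne Q).1 : Matrix ι ι F) *ᵥ x = -x := by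
  show ((-1 : Matrix.GeneralLinearGroup ι F) : Matrix ι ι F) *ᵥ x = -x
  rw [Units.val_neg, Units.val_one, Matrix.neg_mulVec, Matrix.one_mulVec]

theorem negOne_mul_self : negOne Q * negOne Q = 1 := by
  apply isometryGroup_ext
  intro x
  rw [isometryGroup_mul_mulVec, isometryGroup_one_mulVec, negOne_mulVec, negOne_mulVec, neg_neg]

theorem negOne_mul_refl_mulVec (u : ι → F) (hu : Q u ≠ 0) (x : ι → F) :
    ((negOne Q * refl Q u hu).1 : Matrix ι ι F) *ᵥ x
      = -(((refl Q u hu).1 : Matrix ι ι F) *ᵥ x) := by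
  rw [isometryGroup_mul_mulVec, negOne_mulVec]

theorem negOne_mul_refl_mul_self (u : ι → F) (hu : Q u ≠ 0) :
    (negOne Q * refl Q u hu) * (negOne Q * refl Q u hu) = 1 := by
  apply isometryGroup_ext
  intro x
  rw [isometryGroup_mul_mulVec, isometryGroup_one_mulVec, negOne_mul_refl_mulVec,
    negOne_mul_refl_mulVec, Matrix.mulVec_neg, neg_neg, ← isometryGroup_mul_mulVec,
    refl_mul_self, isometryGroup_one_mulVec]

/-- the fixed vectors of `-r_u` are the multiples of `u` -/
theorem negOne_mul_refl_fixed_iff (h2 : (2 : F) ≠ 0) (u : ι → F) (hu : Q u ≠ 0) (x : ι → F) :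
    ((negOne Q * refl Q u hu).1 : Matrix ι ι F) *ᵥ x = x ↔ ∃ t : F, x = t • u := by
  rw [negOne_mul_refl_mulVec]
  constructor
  · intro h
    rw [refl_mulVec] at h
    refine ⟨2⁻¹ * ((Q u)⁻¹ * QuadraticMap.polar ⇑Q u x), ?_⟩
    have h3 : (2 : F) • x = ((Q u)⁻¹ * QuadraticMap.polar ⇑Q u x) • u := by
      rw [two_smul]
      have h4 : x + x = x + -(x - ((Q u)⁻¹ * QuadraticMap.polar ⇑Q u x) • u) := by rw [h]
      rw [h4]
      abel
    rw [mul_smul, ← h3, smul_smul, inv_mul_cancel₀ h2, one_smul]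
  · rintro ⟨t, rfl⟩
    rw [refl_mulVec_smul_self, neg_neg]

end QuadForm

/-! ### The sign of a reflection -/

section Sign

variable [Finite F] (Q : QuadraticForm F (ι → F))

theorem ne_zero_of_Q_ne_zero {u : ι → F} (hu : Q u ≠ 0) : u ≠ 0 := by
  rintro rfl
  exact hu (map_zero Q)

theorem toPerm_refl_eq (c : F) (u : ι → F) (hu : Q u ≠ 0) :
    (MulAction.toPerm (refl Q u hu) : Equiv.Perm (LevelSet ⇑Q c))
      = MulAction.toPerm (negOne Q) * MulAction.toPerm (negOne Q * refl Q u hu) := by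
  show MulAction.toPermHom _ (LevelSet ⇑Q c) (refl Q u hu)
    = MulAction.toPermHom _ (LevelSet ⇑Q c) (negOne Q)
      * MulAction.toPermHom _ (LevelSet ⇑Q c) (negOne Q * refl Q u hu)
  rw [← map_mul, ← mul_assoc, negOne_mul_self, one_mul]

theorem toPerm_sq_eq_one_of_mul_self {c : F} {g : Cfsg.isometryGroup F ⇑Q} (hg : g * g = 1) :
    (MulAction.toPerm g : Equiv.Perm (LevelSet ⇑Q c)) ^ 2 = 1 := by
  show (MulAction.toPermHom _ (LevelSet ⇑Q c) g) ^ 2 = 1
  rw [← map_pow, sq, hg, map_one]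

theorem toPerm_negOne_ne (h2 : (2 : F) ≠ 0) {c : F} (hc : c ≠ 0) (x : LevelSet ⇑Q c) :
    (MulAction.toPerm (negOne Q) : Equiv.Perm (LevelSet ⇑Q c)) x ≠ x := by
  intro h
  have h1 : (negOne Q • x).val = x.val := congrArg LevelSet.val h
  rw [LevelSet.smul_val, negOne_mulVec] at h1
  have h3 : (2 : F) • x.val = 0 := by
    rw [two_smul]
    nth_rewrite 1 [← h1]
    exact neg_add_cancel _
  have h4 : x.val = 0 := (smul_eq_zero.1 h3).resolve_left h2
  have h5 := x.prop
  rw [h4, map_zero] at h5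
  exact hc h5.symm

theorem toPerm_negOne_mul_refl_fixed_iff (h2 : (2 : F) ≠ 0) {c : F} (u : ι → F) (hu : Q u ≠ 0)
    (x : LevelSet ⇑Q c) :
    (MulAction.toPerm (negOne Q * refl Q u hu) : Equiv.Perm (LevelSet ⇑Q c)) x = x
      ↔ ∃ t : F, x.val = t • u := by
  rw [← negOne_mul_refl_fixed_iff Q h2 u hu x.val]
  constructor
  · intro h
    exact congrArg LevelSet.val h
  · intro h
    exact LevelSet.ext' h

theorem signChar_refl_of_not_isSquare (h2 : (2 : F) ≠ 0) {c : F} (hc : c ≠ 0) (u : ι → F)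
    (hu : Q u ≠ 0) (hsq : ¬ IsSquare (c * Q u)) : signChar ⇑Q c (refl Q u hu) = 1 := by
  rw [signChar_apply, toPerm_refl_eq]
  apply sign_mul_involutions_of_no_fixed
  · exact toPerm_sq_eq_one_of_mul_self Q (negOne_mul_self Q)
  · exact toPerm_sq_eq_one_of_mul_self Q (negOne_mul_refl_mul_self Q u hu)
  · exact toPerm_negOne_ne Q h2 hc
  · intro x hx
    obtain ⟨t, ht⟩ := (toPerm_negOne_mul_refl_fixed_iff Q h2 u hu x).1 hx
    apply hsq
    refine ⟨t * Q u, ?_⟩
    have h5 := x.prop
    rw [ht, QuadraticMap.map_smul, smul_eq_mul] at h5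
    rw [← h5]
    ring

theorem signChar_refl_of_isSquare (h2 : (2 : F) ≠ 0) {c : F} (hc : c ≠ 0) (u : ι → F)
    (hu : Q u ≠ 0) (hsq : IsSquare (c * Q u)) : signChar ⇑Q c (refl Q u hu) = -1 := by
  obtain ⟨s, hs⟩ := hsq
  have hu0 : u ≠ 0 := ne_zero_of_Q_ne_zero Q hu
  have hs0 : s ≠ 0 := by
    rintro rfl
    rw [mul_zero] at hs
    exact (mul_ne_zero hc hu) hs
  have ht0 : s * (Q u)⁻¹ ≠ 0 := mul_ne_zero hs0 (inv_ne_zero hu)
  have hQt : Q ((s * (Q u)⁻¹) • u) = c := by
    rw [QuadraticMap.map_smul, smul_eq_mul]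
    field_simp
    linear_combination -hs
  have hQt' : Q (-((s * (Q u)⁻¹) • u)) = c := by rw [QuadraticMap.map_neg, hQt]
  rw [signChar_apply, toPerm_refl_eq]
  apply sign_mul_involutions_of_two_fixed _ _ _ _ _ ⟨_, hQt⟩ ⟨_, hQt'⟩
  · intro h
    have h1 : (s * (Q u)⁻¹) • u = -((s * (Q u)⁻¹) • u) := congrArg LevelSet.val h
    have h3 : (2 : F) • ((s * (Q u)⁻¹) • u) = 0 := by
      rw [two_smul]
      nth_rewrite 1 [h1]
      exact neg_add_cancel _
    have h4 := (smul_eq_zero.1 h3).resolve_left h2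
    exact hu0 ((smul_eq_zero.1 h4).resolve_left ht0)
  · intro x
    rw [toPerm_negOne_mul_refl_fixed_iff Q h2 u hu x]
    constructor
    · rintro ⟨t, ht⟩
      have h5 := x.prop
      rw [ht, QuadraticMap.map_smul, smul_eq_mul] at h5
      have h6 : (t - s * (Q u)⁻¹) * (t + s * (Q u)⁻¹) = 0 := by
        have : (t - s * (Q u)⁻¹) * (t + s * (Q u)⁻¹) * Q u = t * t * Q u - s * s * (Q u)⁻¹ := by
          field_simp
          ring
        have h7 : (t - s * (Q u)⁻¹) * (t + s * (Q u)⁻¹) * Q u = 0 := by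
          rw [this, h5, ← hs]
          field_simp
          ring
        exact (mul_eq_zero.1 h7).resolve_right hu
      rcases mul_eq_zero.1 h6 with h | h
      · left
        apply LevelSet.ext'
        show x.val = (s * (Q u)⁻¹) • u
        rw [ht, sub_eq_zero.1 h]
      · right
        apply LevelSet.ext'
        show x.val = -((s * (Q u)⁻¹) • u)
        rw [ht, eq_neg_of_add_eq_zero_left h, neg_smul]
    · rintro (rfl | rfl)
      · exact ⟨_, rfl⟩
      · exact ⟨-(s * (Q u)⁻¹), by rw [neg_smul]⟩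
  · exact toPerm_sq_eq_one_of_mul_self Q (negOne_mul_self Q)
  · exact toPerm_sq_eq_one_of_mul_self Q (negOne_mul_refl_mul_self Q u hu)
  · exact toPerm_negOne_ne Q h2 hc

end Sign

end Cfsg.Agent.Helper44
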