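import Mathlib
import Cfsg.Prelude.Def_ClassicalGeometry
import Cfsg.Agent.Helper13.Isom
import Cfsg.Agent.Helper44.Spinor

/-!
# Products of reflections and `Ω` in odd characteristic

For a quadratic form over a finite field with `2 ≠ 0`, a product of reflections `r_{v₁} ⋯ r_{v_k}` lies in
`Ω = [O, O]` iff `k` is even and `∏ Q v_i` is a square.
-/

set_option autoImplicit false

namespace Cfsg.Agent.Helper44

open Matrix
open scoped commutatorElement

variable {F : Type*} [Field F] {ι : Type} [Fintype ι] [DecidableEq ι]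

/-- In a finite field, a product of two non-zero elements is a square iff both or neither are. -/
theorem isSquare_mul_iff [Finite F] {x y : F} (hx : x ≠ 0) (hy : y ≠ 0) :
    IsSquare (x * y) ↔ (IsSquare x ↔ IsSquare y) := by
  classical
  haveI := Fintype.ofFinite F
  rw [← quadraticChar_one_iff_isSquare (mul_ne_zero hx hy), ← quadraticChar_one_iff_isSquare hx,
    ← quadraticChar_one_iff_isSquare hy, map_mul]
  rcases quadraticChar_dichotomy hx with h | h <;> rcases quadraticChar_dichotomy hy with h' | h' <;>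
    rw [h, h'] <;> decide

variable (Q : QuadraticForm F (ι → F))

theorem Q_sub (u v : ι → F) : Q (u - v) = Q u + Q v - QuadraticMap.polar ⇑Q u v := by
  rw [sub_eq_add_neg, QuadraticMap.map_add ⇑Q, QuadraticMap.map_neg, QuadraticMap.polar_neg_right]
  ring

theorem refl_smul (u : ι → F) (hu : Q u ≠ 0) (t : F) (htu : Q (t • u) ≠ 0) :
    refl Q (t • u) htu = refl Q u hu := by
  have ht : t ≠ 0 := by
    rintro rfl
    rw [zero_smul, map_zero] at htu
    exact htu rfl
  apply isometryGroup_ext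
  intro x
  rw [refl_mulVec, refl_mulVec, QuadraticMap.map_smul, QuadraticMap.polar_smul_left, smul_smul]
  congr 2
  rw [smul_eq_mul, smul_eq_mul]
  field_simp

/-- conjugating a reflection: `g r_u = r_{g u} g` -/
theorem mul_refl (g : Cfsg.isometryGroup F ⇑Q) (u : ι → F) (hu : Q u ≠ 0)
    (hgu : Q ((g.1 : Matrix ι ι F) *ᵥ u) ≠ 0) :
    g * refl Q u hu = refl Q ((g.1 : Matrix ι ι F) *ᵥ u) hgu * g := by
  apply isometryGroup_ext
  intro x
  rw [isometryGroup_mul_mulVec, isometryGroup_mul_mulVec, refl_mulVec, refl_mulVec,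
    Matrix.mulVec_sub, Matrix.mulVec_smul, isometryGroup_apply (Q := ⇑Q) g u,
    Helper13.polar_mulVec_of_isometry Q _ (isometryGroup_apply g)]

theorem refl_mul_refl_map_mem_Omega (g : Cfsg.isometryGroup F ⇑Q) (u : ι → F) (hu : Q u ≠ 0)
    (hgu : Q ((g.1 : Matrix ι ι F) *ᵥ u) ≠ 0) :
    refl Q u hu * refl Q ((g.1 : Matrix ι ι F) *ᵥ u) hgu ∈ Cfsg.Omega F ⇑Q := by
  have h1 : refl Q ((g.1 : Matrix ι ι F) *ᵥ u) hgu = g * refl Q u hu * g⁻¹ := by
    rw [mul_refl Q g u hu hgu, mul_inv_cancel_right]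
  have h2 : refl Q u hu * refl Q ((g.1 : Matrix ι ι F) *ᵥ u) hgu = ⁅refl Q u hu, g⁆ := by
    rw [h1, commutatorElement_def, refl_inv]
    group
  rw [h2]
  show ⁅refl Q u hu, g⁆ ∈ commutator (Cfsg.isometryGroup F ⇑Q)
  rw [commutator_def]
  exact Subgroup.commutator_mem_commutator (Subgroup.mem_top _) (Subgroup.mem_top _)

/-- Witt's lemma for two nonsingular vectors of the same norm, in odd characteristic. -/
theorem exists_isometry_map (h2 : (2 : F) ≠ 0) (u v : ι → F) (huv : Q u = Q v) (hu : Q u ≠ 0) :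
    ∃ g : Cfsg.isometryGroup F ⇑Q, (g.1 : Matrix ι ι F) *ᵥ u = v := by
  by_cases h : Q (u - v) = 0
  · have h' : Q (u + v) ≠ 0 := by
      intro h'
      rw [Q_sub] at h
      rw [QuadraticMap.map_add ⇑Q] at h'
      have h4 : (2 : F) * 2 * Q u = 0 := by linear_combination h + h' + 2 * huv
      exact hu ((mul_eq_zero.1 h4).resolve_left (mul_ne_zero h2 h2))
    refine ⟨negOne Q * refl Q (u + v) h', ?_⟩
    rw [negOne_mul_refl_mulVec, refl_mulVec]
    have h5 : (Q (u + v))⁻¹ * QuadraticMap.polar ⇑Q (u + v) u = 1 := by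
      have h6 : QuadraticMap.polar ⇑Q (u + v) u = Q (u + v) := by
        rw [QuadraticMap.polar_add_left, QuadraticMap.polar_self, QuadraticMap.map_add ⇑Q,
          QuadraticMap.polar_comm ⇑Q v u, nsmul_eq_mul]
        push_cast
        linear_combination huv
      rw [h6, inv_mul_cancel₀ h']
    rw [h5, one_smul]
    abel
  · refine ⟨refl Q (u - v) h, ?_⟩
    rw [refl_mulVec]
    have h5 : (Q (u - v))⁻¹ * QuadraticMap.polar ⇑Q (u - v) u = 1 := by
      have h6 : QuadraticMap.polar ⇑Q (u - v) u = Q (u - v) := by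
        rw [QuadraticMap.polar_sub_left, QuadraticMap.polar_self, Q_sub,
          QuadraticMap.polar_comm ⇑Q v u, nsmul_eq_mul]
        push_cast
        linear_combination huv
      rw [h6, inv_mul_cancel₀ h]
    rw [h5, one_smul]
    abel

theorem refl_mul_refl_mem_Omega_of_eq (h2 : (2 : F) ≠ 0) (u v : ι → F) (hu : Q u ≠ 0)
    (hv : Q v ≠ 0) (huv : Q u = Q v) : refl Q u hu * refl Q v hv ∈ Cfsg.Omega F ⇑Q := by
  obtain ⟨g, rfl⟩ := exists_isometry_map Q h2 u v huv hu
  exact refl_mul_refl_map_mem_Omega Q g u hu hv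

theorem refl_mul_refl_mem_Omega (h2 : (2 : F) ≠ 0) (u v : ι → F) (hu : Q u ≠ 0)
    (hv : Q v ≠ 0) (hsq : IsSquare (Q u * Q v)) :
    refl Q u hu * refl Q v hv ∈ Cfsg.Omega F ⇑Q := by
  obtain ⟨s, hs⟩ := hsq
  have hQt : Q ((s * (Q v)⁻¹) • v) = Q u := by
    rw [QuadraticMap.map_smul, smul_eq_mul]
    field_simp
    linear_combination -hs
  have hQt0 : Q ((s * (Q v)⁻¹) • v) ≠ 0 := by rw [hQt]; exact hu
  rw [← refl_smul Q v hv (s * (Q v)⁻¹) hQt0]
  exact refl_mul_refl_mem_Omega_of_eq Q h2 u _ hu hQt0 hQt.symm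

end Cfsg.Agent.Helper44
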