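import Mathlib
import Cfsg.Prelude.Def_ClassicalGeometry
import Cfsg.Agent.Helper13.Isom
import Cfsg.Agent.Helper44.SpinorRefl

/-!
# Products of reflections and `Ω` in odd characteristic: the main criterion
-/

set_option autoImplicit false

namespace Cfsg.Agent.Helper44

open Matrix

variable {F : Type*} [Field F] {ι : Type} [Fintype ι] [DecidableEq ι]
variable (Q : QuadraticForm F (ι → F))

open Classical in
/-- the reflection in `u`, or `1` when `Q u = 0` -/
noncomputable def reflT (u : ι → F) : Cfsg.isometryGroup F ⇑Q :=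
  if h : Q u ≠ 0 then refl Q u h else 1

theorem reflT_of_ne (u : ι → F) (hu : Q u ≠ 0) : reflT Q u = refl Q u hu := dif_pos hu

theorem reflT_coe (u : ι → F) (hu : Q u ≠ 0) :
    ((reflT Q u).1 : Matrix ι ι F) = Cfsg.reflectionMatrix ⇑Q u := by
  rw [reflT_of_ne Q u hu]
  rfl

theorem reflT_mul_self (u : ι → F) : reflT Q u * reflT Q u = 1 := by
  by_cases hu : Q u ≠ 0
  · rw [reflT_of_ne Q u hu, refl_mul_self]
  · rw [reflT, dif_neg hu, one_mul]

/-- the image of a reflection in the abelianisation -/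
noncomputable def rho (u : ι → F) : Abelianization (Cfsg.isometryGroup F ⇑Q) :=
  Abelianization.of (reflT Q u)

theorem rho_mul_self (u : ι → F) : rho Q u * rho Q u = 1 := by
  rw [rho, ← map_mul, reflT_mul_self, map_one]

theorem rho_eq_of_isSquare (h2 : (2 : F) ≠ 0) (u v : ι → F) (hu : Q u ≠ 0) (hv : Q v ≠ 0)
    (hsq : IsSquare (Q u * Q v)) : rho Q u = rho Q v := by
  have h1 := refl_mul_refl_mem_Omega Q h2 u v hu hv hsq
  have h3 : rho Q u * rho Q v = 1 := by
    rw [rho, rho, ← map_mul, reflT_of_ne Q u hu, reflT_of_ne Q v hv, ← MonoidHom.mem_ker,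
      Abelianization.ker_of]
    exact h1
  calc rho Q u = rho Q u * (rho Q v * rho Q v) := by rw [rho_mul_self, mul_one]
    _ = rho Q v := by rw [← mul_assoc, h3, one_mul]

theorem list_prod_Q_ne_zero (vs : List (ι → F)) (hvs : ∀ v ∈ vs, Q v ≠ 0) :
    (vs.map (fun v => Q v)).prod ≠ 0 := by
  rw [Ne, List.prod_eq_zero_iff]
  intro h
  obtain ⟨v, hv, hv0⟩ := List.mem_map.1 h
  exact hvs v hv hv0

/-- the key list lemma -/
theorem rho_list_prod [Finite F] (h2 : (2 : F) ≠ 0) (vs : List (ι → F)) :
    (∀ v ∈ vs, Q v ≠ 0) →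
    ((Even vs.length → IsSquare (vs.map (fun v => Q v)).prod → (vs.map (rho Q)).prod = 1) ∧
    (Even vs.length → ¬ IsSquare (vs.map (fun v => Q v)).prod → ∀ w w' : ι → F, Q w ≠ 0 →
      Q w' ≠ 0 → ¬ IsSquare (Q w * Q w') → (vs.map (rho Q)).prod = rho Q w * rho Q w') ∧
    (Odd vs.length → ∀ w : ι → F, Q w ≠ 0 → IsSquare (Q w * (vs.map (fun v => Q v)).prod) →
      (vs.map (rho Q)).prod = rho Q w)) := by
  induction vs with
  | nil =>
    intro _
    refine ⟨fun _ _ => rfl, fun _ h => absurd ⟨1, by simp⟩ h, fun h => absurd h (by simp)⟩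
  | cons v vs ih =>
    intro hvs
    have hv : Q v ≠ 0 := hvs v List.mem_cons_self
    have hvs' : ∀ x ∈ vs, Q x ≠ 0 := fun x hx => hvs x (List.mem_cons_of_mem _ hx)
    obtain ⟨ih1, ih2, ih3⟩ := ih hvs'
    have hp : (vs.map (fun v => Q v)).prod ≠ 0 := list_prod_Q_ne_zero Q vs hvs'
    simp only [List.map_cons, List.prod_cons, List.length_cons]
    refine ⟨?_, ?_, ?_⟩
    · intro hev hsq
      have hodd : Odd vs.length := by
        rcases Nat.even_or_odd vs.length with h | h
        · exact absurd hev (Nat.not_even_iff_odd.2 h.add_one)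
        · exact h
      rw [ih3 hodd v hv hsq, rho_mul_self]
    · intro hev hsq w w' hw hw' hww'
      have hodd : Odd vs.length := by
        rcases Nat.even_or_odd vs.length with h | h
        · exact absurd hev (Nat.not_even_iff_odd.2 h.add_one)
        · exact h
      rw [isSquare_mul_iff hv hp] at hsq
      rw [isSquare_mul_iff hw hw'] at hww'
      by_cases hvw : IsSquare (Q v * Q w)
      · have h5 : IsSquare (Q w' * (vs.map (fun v => Q v)).prod) := by
          rw [isSquare_mul_iff hw' hp]
          rw [isSquare_mul_iff hv hw] at hvw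
          tauto
        rw [ih3 hodd w' hw' h5, rho_eq_of_isSquare Q h2 v w hv hw hvw]
      · have hvw' : IsSquare (Q v * Q w') := by
          rw [isSquare_mul_iff hv hw']
          rw [isSquare_mul_iff hv hw] at hvw
          tauto
        have h5 : IsSquare (Q w * (vs.map (fun v => Q v)).prod) := by
          rw [isSquare_mul_iff hw hp]
          rw [isSquare_mul_iff hv hw] at hvw
          tauto
        rw [ih3 hodd w hw h5, rho_eq_of_isSquare Q h2 v w' hv hw' hvw', mul_comm]
    · intro hodd w hw hsq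
      have hev : Even vs.length := by
        rcases Nat.even_or_odd vs.length with h | h
        · exact h
        · exact absurd hodd (Nat.not_odd_iff_even.2 h.add_one)
      rw [isSquare_mul_iff hw (mul_ne_zero hv hp), isSquare_mul_iff hv hp] at hsq
      by_cases hps : IsSquare (vs.map (fun v => Q v)).prod
      · have hvw : IsSquare (Q v * Q w) := by
          rw [isSquare_mul_iff hv hw]
          tauto
        rw [ih1 hev hps, mul_one, rho_eq_of_isSquare Q h2 v w hv hw hvw]
      · have hvw : ¬ IsSquare (Q v * Q w) := by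
          rw [isSquare_mul_iff hv hw]
          tauto
        rw [ih2 hev hps v w hv hw hvw, ← mul_assoc, rho_mul_self, one_mul]

theorem prod_reflT_mem_Omega [Finite F] (h2 : (2 : F) ≠ 0) (vs : List (ι → F))
    (hvs : ∀ v ∈ vs, Q v ≠ 0) (hev : Even vs.length)
    (hsq : IsSquare (vs.map (fun v => Q v)).prod) :
    (vs.map (reflT Q)).prod ∈ Cfsg.Omega F ⇑Q := by
  have h1 := (rho_list_prod Q h2 vs hvs).1 hev hsq
  show (vs.map (reflT Q)).prod ∈ commutator (Cfsg.isometryGroup F ⇑Q)
  rw [← Abelianization.ker_of, MonoidHom.mem_ker, map_list_prod, List.map_map]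
  exact h1

/-- determinant as a character of the isometry group -/
noncomputable def detHom (Q : (ι → F) → F) : Cfsg.isometryGroup F Q →* Fˣ :=
  Matrix.GeneralLinearGroup.det.comp (Cfsg.isometryGroup F Q).subtype

theorem detHom_reflT (u : ι → F) (hu : Q u ≠ 0) : detHom ⇑Q (reflT Q u) = -1 := by
  apply Units.ext
  show ((reflT Q u).1 : Matrix ι ι F).det = ((-1 : Fˣ) : F)
  rw [reflT_coe Q u hu, Helper13.reflectionMatrix_det Q u hu]
  simp

theorem detHom_prod_reflT (vs : List (ι → F)) (hvs : ∀ v ∈ vs, Q v ≠ 0) :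
    detHom ⇑Q (vs.map (reflT Q)).prod = (-1) ^ vs.length := by
  induction vs with
  | nil => simp
  | cons v vs ih =>
    have hv : Q v ≠ 0 := hvs v List.mem_cons_self
    have hvs' : ∀ x ∈ vs, Q x ≠ 0 := fun x hx => hvs x (List.mem_cons_of_mem _ hx)
    rw [List.map_cons, List.prod_cons, map_mul, ih hvs', detHom_reflT Q v hv, List.length_cons,
      pow_succ, mul_comm]

theorem signChar_reflT [Finite F] (h2 : (2 : F) ≠ 0) {c : F} (hc : ¬ IsSquare c) (u : ι → F)
    (hu : Q u ≠ 0) :
    (IsSquare (Q u) → signChar ⇑Q c (reflT Q u) = 1) ∧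
      (¬ IsSquare (Q u) → signChar ⇑Q c (reflT Q u) = -1) := by
  have hc0 : c ≠ 0 := by
    rintro rfl
    exact hc ⟨0, by simp⟩
  rw [reflT_of_ne Q u hu]
  constructor
  · intro h
    apply signChar_refl_of_not_isSquare Q h2 hc0 u hu
    rw [isSquare_mul_iff hc0 hu]
    tauto
  · intro h
    apply signChar_refl_of_isSquare Q h2 hc0 u hu
    rw [isSquare_mul_iff hc0 hu]
    tauto

theorem signChar_prod_reflT [Finite F] (h2 : (2 : F) ≠ 0) {c : F} (hc : ¬ IsSquare c)
    (vs : List (ι → F)) (hvs : ∀ v ∈ vs, Q v ≠ 0) :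
    (IsSquare (vs.map (fun v => Q v)).prod → signChar ⇑Q c (vs.map (reflT Q)).prod = 1) ∧
      (¬ IsSquare (vs.map (fun v => Q v)).prod →
        signChar ⇑Q c (vs.map (reflT Q)).prod = -1) := by
  induction vs with
  | nil =>
    refine ⟨fun _ => by simp, fun h => absurd ⟨1, by simp⟩ h⟩
  | cons v vs ih =>
    have hv : Q v ≠ 0 := hvs v List.mem_cons_self
    have hvs' : ∀ x ∈ vs, Q x ≠ 0 := fun x hx => hvs x (List.mem_cons_of_mem _ hx)
    have hp : (vs.map (fun v => Q v)).prod ≠ 0 := list_prod_Q_ne_zero Q vs hvs'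
    obtain ⟨ih1, ih2⟩ := ih hvs'
    obtain ⟨hr1, hr2⟩ := signChar_reflT Q h2 hc v hv
    simp only [List.map_cons, List.prod_cons, map_mul]
    rw [isSquare_mul_iff hv hp]
    by_cases hvq : IsSquare (Q v) <;> by_cases hps : IsSquare (vs.map (fun v => Q v)).prod
    · refine ⟨fun _ => by rw [hr1 hvq, ih1 hps, one_mul], fun h => absurd (by tauto) h⟩
    · refine ⟨fun h => absurd h (by tauto), fun _ => by rw [hr1 hvq, ih2 hps, one_mul]⟩
    · refine ⟨fun h => absurd h (by tauto), fun _ => by rw [hr2 hvq, ih1 hps, mul_one]⟩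
    · refine ⟨fun _ => by rw [hr2 hvq, ih2 hps]; rfl, fun h => absurd (by tauto) h⟩

/-- **Spinor norm criterion.** Over a finite field with `2 ≠ 0`, a product of reflections is in
`Ω = [O, O]` iff the number of factors is even and the product of the norms is a square. -/
theorem mem_Omega_iff_of_prod_reflections [Finite F] (h2 : (2 : F) ≠ 0)
    (g : Cfsg.isometryGroup F ⇑Q) (vs : List (ι → F)) (hvs : ∀ v ∈ vs, Q v ≠ 0)
    (hg : ((g : Matrix.GeneralLinearGroup ι F) : Matrix ι ι F)
      = (vs.map (fun v => Cfsg.reflectionMatrix ⇑Q v)).prod) :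
    g ∈ Cfsg.Omega F ⇑Q ↔ (Even vs.length ∧ IsSquare (vs.map (fun v => Q v)).prod) := by
  have hgp : g = (vs.map (reflT Q)).prod := by
    apply Subtype.ext
    apply Units.ext
    rw [hg]
    have h1 := map_list_prod ((Units.coeHom (Matrix ι ι F)).comp
      (Cfsg.isometryGroup F ⇑Q).subtype) (vs.map (reflT Q))
    simp only [MonoidHom.coe_comp, Function.comp_apply, Subgroup.coe_subtype,
      Units.coeHom_apply] at h1
    rw [h1, List.map_map]
    apply congrArg
    apply List.map_congr_left
    intro v hv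
    exact (reflT_coe Q v (hvs v hv)).symm
  have hchar : ringChar F ≠ 2 := by
    intro h
    haveI : CharP F 2 := by rw [← h]; exact ringChar.charP F
    exact h2 (CharTwo.two_eq_zero)
  haveI := Fintype.ofFinite F
  obtain ⟨c, hc⟩ := FiniteField.exists_nonsquare hchar
  constructor
  · intro hmem
    have hdet := hom_eq_one_of_mem_Omega (detHom ⇑Q) hmem
    have hsgn := hom_eq_one_of_mem_Omega (signChar ⇑Q c) hmem
    rw [hgp] at hdet hsgn
    rw [detHom_prod_reflT Q vs hvs] at hdet
    constructor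
    · have hne : (-1 : Fˣ) ≠ 1 := by
        intro h
        have h3 : ((-1 : Fˣ) : F) = ((1 : Fˣ) : F) := by rw [h]
        rw [Units.val_neg, Units.val_one] at h3
        apply h2
        have : (2 : F) = 1 - (-1) := by ring
        rw [this, h3, sub_self]
      exact (neg_one_pow_eq_one_iff_even hne).1 hdet
    · by_contra hns
      have := (signChar_prod_reflT Q h2 hc vs hvs).2 hns
      rw [hsgn] at this
      exact absurd this (by decide)
  · rintro ⟨hev, hsq⟩
    rw [hgp]
    exact prod_reflT_mem_Omega Q h2 vs hvs hev hsq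

end Cfsg.Agent.Helper44
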