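import Mathlib
import Cfsg.Prelude.Def_ClassicalGeometry
import Cfsg.Agent.Helper44.SpinorMain

/-!
# Negating hyperbolic coordinate pairs

The diagonal matrix with `-1` on the first `i` hyperbolic coordinate pairs is a product of `2 i` reflections
with norms `1, -1, 1, -1, …`; so it lies in `Ω` iff `(-1)^i` is a square.
-/

set_option autoImplicit false

namespace Cfsg.Agent.Helper44

open Matrix

variable {F : Type*} [Field F] {ι : Type} [Fintype ι] [DecidableEq ι]

/-- coordinates `a, b` form a hyperbolic pair for `Q` -/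
structure IsHypPair (Q : QuadraticForm F (ι → F)) (a b : ι) : Prop where
  ne : a ≠ b
  Qa : Q (Pi.single a 1) = 0
  Qb : Q (Pi.single b 1) = 0
  polar_a : ∀ x : ι → F, QuadraticMap.polar ⇑Q (Pi.single a 1) x = x b
  polar_b : ∀ x : ι → F, QuadraticMap.polar ⇑Q (Pi.single b 1) x = x a

namespace IsHypPair

variable {Q : QuadraticForm F (ι → F)} {a b : ι}

theorem Q_add (h : IsHypPair Q a b) : Q (Pi.single a 1 + Pi.single b 1) = 1 := by
  rw [QuadraticMap.map_add ⇑Q, h.Qa, h.Qb, h.polar_a, Pi.single_eq_same]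
  ring

theorem Q_sub (h : IsHypPair Q a b) : Q (Pi.single a 1 - Pi.single b 1) = -1 := by
  rw [Helper44.Q_sub, h.Qa, h.Qb, h.polar_a, Pi.single_eq_same]
  ring

theorem reflection_mul_reflection (h : IsHypPair Q a b) :
    Cfsg.reflectionMatrix ⇑Q (Pi.single a 1 + Pi.single b 1)
        * Cfsg.reflectionMatrix ⇑Q (Pi.single a 1 - Pi.single b 1)
      = Matrix.diagonal (fun k => if k = a ∨ k = b then (-1 : F) else 1) := by
  apply Matrix.mulVec_injective
  funext x
  rw [← Matrix.mulVec_mulVec, Helper13.reflectionMatrix_mulVec, Helper13.reflectionMatrix_mulVec,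
    h.Q_add, h.Q_sub]
  rw [QuadraticMap.polar_add_left, QuadraticMap.polar_sub_left, h.polar_a, h.polar_b, h.polar_a,
    h.polar_b]
  have hab := h.ne
  have hba := h.ne.symm
  funext k
  rw [Matrix.mulVec_diagonal]
  by_cases hka : k = a
  · subst hka
    simp [hab, hba]
  · by_cases hkb : k = b
    · subst hkb
      simp [hab, hba]
    · simp [Pi.single_apply, hka, hkb]

end IsHypPair

theorem coe_prod_reflT (Q : QuadraticForm F (ι → F)) (vs : List (ι → F))
    (hvs : ∀ v ∈ vs, Q v ≠ 0) :
    (((vs.map (reflT Q)).prod : Cfsg.isometryGroup F ⇑Q).1 : Matrix ι ι F)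
      = (vs.map (fun v => Cfsg.reflectionMatrix ⇑Q v)).prod := by
  have h1 := map_list_prod ((Units.coeHom (Matrix ι ι F)).comp
    (Cfsg.isometryGroup F ⇑Q).subtype) (vs.map (reflT Q))
  simp only [MonoidHom.coe_comp, Function.comp_apply, Subgroup.coe_subtype,
    Units.coeHom_apply] at h1
  rw [h1, List.map_map]
  apply congrArg
  apply List.map_congr_left
  intro v hv
  exact reflT_coe Q v (hvs v hv)

section Family

variable (Q : QuadraticForm F (ι → F)) {m : ℕ} (a b : Fin m → ι)
  (hab : ∀ j, IsHypPair Q (a j) (b j)) (idx : ι → ℕ) (i₀ : ℕ)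
  (hidx : ∀ j : Fin m, (j : ℕ) < i₀ → ∀ k, idx k = (j : ℕ) ↔ (k = a j ∨ k = b j))

include hab hidx in
theorem exists_list_negPairs : ∀ i, i ≤ i₀ → i ≤ m → ∃ vs : List (ι → F),
    (∀ v ∈ vs, Q v ≠ 0) ∧ vs.length = 2 * i ∧ (vs.map (fun v => Q v)).prod = (-1) ^ i ∧
    (vs.map (fun v => Cfsg.reflectionMatrix ⇑Q v)).prod
      = Matrix.diagonal (fun k => if idx k < i then (-1 : F) else 1) := by
  intro i
  induction i with
  | zero =>
    intro _ _
    refine ⟨[], by simp, by simp, by simp, ?_⟩
    simp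
  | succ i ih =>
    intro hi hm
    obtain ⟨vs, h1, h2, h3, h4⟩ := ih (Nat.le_of_succ_le hi) (Nat.le_of_succ_le hm)
    have hj := hab ⟨i, hm⟩
    have hx := hidx ⟨i, hm⟩ hi
    refine ⟨vs ++ [Pi.single (a ⟨i, hm⟩) 1 + Pi.single (b ⟨i, hm⟩) 1,
      Pi.single (a ⟨i, hm⟩) 1 - Pi.single (b ⟨i, hm⟩) 1], ?_, ?_, ?_, ?_⟩
    · intro v hv
      rcases List.mem_append.1 hv with hv | hv
      · exact h1 v hv
      · simp only [List.mem_cons, List.not_mem_nil, or_false] at hv
        rcases hv with rfl | rfl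
        · rw [hj.Q_add]
          exact one_ne_zero
        · rw [hj.Q_sub]
          exact neg_ne_zero.2 one_ne_zero
    · rw [List.length_append, h2]
      simp
      ring
    · rw [List.map_append, List.prod_append, h3]
      simp only [List.map_cons, List.map_nil, List.prod_cons, List.prod_nil]
      rw [hj.Q_add, hj.Q_sub, pow_succ]
      ring
    · rw [List.map_append, List.prod_append, h4]
      simp only [List.map_cons, List.map_nil, List.prod_cons, List.prod_nil, mul_one]
      rw [hj.reflection_mul_reflection, Matrix.diagonal_mul_diagonal]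
      congr 1
      funext k
      have hxk := hx k
      simp only at hxk
      by_cases hk : idx k = i
      · have hk' : k = a ⟨i, hm⟩ ∨ k = b ⟨i, hm⟩ := hxk.1 hk
        rw [if_neg (by omega), if_pos hk', if_pos (by omega)]
        ring
      · have hk' : ¬ (k = a ⟨i, hm⟩ ∨ k = b ⟨i, hm⟩) := fun h => hk (hxk.2 h)
        rw [if_neg hk', mul_one]
        by_cases hlt : idx k < i
        · rw [if_pos hlt, if_pos (by omega)]
        · rw [if_neg hlt, if_neg (by omega)]

include hab hidx in
/-- The matrix negating the first `i₀` hyperbolic pairs lies in `Ω` iff `(-1)^i₀` is a square. -/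
theorem exists_mem_Omega_negPairs_iff [Finite F] (h2 : (2 : F) ≠ 0) (hi₀ : i₀ ≤ m) :
    (∃ g : Cfsg.isometryGroup F ⇑Q, g ∈ Cfsg.Omega F ⇑Q ∧
      ((g : Matrix.GeneralLinearGroup ι F) : Matrix ι ι F)
        = Matrix.diagonal (fun k => if idx k < i₀ then (-1 : F) else 1))
      ↔ IsSquare ((-1 : F) ^ i₀) := by
  obtain ⟨vs, h1, h2', h3, h4⟩ := exists_list_negPairs Q a b hab idx i₀ hidx i₀ le_rfl hi₀
  constructor
  · rintro ⟨g, hg, hgm⟩
    have := (mem_Omega_iff_of_prod_reflections Q h2 g vs h1 (hgm.trans h4.symm)).1 hg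
    rw [h3] at this
    exact this.2
  · intro hsq
    refine ⟨(vs.map (reflT Q)).prod, ?_, ?_⟩
    · apply prod_reflT_mem_Omega Q h2 vs h1
      · rw [h2']
        exact even_two_mul _
      · rw [h3]
        exact hsq
    · rw [coe_prod_reflT Q vs h1, h4]

end Family

/-- `(-1)^i` is a square in a finite field of odd order `q` iff `q^i ≡ 1 mod 4`. -/
theorem isSquare_neg_one_pow_iff_mod_four [Fintype F] {q : ℕ} (hF : Fintype.card F = q)
    (hq : Odd q) (i : ℕ) : IsSquare ((-1 : F) ^ i) ↔ q ^ i % 4 = 1 := by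
  have hq4 : q % 4 = 1 ∨ q % 4 = 3 := by
    obtain ⟨k, rfl⟩ := hq
    omega
  rw [Nat.pow_mod]
  rcases hq4 with h | h
  · rw [h, one_pow]
    have h1 : IsSquare (-1 : F) := by
      rw [FiniteField.isSquare_neg_one_iff, hF, h]
      decide
    exact iff_of_true (h1.pow i) (by norm_num)
  · rw [h]
    rcases Nat.even_or_odd i with hi | hi
    · rw [hi.neg_one_pow]
      obtain ⟨j, rfl⟩ := hi
      have : 3 ^ (j + j) % 4 = 1 := by
        rw [← two_mul, pow_mul, Nat.pow_mod]
        norm_num
      exact iff_of_true IsSquare.one this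
    · rw [hi.neg_one_pow]
      have h1 : ¬ IsSquare (-1 : F) := by
        rw [FiniteField.isSquare_neg_one_iff, hF, h]
        decide
      obtain ⟨j, rfl⟩ := hi
      have : 3 ^ (2 * j + 1) % 4 = 3 := by
        rw [pow_succ, pow_mul, Nat.mul_mod, Nat.pow_mod]
        norm_num
      exact iff_of_false h1 (by rw [this]; decide)

end Cfsg.Agent.Helper44
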