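/-
helper44: Gram matrices of bilinear forms in arbitrary bases; discriminants up to squares.
-/
import Mathlib
import Cfsg.Prelude.Def_Classical

set_option autoImplicit false

namespace Cfsg.Agent.Helper44

open Matrix

section gram

variable {F : Type*} [Field F]

/-- The Gram determinant in an arbitrary basis is a non-zero square times the Gram determinant in the
standard basis. -/
theorem det_gram_of_basis {κ ι : Type*} [Fintype κ] [DecidableEq κ] [Fintype ι] [DecidableEq ι]
    (B : LinearMap.BilinForm F (κ → F)) (b : Module.Basis ι F (κ → F)) :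
    ∃ d : F, d ≠ 0 ∧ (Matrix.of fun i j : ι => B (b i) (b j)).det
      = d * d * (LinearMap.BilinForm.toMatrix' B).det := by
  classical
  let S := Pi.basisFun F κ
  let e : ι ≃ κ := b.indexEquiv S
  let b' : Module.Basis κ F (κ → F) := b.reindex e
  have h1 : (Matrix.of fun i j : ι => B (b i) (b j))
      = (LinearMap.BilinForm.toMatrix b' B).submatrix e e := by
    ext i j
    simp [b', LinearMap.BilinForm.toMatrix_apply, Module.Basis.reindex_apply]
  have h2 : (S.toMatrix b')ᵀ * LinearMap.BilinForm.toMatrix S B * S.toMatrix b'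
      = LinearMap.BilinForm.toMatrix b' B :=
    LinearMap.BilinForm.toMatrix_mul_basis_toMatrix S b' B
  have h3 : LinearMap.BilinForm.toMatrix S B = LinearMap.BilinForm.toMatrix' B := by
    rw [LinearMap.BilinForm.toMatrix_basisFun]
  have h4 : (S.toMatrix b').det * (b'.toMatrix S).det = 1 := by
    rw [← Matrix.det_mul, Module.Basis.toMatrix_mul_toMatrix_flip, Matrix.det_one]
  refine ⟨(S.toMatrix b').det, left_ne_zero_of_mul_eq_one h4, ?_⟩
  rw [h1, Matrix.det_submatrix_equiv_self, ← h2, Matrix.det_mul, Matrix.det_mul, Matrix.det_transpose, h3]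
  ring

theorem isSquare_sq_mul_iff {d x : F} (hd : d ≠ 0) : IsSquare (d * d * x) ↔ IsSquare x := by
  constructor
  · rintro ⟨r, hr⟩
    refine ⟨r / d, ?_⟩
    field_simp
    rw [pow_two, pow_two, mul_comm x, hr]
  · rintro ⟨r, rfl⟩
    exact ⟨d * r, by ring⟩

/-- `IsSquare` of the Gram determinant does not depend on the basis. -/
theorem isSquare_det_gram_iff {κ ι : Type*} [Fintype κ] [DecidableEq κ] [Fintype ι] [DecidableEq ι]
    (B : LinearMap.BilinForm F (κ → F)) (b : Module.Basis ι F (κ → F)) :
    IsSquare (Matrix.of fun i j : ι => B (b i) (b j)).det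
      ↔ IsSquare (LinearMap.BilinForm.toMatrix' B).det := by
  obtain ⟨d, hd, h⟩ := det_gram_of_basis B b
  rw [h, isSquare_sq_mul_iff hd]

/-- determinant of the block anti-diagonal matrix `[[0, 1], [1, 0]]` -/
theorem det_antidiag_one (m : Type*) [Fintype m] [DecidableEq m] (R : Type*) [CommRing R] :
    (Matrix.fromBlocks (0 : Matrix m m R) (1 : Matrix m m R) (1 : Matrix m m R) (0 : Matrix m m R)).det
      = (-1) ^ Fintype.card m := by
  have h1 : Matrix.fromBlocks (1 : Matrix m m R) (1 : Matrix m m R) (0 : Matrix m m R) (1 : Matrix m m R)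
        * Matrix.fromBlocks (0 : Matrix m m R) (1 : Matrix m m R) (1 : Matrix m m R) (0 : Matrix m m R)
      = Matrix.fromBlocks (1 : Matrix m m R) (1 : Matrix m m R) (1 : Matrix m m R) (0 : Matrix m m R) := by
    rw [Matrix.fromBlocks_multiply]
    simp
  have h2 : (Matrix.fromBlocks (1 : Matrix m m R) (1 : Matrix m m R) (0 : Matrix m m R) (1 : Matrix m m R)).det = 1 := by
    rw [Matrix.det_fromBlocks_zero₂₁]; simp
  have h3 : (Matrix.fromBlocks (1 : Matrix m m R) (1 : Matrix m m R) (1 : Matrix m m R) (0 : Matrix m m R)).det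
      = (-1) ^ Fintype.card m := by
    have : Invertible (1 : Matrix m m R) := invertibleOne
    rw [Matrix.det_fromBlocks₁₁]
    simp [Matrix.det_neg]
  rw [← h3, ← h1, Matrix.det_mul, h2, one_mul]

end gram

section finite

variable {F : Type*} [Field F] [Fintype F]

/-- `(-1)^m` is a square in a finite field of odd order `q` iff `m (q-1)/2` is even. -/
theorem isSquare_neg_one_pow_iff {q : ℕ} (hF : Fintype.card F = q) (hq : Odd q) (m : ℕ) :
    IsSquare ((-1 : F) ^ m) ↔ Even (m * (q - 1) / 2) := by
  rcases Nat.even_or_odd m with hm | hm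
  · have h1 : IsSquare ((-1 : F) ^ m) := by
      rw [hm.neg_one_pow]; exact IsSquare.one
    have h2 : Even (m * (q - 1) / 2) := by
      obtain ⟨k, rfl⟩ := hm
      obtain ⟨j, rfl⟩ := hq
      have : (k + k) * (2 * j + 1 - 1) / 2 = 2 * (k * j) := by
        rw [Nat.add_sub_cancel]
        have : (k + k) * (2 * j) = 2 * (2 * (k * j)) := by ring
        rw [this, Nat.mul_div_cancel_left _ (by norm_num : 0 < 2)]
      rw [this]; exact even_two_mul _
    exact iff_of_true h1 h2
  · rw [hm.neg_one_pow, FiniteField.isSquare_neg_one_iff, hF]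
    obtain ⟨k, rfl⟩ := hm
    obtain ⟨j, rfl⟩ := hq
    have e : (2 * k + 1) * (2 * j + 1 - 1) / 2 = (2 * k + 1) * j := by
      rw [Nat.add_sub_cancel]
      have : (2 * k + 1) * (2 * j) = 2 * ((2 * k + 1) * j) := by ring
      rw [this, Nat.mul_div_cancel_left _ (by norm_num : 0 < 2)]
    rw [e]
    rcases Nat.even_or_odd j with hj | hj
    · obtain ⟨i, rfl⟩ := hj
      constructor
      · intro _; exact Even.mul_left ⟨i, rfl⟩ _
      · intro _; omega
    · obtain ⟨i, rfl⟩ := hj
      constructor
      · intro h; omega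
      · intro h
        exfalso
        have : Odd ((2 * k + 1) * (2 * i + 1)) := Odd.mul ⟨k, rfl⟩ ⟨i, rfl⟩
        exact (Nat.not_even_iff_odd.2 this) h

end finite

end Cfsg.Agent.Helper44
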