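/-
helper44: the polar form of `quadFormPlus` and its Gram matrix.
-/
import Mathlib
import Cfsg.Prelude.Def_Classical
import Cfsg.Agent.Helper44.Gram

set_option autoImplicit false

namespace Cfsg.Agent.Helper44

open Matrix

variable {F : Type*} [Field F]

/-- Gram matrix of the polar form of `quadFormPlus m F` in the standard basis. -/
def gramPlus (m : ℕ) (F : Type*) [Field F] : Matrix (Fin m ⊕ Fin m) (Fin m ⊕ Fin m) F :=
  Matrix.fromBlocks (0 : Matrix (Fin m) (Fin m) F) (1 : Matrix (Fin m) (Fin m) F)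
    (1 : Matrix (Fin m) (Fin m) F) (0 : Matrix (Fin m) (Fin m) F)

theorem polar_quadFormPlus (m : ℕ) (u v : Fin m ⊕ Fin m → F) :
    QuadraticMap.polar (quadFormPlus m F) u v
      = ∑ i : Fin m, (u (.inl i) * v (.inr i) + v (.inl i) * u (.inr i)) := by
  unfold QuadraticMap.polar quadFormPlus
  rw [← Finset.sum_sub_distrib, ← Finset.sum_sub_distrib]
  refine Finset.sum_congr rfl fun i _ => ?_
  simp only [Pi.add_apply]
  ring

theorem polar_quadFormPlus_eq_toBilin' (m : ℕ) (u v : Fin m ⊕ Fin m → F) :
    QuadraticMap.polar (quadFormPlus m F) u v = Matrix.toBilin' (gramPlus m F) u v := by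
  rw [polar_quadFormPlus, Matrix.toBilin'_apply', gramPlus, Matrix.fromBlocks_mulVec]
  simp only [Matrix.zero_mulVec, Matrix.one_mulVec, zero_add, add_zero]
  rw [dotProduct, Fintype.sum_sum_type]
  simp only [Sum.elim_inl, Sum.elim_inr, Function.comp_apply]
  rw [Finset.sum_add_distrib]
  congr 1
  refine Finset.sum_congr rfl fun i _ => ?_
  ring

theorem det_gramPlus (m : ℕ) : (gramPlus m F).det = (-1) ^ m := by
  rw [gramPlus, det_antidiag_one, Fintype.card_fin]

end Cfsg.Agent.Helper44
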