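/-
helper44: squares in finite fields; the polar form of `quadFormMinus` and its Gram matrix.
-/
import Mathlib
import Cfsg.Prelude.Def_Classical
import Cfsg.Agent.Helper44.PlusForm

set_option autoImplicit false

namespace Cfsg.Agent.Helper44

open Matrix

section squares

variable {F : Type*} [Field F] [Fintype F]

/-- In a finite field, a non-zero element times a non-square is a square iff the element is a non-square. -/
theorem isSquare_mul_nonsquare_iff {x D : F} (hx : x ≠ 0) (hD : ¬ IsSquare D) :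
    IsSquare (x * D) ↔ ¬ IsSquare x := by
  classical
  have hD0 : D ≠ 0 := by
    rintro rfl
    exact hD ⟨0, by simp⟩
  have hχD : quadraticChar F D = -1 := quadraticChar_neg_one_iff_not_isSquare.2 hD
  rw [← quadraticChar_one_iff_isSquare (mul_ne_zero hx hD0), map_mul, hχD,
    ← quadraticChar_neg_one_iff_not_isSquare]
  constructor
  · intro h
    have : quadraticChar F x = -(quadraticChar F x * -1) := by ring
    rw [this, h]
  · intro h
    rw [h]; ring

/-- If the binary form `z₁² + a z₁ z₂ + c z₂²` is anisotropic over a field with `2 ≠ 0`, then `a² - 4c`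
is not a square. -/
theorem not_isSquare_disc_of_anisotropic {K : Type*} [Field K] (h2 : (2 : K) ≠ 0) (a c : K)
    (hac : ∀ z₁ z₂ : K, z₁ ^ 2 + a * z₁ * z₂ + c * z₂ ^ 2 = 0 → z₁ = 0 ∧ z₂ = 0) :
    ¬ IsSquare (a ^ 2 - 4 * c) := by
  rintro ⟨s, hs⟩
  have h4 : (4 : K) ≠ 0 := by
    have : (4 : K) = 2 * 2 := by norm_num
    rw [this]; exact mul_ne_zero h2 h2
  have h := hac ((-a + s) / 2) 1 (by
    have e : ((-a + s) / 2) ^ 2 + a * ((-a + s) / 2) * 1 + c * 1 ^ 2
        = (s * s - (a ^ 2 - 4 * c)) / 4 := by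
      field_simp
      ring
    rw [e, hs]; simp)
  exact one_ne_zero h.2

theorem two_ne_zero_of_odd_card {q : ℕ} (hF : Fintype.card F = q) (hq : Odd q) : (2 : F) ≠ 0 := by
  have h1 : ringChar F ≠ 2 := by
    intro h
    rw [FiniteField.even_card_iff_char_two, hF] at h
    obtain ⟨k, rfl⟩ := hq
    omega
  exact Ring.two_ne_zero h1

end squares

section minus

variable {F : Type*} [Field F]

/-- Gram matrix of the polar form of `quadFormMinus k F a c` in the standard basis. -/
def gramMinus (k : ℕ) (F : Type*) [Field F] (a c : F) :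
    Matrix ((Fin k ⊕ Fin k) ⊕ Fin 2) ((Fin k ⊕ Fin k) ⊕ Fin 2) F :=
  Matrix.fromBlocks (gramPlus k F) (0 : Matrix (Fin k ⊕ Fin k) (Fin 2) F)
    (0 : Matrix (Fin 2) (Fin k ⊕ Fin k) F) !![2, a; a, 2 * c]

theorem quadFormMinus_eq (k : ℕ) (a c : F) (v : (Fin k ⊕ Fin k) ⊕ Fin 2 → F) :
    quadFormMinus k F a c v = quadFormPlus k F (v ∘ Sum.inl)
      + (v (.inr 0) ^ 2 + a * v (.inr 0) * v (.inr 1) + c * v (.inr 1) ^ 2) := rfl

theorem polar_quadFormMinus (k : ℕ) (a c : F) (u v : (Fin k ⊕ Fin k) ⊕ Fin 2 → F) :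
    QuadraticMap.polar (quadFormMinus k F a c) u v
      = QuadraticMap.polar (quadFormPlus k F) (u ∘ Sum.inl) (v ∘ Sum.inl)
        + (2 * u (.inr 0) * v (.inr 0) + a * (u (.inr 0) * v (.inr 1) + u (.inr 1) * v (.inr 0))
          + 2 * c * u (.inr 1) * v (.inr 1)) := by
  unfold QuadraticMap.polar
  rw [quadFormMinus_eq, quadFormMinus_eq, quadFormMinus_eq]
  have : (u + v) ∘ Sum.inl = u ∘ Sum.inl + v ∘ (Sum.inl : Fin k ⊕ Fin k → (Fin k ⊕ Fin k) ⊕ Fin 2) := rfl
  rw [this]
  simp only [Pi.add_apply]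
  ring

theorem polar_quadFormMinus_eq_toBilin' (k : ℕ) (a c : F) (u v : (Fin k ⊕ Fin k) ⊕ Fin 2 → F) :
    QuadraticMap.polar (quadFormMinus k F a c) u v = Matrix.toBilin' (gramMinus k F a c) u v := by
  rw [polar_quadFormMinus, polar_quadFormPlus_eq_toBilin', Matrix.toBilin'_apply', Matrix.toBilin'_apply',
    gramMinus, Matrix.fromBlocks_mulVec]
  simp only [Matrix.zero_mulVec, zero_add, add_zero]
  rw [dotProduct, dotProduct, Fintype.sum_sum_type]
  simp only [Function.comp_apply]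
  simp [Fin.sum_univ_two, Matrix.mulVec, dotProduct]
  ring

theorem det_gramMinus (k : ℕ) (a c : F) : (gramMinus k F a c).det = (-1) ^ (k + 1) * (a ^ 2 - 4 * c) := by
  rw [gramMinus, Matrix.det_fromBlocks_zero₁₂, det_gramPlus, Matrix.det_fin_two_of]
  ring

end minus

end Cfsg.Agent.Helper44
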