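import Mathlib
import Cfsg.Prelude.Def_Classical
import Cfsg.Agent.Helper44.PlusForm
import Cfsg.Agent.Helper44.MinusForm

/-!
# The three standard quadratic forms as `QuadraticForm`s
-/

set_option autoImplicit false

namespace Cfsg.Agent.Helper44

open Matrix

variable {F : Type*} [Field F]

/-- `quadFormPlus` as a quadratic form -/
def plusForm (m : ℕ) (F : Type*) [Field F] : QuadraticForm F (Fin m ⊕ Fin m → F) :=
  QuadraticMap.ofPolar (quadFormPlus m F)
    (by
      intro a x
      unfold quadFormPlus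
      simp only [Pi.smul_apply, smul_eq_mul]
      rw [Finset.mul_sum]
      refine Finset.sum_congr rfl fun i _ => ?_
      ring)
    (by
      intro x x' y
      rw [polar_quadFormPlus, polar_quadFormPlus, polar_quadFormPlus, ← Finset.sum_add_distrib]
      refine Finset.sum_congr rfl fun i _ => ?_
      simp only [Pi.add_apply]
      ring)
    (by
      intro a x y
      rw [polar_quadFormPlus, polar_quadFormPlus, smul_eq_mul, Finset.mul_sum]
      refine Finset.sum_congr rfl fun i _ => ?_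
      simp only [Pi.smul_apply, smul_eq_mul]
      ring)

theorem plusForm_coe (m : ℕ) : ⇑(plusForm m F) = quadFormPlus m F := rfl

theorem quadFormOdd_eq (m : ℕ) (v : Unit ⊕ (Fin m ⊕ Fin m) → F) :
    quadFormOdd m F v = v (.inl ()) ^ 2 + quadFormPlus m F (v ∘ Sum.inr) := rfl

theorem polar_quadFormOdd (m : ℕ) (u v : Unit ⊕ (Fin m ⊕ Fin m) → F) :
    QuadraticMap.polar (quadFormOdd m F) u v
      = 2 * u (.inl ()) * v (.inl ())
        + QuadraticMap.polar (quadFormPlus m F) (u ∘ Sum.inr) (v ∘ Sum.inr) := by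
  unfold QuadraticMap.polar
  rw [quadFormOdd_eq, quadFormOdd_eq, quadFormOdd_eq]
  have : (u + v) ∘ Sum.inr = u ∘ Sum.inr + v ∘ (Sum.inr : Fin m ⊕ Fin m → Unit ⊕ (Fin m ⊕ Fin m)) := rfl
  rw [this]
  simp only [Pi.add_apply]
  ring

/-- `quadFormOdd` as a quadratic form -/
def oddForm (m : ℕ) (F : Type*) [Field F] : QuadraticForm F (Unit ⊕ (Fin m ⊕ Fin m) → F) :=
  QuadraticMap.ofPolar (quadFormOdd m F)
    (by
      intro a x
      rw [quadFormOdd_eq, quadFormOdd_eq]
      have h1 : (a • x) ∘ Sum.inr = a • (x ∘ (Sum.inr : Fin m ⊕ Fin m → Unit ⊕ (Fin m ⊕ Fin m))) := rfl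
      rw [h1]
      have h2 := QuadraticMap.map_smul (plusForm m F) a (x ∘ Sum.inr)
      rw [plusForm_coe] at h2
      rw [h2]
      simp only [Pi.smul_apply, smul_eq_mul]
      ring)
    (by
      intro x x' y
      rw [polar_quadFormOdd, polar_quadFormOdd, polar_quadFormOdd]
      have h1 : (x + x') ∘ Sum.inr
        = x ∘ Sum.inr + x' ∘ (Sum.inr : Fin m ⊕ Fin m → Unit ⊕ (Fin m ⊕ Fin m)) := rfl
      rw [h1]
      have h2 := QuadraticMap.polar_add_left (plusForm m F) (x ∘ Sum.inr) (x' ∘ Sum.inr) (y ∘ Sum.inr)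
      rw [plusForm_coe] at h2
      rw [h2]
      simp only [Pi.add_apply]
      ring)
    (by
      intro a x y
      rw [polar_quadFormOdd, polar_quadFormOdd]
      have h1 : (a • x) ∘ Sum.inr = a • (x ∘ (Sum.inr : Fin m ⊕ Fin m → Unit ⊕ (Fin m ⊕ Fin m))) := rfl
      rw [h1]
      have h2 := QuadraticMap.polar_smul_left (plusForm m F) a (x ∘ Sum.inr) (y ∘ Sum.inr)
      rw [plusForm_coe] at h2
      rw [h2]
      simp only [Pi.smul_apply, smul_eq_mul]
      ring)

theorem oddForm_coe (m : ℕ) : ⇑(oddForm m F) = quadFormOdd m F := rfl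

/-- `quadFormMinus` as a quadratic form -/
def minusForm (k : ℕ) (F : Type*) [Field F] (a c : F) :
    QuadraticForm F ((Fin k ⊕ Fin k) ⊕ Fin 2 → F) :=
  QuadraticMap.ofPolar (quadFormMinus k F a c)
    (by
      intro t x
      rw [quadFormMinus_eq, quadFormMinus_eq]
      have h1 : (t • x) ∘ Sum.inl
        = t • (x ∘ (Sum.inl : Fin k ⊕ Fin k → (Fin k ⊕ Fin k) ⊕ Fin 2)) := rfl
      rw [h1]
      have h2 := QuadraticMap.map_smul (plusForm k F) t (x ∘ Sum.inl)
      rw [plusForm_coe] at h2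
      rw [h2]
      simp only [Pi.smul_apply, smul_eq_mul]
      ring)
    (by
      intro x x' y
      rw [polar_quadFormMinus, polar_quadFormMinus, polar_quadFormMinus]
      have h1 : (x + x') ∘ Sum.inl
        = x ∘ Sum.inl + x' ∘ (Sum.inl : Fin k ⊕ Fin k → (Fin k ⊕ Fin k) ⊕ Fin 2) := rfl
      rw [h1]
      have h2 := QuadraticMap.polar_add_left (plusForm k F) (x ∘ Sum.inl) (x' ∘ Sum.inl) (y ∘ Sum.inl)
      rw [plusForm_coe] at h2
      rw [h2]
      simp only [Pi.add_apply]
      ring)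
    (by
      intro t x y
      rw [polar_quadFormMinus, polar_quadFormMinus]
      have h1 : (t • x) ∘ Sum.inl
        = t • (x ∘ (Sum.inl : Fin k ⊕ Fin k → (Fin k ⊕ Fin k) ⊕ Fin 2)) := rfl
      rw [h1]
      have h2 := QuadraticMap.polar_smul_left (plusForm k F) t (x ∘ Sum.inl) (y ∘ Sum.inl)
      rw [plusForm_coe] at h2
      rw [h2]
      simp only [Pi.smul_apply, smul_eq_mul]
      ring)

theorem minusForm_coe (k : ℕ) (a c : F) : ⇑(minusForm k F a c) = quadFormMinus k F a c := rfl

end Cfsg.Agent.Helper44
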