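import Mathlib
import Cfsg.Prelude.Def_ClassicalGeometry
import Cfsg.Agent.Helper44.StdForms
import Cfsg.Agent.Helper44.HypPairs

/-!
# Hyperbolic coordinate pairs of the three standard forms
-/

set_option autoImplicit false

namespace Cfsg.Agent.Helper44

open Matrix

variable {F : Type*} [Field F]

theorem single_inr_comp_inr {α β : Type*} [DecidableEq α] [DecidableEq β] (k : β) :
    (Pi.single (Sum.inr k : α ⊕ β) (1 : F)) ∘ Sum.inr = Pi.single k 1 := by
  funext i
  simp [Pi.single_apply]

theorem single_inl_comp_inl {α β : Type*} [DecidableEq α] [DecidableEq β] (k : α) :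
    (Pi.single (Sum.inl k : α ⊕ β) (1 : F)) ∘ Sum.inl = Pi.single k 1 := by
  funext i
  simp [Pi.single_apply]

theorem isHypPair_plusForm (m : ℕ) (j : Fin m) :
    IsHypPair (plusForm m F) (Sum.inl j) (Sum.inr j) where
  ne := Sum.inl_ne_inr
  Qa := by
    rw [plusForm_coe]
    simp [quadFormPlus]
  Qb := by
    rw [plusForm_coe]
    simp [quadFormPlus]
  polar_a x := by
    rw [plusForm_coe, polar_quadFormPlus]
    simp [Pi.single_apply]
  polar_b x := by
    rw [plusForm_coe, polar_quadFormPlus]
    simp [Pi.single_apply]

theorem isHypPair_oddForm (m : ℕ) (j : Fin m) :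
    IsHypPair (oddForm m F) (Sum.inr (Sum.inl j)) (Sum.inr (Sum.inr j)) where
  ne := by simp
  Qa := by
    rw [oddForm_coe, quadFormOdd_eq, single_inr_comp_inr]
    have := (isHypPair_plusForm (F := F) m j).Qa
    rw [plusForm_coe] at this
    rw [this]
    simp
  Qb := by
    rw [oddForm_coe, quadFormOdd_eq, single_inr_comp_inr]
    have := (isHypPair_plusForm (F := F) m j).Qb
    rw [plusForm_coe] at this
    rw [this]
    simp
  polar_a x := by
    rw [oddForm_coe, polar_quadFormOdd, single_inr_comp_inr]
    have := (isHypPair_plusForm (F := F) m j).polar_a (x ∘ Sum.inr)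
    rw [plusForm_coe] at this
    rw [this]
    simp
  polar_b x := by
    rw [oddForm_coe, polar_quadFormOdd, single_inr_comp_inr]
    have := (isHypPair_plusForm (F := F) m j).polar_b (x ∘ Sum.inr)
    rw [plusForm_coe] at this
    rw [this]
    simp

theorem isHypPair_minusForm (k : ℕ) (a c : F) (j : Fin k) :
    IsHypPair (minusForm k F a c) (Sum.inl (Sum.inl j)) (Sum.inl (Sum.inr j)) where
  ne := by simp
  Qa := by
    rw [minusForm_coe, quadFormMinus_eq, single_inl_comp_inl]
    have := (isHypPair_plusForm (F := F) k j).Qa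
    rw [plusForm_coe] at this
    rw [this]
    simp
  Qb := by
    rw [minusForm_coe, quadFormMinus_eq, single_inl_comp_inl]
    have := (isHypPair_plusForm (F := F) k j).Qb
    rw [plusForm_coe] at this
    rw [this]
    simp
  polar_a x := by
    rw [minusForm_coe, polar_quadFormMinus, single_inl_comp_inl]
    have := (isHypPair_plusForm (F := F) k j).polar_a (x ∘ Sum.inl)
    rw [plusForm_coe] at this
    rw [this]
    simp
  polar_b x := by
    rw [minusForm_coe, polar_quadFormMinus, single_inl_comp_inl]
    have := (isHypPair_plusForm (F := F) k j).polar_b (x ∘ Sum.inl)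
    rw [plusForm_coe] at this
    rw [this]
    simp

end Cfsg.Agent.Helper44
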