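/-
helper44: counting zeros of `x ⬝ y + n z` over a finite field.
-/
import Mathlib

set_option autoImplicit false

namespace Cfsg.Agent.Helper44

open Matrix

section count

variable {F : Type*} [Field F] [Fintype F] [DecidableEq F]
variable {ι : Type*} [Fintype ι] [DecidableEq ι]

/-- fibres of `y ↦ x ⬝ᵥ y` for `x ≠ 0` all have `q^(n-1)` elements, stated multiplicatively. -/
theorem card_dot_fiber (x : ι → F) (hx : x ≠ 0) (c : F) :
    Fintype.card {y : ι → F // x ⬝ᵥ y = c} * Fintype.card F = Fintype.card F ^ Fintype.card ι := by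
  obtain ⟨i, hi⟩ : ∃ i, x i ≠ 0 := by
    by_contra h
    push Not at h
    exact hx (funext h)
  -- a preimage of each value
  let w : F → (ι → F) := fun d => Pi.single i (d / x i)
  have hw : ∀ d, x ⬝ᵥ w d = d := by
    intro d
    simp only [w, dotProduct_single]
    field_simp
  -- all fibres are equivalent to the fibre over `c`
  have hfib : ∀ d : F, Fintype.card {y : ι → F // x ⬝ᵥ y = d} = Fintype.card {y : ι → F // x ⬝ᵥ y = c} := by
    intro d
    refine Fintype.card_congr ?_
    refine (Equiv.addRight (w c - w d)).subtypeEquiv ?_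
    intro y
    simp only [Equiv.coe_addRight, dotProduct_add, dotProduct_sub, hw]
    constructor <;> intro h <;> linear_combination h
  have h1 : Fintype.card (ι → F) = Fintype.card ((d : F) × {y : ι → F // x ⬝ᵥ y = d}) :=
    (Fintype.card_congr (Equiv.sigmaFiberEquiv (fun y : ι → F => x ⬝ᵥ y))).symm
  rw [Fintype.card_sigma, Fintype.card_fun] at h1
  rw [h1]
  simp only [hfib]
  rw [Finset.sum_const, Finset.card_univ, smul_eq_mul, mul_comm]

/-- Zero count for `x ⬝ᵥ y + n z` over `(ι → F) × (ι → F) × Z`, multiplied by `q`. -/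
theorem card_zeros_dot_add {Z : Type*} [Fintype Z] (n : Z → F) :
    Fintype.card {p : ((ι → F) × Z) × (ι → F) // p.1.1 ⬝ᵥ p.2 + n p.1.2 = 0} * Fintype.card F
      = Fintype.card F ^ (Fintype.card ι + 1) * Fintype.card {z : Z // n z = 0}
        + (Fintype.card F ^ Fintype.card ι - 1) * (Fintype.card F ^ Fintype.card ι * Fintype.card Z) := by
  set q := Fintype.card F with hq
  set k := Fintype.card ι with hk
  have e1 : Fintype.card {p : ((ι → F) × Z) × (ι → F) // p.1.1 ⬝ᵥ p.2 + n p.1.2 = 0}
      = ∑ a : (ι → F) × Z, Fintype.card {y : ι → F // a.1 ⬝ᵥ y + n a.2 = 0} := by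
    rw [← Fintype.card_sigma]
    exact Fintype.card_congr
      (Equiv.subtypeProdEquivSigmaSubtype (fun (a : (ι → F) × Z) (y : ι → F) => a.1 ⬝ᵥ y + n a.2 = 0))
  have e2 : ∀ a : (ι → F) × Z, Fintype.card {y : ι → F // a.1 ⬝ᵥ y + n a.2 = 0} * q
      = if a.1 = 0 then (if n a.2 = 0 then q ^ (k + 1) else 0) else q ^ k := by
    rintro ⟨x, z⟩
    dsimp only
    split_ifs with hx hz
    · subst hx
      have : Fintype.card {y : ι → F // (0 : ι → F) ⬝ᵥ y + n z = 0} = Fintype.card (ι → F) := by
        refine Fintype.card_congr (Equiv.subtypeUnivEquiv ?_)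
        intro y; simp [hz]
      rw [this, Fintype.card_fun, pow_succ]
    · subst hx
      have : IsEmpty {y : ι → F // (0 : ι → F) ⬝ᵥ y + n z = 0} := by
        constructor
        rintro ⟨y, hy⟩
        simp only [zero_dotProduct, zero_add] at hy
        exact hz hy
      rw [Fintype.card_eq_zero, zero_mul]
    · have : Fintype.card {y : ι → F // x ⬝ᵥ y + n z = 0} = Fintype.card {y : ι → F // x ⬝ᵥ y = - n z} := by
        refine Fintype.card_congr (Equiv.subtypeEquivRight ?_)
        intro y
        constructor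
        · intro h; exact eq_neg_of_add_eq_zero_left h
        · intro h; rw [h]; simp
      rw [this, card_dot_fiber x hx]
  rw [e1, Finset.sum_mul]
  simp only [e2]
  rw [Fintype.sum_prod_type]
  rw [Fintype.sum_eq_add_sum_compl (0 : ι → F)]
  congr 1
  · simp only [if_true]
    rw [← Finset.sum_filter, Finset.sum_const, smul_eq_mul, mul_comm, Fintype.card_subtype]
  · have : ∀ x ∈ ({(0 : ι → F)} : Finset (ι → F))ᶜ, (∑ z : Z, if x = 0 then (if n z = 0 then q ^ (k + 1) else 0) else q ^ k)
        = Fintype.card Z * q ^ k := by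
      intro x hx
      have hx0 : x ≠ 0 := by simpa using hx
      simp only [hx0, if_false]
      rw [Finset.sum_const, Finset.card_univ, smul_eq_mul]
    rw [Finset.sum_congr rfl this, Finset.sum_const, Finset.card_compl, Finset.card_singleton,
      Fintype.card_fun, smul_eq_mul]
    ring

end count

end Cfsg.Agent.Helper44
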