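/-
helper44: zero counts of quadratic forms over finite fields and the sign ("type") they define.
`HasType Q m ε`: `#{Q = 0} * q = q^(2m) + ε (q^(m+1) - q^m)`.
-/
import Mathlib
import Cfsg.Agent.Helper44.ZeroCount
import Cfsg.Agent.Helper44.StdHyp

set_option autoImplicit false

namespace Cfsg.Agent.Helper44.QType

open Cfsg Cfsg.Agent.Helper44

universe u v w

section defs

variable {F : Type u} {V : Type v} {V' : Type w}

/-- number of solutions of `Q v = c` -/
noncomputable def fc (Q : V → F) (c : F) : ℕ := Nat.card {v : V // Q v = c}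

/-- `Q` has `m`-type `ε`: the number `Z` of zeros satisfies `Z q = q^(2m) + ε (q^(m+1) - q^m)`. -/
def HasType [Zero F] (Q : V → F) (m : ℕ) (ε : ℤ) : Prop :=
  (fc Q 0 : ℤ) * (Nat.card F : ℤ)
    = (Nat.card F : ℤ) ^ (2 * m) + ε * ((Nat.card F : ℤ) ^ (m + 1) - (Nat.card F : ℤ) ^ m)

theorem fc_congr (Q : V → F) (Q' : V' → F) (φ : V ≃ V') (h : ∀ v, Q' (φ v) = Q v) (c : F) :
    fc Q c = fc Q' c := by
  unfold fc
  apply Nat.card_congr
  refine φ.subtypeEquiv ?_
  intro v
  rw [h]

theorem HasType.congr [Zero F] {Q : V → F} {Q' : V' → F} {m : ℕ} {ε : ℤ} (hT : HasType Q m ε)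
    (φ : V ≃ V') (h : ∀ v, Q' (φ v) = Q v) : HasType Q' m ε := by
  unfold HasType at hT ⊢
  rw [← fc_congr Q Q' φ h]
  exact hT

end defs

section field

variable {F : Type u} [Field F] [Finite F]

theorem two_le_card : (2 : ℤ) ≤ (Nat.card F : ℤ) := by
  haveI := Fintype.ofFinite F
  have := Fintype.one_lt_card (α := F)
  rw [Nat.card_eq_fintype_card]
  exact_mod_cast this

/-- the two signs are exclusive -/
theorem HasType.unique {V : Type v} {Q : V → F} {m : ℕ} {ε ε' : ℤ} (h : HasType Q m ε)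
    (h' : HasType Q m ε') : ε = ε' := by
  unfold HasType at h h'
  have hq := two_le_card (F := F)
  set q : ℤ := (Nat.card F : ℤ) with hqdef
  have h1 : ε * (q ^ (m + 1) - q ^ m) = ε' * (q ^ (m + 1) - q ^ m) := by
    linarith
  have h2 : q ^ (m + 1) - q ^ m ≠ 0 := by
    have hpos : 0 < q ^ m := pow_pos (by linarith) m
    have : q ^ (m + 1) - q ^ m = q ^ m * (q - 1) := by ring
    rw [this]
    exact mul_ne_zero hpos.ne' (by linarith)
  exact mul_right_cancel₀ h2 h1

end field

section std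

variable {F : Type u} [Field F] [Fintype F]

theorem hasType_plus (m : ℕ) : HasType (quadFormPlus m F) m 1 := by
  classical
  unfold HasType fc
  have key := Helper44.card_zeros_dot_add (F := F) (ι := Fin m) (fun _ : Unit => (0 : F))
  have e : Nat.card {v : Fin m ⊕ Fin m → F // quadFormPlus m F v = 0}
      = Fintype.card {p : ((Fin m → F) × Unit) × (Fin m → F) //
          p.1.1 ⬝ᵥ p.2 + (fun _ : Unit => (0 : F)) p.1.2 = 0} := by
    rw [Nat.card_eq_fintype_card]
    let E : (Fin m ⊕ Fin m → F) ≃ ((Fin m → F) × Unit) × (Fin m → F) :=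
      { toFun := fun v => ((v ∘ Sum.inl, ()), v ∘ Sum.inr)
        invFun := fun p => Sum.elim p.1.1 p.2
        left_inv := fun v => by
          funext i
          cases i <;> rfl
        right_inv := fun p => rfl }
    refine Fintype.card_congr (E.subtypeEquiv ?_)
    intro v
    simp only [E, add_zero]
    rfl
  have h1 : Fintype.card {z : Unit // (fun _ : Unit => (0 : F)) z = 0} = 1 := by
    rw [Fintype.card_eq_one_iff]
    exact ⟨⟨(), rfl⟩, fun _ => rfl⟩
  rw [h1] at key
  rw [e, Nat.card_eq_fintype_card]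
  have hq1 : 1 ≤ Fintype.card F ^ m := Nat.one_le_pow _ _ Fintype.card_pos
  have key' : ((Fintype.card {p : ((Fin m → F) × Unit) × (Fin m → F) //
          p.1.1 ⬝ᵥ p.2 + (fun _ : Unit => (0 : F)) p.1.2 = 0} : ℕ) : ℤ) * (Fintype.card F : ℤ)
      = (Fintype.card F : ℤ) ^ (m + 1) * 1
        + ((Fintype.card F : ℤ) ^ m - 1) * ((Fintype.card F : ℤ) ^ m * 1) := by
    have := congrArg (fun n : ℕ => (n : ℤ)) key
    simp only [Fintype.card_fin, Fintype.card_unique] at this
    push_cast [Nat.cast_sub hq1] at this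
    linarith
  rw [key']
  ring

theorem hasType_minus (k : ℕ) (a c : F)
    (hac : ∀ z₁ z₂ : F, z₁ ^ 2 + a * z₁ * z₂ + c * z₂ ^ 2 = 0 → z₁ = 0 ∧ z₂ = 0) :
    HasType (quadFormMinus k F a c) (k + 1) (-1) := by
  classical
  unfold HasType fc
  let n : (Fin 2 → F) → F := fun z => z 0 ^ 2 + a * z 0 * z 1 + c * z 1 ^ 2
  have key := Helper44.card_zeros_dot_add (F := F) (ι := Fin k) n
  have e : Nat.card {w : (Fin k ⊕ Fin k) ⊕ Fin 2 → F // quadFormMinus k F a c w = 0}
      = Fintype.card {p : ((Fin k → F) × (Fin 2 → F)) × (Fin k → F) //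
          p.1.1 ⬝ᵥ p.2 + n p.1.2 = 0} := by
    rw [Nat.card_eq_fintype_card]
    let E : ((Fin k ⊕ Fin k) ⊕ Fin 2 → F) ≃ ((Fin k → F) × (Fin 2 → F)) × (Fin k → F) :=
      { toFun := fun w => ((fun i => w (.inl (.inl i)), fun j => w (.inr j)),
          fun i => w (.inl (.inr i)))
        invFun := fun p => Sum.elim (Sum.elim p.1.1 p.2) p.1.2
        left_inv := fun w => by
          funext i
          rcases i with (i | i) | i <;> rfl
        right_inv := fun p => rfl }
    refine Fintype.card_congr (E.subtypeEquiv ?_)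
    intro w
    simp only [E]
    rfl
  have h1 : Fintype.card {z : Fin 2 → F // n z = 0} = 1 := by
    rw [Fintype.card_eq_one_iff]
    refine ⟨⟨0, by simp [n]⟩, ?_⟩
    rintro ⟨z, hz⟩
    apply Subtype.ext
    obtain ⟨h0, h1⟩ := hac (z 0) (z 1) hz
    funext j
    fin_cases j
    · exact h0
    · exact h1
  rw [h1] at key
  rw [e, Nat.card_eq_fintype_card]
  have hq1 : 1 ≤ Fintype.card F ^ k := Nat.one_le_pow _ _ Fintype.card_pos
  have key' : ((Fintype.card {p : ((Fin k → F) × (Fin 2 → F)) × (Fin k → F) //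
          p.1.1 ⬝ᵥ p.2 + n p.1.2 = 0} : ℕ) : ℤ) * (Fintype.card F : ℤ)
      = (Fintype.card F : ℤ) ^ (k + 1) * 1
        + ((Fintype.card F : ℤ) ^ k - 1) * ((Fintype.card F : ℤ) ^ k * (Fintype.card F : ℤ) ^ 2) := by
    have := congrArg (fun n : ℕ => (n : ℤ)) key
    simp only [Fintype.card_fin, Fintype.card_pi, Finset.prod_const, Finset.card_univ] at this
    push_cast [Nat.cast_sub hq1] at this
    linarith
  rw [key']
  ring

end std

end Cfsg.Agent.Helper44.QType
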