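import Mathlib
import Cfsg.Prelude.Def_GeometricClasses
import Cfsg.Prelude.Def_LieClassical
import Cfsg.Agent.Helper99.P4Defs

/-!
# S6001 (`PSU_4(p)`, `p ≡ 3 (mod 4)`, normalizer of `4 ∘ 2^{1+4}`) : definitions

`SU4 F p` is `GU_4 ⊓ SL_4` inside `GL_4(F)`; `FixProp F p r H` is the fixed point property of the
statement for the subgroup `H`; `trT g = tr g * tr g⁻¹`.
-/

set_option autoImplicit false
open scoped MatrixGroups

namespace Cfsg.Agent.Helper44.U4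

open Matrix Cfsg.Geo

/-- `SU_4` inside `GL_4` -/
abbrev SU4 (F : Type*) [Field F] (p : ℕ) : Subgroup (GL (Fin 4) F) :=
  Cfsg.GU 4 F p ⊓ specialLinear (Fin 4) F

/-- every element of `SU_4` of order `r` modulo scalars has an `SU_4`-conjugate in `H` -/
def FixProp (F : Type*) [Field F] (p r : ℕ) (H : Subgroup (GL (Fin 4) F)) : Prop :=
  ∀ x ∈ Cfsg.GU 4 F p ⊓ specialLinear (Fin 4) F,
    (∃ z : F, ((x ^ r : GL (Fin 4) F) : Matrix (Fin 4) (Fin 4) F) =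
      z • (1 : Matrix (Fin 4) (Fin 4) F)) →
    (∀ z : F, (x : Matrix (Fin 4) (Fin 4) F) ≠ z • (1 : Matrix (Fin 4) (Fin 4) F)) →
    ∃ g ∈ Cfsg.GU 4 F p ⊓ specialLinear (Fin 4) F, g⁻¹ * x * g ∈ H

/-- the class function `tr g * tr g⁻¹` -/
def trT {F : Type*} [Field F] (g : GL (Fin 4) F) : F :=
  Matrix.trace (g : Matrix (Fin 4) (Fin 4) F) *
    Matrix.trace ((g⁻¹ : GL (Fin 4) F) : Matrix (Fin 4) (Fin 4) F)

end Cfsg.Agent.Helper44.U4
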