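import Mathlib
import Cfsg.Prelude.Def_ClassicalGeometry
import Cfsg.Agent.Helper13.Isom
import Cfsg.Agent.Helper44.SpinorMain

/-!
# Transport of isometry groups along a linear isometry

`isoTransport Q₁ Q₂ C hC : O(Q₁) →* O(Q₂)`, `g ↦ C g C⁻¹`, for a linear equivalence `C` with
`Q₂ (C w) = Q₁ w`; it maps reflections to reflections and `Ω` into `Ω`.
-/

set_option autoImplicit false

namespace Cfsg.Agent.Helper44

open Matrix QuadraticMap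

variable {F : Type*} [Field F]
variable {ι₁ ι₂ : Type} [Fintype ι₁] [DecidableEq ι₁] [Fintype ι₂] [DecidableEq ι₂]

/-- conjugation of matrices by a linear equivalence -/
noncomputable def conjMatAlgEquiv (C : (ι₁ → F) ≃ₗ[F] (ι₂ → F)) :
    Matrix ι₁ ι₁ F ≃ₐ[F] Matrix ι₂ ι₂ F :=
  (Matrix.toLinAlgEquiv' (n := ι₁) (R := F)).trans
    ((C.conjAlgEquiv F).trans LinearMap.toMatrixAlgEquiv')

theorem conjMatAlgEquiv_mulVec (C : (ι₁ → F) ≃ₗ[F] (ι₂ → F)) (g : Matrix ι₁ ι₁ F) (v : ι₂ → F) :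
    (conjMatAlgEquiv C g) *ᵥ v = C (g *ᵥ C.symm v) := by
  rw [← Matrix.toLinAlgEquiv'_apply (conjMatAlgEquiv C g) v]
  show Matrix.toLinAlgEquiv' (LinearMap.toMatrixAlgEquiv'
    (C.conjAlgEquiv F (Matrix.toLinAlgEquiv' g))) v = _
  rw [Matrix.toLinAlgEquiv'_toMatrixAlgEquiv', LinearEquiv.conjAlgEquiv_apply]
  simp

/-- transport of isometries along a linear isometry -/
noncomputable def isoTransport (Q₁ : (ι₁ → F) → F) (Q₂ : (ι₂ → F) → F)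
    (C : (ι₁ → F) ≃ₗ[F] (ι₂ → F)) (hC : ∀ w, Q₂ (C w) = Q₁ w) :
    Cfsg.isometryGroup F Q₁ →* Cfsg.isometryGroup F Q₂ :=
  ((Units.map ((conjMatAlgEquiv C : Matrix ι₁ ι₁ F ≃ₐ[F] Matrix ι₂ ι₂ F) :
      Matrix ι₁ ι₁ F →* Matrix ι₂ ι₂ F)).comp
    (Cfsg.isometryGroup F Q₁).subtype).codRestrict (Cfsg.isometryGroup F Q₂) (by
      intro g
      rw [Helper13.mem_isometryGroup_iff]
      intro v
      have hg := (Helper13.mem_isometryGroup_iff Q₁ g.1).1 g.2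
      show Q₂ ((conjMatAlgEquiv C (g.1 : Matrix ι₁ ι₁ F)) *ᵥ v) = Q₂ v
      rw [conjMatAlgEquiv_mulVec, hC, hg, ← hC, LinearEquiv.apply_symm_apply])

theorem isoTransport_mulVec (Q₁ : (ι₁ → F) → F) (Q₂ : (ι₂ → F) → F)
    (C : (ι₁ → F) ≃ₗ[F] (ι₂ → F)) (hC : ∀ w, Q₂ (C w) = Q₁ w) (g : Cfsg.isometryGroup F Q₁)
    (v : ι₂ → F) :
    ((isoTransport Q₁ Q₂ C hC g).1 : Matrix ι₂ ι₂ F) *ᵥ v
      = C ((g.1 : Matrix ι₁ ι₁ F) *ᵥ C.symm v) :=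
  conjMatAlgEquiv_mulVec C _ v

theorem polar_map_of_isometry (Q₁ : QuadraticForm F (ι₁ → F)) (Q₂ : QuadraticForm F (ι₂ → F))
    (C : (ι₁ → F) ≃ₗ[F] (ι₂ → F)) (hC : ∀ w, Q₂ (C w) = Q₁ w) (x y : ι₁ → F) :
    polar ⇑Q₂ (C x) (C y) = polar ⇑Q₁ x y := by
  simp only [polar, ← map_add, hC]

theorem isoTransport_refl (Q₁ : QuadraticForm F (ι₁ → F)) (Q₂ : QuadraticForm F (ι₂ → F))
    (C : (ι₁ → F) ≃ₗ[F] (ι₂ → F)) (hC : ∀ w, Q₂ (C w) = Q₁ w) (u : ι₁ → F) (hu : Q₁ u ≠ 0)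
    (hu' : Q₂ (C u) ≠ 0) :
    isoTransport ⇑Q₁ ⇑Q₂ C hC (refl Q₁ u hu) = refl Q₂ (C u) hu' := by
  apply isometryGroup_ext
  intro v
  rw [isoTransport_mulVec, refl_mulVec, refl_mulVec, map_sub, map_smul, LinearEquiv.apply_symm_apply,
    hC, ← polar_map_of_isometry Q₁ Q₂ C hC, LinearEquiv.apply_symm_apply]

theorem isoTransport_reflT (Q₁ : QuadraticForm F (ι₁ → F)) (Q₂ : QuadraticForm F (ι₂ → F))
    (C : (ι₁ → F) ≃ₗ[F] (ι₂ → F)) (hC : ∀ w, Q₂ (C w) = Q₁ w) (u : ι₁ → F) (hu : Q₁ u ≠ 0) :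
    isoTransport ⇑Q₁ ⇑Q₂ C hC (reflT Q₁ u) = reflT Q₂ (C u) := by
  have hu' : Q₂ (C u) ≠ 0 := by rw [hC]; exact hu
  rw [reflT_of_ne Q₁ u hu, reflT_of_ne Q₂ _ hu', isoTransport_refl]

end Cfsg.Agent.Helper44
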