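/-
helper44: self-reciprocal polynomials of even degree vanishing at `1` are divisible by `(X - 1)^2`.
-/
import Mathlib

set_option autoImplicit false

namespace Cfsg.Agent.Helper44.QType

open Polynomial

universe u

variable {F : Type u} [Field F]

theorem reverse_X_sub_one : (X - 1 : F[X]).reverse = 1 - X := by
  have h : (X - 1 : F[X]) = X + C (-1) := by simp; ring
  rw [h, reverse_add_C, natDegree_X, pow_one]
  have : (X : F[X]).reverse = 1 := by
    have := reverse_X_mul (1 : F[X])
    rw [mul_one] at this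
    rw [this]
    have h1 : (1 : F[X]) = C 1 := by rw [map_one]
    rw [h1, reverse_C]
  rw [this]
  simp
  ring

theorem reverse_X_sub_one_sq : ((X - 1 : F[X]) ^ 2).reverse = (X - 1) ^ 2 := by
  rw [pow_two, reverse_mul_of_domain, reverse_X_sub_one]
  ring

/-- a symmetric sequence: weighted sum -/
theorem sum_symm_weighted (a : ℕ → F) (m : ℕ) (h : ∀ k, k ≤ 2 * m → a k = a (2 * m - k)) :
    ∑ k ∈ Finset.range (2 * m + 1), a k * (k : F) = (m : F) * ∑ k ∈ Finset.range (2 * m + 1), a k := by
  have hsplit : ∀ g : ℕ → F, ∑ k ∈ Finset.range (2 * m + 1), g k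
      = ∑ j ∈ Finset.range m, g j + g m + ∑ j ∈ Finset.range m, g (2 * m - j) := by
    intro g
    have e : 2 * m + 1 = (m + 1) + m := by ring
    rw [e, Finset.sum_range_add, Finset.sum_range_succ]
    congr 1
    rw [← Finset.sum_range_reflect (fun x => g (m + 1 + x)) m]
    refine Finset.sum_congr rfl fun j hj => ?_
    have hj' : j < m := Finset.mem_range.mp hj
    congr 1
    omega
  rw [hsplit (fun k => a k * (k : F)), hsplit a]
  have h1 : ∑ j ∈ Finset.range m, a (2 * m - j) * ((2 * m - j : ℕ) : F)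
      = ∑ j ∈ Finset.range m, a j * ((2 * m : F) - j) := by
    refine Finset.sum_congr rfl fun j hj => ?_
    have hj' : j < m := Finset.mem_range.mp hj
    rw [← h j (by omega), Nat.cast_sub (by omega)]
    push_cast
    ring
  have h2 : ∑ j ∈ Finset.range m, a (2 * m - j) = ∑ j ∈ Finset.range m, a j := by
    refine Finset.sum_congr rfl fun j hj => ?_
    have hj' : j < m := Finset.mem_range.mp hj
    rw [← h j (by omega)]
  rw [h1, h2]
  have h3 : ∑ j ∈ Finset.range m, (a j * (j : F) + a j * ((2 * m : F) - j))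
      = (2 * m : F) * ∑ j ∈ Finset.range m, a j := by
    rw [Finset.mul_sum]
    refine Finset.sum_congr rfl fun j _ => ?_
    ring
  have : ∑ j ∈ Finset.range m, a j * (j : F) + a m * (m : F)
      + ∑ j ∈ Finset.range m, a j * ((2 * m : F) - j)
      = ∑ j ∈ Finset.range m, (a j * (j : F) + a j * ((2 * m : F) - j)) + a m * (m : F) := by
    rw [Finset.sum_add_distrib]
    ring
  rw [this, h3]
  ring

theorem coeff_symm_of_reverse {f : F[X]} {n : ℕ} (hd : f.natDegree = n) (hf : f.reverse = f)
    (k : ℕ) (hk : k ≤ n) : f.coeff k = f.coeff (n - k) := by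
  conv_lhs => rw [← hf]
  rw [coeff_reverse, hd, revAt_le hk]

/-- `f'(1) = m f(1)` for a self-reciprocal polynomial of degree `2m` -/
theorem eval_one_derivative_of_reverse {f : F[X]} {m : ℕ} (hd : f.natDegree = 2 * m)
    (hf : f.reverse = f) : eval 1 (derivative f) = (m : F) * eval 1 f := by
  have hlt : f.natDegree < 2 * m + 1 := by omega
  rw [derivative_eval, eval_eq_sum_range' hlt, sum_over_range' f (by intro n; simp) (2 * m + 1) hlt]
  simp only [one_pow, mul_one]
  exact sum_symm_weighted (fun k => f.coeff k) m (fun k hk => coeff_symm_of_reverse hd hf k hk)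

/-- a self-reciprocal polynomial of even degree with root `1` is divisible by `(X - 1)^2` -/
theorem sq_dvd_of_reverse {f : F[X]} {m : ℕ} (hd : f.natDegree = 2 * m) (hf : f.reverse = f)
    (h1 : (X - 1 : F[X]) ∣ f) : (X - 1 : F[X]) ^ 2 ∣ f := by
  obtain ⟨h, rfl⟩ := h1
  have hroot : eval 1 ((X - 1) * h) = 0 := by simp
  have hder := eval_one_derivative_of_reverse hd hf
  rw [hroot, mul_zero, derivative_mul] at hder
  simp only [derivative_sub, derivative_X, derivative_one, sub_zero, one_mul, eval_add, eval_mul,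
    eval_sub, eval_X, eval_one, sub_self, zero_mul, add_zero] at hder
  have : (X - C (1 : F)) ∣ h := dvd_iff_isRoot.mpr hder
  rw [map_one] at this
  obtain ⟨h', rfl⟩ := this
  exact ⟨h', by ring⟩

/-- the quotient by `(X - 1)^2` -/
theorem exists_quot_of_reverse {f : F[X]} {m : ℕ} (hm : f.Monic) (hd : f.natDegree = 2 * m)
    (hf : f.reverse = f) (h1 : (X - 1 : F[X]) ∣ f) :
    ∃ f₁ : F[X], f = (X - 1) ^ 2 * f₁ ∧ f₁.Monic ∧ f₁.natDegree = 2 * (m - 1) ∧ 1 ≤ m
      ∧ f₁.reverse = f₁ := by
  obtain ⟨f₁, rfl⟩ := sq_dvd_of_reverse hd hf h1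
  have hL : ((X - 1 : F[X]) ^ 2).Monic := by
    have : (X - 1 : F[X]) = X - C 1 := by rw [map_one]
    rw [this]
    exact (monic_X_sub_C 1).pow 2
  have hLd : ((X - 1 : F[X]) ^ 2).natDegree = 2 := by
    have : (X - 1 : F[X]) = X - C 1 := by rw [map_one]
    rw [this, (monic_X_sub_C (1 : F)).natDegree_pow, natDegree_X_sub_C]
  have hf₁m : f₁.Monic := hL.of_mul_monic_left hm
  have hdeg : 2 + f₁.natDegree = 2 * m := by
    rw [← hd, hL.natDegree_mul hf₁m, hLd]
  refine ⟨f₁, rfl, hf₁m, by omega, by omega, ?_⟩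
  rw [reverse_mul_of_domain, reverse_X_sub_one_sq] at hf
  exact mul_left_cancel₀ hL.ne_zero hf

end Cfsg.Agent.Helper44.QType
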