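/-
helper44: from a fixed-point-free isometry of odd order of a symplectic space to an invariant
non-degenerate quadratic form (odd characteristic: `Q v = B(v, (g - g⁻¹) v) / 2`; characteristic two:
Dye's lemma, from helper43).
-/
import Mathlib
import Cfsg.Agent.Helper43.JTQuadA

set_option autoImplicit false

namespace Cfsg.Agent.Helper44.QType

open QuadraticMap

universe u v

section dye

variable {F : Type u} [Field F] [CharP F 2] [PerfectRing F 2]
  {V : Type v} [AddCommGroup V] [Module F V] [FiniteDimensional F V]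

/-- Dye's lemma on an arbitrary finite-dimensional space. -/
theorem exists_invariant_quadratic_gen (B : LinearMap.BilinForm F V) (halt : B.IsAlt)
    (g : Module.End F V) (hg : ∀ x y, B (g x) (g y) = B x y) :
    ∃ Q : QuadraticForm F V, (∀ x y, polar Q x y = B x y) ∧ ∀ x, Q (g x) = Q x := by
  let b := Module.finBasis F V
  let φ : (Fin (Module.finrank F V) → F) ≃ₗ[F] V := b.equivFun.symm
  let B' : LinearMap.BilinForm F (Fin (Module.finrank F V) → F) :=
    B.compl₁₂ φ.toLinearMap φ.toLinearMap
  have hB' : ∀ x y, B' x y = B (φ x) (φ y) := fun x y => rfl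
  have halt' : B'.IsAlt := fun x => by rw [hB']; exact halt _
  let g' : Module.End F (Fin (Module.finrank F V) → F) :=
    φ.symm.toLinearMap ∘ₗ g ∘ₗ φ.toLinearMap
  have hg' : ∀ x, φ (g' x) = g (φ x) := by
    intro x
    show φ (φ.symm (g (φ x))) = g (φ x)
    rw [LinearEquiv.apply_symm_apply]
  obtain ⟨Q', hpol, hinv⟩ := Cfsg.Agent.Helper43.JT.exists_invariant_quadratic B' halt' g' (by
    intro x y
    rw [hB', hB', hg', hg', hg])
  refine ⟨Q'.comp φ.symm.toLinearMap, ?_, ?_⟩
  · intro x y
    have : polar (Q'.comp φ.symm.toLinearMap) x y = polar Q' (φ.symm x) (φ.symm y) := by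
      simp only [polar, QuadraticMap.comp_apply, LinearEquiv.coe_coe, map_add]
    rw [this, hpol, hB', LinearEquiv.apply_symm_apply, LinearEquiv.apply_symm_apply]
  · intro x
    rw [QuadraticMap.comp_apply, QuadraticMap.comp_apply, LinearEquiv.coe_coe]
    have : φ.symm (g x) = g' (φ.symm x) := by
      show φ.symm (g x) = φ.symm (g (φ (φ.symm x)))
      rw [LinearEquiv.apply_symm_apply]
    rw [this, hinv]

end dye

section odd

variable {F : Type u} [Field F] {V : Type v} [AddCommGroup V] [Module F V]

/-- odd characteristic: `Q v = B(v, (g - h) v) / 2` where `h = g⁻¹` -/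
theorem exists_invariant_quadratic_odd (h2 : (2 : F) ≠ 0) (B : LinearMap.BilinForm F V)
    (halt : B.IsAlt) (hnd : ∀ x, (∀ y, B x y = 0) → x = 0)
    (g h : Module.End F V) (hgh : ∀ x, g (h x) = x) (hhg : ∀ x, h (g x) = x)
    (hg : ∀ x y, B (g x) (g y) = B x y)
    (hfix : ∀ x, g (g x) = x → x = 0) :
    ∃ Q : QuadraticForm F V, (∀ x, (∀ y, polar Q x y = 0) → x = 0) ∧ ∀ x, Q (g x) = Q x := by
  have hh : ∀ x y, B (h x) (h y) = B x y := by
    intro x y
    rw [← hg (h x) (h y), hgh, hgh]
  have hadj : ∀ x y, B (g x) y = B x (h y) := by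
    intro x y
    rw [← hg x (h y), hgh]
  have hadj' : ∀ x y, B (h x) y = B x (g y) := by
    intro x y
    rw [← hh x (g y), hhg]
  have hskew : ∀ x y, B x y = -B y x := fun x y => (halt.neg_eq y x).symm
  let δ : Module.End F V := g - h
  have hδ : ∀ x, δ x = g x - h x := fun x => rfl
  -- the twisted symmetric form
  let S : LinearMap.BilinForm F V := B.compl₁₂ LinearMap.id δ
  have hS : ∀ x y, S x y = B x (g y) - B x (h y) := by
    intro x y
    show B x (δ y) = _
    rw [hδ, map_sub]
  have hSsymm : ∀ x y, S x y = S y x := by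
    intro x y
    rw [hS, hS, ← hadj' x y, ← hadj x y, hskew (h x) y, hskew (g x) y]
    ring
  let Q : QuadraticForm F V := (2 : F)⁻¹ • LinearMap.BilinMap.toQuadraticMap S
  have hQ : ∀ x, Q x = 2⁻¹ * S x x := by
    intro x
    show (2 : F)⁻¹ • LinearMap.BilinMap.toQuadraticMap S x = _
    rw [LinearMap.BilinMap.toQuadraticMap_apply, smul_eq_mul]
  have hpol : ∀ x y, polar Q x y = S x y := by
    intro x y
    simp only [polar, hQ, map_add, LinearMap.add_apply]
    rw [hSsymm y x]
    field_simp
    ring
  refine ⟨Q, ?_, ?_⟩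
  · intro x hx
    -- `S x y = 0` for all `y` means `δ x ⟂ V`
    have h1 : ∀ y, B y (δ x) = 0 := by
      intro y
      have := hx y
      rw [hpol, hSsymm] at this
      exact this
    have h2' : δ x = 0 := by
      apply hnd
      intro y
      rw [hskew, h1, neg_zero]
    apply hfix
    have h3 : g x = h x := sub_eq_zero.mp (by rw [← hδ]; exact h2')
    rw [h3, hgh]
  · intro x
    rw [hQ, hQ, hS, hS]
    have e1 : B (g x) (g (g x)) = B x (g x) := hg x (g x)
    have e2 : B (g x) (h (g x)) = B x (h x) := by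
      rw [hhg, hadj]
    rw [e1, e2]

end odd

end Cfsg.Agent.Helper44.QType
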