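/-
helper44: realising self-reciprocal polynomials by fixed-point-free isometries of quadratic forms
(first part: polynomial decomposition; a symplectic element and an invariant quadratic form).
-/
import Mathlib
import Cfsg.Agent.Helper44.OrthPolyL
import Cfsg.Agent.Helper44.SpToOrth
import Cfsg.Agent.Helper43.SpPrimeB
import Cfsg.Agent.Helper13.Isom

set_option autoImplicit false

namespace Cfsg.Agent.Helper44.QType

open Polynomial Matrix
open Cfsg.Agent.Helper43 Cfsg.Agent.Helper43.SpSS Cfsg.Agent.Helper43.SpCount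
  Cfsg.Agent.Helper43.SS Cfsg.Agent.Helper43.SpPrime

universe u

section decomp

variable {F : Type u} [Field F]

/-- peel off the even power of `X - 1` -/
theorem exists_decomp : ∀ (m : ℕ) (f : F[X]), f.Monic → f.natDegree = 2 * m → f.reverse = f →
    ∃ (k : ℕ) (g : F[X]), k ≤ m ∧ f = (X - 1) ^ (2 * k) * g ∧ g.Monic ∧
      g.natDegree = 2 * (m - k) ∧ g.reverse = g ∧ ¬ (X - 1 : F[X]) ∣ g := by
  intro m
  induction m with
  | zero =>
    intro f hm hd hr
    refine ⟨0, f, le_refl _, by simp, hm, by simpa using hd, hr, ?_⟩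
    intro hdvd
    have h1 : f = 1 := by
      rw [← hm.natDegree_eq_zero]
      simpa using hd
    rw [h1] at hdvd
    have := natDegree_le_of_dvd hdvd one_ne_zero
    have h2 : (X - 1 : F[X]).natDegree = 1 := by
      have : (X - 1 : F[X]) = X - C 1 := by rw [map_one]
      rw [this, natDegree_X_sub_C]
    rw [h2, natDegree_one] at this
    omega
  | succ m ih =>
    intro f hm hd hr
    by_cases hdvd : (X - 1 : F[X]) ∣ f
    · obtain ⟨f₁, hf, hm₁, hd₁, -, hr₁⟩ := exists_quot_of_reverse hm hd hr hdvd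
      have hd₁' : f₁.natDegree = 2 * m := by rw [hd₁]; simp
      obtain ⟨k, g, hk, hfg, hgm, hgd, hgr, hgn⟩ := ih f₁ hm₁ hd₁' hr₁
      refine ⟨k + 1, g, by omega, ?_, hgm, ?_, hgr, hgn⟩
      · rw [hf, hfg]
        ring
      · rw [hgd]
        congr 1
        omega
    · exact ⟨0, f, by omega, by simp, hm, by simpa using hd, hr, hdvd⟩

end decomp

section symp

variable {F : Type u} [Field F] [Fintype F]

/-- a symplectic matrix of order dividing `r` with a prescribed self-reciprocal characteristic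
polynomial -/
theorem exists_symp_of_poly (p : ℕ) [Fact p.Prime] [CharP F p] (n r : ℕ) (hr : r.Prime)
    (hrp : r ≠ p) {g : F[X]} (hgm : g.Monic) (hgd : g.natDegree = 2 * n) (hgr : g.reverse = g)
    (hfac : ∀ P : F[X], P.Monic → Irreducible P → P ∣ g → P ∣ (X ^ r - 1 : F[X])) :
    ∃ A : Matrix (Fin n ⊕ Fin n) (Fin n ⊕ Fin n) F, A ∈ Matrix.symplecticGroup (Fin n) F ∧
      A ^ r = 1 ∧ A.charpoly = g := by
  have hp : p.Prime := Fact.out
  have hrF : (r : F) ≠ 0 := by
    intro h0
    rw [CharP.cast_eq_zero_iff F p r] at h0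
    exact hrp ((Nat.prime_dvd_prime_iff_eq hp hr).mp h0).symm
  have hsep : (X ^ r - 1 : F[X]).Separable := by
    have := Polynomial.separable_X_pow_sub_C (1 : F) hrF one_ne_zero
    simpa using this
  have hX0 : (X ^ r - 1 : F[X]) ≠ 0 := hsep.ne_zero
  obtain ⟨h, hhm, hhd, hpal⟩ := exists_pal_eq hgm hgd hgr
  obtain ⟨a, hacop, hach⟩ := exists_semisimple_charpoly p hhm hhd
  rw [hpal] at hach
  have hkF : (orderOf a : F) ≠ 0 := natCast_ne_zero_of_coprime p hacop
  have hAk : (a : Matrix (Fin n ⊕ Fin n) (Fin n ⊕ Fin n) F) ^ orderOf a = 1 := by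
    rw [← SubmonoidClass.coe_pow, pow_orderOf_eq_one a]
    rfl
  have hAr : (a : Matrix (Fin n ⊕ Fin n) (Fin n ⊕ Fin n) F) ^ r = 1 := by
    have := aeval_eq_zero_of_factors_gen (a : Matrix (Fin n ⊕ Fin n) (Fin n ⊕ Fin n) F)
      (orderOf a) hkF hAk (X ^ r - 1 : F[X]) hX0 (by
        intro P hPm hPi hP
        rw [hach] at hP
        exact hfac P hPm hPi hP)
    rw [map_sub, map_pow, aeval_X, map_one] at this
    exact sub_eq_zero.mp this
  exact ⟨a, a.2, hAr, hach⟩

end symp

end Cfsg.Agent.Helper44.QType
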