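/-
helper44: an invariant non-degenerate quadratic form for a fixed-point-free symplectic matrix of odd
prime order.
-/
import Mathlib
import Cfsg.Agent.Helper44.OrthRealizeA
import Cfsg.Agent.Helper43.SpSSM

set_option autoImplicit false

namespace Cfsg.Agent.Helper44.QType

open Polynomial Matrix QuadraticMap
open Cfsg.Agent.Helper43 Cfsg.Agent.Helper43.SpSS

universe u

section fix

variable {F : Type u} [Field F] {ι : Type*} [Fintype ι] [DecidableEq ι]

/-- no eigenvalue `1` when `X - 1` does not divide the characteristic polynomial -/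
theorem eq_zero_of_mulVec_eq (A : Matrix ι ι F) (hL : ¬ (X - 1 : F[X]) ∣ A.charpoly)
    (x : ι → F) (hx : A *ᵥ x = x) : x = 0 := by
  by_contra hx0
  apply hL
  have hev : Module.End.HasEigenvector (Matrix.toLin' A) 1 x := by
    refine ⟨?_, hx0⟩
    rw [Module.End.mem_eigenspace_iff, Matrix.toLin'_apply, hx, one_smul]
  have h1 := (Module.End.hasEigenvalue_iff_isRoot_charpoly (Matrix.toLin' A) 1).mp
    (Module.End.hasEigenvalue_of_hasEigenvector hev)
  rw [Matrix.charpoly_toLin'] at h1
  have := dvd_iff_isRoot.mpr h1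
  rwa [map_one] at this

/-- for `A` of odd order, `A² x = x` forces `A x = x` -/
theorem mulVec_eq_of_sq (A : Matrix ι ι F) {r : ℕ} (hr : Odd r) (hAr : A ^ r = 1)
    (x : ι → F) (hx : A *ᵥ (A *ᵥ x) = x) : A *ᵥ x = x := by
  obtain ⟨s, rfl⟩ := hr
  have h2 : ∀ j : ℕ, (A ^ 2) ^ j *ᵥ x = x := by
    intro j
    induction j with
    | zero => simp
    | succ j ih =>
      have e : (A ^ 2) ^ (j + 1) = (A ^ 2) ^ j * (A * A) := by rw [pow_succ, pow_two]
      rw [e, ← Matrix.mulVec_mulVec, ← Matrix.mulVec_mulVec, hx, ih]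
  have h3 : (A ^ 2) ^ (s + 1) = A := by
    rw [← pow_mul]
    have : 2 * (s + 1) = (2 * s + 1) + 1 := by ring
    rw [this, pow_succ, hAr, one_mul]
  have := h2 (s + 1)
  rwa [h3] at this

end fix

section quad

variable {F : Type u} [Field F] [Fintype F]

theorem exists_quad_of_symp (p : ℕ) [Fact p.Prime] [CharP F p] (n r : ℕ) (hr : Odd r)
    {A : Matrix (Fin n ⊕ Fin n) (Fin n ⊕ Fin n) F} (hA : A ∈ Matrix.symplecticGroup (Fin n) F)
    (hAr : A ^ r = 1) (hL : ¬ (X - 1 : F[X]) ∣ A.charpoly) :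
    ∃ Q : QuadraticForm F (Fin n ⊕ Fin n → F), (∀ x, (∀ y, polar Q x y = 0) → x = 0) ∧
      ∀ x, Q (A *ᵥ x) = Q x := by
  have hisom : ∀ x y, Bn n F (Matrix.toLin' A x) (Matrix.toLin' A y) = Bn n F x y := by
    intro x y
    rw [Matrix.toLin'_apply, Matrix.toLin'_apply]
    exact Cfsg.Agent.Helper43.symp_preserves hA x y
  have hnd : ∀ x, (∀ y, Bn n F x y = 0) → x = 0 := fun x hx => (Bn_nondeg (n := n) (F := F)).1 x hx
  by_cases hp2 : p = 2
  · subst hp2
    obtain ⟨Q, hpol, hinv⟩ := exists_invariant_quadratic_gen (Bn n F) Bn_alt (Matrix.toLin' A) hisom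
    refine ⟨Q, ?_, ?_⟩
    · intro x hx
      apply hnd
      intro y
      rw [← hpol]
      exact hx y
    · intro x
      have := hinv x
      rwa [Matrix.toLin'_apply] at this
  · have h2 : (2 : F) ≠ 0 := by
      intro h
      have h2' : ((2 : ℕ) : F) = 0 := by exact_mod_cast h
      rw [CharP.cast_eq_zero_iff F p 2] at h2'
      have hp : p.Prime := Fact.out
      exact hp2 ((Nat.prime_dvd_prime_iff_eq hp Nat.prime_two).mp h2')
    have hrpos : 0 < r := hr.pos
    have hAA : A * A ^ (r - 1) = 1 := by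
      rw [← pow_succ', Nat.sub_add_cancel hrpos, hAr]
    have hAA' : A ^ (r - 1) * A = 1 := by
      rw [← pow_succ, Nat.sub_add_cancel hrpos, hAr]
    obtain ⟨Q, hQnd, hinv⟩ := exists_invariant_quadratic_odd h2 (Bn n F) Bn_alt hnd
      (Matrix.toLin' A) (Matrix.toLin' (A ^ (r - 1)))
      (fun x => by
        rw [← LinearMap.comp_apply, ← Matrix.toLin'_mul, hAA, Matrix.toLin'_one]
        rfl)
      (fun x => by
        rw [← LinearMap.comp_apply, ← Matrix.toLin'_mul, hAA', Matrix.toLin'_one]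
        rfl)
      hisom
      (fun x hx => by
        rw [Matrix.toLin'_apply, Matrix.toLin'_apply] at hx
        exact eq_zero_of_mulVec_eq A hL x (mulVec_eq_of_sq A hr hAr x hx))
    refine ⟨Q, hQnd, ?_⟩
    intro x
    have := hinv x
    rwa [Matrix.toLin'_apply] at this

end quad

end Cfsg.Agent.Helper44.QType
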