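/-
helper44: block-diagonal embedding of isometry groups O(Q₁) × O(Q₂) → O(Q₁ ⊕ Q₂) and images of commutator subgroups.
-/
import Mathlib
import Cfsg.Prelude.Def_Classical

set_option autoImplicit false

namespace Cfsg.Agent.Helper44

open Matrix

/-- A group hom maps the commutator subgroup into the commutator subgroup. -/
theorem map_mem_commutator {G H : Type*} [Group G] [Group H] (f : G →* H) {g : G}
    (hg : g ∈ commutator G) : f g ∈ commutator H := by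
  rw [commutator_def] at hg ⊢
  have h1 : f g ∈ Subgroup.map f ⁅(⊤ : Subgroup G), ⊤⁆ := Subgroup.mem_map_of_mem f hg
  rw [Subgroup.map_commutator] at h1
  exact Subgroup.commutator_mono le_top le_top h1

section blocks

variable {ι₁ ι₂ : Type} [Fintype ι₁] [DecidableEq ι₁] [Fintype ι₂] [DecidableEq ι₂]
variable {R : Type*} [CommRing R]

/-- `(A, B) ↦ diag(A, B)` as a monoid hom on matrices. -/
def blockDiagHom (ι₁ ι₂ : Type) [Fintype ι₁] [DecidableEq ι₁] [Fintype ι₂] [DecidableEq ι₂]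
    (R : Type*) [CommRing R] :
    Matrix ι₁ ι₁ R × Matrix ι₂ ι₂ R →* Matrix (ι₁ ⊕ ι₂) (ι₁ ⊕ ι₂) R where
  toFun p := Matrix.fromBlocks p.1 0 0 p.2
  map_one' := by simp [Matrix.fromBlocks_one]
  map_mul' p q := by
    simp [Matrix.fromBlocks_multiply]

/-- `(A, B) ↦ diag(A, B)` on general linear groups. -/
def blockDiagGL (ι₁ ι₂ : Type) [Fintype ι₁] [DecidableEq ι₁] [Fintype ι₂] [DecidableEq ι₂]
    (R : Type*) [CommRing R] :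
    GL ι₁ R × GL ι₂ R →* GL (ι₁ ⊕ ι₂) R :=
  (Units.map (blockDiagHom ι₁ ι₂ R)).comp (MulEquiv.prodUnits.symm.toMonoidHom)

@[simp]
theorem blockDiagGL_coe (p : GL ι₁ R × GL ι₂ R) :
    ((blockDiagGL ι₁ ι₂ R p : GL (ι₁ ⊕ ι₂) R) : Matrix (ι₁ ⊕ ι₂) (ι₁ ⊕ ι₂) R) =
      Matrix.fromBlocks (p.1 : Matrix ι₁ ι₁ R) 0 0 (p.2 : Matrix ι₂ ι₂ R) := rfl

end blocks

section iso

variable {ι₁ ι₂ : Type} [Fintype ι₁] [DecidableEq ι₁] [Fintype ι₂] [DecidableEq ι₂]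
variable {F : Type*} [Field F]

/-- The orthogonal sum of two functions. -/
abbrev orthSum (Q₁ : (ι₁ → F) → F) (Q₂ : (ι₂ → F) → F) : (ι₁ ⊕ ι₂ → F) → F :=
  fun v => Q₁ (v ∘ Sum.inl) + Q₂ (v ∘ Sum.inr)

theorem mem_isometryGroup_iff {ι : Type} [Fintype ι] [DecidableEq ι] (Q : (ι → F) → F)
    (g : GL ι F) : g ∈ isometryGroup F Q ↔ ∀ v, Q ((g : Matrix ι ι F) *ᵥ v) = Q v := by
  constructor
  · intro h v
    exact h v v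
  · intro h u _
    exact h u

theorem blockDiagGL_mem (Q₁ : (ι₁ → F) → F) (Q₂ : (ι₂ → F) → F)
    (p : GL ι₁ F × GL ι₂ F) (h1 : p.1 ∈ isometryGroup F Q₁) (h2 : p.2 ∈ isometryGroup F Q₂) :
    blockDiagGL ι₁ ι₂ F p ∈ isometryGroup F (orthSum Q₁ Q₂) := by
  rw [mem_isometryGroup_iff] at h1 h2 ⊢
  intro v
  rw [blockDiagGL_coe, Matrix.fromBlocks_mulVec]
  simp only [orthSum, Matrix.zero_mulVec, add_zero, zero_add]
  have e1 : (Sum.elim ((p.1 : Matrix ι₁ ι₁ F) *ᵥ (v ∘ Sum.inl)) ((p.2 : Matrix ι₂ ι₂ F) *ᵥ (v ∘ Sum.inr))) ∘ Sum.inl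
      = (p.1 : Matrix ι₁ ι₁ F) *ᵥ (v ∘ Sum.inl) := by
    ext i; simp
  have e2 : (Sum.elim ((p.1 : Matrix ι₁ ι₁ F) *ᵥ (v ∘ Sum.inl)) ((p.2 : Matrix ι₂ ι₂ F) *ᵥ (v ∘ Sum.inr))) ∘ Sum.inr
      = (p.2 : Matrix ι₂ ι₂ F) *ᵥ (v ∘ Sum.inr) := by
    ext i; simp
  rw [e1, e2, h1, h2]

/-- The block-diagonal hom `O(Q₁) × O(Q₂) →* O(Q₁ ⊕ Q₂)`. -/
def blockDiagIso (Q₁ : (ι₁ → F) → F) (Q₂ : (ι₂ → F) → F) :
    ↥(isometryGroup F Q₁) × ↥(isometryGroup F Q₂) →* ↥(isometryGroup F (orthSum Q₁ Q₂)) where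
  toFun p := ⟨blockDiagGL ι₁ ι₂ F (p.1.1, p.2.1), blockDiagGL_mem Q₁ Q₂ _ p.1.2 p.2.2⟩
  map_one' := by
    apply Subtype.ext
    exact map_one (blockDiagGL ι₁ ι₂ F)
  map_mul' p q := by
    apply Subtype.ext
    exact map_mul (blockDiagGL ι₁ ι₂ F) (p.1.1, p.2.1) (q.1.1, q.2.1)

@[simp]
theorem blockDiagIso_coe (Q₁ : (ι₁ → F) → F) (Q₂ : (ι₂ → F) → F)
    (p : ↥(isometryGroup F Q₁) × ↥(isometryGroup F Q₂)) :
    (((blockDiagIso Q₁ Q₂ p : ↥(isometryGroup F (orthSum Q₁ Q₂))) : GL (ι₁ ⊕ ι₂) F) :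
      Matrix (ι₁ ⊕ ι₂) (ι₁ ⊕ ι₂) F) =
      Matrix.fromBlocks ((p.1 : GL ι₁ F) : Matrix ι₁ ι₁ F) 0 0 ((p.2 : GL ι₂ F) : Matrix ι₂ ι₂ F) := rfl

/-- `Ω(Q₁) × Ω(Q₂)` maps into `Ω(Q₁ ⊕ Q₂)`. -/
theorem blockDiagIso_mem_Omega (Q₁ : (ι₁ → F) → F) (Q₂ : (ι₂ → F) → F)
    (g₁ : ↥(isometryGroup F Q₁)) (g₂ : ↥(isometryGroup F Q₂))
    (h₁ : g₁ ∈ Omega F Q₁) (h₂ : g₂ ∈ Omega F Q₂) :
    blockDiagIso Q₁ Q₂ (g₁, g₂) ∈ Omega F (orthSum Q₁ Q₂) := by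
  have e : (g₁, g₂) = (MonoidHom.inl _ _ g₁) * (MonoidHom.inr _ _ g₂) := by
    simp
  rw [e, map_mul]
  refine Subgroup.mul_mem _ ?_ ?_
  · exact map_mem_commutator ((blockDiagIso Q₁ Q₂).comp (MonoidHom.inl _ _)) h₁
  · exact map_mem_commutator ((blockDiagIso Q₁ Q₂).comp (MonoidHom.inr _ _)) h₂

end iso

end Cfsg.Agent.Helper44
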