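import Mathlib
import Cfsg.Prelude.Def_ClassicalGeometry
import Cfsg.Agent.Helper44.Gram
import Cfsg.Agent.Helper44.HypPairs

/-!
# `-1` as a product of reflections in an orthogonal basis; `-1 ∈ Ω` iff the discriminant is a square
-/

set_option autoImplicit false

namespace Cfsg.Agent.Helper44

open Matrix

variable {F : Type*} [Field F] {ι : Type} [Fintype ι] [DecidableEq ι]
variable (Q : QuadraticForm F (ι → F))

/-- an orthogonal basis of nonsingular vectors, in odd characteristic -/
theorem exists_orthogonal_basis_nonsingular (h2 : (2 : F) ≠ 0)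
    (hQ : (QuadraticMap.polarBilin Q).Nondegenerate) :
    ∃ v : Module.Basis (Fin (Module.finrank F (ι → F))) F (ι → F),
      (∀ i j, i ≠ j → QuadraticMap.polar ⇑Q (v i) (v j) = 0) ∧ ∀ i, Q (v i) ≠ 0 := by
  haveI : Invertible (2 : F) := invertibleOfNonzero h2
  have hsymm : (QuadraticMap.polarBilin Q).IsSymm :=
    ⟨fun x y => by simp [QuadraticMap.polar_comm]⟩
  obtain ⟨v, hv⟩ := LinearMap.BilinForm.exists_orthogonal_basis hsymm
  refine ⟨v, fun i j hij => hv hij, fun i hi => ?_⟩
  have h1 := hv.not_isOrtho_basis_self_of_separatingLeft hQ.1 i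
  apply h1
  rw [QuadraticMap.polarBilin_apply_apply, QuadraticMap.polar_self, hi, smul_zero]

theorem prod_reflection_mulVec {κ : Type*} [DecidableEq κ] (v : κ → ι → F)
    (hv : ∀ i j, i ≠ j → QuadraticMap.polar ⇑Q (v i) (v j) = 0) (hv0 : ∀ i, Q (v i) ≠ 0)
    (is : List κ) (hnd : is.Nodup) (j : κ) :
    (is.map (fun i => Cfsg.reflectionMatrix ⇑Q (v i))).prod *ᵥ (v j)
      = if j ∈ is then -(v j) else v j := by
  induction is with
  | nil => simp
  | cons i is ih =>
    rw [List.nodup_cons] at hnd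
    rw [List.map_cons, List.prod_cons, ← Matrix.mulVec_mulVec, ih hnd.2]
    by_cases hij : i = j
    · subst hij
      rw [if_neg hnd.1, if_pos List.mem_cons_self,
        Helper13.reflectionMatrix_mulVec_self Q (v i) (hv0 i)]
    · have h1 : Cfsg.reflectionMatrix ⇑Q (v i) *ᵥ (v j) = v j :=
        Helper13.reflectionMatrix_mulVec_of_polar_eq_zero Q (v i) (v j) (hv i j hij)
      by_cases hj : j ∈ is
      · rw [if_pos hj, if_pos (List.mem_cons_of_mem _ hj), Matrix.mulVec_neg, h1]
      · have hj' : j ∉ i :: is := by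
          rw [List.mem_cons]
          push Not
          exact ⟨fun h => hij h.symm, hj⟩
        rw [if_neg hj, if_neg hj', h1]

theorem prod_reflection_basis_eq_neg_one {N : ℕ} (v : Module.Basis (Fin N) F (ι → F))
    (hv : ∀ i j, i ≠ j → QuadraticMap.polar ⇑Q (v i) (v j) = 0) (hv0 : ∀ i, Q (v i) ≠ 0) :
    ((List.finRange N).map (fun i => Cfsg.reflectionMatrix ⇑Q (v i))).prod = -1 := by
  apply Matrix.toLin'.injective
  apply v.ext
  intro j
  rw [Matrix.toLin'_apply, prod_reflection_mulVec Q v hv hv0 _ (List.nodup_finRange N) j,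
    if_pos (List.mem_finRange j), Matrix.toLin'_apply, Matrix.neg_mulVec, Matrix.one_mulVec]

theorem det_gram_orthogonal {N : ℕ} (v : Fin N → ι → F)
    (hv : ∀ i j, i ≠ j → QuadraticMap.polar ⇑Q (v i) (v j) = 0) :
    (Matrix.of fun i j : Fin N => QuadraticMap.polarBilin Q (v i) (v j)).det
      = 2 ^ N * ((List.finRange N).map (fun i => Q (v i))).prod := by
  have h1 : (Matrix.of fun i j : Fin N => QuadraticMap.polarBilin Q (v i) (v j))
      = Matrix.diagonal (fun i => 2 * Q (v i)) := by
    ext i j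
    rw [Matrix.of_apply, QuadraticMap.polarBilin_apply_apply]
    by_cases hij : i = j
    · subst hij
      rw [Matrix.diagonal_apply_eq, QuadraticMap.polar_self, nsmul_eq_mul]
      norm_num
    · rw [Matrix.diagonal_apply_ne _ hij, hv i j hij]
  rw [h1, Matrix.det_diagonal, Finset.prod_mul_distrib, Finset.prod_const, Finset.card_univ,
    Fintype.card_fin, Fin.prod_univ_def]

theorem exists_neg_one_mem_Omega_iff_aux [Finite F] (h2 : (2 : F) ≠ 0) {N : ℕ} (he : Even N)
    (v : Module.Basis (Fin N) F (ι → F))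
    (hv : ∀ i j, i ≠ j → QuadraticMap.polar ⇑Q (v i) (v j) = 0) (hv0 : ∀ i, Q (v i) ≠ 0) :
    (∃ g : Cfsg.isometryGroup F ⇑Q, g ∈ Cfsg.Omega F ⇑Q ∧
      ((g : Matrix.GeneralLinearGroup ι F) : Matrix ι ι F) = -1)
      ↔ IsSquare (LinearMap.BilinForm.toMatrix' (QuadraticMap.polarBilin Q)).det := by
  have hprod := prod_reflection_basis_eq_neg_one Q v hv hv0
  have hvs : ∀ x ∈ (List.finRange N).map (fun i => v i), Q x ≠ 0 := by
    intro x hx
    obtain ⟨i, -, rfl⟩ := List.mem_map.1 hx
    exact hv0 i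
  have hprod' : (((List.finRange N).map (fun i => v i)).map
      (fun x => Cfsg.reflectionMatrix ⇑Q x)).prod = -1 := by
    rw [List.map_map]
    exact hprod
  have hlen : ((List.finRange N).map (fun i => v i)).length = N := by simp
  have hQprod : (((List.finRange N).map (fun i => v i)).map (fun x => Q x)).prod
      = ((List.finRange N).map (fun i => Q (v i))).prod := by
    rw [List.map_map]
    rfl
  have hdisc : IsSquare (LinearMap.BilinForm.toMatrix' (QuadraticMap.polarBilin Q)).det
      ↔ IsSquare ((List.finRange N).map (fun i => Q (v i))).prod := by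
    rw [← isSquare_det_gram_iff (QuadraticMap.polarBilin Q) v, det_gram_orthogonal Q v hv]
    obtain ⟨k, hk⟩ := he
    have h3 : (2 : F) ^ N = 2 ^ k * 2 ^ k := by rw [← pow_add, ← hk]
    rw [h3, isSquare_sq_mul_iff (pow_ne_zero k h2)]
  rw [hdisc, ← hQprod]
  constructor
  · rintro ⟨g, hg, hgm⟩
    exact ((mem_Omega_iff_of_prod_reflections Q h2 g _ hvs (hgm.trans hprod'.symm)).1 hg).2
  · intro hsq
    refine ⟨(((List.finRange N).map (fun i => v i)).map (reflT Q)).prod, ?_, ?_⟩
    · apply prod_reflT_mem_Omega Q h2 _ hvs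
      · rw [hlen]
        exact he
      · exact hsq
    · rw [coe_prod_reflT Q _ hvs, hprod']

/-- **`-1 ∈ Ω` iff the discriminant is a square** (even dimension, odd characteristic). -/
theorem exists_neg_one_mem_Omega_iff [Finite F] (h2 : (2 : F) ≠ 0)
    (he : Even (Module.finrank F (ι → F))) (hQ : (QuadraticMap.polarBilin Q).Nondegenerate) :
    (∃ g : Cfsg.isometryGroup F ⇑Q, g ∈ Cfsg.Omega F ⇑Q ∧
      ((g : Matrix.GeneralLinearGroup ι F) : Matrix ι ι F) = -1)
      ↔ IsSquare (LinearMap.BilinForm.toMatrix' (QuadraticMap.polarBilin Q)).det := by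
  obtain ⟨v, hv, hv0⟩ := exists_orthogonal_basis_nonsingular Q h2 hQ
  exact exists_neg_one_mem_Omega_iff_aux Q h2 he v hv hv0

end Cfsg.Agent.Helper44
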