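import Mathlib
import Cfsg.Prelude.Def_ClassicalGeometry
import Cfsg.Agent.Helper44.OrthBasis

/-!
# Cartan–Dieudonné (generation by reflections) in odd characteristic
-/

set_option autoImplicit false

namespace Cfsg.Agent.Helper44

open Matrix

variable {F : Type*} [Field F] {ι : Type} [Fintype ι] [DecidableEq ι]
variable (Q : QuadraticForm F (ι → F))

theorem refl_mulVec_of_polar_eq_zero (u : ι → F) (hu : Q u ≠ 0) (x : ι → F)
    (h : QuadraticMap.polar ⇑Q u x = 0) : ((refl Q u hu).1 : Matrix ι ι F) *ᵥ x = x := by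
  rw [refl_coe]
  exact Helper13.reflectionMatrix_mulVec_of_polar_eq_zero Q u x h

theorem refl_sub_mulVec (u v : ι → F) (huv : Q u = Q v) (h : Q (u - v) ≠ 0) :
    ((refl Q (u - v) h).1 : Matrix ι ι F) *ᵥ u = v := by
  rw [refl_mulVec]
  have h5 : (Q (u - v))⁻¹ * QuadraticMap.polar ⇑Q (u - v) u = 1 := by
    have h6 : QuadraticMap.polar ⇑Q (u - v) u = Q (u - v) := by
      rw [QuadraticMap.polar_sub_left, QuadraticMap.polar_self, Q_sub,
        QuadraticMap.polar_comm ⇑Q v u, nsmul_eq_mul]
      push_cast
      linear_combination huv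
    rw [h6, inv_mul_cancel₀ h]
  rw [h5, one_smul]
  abel

theorem refl_add_mulVec (u v : ι → F) (huv : Q u = Q v) (h : Q (u + v) ≠ 0) :
    ((refl Q (u + v) h).1 : Matrix ι ι F) *ᵥ u = -v := by
  rw [refl_mulVec]
  have h5 : (Q (u + v))⁻¹ * QuadraticMap.polar ⇑Q (u + v) u = 1 := by
    have h6 : QuadraticMap.polar ⇑Q (u + v) u = Q (u + v) := by
      rw [QuadraticMap.polar_add_left, QuadraticMap.polar_self, QuadraticMap.map_add ⇑Q,
        QuadraticMap.polar_comm ⇑Q v u, nsmul_eq_mul]
      push_cast
      linear_combination huv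
    rw [h6, inv_mul_cancel₀ h]
  rw [h5, one_smul]
  abel

theorem Q_add_ne_zero_of_Q_sub_eq_zero (h2 : (2 : F) ≠ 0) (u v : ι → F) (huv : Q u = Q v)
    (hv : Q v ≠ 0) (h : Q (u - v) = 0) : Q (u + v) ≠ 0 := by
  intro h'
  rw [Q_sub] at h
  rw [QuadraticMap.map_add ⇑Q] at h'
  have h4 : (2 : F) * 2 * Q v = 0 := by linear_combination h + h' - 2 * huv
  exact hv ((mul_eq_zero.1 h4).resolve_left (mul_ne_zero h2 h2))

theorem cartan_dieudonne_aux (h2 : (2 : F) ≠ 0) {N : ℕ} (v : Module.Basis (Fin N) F (ι → F))
    (hv : ∀ i j, i ≠ j → QuadraticMap.polar ⇑Q (v i) (v j) = 0) (hv0 : ∀ i, Q (v i) ≠ 0) :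
    ∀ k, k ≤ N → ∀ g : Cfsg.isometryGroup F ⇑Q,
      (∀ i : Fin N, (i : ℕ) < N - k → (g.1 : Matrix ι ι F) *ᵥ v i = v i) →
      ∃ vs : List (ι → F), (∀ x ∈ vs, Q x ≠ 0) ∧ g = (vs.map (reflT Q)).prod := by
  intro k
  induction k with
  | zero =>
    intro _ g hg
    refine ⟨[], by simp, ?_⟩
    simp only [List.map_nil, List.prod_nil]
    apply isometryGroup_ext
    intro x
    rw [isometryGroup_one_mulVec]
    have h1 : Matrix.toLin' (g.1 : Matrix ι ι F) = LinearMap.id := by
      apply v.ext
      intro i
      rw [Matrix.toLin'_apply, LinearMap.id_apply]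
      exact hg i (by simpa using i.2)
    have := congrArg (fun f => f x) h1
    simpa [Matrix.toLin'_apply] using this
  | succ k ih =>
    intro hk g hg
    have hjN : N - (k + 1) < N := by omega
    set j : Fin N := ⟨N - (k + 1), hjN⟩ with hj
    set w := (g.1 : Matrix ι ι F) *ᵥ v j with hw
    have hQw : Q w = Q (v j) := isometryGroup_apply g (v j)
    have hperp : ∀ i : Fin N, (i : ℕ) < N - (k + 1) → QuadraticMap.polar ⇑Q w (v i) = 0 := by
      intro i hi
      have h1 : v i = (g.1 : Matrix ι ι F) *ᵥ v i := (hg i hi).symm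
      rw [h1, hw, Helper13.polar_mulVec_of_isometry Q _ (isometryGroup_apply g)]
      apply hv
      intro hji
      rw [← hji] at hi
      simp [hj] at hi
    have hperpj : ∀ i : Fin N, (i : ℕ) < N - (k + 1) → QuadraticMap.polar ⇑Q (v j) (v i) = 0 := by
      intro i hi
      apply hv
      intro hji
      rw [← hji] at hi
      simp [hj] at hi
    by_cases hA : Q (w - v j) = 0
    · -- second case: use `w + v j` then `v j`
      have hB : Q (w + v j) ≠ 0 := Q_add_ne_zero_of_Q_sub_eq_zero Q h2 w (v j) hQw (hv0 j) hA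
      have hfix : ∀ i : Fin N, (i : ℕ) < N - k →
          ((refl Q (v j) (hv0 j) * refl Q (w + v j) hB * g).1 : Matrix ι ι F) *ᵥ v i = v i := by
        intro i hi
        rw [isometryGroup_mul_mulVec, isometryGroup_mul_mulVec]
        by_cases hij : (i : ℕ) < N - (k + 1)
        · rw [hg i hij, refl_mulVec_of_polar_eq_zero Q _ hB,
            refl_mulVec_of_polar_eq_zero Q _ (hv0 j) _ (hperpj i hij)]
          rw [QuadraticMap.polar_add_left, hperp i hij, hperpj i hij, add_zero]
        · have hij' : i = j := by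
            apply Fin.ext
            simp only [hj]
            omega
          rw [hij', ← hw, refl_add_mulVec Q w (v j) hQw hB, Matrix.mulVec_neg, refl_mulVec_self,
            neg_neg]
      obtain ⟨vs, hvs, hprod⟩ := ih (by omega) _ hfix
      refine ⟨(w + v j) :: v j :: vs, ?_, ?_⟩
      · intro x hx
        simp only [List.mem_cons] at hx
        rcases hx with rfl | rfl | hx
        · exact hB
        · exact hv0 j
        · exact hvs x hx
      · rw [List.map_cons, List.map_cons, List.prod_cons, List.prod_cons, ← hprod,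
          reflT_of_ne Q _ hB, reflT_of_ne Q _ (hv0 j)]
        have e1 := refl_mul_self Q (v j) (hv0 j)
        have e2 := refl_mul_self Q (w + v j) hB
        calc g = refl Q (w + v j) hB * refl Q (w + v j) hB * g := by rw [e2, one_mul]
          _ = refl Q (w + v j) hB * (refl Q (v j) (hv0 j) * refl Q (v j) (hv0 j))
              * refl Q (w + v j) hB * g := by rw [e1, mul_one]
          _ = _ := by simp only [mul_assoc]
    · -- first case: use `w - v j`
      have hfix : ∀ i : Fin N, (i : ℕ) < N - k →
          ((refl Q (w - v j) hA * g).1 : Matrix ι ι F) *ᵥ v i = v i := by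
        intro i hi
        rw [isometryGroup_mul_mulVec]
        by_cases hij : (i : ℕ) < N - (k + 1)
        · rw [hg i hij, refl_mulVec_of_polar_eq_zero Q _ hA]
          rw [QuadraticMap.polar_sub_left, hperp i hij, hperpj i hij, sub_zero]
        · have hij' : i = j := by
            apply Fin.ext
            simp only [hj]
            omega
          rw [hij', ← hw, refl_sub_mulVec Q w (v j) hQw hA]
      obtain ⟨vs, hvs, hprod⟩ := ih (by omega) _ hfix
      refine ⟨(w - v j) :: vs, ?_, ?_⟩
      · intro x hx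
        simp only [List.mem_cons] at hx
        rcases hx with rfl | hx
        · exact hA
        · exact hvs x hx
      · rw [List.map_cons, List.prod_cons, ← hprod, reflT_of_ne Q _ hA, ← mul_assoc,
          refl_mul_self, one_mul]

/-- **Cartan–Dieudonné**, weak form: over a field with `2 ≠ 0`, every isometry of a nondegenerate
quadratic form is a product of reflections. -/
theorem cartan_dieudonne (h2 : (2 : F) ≠ 0) (hQ : (QuadraticMap.polarBilin Q).Nondegenerate)
    (g : Cfsg.isometryGroup F ⇑Q) :
    ∃ vs : List (ι → F), (∀ x ∈ vs, Q x ≠ 0) ∧ g = (vs.map (reflT Q)).prod := by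
  obtain ⟨v, hv, hv0⟩ := exists_orthogonal_basis_nonsingular Q h2 hQ
  exact cartan_dieudonne_aux Q h2 v hv hv0 _ le_rfl g (fun i hi => absurd hi (by simp))

end Cfsg.Agent.Helper44
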