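import Mathlib
import Cfsg.Prelude.Def_ClassicalGeometry
import Cfsg.Agent.Helper13.Isom
import Cfsg.Agent.Helper44.CartanDieudonne

/-!
# Characteristic two: products of two reflections lie in `Ω`

For a quadratic form with non-degenerate polar form over a finite field of characteristic two
(excluding `(|F|, dim) = (2, 4)`), any product of two reflections is a commutator, and `Ω` is
transitive on vectors of a given non-zero norm.
-/

set_option autoImplicit false

namespace Cfsg.Agent.Helper44

open Matrix QuadraticMap Module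

section abstract

variable {F V : Type*} [Field F] [AddCommGroup V] [Module F V]

theorem polar_self_charTwo [CharP F 2] (Q : QuadraticForm F V) (x : V) : polar Q x x = 0 := by
  rw [polar_self, nsmul_eq_mul]
  push_cast
  rw [CharTwo.two_eq_zero, zero_mul]

/-- There is a vector non-orthogonal to both of two non-zero vectors. -/
theorem exists_polar_ne_zero_both (Q : QuadraticForm F V)
    (hQ : (QuadraticMap.polarBilin Q).Nondegenerate) (a b : V) (ha : a ≠ 0) (hb : b ≠ 0) :
    ∃ z, polar Q a z ≠ 0 ∧ polar Q b z ≠ 0 := by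
  obtain ⟨y, hy⟩ : ∃ y, polar Q a y ≠ 0 := by
    by_contra h
    push Not at h
    exact ha (hQ.1 a h)
  obtain ⟨y', hy'⟩ : ∃ y, polar Q b y ≠ 0 := by
    by_contra h
    push Not at h
    exact hb (hQ.1 b h)
  by_cases h1 : polar Q b y = 0
  · by_cases h2 : polar Q a y' = 0
    · refine ⟨y + y', ?_, ?_⟩
      · rw [polar_add_right, h2, add_zero]; exact hy
      · rw [polar_add_right, h1, zero_add]; exact hy'
    · exact ⟨y', h2, hy'⟩
  · exact ⟨y, hy, h1⟩

/-- the key existence statement: an intermediate vector of the same norm, non-orthogonal to both `a` and `b`. -/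
theorem exists_intermediate [CharP F 2] [FiniteDimensional F V] (Q : QuadraticForm F V)
    (hQ : (QuadraticMap.polarBilin Q).Nondegenerate)
    (h : (∃ s : F, s ≠ 0 ∧ s ≠ 1) ∨ finrank F V ≠ 4) (a b : V) (hab : a ≠ b)
    (hQab : Q a = Q b) (ha : Q a ≠ 0) (hpol : polar Q a b = 0) :
    ∃ w, Q w = Q a ∧ polar Q a w ≠ 0 ∧ polar Q b w ≠ 0 := by
  have hb : Q b ≠ 0 := hQab ▸ ha
  have ha0 : a ≠ 0 := by rintro rfl; exact ha (map_zero Q)
  have hb0 : b ≠ 0 := by rintro rfl; exact hb (map_zero Q)
  have haa : polar Q a a = 0 := polar_self_charTwo Q a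
  have hbb : polar Q b b = 0 := polar_self_charTwo Q b
  have hba : polar Q b a = 0 := by rw [polar_comm]; exact hpol
  -- it suffices to find `z` nonsingular, non-orthogonal to both
  suffices hz : ∃ z, polar Q a z ≠ 0 ∧ polar Q b z ≠ 0 ∧ Q z ≠ 0 by
    obtain ⟨z, hza, hzb, hz⟩ := hz
    set t : F := polar Q a z / Q z with ht
    have ht0 : t ≠ 0 := div_ne_zero hza hz
    refine ⟨a + t • z, ?_, ?_, ?_⟩
    · rw [QuadraticMap.map_add ⇑Q, QuadraticMap.map_smul, polar_smul_right, smul_eq_mul, smul_eq_mul]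
      have h2 : (2 : F) = 0 := CharTwo.two_eq_zero
      have : t * t * Q z + t * polar Q a z = 0 := by
        rw [ht]
        field_simp
        linear_combination (polar Q a z) ^ 2 * h2
      linear_combination this
    · rw [polar_add_right, haa, polar_smul_right, zero_add, smul_eq_mul]
      exact mul_ne_zero ht0 hza
    · rw [polar_add_right, hba, polar_smul_right, zero_add, smul_eq_mul]
      exact mul_ne_zero ht0 hzb
  obtain ⟨z₀, hz₀a, hz₀b⟩ := exists_polar_ne_zero_both Q hQ a b ha0 hb0
  by_cases hz₀ : Q z₀ = 0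
  swap
  · exact ⟨z₀, hz₀a, hz₀b, hz₀⟩
  rcases h with ⟨s, hs0, hs1⟩ | hdim
  · -- `|F| ≥ 3`: use `z₀ + c • a`
    set c : F := s * polar Q a z₀ / Q a with hc
    refine ⟨z₀ + c • a, ?_, ?_, ?_⟩
    · rw [polar_add_right, polar_smul_right, haa, smul_zero, add_zero]; exact hz₀a
    · rw [polar_add_right, polar_smul_right, hba, smul_zero, add_zero]; exact hz₀b
    · rw [QuadraticMap.map_add ⇑Q, QuadraticMap.map_smul, polar_smul_right, hz₀, smul_eq_mul,
        smul_eq_mul, polar_comm ⇑Q z₀ a]
      have h2 : (2 : F) = 0 := CharTwo.two_eq_zero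
      have e : 0 + c * c * Q a + c * polar Q a z₀ = s * (s + 1) * (polar Q a z₀) ^ 2 / Q a := by
        rw [hc]
        field_simp
        ring
      rw [e]
      have hs1' : s + 1 ≠ 0 := by
        intro h0
        apply hs1
        have : s = s + 1 + 1 := by
          rw [add_assoc, CharTwo.add_self_eq_zero, add_zero]
        rw [this, h0, zero_add]
      exact div_ne_zero (mul_ne_zero (mul_ne_zero hs0 hs1') (pow_ne_zero 2 hz₀a)) ha
  · -- dimension argument
    by_contra hcon
    push Not at hcon
    set B : LinearMap.BilinForm F V := QuadraticMap.polarBilin Q with hB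
    set P : Submodule F V := Submodule.span F {a, b} with hP
    have hli : LinearIndependent F ![a, b] := by
      rw [LinearIndependent.pair_iff]
      intro x y hxy
      by_cases hy : y = 0
      · rw [hy, zero_smul, add_zero] at hxy
        exact ⟨(smul_eq_zero.1 hxy).resolve_right ha0, hy⟩
      · exfalso
        have h1 : b = (x / y) • a := by
          have : y • b = x • a := by
            have h3 : x • a + y • b + x • a = x • a := by rw [hxy, zero_add]
            have h4 : x • a + y • b + x • a = y • b := by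
              rw [add_comm (x • a) (y • b), add_assoc, ← add_smul, CharTwo.add_self_eq_zero,
                zero_smul, add_zero]
            rw [← h4, h3]
          rw [div_eq_inv_mul, mul_smul, ← this, smul_smul, inv_mul_cancel₀ hy, one_smul]
        have h2 : Q b = (x / y) * (x / y) * Q a := by rw [h1, QuadraticMap.map_smul, smul_eq_mul]
        have h3 : (x / y) * (x / y) = 1 := by
          have : (x / y) * (x / y) * Q a = 1 * Q a := by rw [← h2, one_mul, hQab]
          exact mul_right_cancel₀ ha this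
        have h4 : x / y = 1 := by
          have : (x / y + 1) * (x / y + 1) = 0 := by
            have h2' : (2 : F) = 0 := CharTwo.two_eq_zero
            linear_combination h3 + (x / y + 1) * h2'
          have h5 := mul_self_eq_zero.1 this
          have : x / y = x / y + 1 + 1 := by
            rw [add_assoc, CharTwo.add_self_eq_zero, add_zero]
          rw [this, h5, zero_add]
        rw [h4, one_smul] at h1
        exact hab h1.symm
    have hPrank : finrank F P = 2 := by
      have h1 := finrank_span_eq_card hli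
      have h2 : Set.range ![a, b] = {a, b} := by
        simp [Matrix.range_cons, Set.pair_comm]
      rw [h2] at h1
      rw [hP, h1, Fintype.card_fin]
    -- `P ≤ P^⊥`
    have hPle : P ≤ B.orthogonal P := by
      rw [hP, Submodule.span_le]
      intro x hx
      rw [SetLike.mem_coe, LinearMap.BilinForm.mem_orthogonal_iff]
      intro n hn
      have hn' : ∀ n ∈ Submodule.span F {a, b}, ∀ x ∈ ({a, b} : Set V), B n x = 0 := by
        intro n hn
        induction hn using Submodule.span_induction with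
        | mem n hn =>
          intro x hx
          rcases hn with rfl | rfl <;> rcases hx with rfl | rfl <;>
            simp [hB, QuadraticMap.polarBilin_apply_apply, haa, hbb, hpol, hba]
        | zero => intro x hx; simp
        | add u v _ _ hu hv => intro x hx; rw [map_add, LinearMap.add_apply, hu x hx, hv x hx, add_zero]
        | smul c u _ hu => intro x hx; rw [map_smul, LinearMap.smul_apply, hu x hx, smul_zero]
      exact hn' n hn x hx
    -- elements of `P^⊥`
    have hperp : ∀ y ∈ B.orthogonal P, polar Q a y = 0 ∧ polar Q b y = 0 := by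
      intro y hy
      rw [LinearMap.BilinForm.mem_orthogonal_iff] at hy
      have h1 := hy a (Submodule.subset_span (by simp))
      have h2 := hy b (Submodule.subset_span (by simp))
      exact ⟨h1, h2⟩
    have hkey : ∀ y ∈ B.orthogonal P, Q y = polar Q z₀ y := by
      intro y hy
      obtain ⟨h1, h2⟩ := hperp y hy
      have h3 := hcon (z₀ + y) (by rw [polar_add_right, h1, add_zero]; exact hz₀a)
        (by rw [polar_add_right, h2, add_zero]; exact hz₀b)
      rw [QuadraticMap.map_add ⇑Q, hz₀, zero_add] at h3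
      have h4 : Q y = Q y + polar Q z₀ y + polar Q z₀ y := by
        rw [add_assoc, CharTwo.add_self_eq_zero, add_zero]
      rw [h4, h3, zero_add]
    -- `P^⊥` is totally isotropic
    have hiso : B.orthogonal P ≤ B.orthogonal (B.orthogonal P) := by
      intro y hy
      rw [LinearMap.BilinForm.mem_orthogonal_iff]
      intro y' hy'
      show polar Q y' y = 0
      have h1 : polar Q y' y = Q (y' + y) - Q y' - Q y := rfl
      rw [h1, hkey _ (Submodule.add_mem _ hy' hy), hkey _ hy', hkey _ hy, polar_add_right]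
      ring
    have hd1 := LinearMap.BilinForm.finrank_orthogonal hQ P
    have hd2 := LinearMap.BilinForm.finrank_orthogonal hQ (B.orthogonal P)
    have hd3 := Submodule.finrank_mono hPle
    have hd4 := Submodule.finrank_mono hiso
    have hd5 := Submodule.finrank_le P
    omega

end abstract

theorem exists_ne_zero_ne_one_of_card_ne_two {F : Type*} [Field F] [Fintype F]
    (h : Fintype.card F ≠ 2) : ∃ s : F, s ≠ 0 ∧ s ≠ 1 := by
  classical
  by_contra hcon
  push Not at hcon
  apply h
  have hsub : (Finset.univ : Finset F) ⊆ {0, 1} := by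
    intro a _
    by_cases ha : a = 0
    · simp [ha]
    · simp [hcon a ha]
  have h1 := Finset.card_le_card hsub
  have h3 : ({0, 1} : Finset F).card ≤ 2 := Finset.card_le_two
  have h4 : 1 < Fintype.card F := Fintype.one_lt_card
  rw [Finset.card_univ] at h1
  omega

section concrete

variable {F : Type*} [Field F] {ι : Type} [Fintype ι] [DecidableEq ι]
variable (Q : QuadraticForm F (ι → F))

theorem refl_congr {u v : ι → F} (h : u = v) (hu : Q u ≠ 0) (hv : Q v ≠ 0) :
    refl Q u hu = refl Q v hv := by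
  subst h
  rfl

variable [CharP F 2]

theorem neg_eq_charTwo (x : ι → F) : -x = x := by
  funext i
  exact CharTwo.neg_eq (x i)

theorem Q_sub_charTwo (u v : ι → F) (huv : Q u = Q v) : Q (u - v) = polar ⇑Q u v := by
  rw [Q_sub, huv]
  have h2 : (2 : F) = 0 := CharTwo.two_eq_zero
  linear_combination (Q v - polar ⇑Q u v) * h2

theorem refl_mulVec_self_charTwo (u : ι → F) (hu : Q u ≠ 0) :
    ((refl Q u hu).1 : Matrix ι ι F) *ᵥ u = u := by
  rw [refl_mulVec_self, neg_eq_charTwo]

/-- `r_u r_v ∈ Ω` when `Q u = Q v` and `u`, `v` are not orthogonal. -/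
theorem refl_mul_refl_mem_Omega_two_aux (u v : ι → F) (hu : Q u ≠ 0) (hv : Q v ≠ 0)
    (huv : Q u = Q v) (hp : polar ⇑Q u v ≠ 0) :
    refl Q u hu * refl Q v hv ∈ Cfsg.Omega F ⇑Q := by
  have h : Q (u - v) ≠ 0 := by rw [Q_sub_charTwo Q u v huv]; exact hp
  have h1 := refl_sub_mulVec Q u v huv h
  have h2 := refl_mul_refl_map_mem_Omega Q (refl Q (u - v) h) u hu (by rw [h1]; exact hv)
  rwa [refl_congr Q h1 _ hv] at h2

/-- `r_u r_v ∈ Ω` when `Q u = Q v`. -/
theorem refl_mul_refl_mem_Omega_two_of_eq (hQ : (QuadraticMap.polarBilin Q).Nondegenerate)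
    (h : (∃ s : F, s ≠ 0 ∧ s ≠ 1) ∨ Fintype.card ι ≠ 4) (u v : ι → F) (hu : Q u ≠ 0)
    (hv : Q v ≠ 0) (huv : Q u = Q v) :
    refl Q u hu * refl Q v hv ∈ Cfsg.Omega F ⇑Q := by
  by_cases hp : polar ⇑Q u v = 0
  swap
  · exact refl_mul_refl_mem_Omega_two_aux Q u v hu hv huv hp
  by_cases hne : u = v
  · subst hne
    rw [refl_mul_self]
    exact Subgroup.one_mem _
  have h' : (∃ s : F, s ≠ 0 ∧ s ≠ 1) ∨ finrank F (ι → F) ≠ 4 := by
    rw [Module.finrank_fintype_fun_eq_card]
    exact h
  obtain ⟨w, hw, hwa, hwb⟩ := exists_intermediate Q hQ h' u v hne huv hu hp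
  have hw0 : Q w ≠ 0 := by rw [hw]; exact hu
  have h1 := refl_mul_refl_mem_Omega_two_aux Q u w hu hw0 hw.symm hwa
  have h2 := refl_mul_refl_mem_Omega_two_aux Q w v hw0 hv (hw.trans huv)
    (by rw [polar_comm]; exact hwb)
  have h3 := Subgroup.mul_mem _ h1 h2
  have h4 : refl Q u hu * refl Q w hw0 * (refl Q w hw0 * refl Q v hv) = refl Q u hu * refl Q v hv := by
    rw [mul_assoc, ← mul_assoc (refl Q w hw0), refl_mul_self, one_mul]
  rwa [h4] at h3

theorem exists_smul_Q_eq [Finite F] (u v : ι → F) (hu : Q u ≠ 0) (hv : Q v ≠ 0) :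
    ∃ s : F, s ≠ 0 ∧ Q (s • v) = Q u := by
  obtain ⟨s, hs⟩ := FiniteField.isSquare_of_char_two (ringChar.eq F 2) (Q u / Q v)
  have hs0 : s ≠ 0 := by
    rintro rfl
    rw [mul_zero] at hs
    exact (div_ne_zero hu hv) hs
  refine ⟨s, hs0, ?_⟩
  rw [QuadraticMap.map_smul, smul_eq_mul, ← hs, div_mul_cancel₀ _ hv]

/-- In characteristic two any product of two reflections lies in `Ω`. -/
theorem refl_mul_refl_mem_Omega_two [Finite F] (hQ : (QuadraticMap.polarBilin Q).Nondegenerate)
    (h : (∃ s : F, s ≠ 0 ∧ s ≠ 1) ∨ Fintype.card ι ≠ 4) (u v : ι → F) (hu : Q u ≠ 0)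
    (hv : Q v ≠ 0) :
    refl Q u hu * refl Q v hv ∈ Cfsg.Omega F ⇑Q := by
  obtain ⟨s, hs0, hs⟩ := exists_smul_Q_eq Q u v hu hv
  have hsv : Q (s • v) ≠ 0 := by rw [hs]; exact hu
  rw [← refl_smul Q v hv s hsv]
  exact refl_mul_refl_mem_Omega_two_of_eq Q hQ h u (s • v) hu hsv hs.symm

/-- `Ω` is transitive on vectors of a given non-zero norm (characteristic two). -/
theorem exists_mem_Omega_mulVec_eq_two [Finite F] (hQ : (QuadraticMap.polarBilin Q).Nondegenerate)
    (h : (∃ s : F, s ≠ 0 ∧ s ≠ 1) ∨ Fintype.card ι ≠ 4) (u v : ι → F) (hu : Q u ≠ 0)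
    (huv : Q u = Q v) :
    ∃ g : Cfsg.isometryGroup F ⇑Q, g ∈ Cfsg.Omega F ⇑Q ∧ (g.1 : Matrix ι ι F) *ᵥ u = v := by
  have hv : Q v ≠ 0 := huv ▸ hu
  -- non-orthogonal case
  have key : ∀ a b : ι → F, Q a ≠ 0 → Q a = Q b → polar ⇑Q a b ≠ 0 →
      ∃ g : Cfsg.isometryGroup F ⇑Q, g ∈ Cfsg.Omega F ⇑Q ∧ (g.1 : Matrix ι ι F) *ᵥ a = b := by
    intro a b ha hab hp
    have h1 : Q (a - b) ≠ 0 := by rw [Q_sub_charTwo Q a b hab]; exact hp
    refine ⟨refl Q (a - b) h1 * refl Q a ha, refl_mul_refl_mem_Omega_two Q hQ h _ _ h1 ha, ?_⟩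
    rw [isometryGroup_mul_mulVec, refl_mulVec_self_charTwo, refl_sub_mulVec Q a b hab h1]
  by_cases hp : polar ⇑Q u v = 0
  swap
  · exact key u v hu huv hp
  by_cases hne : u = v
  · subst hne
    exact ⟨1, Subgroup.one_mem _, isometryGroup_one_mulVec _⟩
  have h' : (∃ s : F, s ≠ 0 ∧ s ≠ 1) ∨ finrank F (ι → F) ≠ 4 := by
    rw [Module.finrank_fintype_fun_eq_card]
    exact h
  obtain ⟨w, hw, hwa, hwb⟩ := exists_intermediate Q hQ h' u v hne huv hu hp
  have hw0 : Q w ≠ 0 := by rw [hw]; exact hu
  obtain ⟨g₁, hg₁, h1⟩ := key u w hu hw.symm hwa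
  obtain ⟨g₂, hg₂, h2⟩ := key w v hw0 (hw.trans huv) (by rw [polar_comm]; exact hwb)
  refine ⟨g₂ * g₁, Subgroup.mul_mem _ hg₂ hg₁, ?_⟩
  rw [isometryGroup_mul_mulVec, h1, h2]

end concrete

end Cfsg.Agent.Helper44
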