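import Mathlib
import Cfsg.Prelude.Def_ClassicalGeometry
import Cfsg.Agent.Helper13.Isom
import Cfsg.Agent.Helper14.CharTwoRefl
import Cfsg.Agent.Helper44.CartanDieudonne
import Cfsg.Agent.Helper44.CharTwoWitt

/-!
# Generation by reflections in all characteristics (general index type), and even products

* `exists_list_reflT`: every isometry is a product of reflections (finite field, non-degenerate
  polar form, `(|F|, dim) ≠ (2, 4)`).
* `prod_reflT_mem_closure_pairs`: a product of an even number of reflections lies in the subgroup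
  generated by the products of two reflections.
* `prod_reflT_mem_Omega_two`: in characteristic two, a product of an even number of reflections
  lies in `Ω`.
-/

set_option autoImplicit false

namespace Cfsg.Agent.Helper44

open Matrix QuadraticMap Module

variable {F : Type*} [Field F] {ι : Type} [Fintype ι] [DecidableEq ι]
variable (Q : QuadraticForm F (ι → F))

theorem mulVecLin_reflectionMatrix_eq_qRefl' (w : ι → F) :
    (Cfsg.reflectionMatrix (⇑Q) w).mulVecLin = Helper14.qRefl Q w := by
  apply LinearMap.ext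
  intro x
  rw [Matrix.mulVecLin_apply, Helper13.reflectionMatrix_mulVec, Helper14.qRefl_apply,
    QuadraticMap.polarBilin_apply_apply]

theorem mulVecLin_prod_reflT (ws : List {w : ι → F // Q w ≠ 0}) :
    ((((ws.map (fun w => reflT Q w.1)).prod : Cfsg.isometryGroup F ⇑Q).1 :
      Matrix ι ι F)).mulVecLin = (ws.map (fun w => Helper14.qRefl Q w.1)).prod := by
  induction ws with
  | nil =>
    simp only [List.map_nil, List.prod_nil]
    show (1 : Matrix ι ι F).mulVecLin = 1
    rw [Matrix.mulVecLin_one]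
    rfl
  | cons a l ih =>
    rw [List.map_cons, List.prod_cons, List.map_cons, List.prod_cons, ← ih]
    show ((((reflT Q a.1).1 : Matrix ι ι F)) * _).mulVecLin = _
    rw [Matrix.mulVecLin_mul, reflT_coe Q a.1 a.2, mulVecLin_reflectionMatrix_eq_qRefl']
    rfl

/-- every isometry is a product of reflections, characteristic two -/
theorem exists_list_reflT_two [CharP F 2] (hQ : (QuadraticMap.polarBilin Q).Nondegenerate)
    (h : (∃ s : F, s ≠ 0 ∧ s ≠ 1) ∨ Fintype.card ι ≠ 4) (g : Cfsg.isometryGroup F ⇑Q) :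
    ∃ vs : List (ι → F), (∀ x ∈ vs, Q x ≠ 0) ∧ g = (vs.map (reflT Q)).prod := by
  have h' : (∃ s : F, s ≠ 0 ∧ s ≠ 1) ∨ finrank F (ι → F) ≠ 4 := by
    rw [Module.finrank_fintype_fun_eq_card]
    exact h
  obtain ⟨ws, hws⟩ := Helper14.isReflProd_of_isometry Q hQ h'
    ((g.1 : Matrix ι ι F)).mulVecLin
    (fun x => by rw [Matrix.mulVecLin_apply]; exact isometryGroup_apply g x)
  refine ⟨ws.map Subtype.val, ?_, ?_⟩
  · intro x hx
    obtain ⟨w, _, rfl⟩ := List.mem_map.1 hx
    exact w.2
  · apply isometryGroup_ext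
    intro x
    have h1 := mulVecLin_prod_reflT Q ws
    rw [← hws] at h1
    have h2 := congrArg (fun f : (ι → F) →ₗ[F] (ι → F) => f x) h1
    simp only [Matrix.mulVecLin_apply] at h2
    rw [List.map_map]
    exact h2.symm

/-- every isometry is a product of reflections (finite field, `(|F|, dim) ≠ (2, 4)`) -/
theorem exists_list_reflT [Fintype F] (hQ : (QuadraticMap.polarBilin Q).Nondegenerate)
    (h : Fintype.card F ≠ 2 ∨ Fintype.card ι ≠ 4) (g : Cfsg.isometryGroup F ⇑Q) :
    ∃ vs : List (ι → F), (∀ x ∈ vs, Q x ≠ 0) ∧ g = (vs.map (reflT Q)).prod := by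
  by_cases h2 : (2 : F) = 0
  · haveI : CharP F 2 := CharTwo.of_one_ne_zero_of_two_eq_zero one_ne_zero h2
    apply exists_list_reflT_two Q hQ _ g
    rcases h with h | h
    · exact Or.inl (exists_ne_zero_ne_one_of_card_ne_two h)
    · exact Or.inr h
  · exact cartan_dieudonne Q h2 hQ g

theorem reflT_inv (u : ι → F) : (reflT Q u)⁻¹ = reflT Q u :=
  inv_eq_of_mul_eq_one_left (reflT_mul_self Q u)

theorem prod_reflT_inv (vs : List (ι → F)) :
    ((vs.map (reflT Q)).prod)⁻¹ = (vs.reverse.map (reflT Q)).prod := by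
  rw [List.prod_inv_reverse, List.map_reverse, List.map_map]
  congr 2
  apply List.map_congr_left
  intro v _
  exact reflT_inv Q v

/-- the set of products of two reflections -/
def reflPairs : Set (Cfsg.isometryGroup F ⇑Q) :=
  {g | ∃ u v : ι → F, Q u ≠ 0 ∧ Q v ≠ 0 ∧
    ((g : Matrix.GeneralLinearGroup ι F) : Matrix ι ι F)
      = Cfsg.reflectionMatrix ⇑Q u * Cfsg.reflectionMatrix ⇑Q v}

theorem reflT_mul_reflT_mem_reflPairs (u v : ι → F) (hu : Q u ≠ 0) (hv : Q v ≠ 0) :
    reflT Q u * reflT Q v ∈ reflPairs Q := by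
  refine ⟨u, v, hu, hv, ?_⟩
  show ((reflT Q u).1 : Matrix ι ι F) * ((reflT Q v).1 : Matrix ι ι F) = _
  rw [reflT_coe Q u hu, reflT_coe Q v hv]

theorem prod_reflT_mem_closure_pairs_aux (vs : List (ι → F)) (hvs : ∀ x ∈ vs, Q x ≠ 0) :
    (Even vs.length → (vs.map (reflT Q)).prod ∈ Subgroup.closure (reflPairs Q)) ∧
    (Odd vs.length → ∀ w : ι → F, Q w ≠ 0 →
      reflT Q w * (vs.map (reflT Q)).prod ∈ Subgroup.closure (reflPairs Q)) := by
  induction vs with
  | nil =>
    refine ⟨fun _ => by simp, fun h => ?_⟩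
    simp at h
  | cons a l ih =>
    have hl : ∀ x ∈ l, Q x ≠ 0 := fun x hx => hvs x (List.mem_cons_of_mem _ hx)
    have ha : Q a ≠ 0 := hvs a List.mem_cons_self
    obtain ⟨ih1, ih2⟩ := ih hl
    constructor
    · intro hev
      rw [List.length_cons, Nat.even_add_one, Nat.not_even_iff_odd] at hev
      rw [List.map_cons, List.prod_cons]
      exact ih2 hev a ha
    · intro hodd w hw
      rw [List.length_cons, Nat.odd_add_one, Nat.not_odd_iff_even] at hodd
      rw [List.map_cons, List.prod_cons, ← mul_assoc]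
      exact Subgroup.mul_mem _
        (Subgroup.subset_closure (reflT_mul_reflT_mem_reflPairs Q w a hw ha)) (ih1 hodd)

theorem prod_reflT_mem_closure_pairs (vs : List (ι → F)) (hvs : ∀ x ∈ vs, Q x ≠ 0)
    (hev : Even vs.length) : (vs.map (reflT Q)).prod ∈ Subgroup.closure (reflPairs Q) :=
  (prod_reflT_mem_closure_pairs_aux Q vs hvs).1 hev

/-- `Ω` is contained in the subgroup generated by products of two reflections, when reflections
generate the isometry group. -/
theorem Omega_le_closure_pairs [Fintype F] (hQ : (QuadraticMap.polarBilin Q).Nondegenerate)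
    (h : Fintype.card F ≠ 2 ∨ Fintype.card ι ≠ 4) :
    Cfsg.Omega F ⇑Q ≤ Subgroup.closure (reflPairs Q) := by
  show commutator (Cfsg.isometryGroup F ⇑Q) ≤ _
  rw [commutator_def, Subgroup.commutator_le]
  intro g₁ _ g₂ _
  obtain ⟨vs₁, hvs₁, rfl⟩ := exists_list_reflT Q hQ h g₁
  obtain ⟨vs₂, hvs₂, rfl⟩ := exists_list_reflT Q hQ h g₂
  rw [commutatorElement_def, prod_reflT_inv, prod_reflT_inv, ← List.prod_append, ← List.prod_append,
    ← List.prod_append, ← List.map_append, ← List.map_append, ← List.map_append]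
  apply prod_reflT_mem_closure_pairs
  · intro x hx
    simp only [List.mem_append, List.mem_reverse] at hx
    rcases hx with ((hx | hx) | hx) | hx
    · exact hvs₁ x hx
    · exact hvs₂ x hx
    · exact hvs₁ x hx
    · exact hvs₂ x hx
  · simp only [List.length_append, List.length_reverse]
    exact ⟨vs₁.length + vs₂.length, by ring⟩

/-- In characteristic two, products of two reflections lie in `Ω`. -/
theorem closure_pairs_le_Omega_two [CharP F 2] [Finite F]
    (hQ : (QuadraticMap.polarBilin Q).Nondegenerate)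
    (h : (∃ s : F, s ≠ 0 ∧ s ≠ 1) ∨ Fintype.card ι ≠ 4) :
    Subgroup.closure (reflPairs Q) ≤ Cfsg.Omega F ⇑Q := by
  rw [Subgroup.closure_le]
  rintro g ⟨u, v, hu, hv, hg⟩
  have : g = refl Q u hu * refl Q v hv := by
    apply Subtype.ext
    apply Units.ext
    rw [hg]
    rfl
  rw [this]
  exact refl_mul_refl_mem_Omega_two Q hQ h u v hu hv

/-- In characteristic two, a product of an even number of reflections lies in `Ω`. -/
theorem prod_reflT_mem_Omega_two [CharP F 2] [Finite F]
    (hQ : (QuadraticMap.polarBilin Q).Nondegenerate)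
    (h : (∃ s : F, s ≠ 0 ∧ s ≠ 1) ∨ Fintype.card ι ≠ 4) (vs : List (ι → F))
    (hvs : ∀ x ∈ vs, Q x ≠ 0) (hev : Even vs.length) :
    (vs.map (reflT Q)).prod ∈ Cfsg.Omega F ⇑Q :=
  closure_pairs_le_Omega_two Q hQ h (prod_reflT_mem_closure_pairs Q vs hvs hev)

end Cfsg.Agent.Helper44
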