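import Mathlib
import Cfsg.Prelude.Def_ClassicalGeometry
import Cfsg.Agent.Helper44.OrthSum
import Cfsg.Agent.Helper44.ReflGenAll

/-!
# The orthogonal sum of two quadratic forms as a `QuadraticForm`

`orthSumForm Q₁ Q₂` on `ι₁ ⊕ ι₂ → F`, its polar form and nondegeneracy, the embedding
`inlIso : O(Q₁) →* O(Q₁ ⊕ Q₂)` and its values on reflections, the swap isometry of `Q ⊕ Q`.
-/

set_option autoImplicit false

namespace Cfsg.Agent.Helper44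

open Matrix QuadraticMap

variable {F : Type*} [Field F]
variable {ι₁ ι₂ : Type} [Fintype ι₁] [DecidableEq ι₁] [Fintype ι₂] [DecidableEq ι₂]

/-- the orthogonal sum as a quadratic form -/
def orthSumForm (Q₁ : QuadraticForm F (ι₁ → F)) (Q₂ : QuadraticForm F (ι₂ → F)) :
    QuadraticForm F (ι₁ ⊕ ι₂ → F) :=
  Q₁.comp (LinearMap.funLeft F F Sum.inl) + Q₂.comp (LinearMap.funLeft F F Sum.inr)

variable (Q₁ : QuadraticForm F (ι₁ → F)) (Q₂ : QuadraticForm F (ι₂ → F))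

theorem orthSumForm_coe : ⇑(orthSumForm Q₁ Q₂) = orthSum ⇑Q₁ ⇑Q₂ := rfl

theorem orthSumForm_apply (x : ι₁ ⊕ ι₂ → F) :
    orthSumForm Q₁ Q₂ x = Q₁ (x ∘ Sum.inl) + Q₂ (x ∘ Sum.inr) := rfl

theorem polar_orthSumForm (x y : ι₁ ⊕ ι₂ → F) :
    polar ⇑(orthSumForm Q₁ Q₂) x y
      = polar ⇑Q₁ (x ∘ Sum.inl) (y ∘ Sum.inl) + polar ⇑Q₂ (x ∘ Sum.inr) (y ∘ Sum.inr) := by
  simp only [polar, orthSumForm_apply]
  have e1 : (x + y) ∘ Sum.inl = x ∘ Sum.inl + y ∘ Sum.inl := rfl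
  have e2 : (x + y) ∘ Sum.inr = x ∘ Sum.inr + y ∘ Sum.inr := rfl
  rw [e1, e2]
  ring

theorem orthSumForm_elim_zero (u : ι₁ → F) :
    orthSumForm Q₁ Q₂ (Sum.elim u 0) = Q₁ u := by
  rw [orthSumForm_apply]
  have e1 : (Sum.elim u (0 : ι₂ → F)) ∘ Sum.inl = u := rfl
  have e2 : (Sum.elim u (0 : ι₂ → F)) ∘ Sum.inr = 0 := rfl
  rw [e1, e2, map_zero, add_zero]

theorem polar_orthSumForm_elim_zero (u : ι₁ → F) (x : ι₁ ⊕ ι₂ → F) :
    polar ⇑(orthSumForm Q₁ Q₂) (Sum.elim u 0) x = polar ⇑Q₁ u (x ∘ Sum.inl) := by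
  rw [polar_orthSumForm]
  have e1 : (Sum.elim u (0 : ι₂ → F)) ∘ Sum.inl = u := rfl
  have e2 : (Sum.elim u (0 : ι₂ → F)) ∘ Sum.inr = 0 := rfl
  rw [e1, e2, polar_zero_left, add_zero]

theorem nondegenerate_orthSumForm (h₁ : (QuadraticMap.polarBilin Q₁).Nondegenerate)
    (h₂ : (QuadraticMap.polarBilin Q₂).Nondegenerate) :
    (QuadraticMap.polarBilin (orthSumForm Q₁ Q₂)).Nondegenerate := by
  have key : ∀ x : ι₁ ⊕ ι₂ → F, (∀ y, polar ⇑(orthSumForm Q₁ Q₂) x y = 0) → x = 0 := by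
    intro x hx
    have hl : x ∘ Sum.inl = 0 := by
      apply h₁.1
      intro y₁
      have := hx (Sum.elim y₁ 0)
      rw [polar_comm, polar_orthSumForm_elim_zero, polar_comm] at this
      exact this
    have hr : x ∘ Sum.inr = 0 := by
      apply h₂.1
      intro y₂
      have := hx (Sum.elim 0 y₂)
      rw [polar_orthSumForm] at this
      have e1 : (Sum.elim (0 : ι₁ → F) y₂) ∘ Sum.inl = 0 := rfl
      have e2 : (Sum.elim (0 : ι₁ → F) y₂) ∘ Sum.inr = y₂ := rfl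
      rw [e1, e2, polar_zero_right, zero_add] at this
      exact this
    funext i
    rcases i with i | i
    · exact congrFun hl i
    · exact congrFun hr i
  constructor
  · intro x hx
    exact key x hx
  · intro y hy
    apply key y
    intro x
    rw [polar_comm]
    exact hy x

/-- the embedding `O(Q₁) →* O(Q₁ ⊕ Q₂)`, `g ↦ diag(g, 1)` -/
def inlIso : Cfsg.isometryGroup F ⇑Q₁ →* Cfsg.isometryGroup F ⇑(orthSumForm Q₁ Q₂) :=
  (blockDiagIso ⇑Q₁ ⇑Q₂).comp (MonoidHom.inl _ _)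

theorem inlIso_coe (g : Cfsg.isometryGroup F ⇑Q₁) :
    ((inlIso Q₁ Q₂ g).1 : Matrix (ι₁ ⊕ ι₂) (ι₁ ⊕ ι₂) F)
      = Matrix.fromBlocks (g.1 : Matrix ι₁ ι₁ F) 0 0 1 := rfl

theorem inlIso_mulVec (g : Cfsg.isometryGroup F ⇑Q₁) (x : ι₁ ⊕ ι₂ → F) :
    ((inlIso Q₁ Q₂ g).1 : Matrix (ι₁ ⊕ ι₂) (ι₁ ⊕ ι₂) F) *ᵥ x
      = Sum.elim ((g.1 : Matrix ι₁ ι₁ F) *ᵥ (x ∘ Sum.inl)) (x ∘ Sum.inr) := by
  rw [inlIso_coe, Matrix.fromBlocks_mulVec]
  simp only [Matrix.zero_mulVec, Matrix.one_mulVec, add_zero, zero_add]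

theorem inlIso_refl (u : ι₁ → F) (hu : Q₁ u ≠ 0)
    (hu' : orthSumForm Q₁ Q₂ (Sum.elim u 0) ≠ 0) :
    inlIso Q₁ Q₂ (refl Q₁ u hu) = refl (orthSumForm Q₁ Q₂) (Sum.elim u 0) hu' := by
  apply isometryGroup_ext
  intro x
  rw [inlIso_mulVec, refl_mulVec, refl_mulVec, orthSumForm_elim_zero, polar_orthSumForm_elim_zero]
  funext i
  rcases i with i | i
  · simp
  · simp

theorem inlIso_reflT (u : ι₁ → F) (hu : Q₁ u ≠ 0) :
    inlIso Q₁ Q₂ (reflT Q₁ u) = reflT (orthSumForm Q₁ Q₂) (Sum.elim u 0) := by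
  have hu' : orthSumForm Q₁ Q₂ (Sum.elim u 0) ≠ 0 := by rw [orthSumForm_elim_zero]; exact hu
  rw [reflT_of_ne Q₁ u hu, reflT_of_ne _ _ hu', inlIso_refl]

theorem inlIso_prod_reflT (vs : List (ι₁ → F)) (hvs : ∀ x ∈ vs, Q₁ x ≠ 0) :
    inlIso Q₁ Q₂ ((vs.map (reflT Q₁)).prod)
      = ((vs.map (fun v => (Sum.elim v 0 : ι₁ ⊕ ι₂ → F))).map (reflT (orthSumForm Q₁ Q₂))).prod := by
  rw [map_list_prod, List.map_map, List.map_map]
  congr 1
  apply List.map_congr_left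
  intro v hv
  exact inlIso_reflT Q₁ Q₂ v (hvs v hv)

end Cfsg.Agent.Helper44
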