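/-
helper44: existence of non-zero singular vectors for quadratic forms in ≥ 3 variables over finite fields
(Chevalley–Warning).
-/
import Mathlib

set_option autoImplicit false

namespace Cfsg.Agent.Helper44

open Matrix

section

variable {F : Type*} [Field F] [Fintype F]

/-- Every quadratic form in at least three variables over a finite field has a non-trivial zero. -/
theorem exists_singular_fun {n : ℕ} (hn : 3 ≤ n) (Q : QuadraticForm F (Fin n → F)) :
    ∃ v : Fin n → F, v ≠ 0 ∧ Q v = 0 := by
  classical
  let p := ringChar F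
  have : CharP F p := ringChar.charP F
  have : Fact p.Prime := ⟨CharP.char_is_prime F p⟩
  let B' : LinearMap.BilinForm F (Fin n → F) := Q.toBilin (Pi.basisFun F (Fin n))
  have hB' : ∀ x, B' x x = Q x := by
    intro x
    have h := QuadraticMap.toQuadraticMap_toBilin Q (Pi.basisFun F (Fin n))
    have h2 := congrArg (fun q : QuadraticForm F (Fin n → F) => q x) h
    simpa [LinearMap.BilinMap.toQuadraticMap_apply] using h2
  let M := LinearMap.BilinForm.toMatrix' B'
  let P : MvPolynomial (Fin n) F :=
    ∑ i, ∑ j, MvPolynomial.C (M i j) * MvPolynomial.X i * MvPolynomial.X j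
  have hP : ∀ x : Fin n → F, MvPolynomial.eval x P = Q x := by
    intro x
    rw [← hB', ← Matrix.toBilin'_toMatrix' B', Matrix.toBilin'_apply]
    simp only [P, map_sum, map_mul, MvPolynomial.eval_C, MvPolynomial.eval_X]
    refine Finset.sum_congr rfl fun i _ => Finset.sum_congr rfl fun j _ => ?_
    simp only [M]
    ring
  have hdeg : P.totalDegree < Fintype.card (Fin n) := by
    rw [Fintype.card_fin]
    refine lt_of_le_of_lt ?_ (by omega : 2 < n)
    refine (MvPolynomial.totalDegree_finsetSum _ _).trans (Finset.sup_le fun i _ => ?_)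
    refine (MvPolynomial.totalDegree_finsetSum _ _).trans (Finset.sup_le fun j _ => ?_)
    refine (MvPolynomial.totalDegree_mul _ _).trans ?_
    have h1 : (MvPolynomial.C (M i j) * MvPolynomial.X i : MvPolynomial (Fin n) F).totalDegree ≤ 1 := by
      refine (MvPolynomial.totalDegree_mul _ _).trans ?_
      rw [MvPolynomial.totalDegree_C, MvPolynomial.totalDegree_X]
    have h2 : (MvPolynomial.X j : MvPolynomial (Fin n) F).totalDegree = 1 := MvPolynomial.totalDegree_X j
    omega
  have hdvd := char_dvd_card_solutions p hdeg
  have h0 : MvPolynomial.eval (0 : Fin n → F) P = 0 := by rw [hP, map_zero]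
  have hpos : 0 < Fintype.card {x : Fin n → F // MvPolynomial.eval x P = 0} :=
    Fintype.card_pos_iff.2 ⟨⟨0, h0⟩⟩
  have hp2 : 2 ≤ p := (Fact.out : p.Prime).two_le
  have hcard : 1 < Fintype.card {x : Fin n → F // MvPolynomial.eval x P = 0} := by
    have := Nat.le_of_dvd hpos hdvd
    omega
  obtain ⟨⟨v, hv⟩, hne⟩ := Fintype.exists_ne_of_one_lt_card hcard ⟨0, h0⟩
  refine ⟨v, ?_, ?_⟩
  · intro h
    apply hne
    exact Subtype.ext h
  · rw [← hP]; exact hv

variable {V : Type*} [AddCommGroup V] [Module F V] [FiniteDimensional F V]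

/-- Every quadratic form on a space of dimension at least three over a finite field has a non-zero singular
vector. -/
theorem exists_singular (Q : QuadraticForm F V) (h3 : 3 ≤ Module.finrank F V) :
    ∃ v : V, v ≠ 0 ∧ Q v = 0 := by
  let b := Module.finBasisOfFinrankEq F V (rfl : Module.finrank F V = Module.finrank F V)
  let Q' : QuadraticForm F (Fin (Module.finrank F V) → F) := Q.comp (b.equivFun.symm : (Fin (Module.finrank F V) → F) →ₗ[F] V)
  obtain ⟨v, hv0, hv⟩ := exists_singular_fun h3 Q'
  refine ⟨b.equivFun.symm v, ?_, ?_⟩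
  · intro h
    apply hv0
    exact b.equivFun.symm.injective (by rw [h, map_zero])
  · exact hv

end

end Cfsg.Agent.Helper44
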