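/-
helper44: Witt decomposition of a non-degenerate quadratic space over a finite field, phrased with families
of vectors: hyperbolic pairs `e i, f i` plus an anisotropic family `r j` of size at most 2.
-/
import Mathlib
import Cfsg.Agent.Helper44.Singular

set_option autoImplicit false

namespace Cfsg.Agent.Helper44

open QuadraticMap

universe u v

/-- Relations of a Witt decomposition: hyperbolic pairs `e i, f i` and an anisotropic rest `r j`. -/
structure WittData {F : Type u} [Field F] {V : Type v} [AddCommGroup V] [Module F V]
    (Q : QuadraticForm F V) {k d : ℕ} (e f : Fin k → V) (r : Fin d → V) : Prop where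
  sing : ∀ i, Q (e i) = 0 ∧ Q (f i) = 0
  pair : ∀ i j, polar Q (e i) (f j) = if i = j then 1 else 0
  ee : ∀ i j, polar Q (e i) (e j) = 0
  ff : ∀ i j, polar Q (f i) (f j) = 0
  er : ∀ i j, polar Q (e i) (r j) = 0
  fr : ∀ i j, polar Q (f i) (r j) = 0
  aniso : ∀ c : Fin d → F, Q (∑ j, c j • r j) = 0 → c = 0

section split

variable {F : Type u} [Field F] {V : Type v} [AddCommGroup V] [Module F V]

/-- A non-zero singular vector in a non-degenerate quadratic space lies in a hyperbolic pair. -/
theorem exists_hyperbolic_partner (Q : QuadraticForm F V)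
    (hnd : ∀ x : V, (∀ y, polar Q x y = 0) → x = 0) (e : V) (he0 : e ≠ 0) (he : Q e = 0) :
    ∃ f : V, Q f = 0 ∧ polar Q e f = 1 := by
  obtain ⟨w, hw⟩ : ∃ w, polar Q e w ≠ 0 := by
    by_contra h
    push Not at h
    exact he0 (hnd e h)
  obtain ⟨w1, h1⟩ : ∃ w1, polar Q e w1 = 1 := by
    refine ⟨(polar Q e w)⁻¹ • w, ?_⟩
    rw [polar_smul_right, smul_eq_mul, inv_mul_cancel₀ hw]
  refine ⟨w1 - Q w1 • e, ?_, ?_⟩
  · have h2 : Q (w1 - Q w1 • e) = Q w1 + Q (-(Q w1 • e)) + polar Q w1 (-(Q w1 • e)) := by
      rw [sub_eq_add_neg, QuadraticMap.map_add ⇑Q]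
    rw [h2, QuadraticMap.map_neg, QuadraticMap.map_smul, he, polar_neg_right, polar_smul_right,
      polar_comm, h1]
    simp
  · rw [polar_sub_right, polar_smul_right, h1, polar_self, he]
    simp

/-- The orthogonal complement of a pair `e, f` with respect to the polar form. -/
def pairPerp (Q : QuadraticForm F V) (e f : V) : Submodule F V :=
  LinearMap.ker (polarBilin Q e) ⊓ LinearMap.ker (polarBilin Q f)

theorem mem_pairPerp (Q : QuadraticForm F V) (e f w : V) :
    w ∈ pairPerp Q e f ↔ polar Q e w = 0 ∧ polar Q f w = 0 := by
  simp [pairPerp, Submodule.mem_inf, LinearMap.mem_ker, polarBilin_apply_apply]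

theorem finrank_pairPerp [FiniteDimensional F V] (Q : QuadraticForm F V) (e f : V)
    (he : Q e = 0) (hf : Q f = 0) (hef : polar Q e f = 1) :
    Module.finrank F (pairPerp Q e f) + 2 = Module.finrank F V := by
  let φ : V →ₗ[F] F × F := (polarBilin Q e).prod (polarBilin Q f)
  have hker : LinearMap.ker φ = pairPerp Q e f := by
    ext w
    simp [φ, pairPerp, LinearMap.mem_ker]
  have hee : polar Q e e = 0 := by rw [polar_self, he]; simp
  have hff : polar Q f f = 0 := by rw [polar_self, hf]; simp
  have hfe : polar Q f e = 1 := by rw [polar_comm, hef]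
  have hsurj : Function.Surjective φ := by
    rintro ⟨a, b⟩
    refine ⟨a • f + b • e, ?_⟩
    simp [φ, polarBilin_apply_apply, polar_add_right, polar_smul_right, hef, hee, hff, hfe]
  have h1 := LinearMap.finrank_range_add_finrank_ker φ
  rw [LinearMap.range_eq_top.2 hsurj, finrank_top, hker, Module.finrank_prod, Module.finrank_self] at h1
  omega

theorem nondeg_pairPerp (Q : QuadraticForm F V)
    (hnd : ∀ x : V, (∀ y, polar Q x y = 0) → x = 0) (e f : V)
    (he : Q e = 0) (hf : Q f = 0) (hef : polar Q e f = 1) :
    ∀ x : pairPerp Q e f, (∀ y : pairPerp Q e f,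
      polar (Q.comp (pairPerp Q e f).subtype) x y = 0) → x = 0 := by
  intro x hx
  have hee : polar Q e e = 0 := by rw [polar_self, he]; simp
  have hff : polar Q f f = 0 := by rw [polar_self, hf]; simp
  have hfe : polar Q f e = 1 := by rw [polar_comm, hef]
  obtain ⟨hxe, hxf⟩ := (mem_pairPerp Q e f x).1 x.2
  apply Subtype.ext
  apply hnd
  intro v
  -- decompose v
  set p := v - polar Q f v • e - polar Q e v • f with hp
  have hpmem : p ∈ pairPerp Q e f := by
    rw [mem_pairPerp]
    constructor
    · simp only [hp, polar_sub_right, polar_smul_right, hee, hef, smul_eq_mul]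
      ring
    · simp only [hp, polar_sub_right, polar_smul_right, hfe, hff, smul_eq_mul]
      ring
  have h1 : polar Q (x : V) p = 0 := by
    have := hx ⟨p, hpmem⟩
    simpa [polar, QuadraticMap.comp_apply] using this
  have hv : v = p + polar Q f v • e + polar Q e v • f := by
    rw [hp]; abel
  rw [hv, polar_add_right, polar_add_right, polar_smul_right, polar_smul_right, h1,
    polar_comm Q (x : V) e, polar_comm Q (x : V) f, hxe, hxf]
  simp

end split

section main

variable {F : Type u} [Field F] [Fintype F]

/-- Witt decomposition with families of vectors. -/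
theorem exists_wittData : ∀ (n : ℕ) {V : Type v} [AddCommGroup V] [Module F V] [FiniteDimensional F V]
    (Q : QuadraticForm F V), Module.finrank F V = n →
    (∀ x : V, (∀ y, polar Q x y = 0) → x = 0) →
    ∃ (k d : ℕ) (e f : Fin k → V) (r : Fin d → V), 2 * k + d = n ∧ d ≤ 2 ∧ WittData Q e f r ∧
      (∀ c : Fin d → F, (∀ j, polar Q (∑ i, c i • r i) (r j) = 0) → c = 0) := by
  intro n
  induction n using Nat.strong_induction_on with
  | _ n ih =>
    intro V _ _ _ Q hV hnd
    by_cases han : ∀ v : V, Q v = 0 → v = 0
    · -- anisotropic: dimension at most two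
      have hn2 : n ≤ 2 := by
        by_contra h
        push Not at h
        obtain ⟨v, hv0, hv⟩ := exists_singular Q (by omega)
        exact hv0 (han v hv)
      let b := Module.finBasisOfFinrankEq F V hV
      refine ⟨0, n, Fin.elim0, Fin.elim0, b, by omega, hn2, ?_, ?_⟩
      · refine ⟨fun i => Fin.elim0 i, fun i => Fin.elim0 i, fun i => Fin.elim0 i, fun i => Fin.elim0 i,
          fun i => Fin.elim0 i, fun i => Fin.elim0 i, ?_⟩
        intro c hc
        have := han _ hc
        funext i
        exact Fintype.linearIndependent_iff.1 b.linearIndependent c this i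
      · intro c hc
        have hx : ∑ i, c i • b i = 0 := by
          apply hnd
          intro y
          have hlin : polarBilin Q (∑ i, c i • b i) = 0 := by
            apply b.ext
            intro j
            rw [polarBilin_apply_apply, LinearMap.zero_apply]
            exact hc j
          have h3 : polarBilin Q (∑ i, c i • b i) y = 0 := by rw [hlin]; rfl
          rwa [polarBilin_apply_apply] at h3
        funext i
        exact Fintype.linearIndependent_iff.1 b.linearIndependent c hx i
    · -- there is a singular vector
      push Not at han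
      obtain ⟨e0, he, he0⟩ := han
      obtain ⟨f0, hf, hef⟩ := exists_hyperbolic_partner Q hnd e0 he0 he
      set W := pairPerp Q e0 f0 with hW
      have hrank : Module.finrank F W + 2 = Module.finrank F V := finrank_pairPerp Q e0 f0 he hf hef
      have hndW := nondeg_pairPerp Q hnd e0 f0 he hf hef
      have hlt : Module.finrank F W < n := by omega
      obtain ⟨k, d, e1, f1, r1, hkd, hd, hdata, hnr⟩ :=
        ih (Module.finrank F W) hlt (Q.comp W.subtype) rfl hndW
      have hee : polar Q e0 e0 = 0 := by rw [polar_self, he]; simp
      have hff : polar Q f0 f0 = 0 := by rw [polar_self, hf]; simp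
      have hfe : polar Q f0 e0 = 1 := by rw [polar_comm, hef]
      have hWe : ∀ w : W, polar Q e0 (w : V) = 0 := fun w => ((mem_pairPerp Q e0 f0 w).1 w.2).1
      have hWf : ∀ w : W, polar Q f0 (w : V) = 0 := fun w => ((mem_pairPerp Q e0 f0 w).1 w.2).2
      have hpol : ∀ x y : W, polar (Q.comp W.subtype) x y = polar Q (x : V) (y : V) := by
        intro x y
        simp [polar, QuadraticMap.comp_apply]
      have hsum : ∀ c : Fin d → F, ∑ j, c j • ((r1 j : W) : V) = ((∑ j, c j • r1 j : W) : V) := by
        intro c
        simp
      refine ⟨k + 1, d, Fin.cons e0 (fun i => (e1 i : V)), Fin.cons f0 (fun i => (f1 i : V)),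
        fun j => (r1 j : V), by omega, hd, ?_, ?_⟩
      · refine ⟨?_, ?_, ?_, ?_, ?_, ?_, ?_⟩
        · intro i
          refine Fin.cases ?_ (fun i' => ?_) i
          · simp [he, hf]
          · simpa [QuadraticMap.comp_apply] using hdata.sing i'
        · intro i j
          refine Fin.cases ?_ (fun i' => ?_) i <;> refine Fin.cases ?_ (fun j' => ?_) j
          · simp [hef]
          · simp only [Fin.cons_zero, Fin.cons_succ]
            rw [hWe, if_neg (Fin.succ_ne_zero j').symm]
          · simp only [Fin.cons_zero, Fin.cons_succ]
            rw [polar_comm, hWf, if_neg (Fin.succ_ne_zero i')]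
          · simp only [Fin.cons_succ, Fin.succ_inj]
            rw [← hpol]; exact hdata.pair i' j'
        · intro i j
          refine Fin.cases ?_ (fun i' => ?_) i <;> refine Fin.cases ?_ (fun j' => ?_) j
          · simp [hee]
          · simp only [Fin.cons_zero, Fin.cons_succ]; rw [hWe]
          · simp only [Fin.cons_zero, Fin.cons_succ]; rw [polar_comm, hWe]
          · simp only [Fin.cons_succ]; rw [← hpol]; exact hdata.ee i' j'
        · intro i j
          refine Fin.cases ?_ (fun i' => ?_) i <;> refine Fin.cases ?_ (fun j' => ?_) j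
          · simp [hff]
          · simp only [Fin.cons_zero, Fin.cons_succ]; rw [hWf]
          · simp only [Fin.cons_zero, Fin.cons_succ]; rw [polar_comm, hWf]
          · simp only [Fin.cons_succ]; rw [← hpol]; exact hdata.ff i' j'
        · intro i j
          refine Fin.cases ?_ (fun i' => ?_) i
          · simp only [Fin.cons_zero]; rw [hWe]
          · simp only [Fin.cons_succ]; rw [← hpol]; exact hdata.er i' j
        · intro i j
          refine Fin.cases ?_ (fun i' => ?_) i
          · simp only [Fin.cons_zero]; rw [hWf]
          · simp only [Fin.cons_succ]; rw [← hpol]; exact hdata.fr i' j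
        · intro c hc
          apply hdata.aniso c
          rw [QuadraticMap.comp_apply]
          rw [hsum] at hc
          exact hc
      · intro c hc
        apply hnr c
        intro j
        rw [hpol, ← hsum]
        exact hc j

end main

end Cfsg.Agent.Helper44
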