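/-
helper44: from Witt data to bases; normal form of anisotropic planes over finite fields.
-/
import Mathlib
import Cfsg.Agent.Helper44.Witt

set_option autoImplicit false

namespace Cfsg.Agent.Helper44

open QuadraticMap

universe u v

section basis

variable {F : Type u} [Field F] {V : Type v} [AddCommGroup V] [Module F V]
variable {Q : QuadraticForm F V} {k d : ℕ} {e f : Fin k → V} {r : Fin d → V}

theorem polar_sum_smul_left (Q : QuadraticForm F V) {ι : Type*} [Fintype ι] (c : ι → F) (x : ι → V) (y : V) :
    polar Q (∑ i, c i • x i) y = ∑ i, c i * polar Q (x i) y := by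
  have h := map_sum ((polarBilin Q).flip y) (fun i => c i • x i) Finset.univ
  simp only [LinearMap.flip_apply, polarBilin_apply_apply, polar_smul_left, smul_eq_mul] at h
  exact h

theorem polar_sum_smul_right (Q : QuadraticForm F V) {ι : Type*} [Fintype ι] (c : ι → F) (x : ι → V) (y : V) :
    polar Q y (∑ i, c i • x i) = ∑ i, c i * polar Q y (x i) := by
  rw [polar_comm, polar_sum_smul_left]
  refine Finset.sum_congr rfl fun i _ => ?_
  rw [polar_comm]

theorem WittData.linearIndependent (h : WittData Q e f r) :
    LinearIndependent F (Sum.elim (Sum.elim e f) r) := by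
  classical
  rw [Fintype.linearIndependent_iff]
  intro g hg
  rw [Fintype.sum_sum_type, Fintype.sum_sum_type] at hg
  simp only [Sum.elim_inl, Sum.elim_inr] at hg
  set a : Fin k → F := fun i => g (Sum.inl (Sum.inl i)) with ha
  set b : Fin k → F := fun i => g (Sum.inl (Sum.inr i)) with hb
  set c : Fin d → F := fun j => g (Sum.inr j) with hc
  have hg' : ∑ i, a i • e i + ∑ i, b i • f i + ∑ j, c j • r j = 0 := hg
  have key : ∀ y, ∑ i, a i * polar Q (e i) y + ∑ i, b i * polar Q (f i) y + ∑ j, c j * polar Q (r j) y = 0 := by
    intro y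
    rw [← polar_sum_smul_left, ← polar_sum_smul_left, ← polar_sum_smul_left, ← polar_add_left,
      ← polar_add_left, hg', polar_zero_left]
  have ha0 : ∀ i, a i = 0 := by
    intro i0
    have h1 := key (f i0)
    simp only [h.pair, h.ff, mul_zero, Finset.sum_const_zero, add_zero] at h1
    have h2 : ∀ j, polar Q (r j) (f i0) = 0 := fun j => by rw [polar_comm]; exact h.fr i0 j
    simp only [h2, mul_zero, Finset.sum_const_zero, add_zero] at h1
    simpa using h1
  have hb0 : ∀ i, b i = 0 := by
    intro i0
    have h1 := key (e i0)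
    have h2 : ∀ j, polar Q (r j) (e i0) = 0 := fun j => by rw [polar_comm]; exact h.er i0 j
    have h3 : ∀ i, polar Q (f i) (e i0) = if i0 = i then 1 else 0 := fun i => by
      rw [polar_comm]; exact h.pair i0 i
    simp only [h.ee, h2, h3, mul_zero, Finset.sum_const_zero, add_zero, zero_add] at h1
    simpa using h1
  have hc0 : c = 0 := by
    apply h.aniso
    have : ∑ j, c j • r j = 0 := by
      have h1 := hg'
      simp only [ha0, hb0, zero_smul, Finset.sum_const_zero, zero_add] at h1
      exact h1
    rw [this, map_zero]
  rintro ((i | i) | j)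
  · exact ha0 i
  · exact hb0 i
  · exact congrFun hc0 j

theorem WittData.exists_basis [FiniteDimensional F V] (h : WittData Q e f r)
    (hcard : 2 * k + d = Module.finrank F V) :
    ∃ b : Module.Basis ((Fin k ⊕ Fin k) ⊕ Fin d) F V, ⇑b = Sum.elim (Sum.elim e f) r := by
  have hli := h.linearIndependent
  have hc : Fintype.card ((Fin k ⊕ Fin k) ⊕ Fin d) = Module.finrank F V := by
    simp only [Fintype.card_sum, Fintype.card_fin]
    omega
  have hsp := hli.span_eq_top_of_card_eq_finrank' hc
  exact ⟨Module.Basis.mk hli (le_of_eq hsp.symm), Module.Basis.coe_mk _ _⟩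

end basis

end Cfsg.Agent.Helper44
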