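/-
helper44: normal form of an anisotropic plane over a finite field:
vectors x, y with Q x = 1, B(x,y) = 1, and t² + t + Q y without roots.
-/
import Mathlib
import Cfsg.Agent.Helper44.WittBasis

set_option autoImplicit false

namespace Cfsg.Agent.Helper44

open QuadraticMap

universe u v

section

variable {F : Type u} [Field F] [Fintype F] {V : Type v} [AddCommGroup V] [Module F V]

/-- An anisotropic form in two variables over a finite field represents 1. -/
theorem exists_repr_one (Q : QuadraticForm F V) (r : Fin 2 → V)
    (aniso : ∀ c : Fin 2 → F, Q (∑ j, c j • r j) = 0 → c = 0) :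
    ∃ p : Fin 2 → F, Q (∑ j, p j • r j) = 1 := by
  let L : (Fin 2 → F) →ₗ[F] V := Fintype.linearCombination F r
  have hL : ∀ c, L c = ∑ j, c j • r j := fun c => Fintype.linearCombination_apply F r c
  let Q3 : QuadraticForm F ((Fin 2 → F) × F) :=
    (Q.comp L).comp (LinearMap.fst F (Fin 2 → F) F) - (QuadraticMap.sq (R := F) (A := F)).comp (LinearMap.snd F (Fin 2 → F) F)
  have hQ3 : ∀ c z, Q3 (c, z) = Q (L c) - z * z := by
    intro c z
    simp [Q3, QuadraticMap.comp_apply, QuadraticMap.sq]
  have hrank : 3 ≤ Module.finrank F ((Fin 2 → F) × F) := by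
    rw [Module.finrank_prod, Module.finrank_fin_fun, Module.finrank_self]
  obtain ⟨⟨c, z⟩, hne, hzero⟩ := exists_singular Q3 hrank
  rw [hQ3] at hzero
  have hz : z ≠ 0 := by
    rintro rfl
    apply hne
    have : c = 0 := by
      apply aniso
      rw [← hL]
      simpa using hzero
    rw [this]; rfl
  refine ⟨z⁻¹ • c, ?_⟩
  rw [← hL, map_smul, QuadraticMap.map_smul]
  have : Q (L c) = z * z := by linear_combination hzero
  rw [this, smul_eq_mul]
  field_simp

/-- Normal form of an anisotropic plane. -/
theorem exists_aniso_normal_form (Q : QuadraticForm F V) (r : Fin 2 → V)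
    (aniso : ∀ c : Fin 2 → F, Q (∑ j, c j • r j) = 0 → c = 0)
    (nondeg : ∀ c : Fin 2 → F, (∀ j, polar Q (∑ i, c i • r i) (r j) = 0) → c = 0) :
    ∃ p u : Fin 2 → F, Q (∑ j, p j • r j) = 1 ∧ polar Q (∑ j, p j • r j) (∑ j, u j • r j) = 1 ∧
      (∀ t : F, t ^ 2 + t + Q (∑ j, u j • r j) ≠ 0) ∧
      (∀ c : Fin 2 → F, Q (c 0 • (∑ j, p j • r j) + c 1 • (∑ j, u j • r j)) = 0 → c = 0) := by
  classical
  let L : (Fin 2 → F) →ₗ[F] V := Fintype.linearCombination F r
  have hL : ∀ c, L c = ∑ j, c j • r j := fun c => Fintype.linearCombination_apply F r c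
  obtain ⟨p, hp⟩ := exists_repr_one Q r aniso
  rw [← hL] at hp
  set x := L p with hx
  have hp0 : p ≠ 0 := by
    rintro rfl
    rw [hx, map_zero, map_zero] at hp
    exact zero_ne_one hp
  let β : Fin 2 → F := fun j => polar Q x (r j)
  let φ : (Fin 2 → F) → F := fun c => polar Q x (L c)
  have hφ : ∀ c, φ c = c 0 * β 0 + c 1 * β 1 := by
    intro c
    simp only [φ, hL, β]
    rw [polar_sum_smul_right, Fin.sum_univ_two]
  have hφadd : ∀ a b : F, ∀ c c' : Fin 2 → F, φ (a • c + b • c') = a * φ c + b * φ c' := by
    intro a b c c'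
    simp only [hφ, Pi.add_apply, Pi.smul_apply, smul_eq_mul]
    ring
  have hφp : φ p = 2 := by
    simp only [φ]
    rw [← hx, polar_self, hp]; simp
  obtain ⟨j0, hj0⟩ : ∃ j, β j ≠ 0 := by
    by_contra h
    push Not at h
    apply hp0
    apply nondeg
    intro j
    rw [← hL, ← hx, polar_comm]
    have := h j
    simp only [β] at this
    rw [polar_comm]
    exact this
  -- choose u with φ u = 1 and independent of p
  obtain ⟨w, hw1, hwind⟩ : ∃ w : Fin 2 → F, φ w = 1 ∧ ∀ c : Fin 2 → F, c 0 • p + c 1 • w = 0 → c = 0 := by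
    by_cases h2 : (2 : F) = 0
    · refine ⟨(β j0)⁻¹ • Pi.single j0 1, ?_, ?_⟩
      · rw [hφ]
        fin_cases j0
        · simp only [Fin.zero_eta, Fin.isValue, Pi.smul_apply, Pi.single_eq_same, smul_eq_mul, mul_one,
            ne_eq, one_ne_zero, not_false_eq_true, Pi.single_eq_of_ne, mul_zero, zero_mul, add_zero]
          exact inv_mul_cancel₀ hj0
        · simp only [Fin.mk_one, Fin.isValue, Pi.smul_apply, ne_eq, zero_ne_one, not_false_eq_true,
            Pi.single_eq_of_ne, smul_eq_mul, mul_zero, zero_mul, Pi.single_eq_same, mul_one, zero_add]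
          exact inv_mul_cancel₀ hj0
      · intro c hc
        have h1 := congrArg φ hc
        have hw1 : φ ((β j0)⁻¹ • Pi.single j0 1) = 1 := by
          rw [hφ]
          fin_cases j0
          · simp only [Fin.zero_eta, Fin.isValue, Pi.smul_apply, Pi.single_eq_same, smul_eq_mul, mul_one,
              ne_eq, one_ne_zero, not_false_eq_true, Pi.single_eq_of_ne, mul_zero, zero_mul, add_zero]
            exact inv_mul_cancel₀ hj0
          · simp only [Fin.mk_one, Fin.isValue, Pi.smul_apply, ne_eq, zero_ne_one, not_false_eq_true,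
              Pi.single_eq_of_ne, smul_eq_mul, mul_zero, zero_mul, Pi.single_eq_same, mul_one, zero_add]
            exact inv_mul_cancel₀ hj0
        rw [hφadd, hφp, hw1, h2] at h1
        have hφ0 : φ 0 = 0 := by rw [hφ]; simp
        rw [hφ0] at h1
        have hc1 : c 1 = 0 := by simpa using h1
        rw [hc1, zero_smul, add_zero] at hc
        have hc0 : c 0 = 0 := by
          rcases smul_eq_zero.1 hc with h | h
          · exact h
          · exact absurd h hp0
        funext j
        fin_cases j
        · exact hc0
        · exact hc1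
    · let z : Fin 2 → F := ![β 1, -β 0]
      have hz0 : z ≠ 0 := by
        intro h
        have h0 := congrFun h 0
        have h1 := congrFun h 1
        simp only [z, Matrix.cons_val_zero, Matrix.cons_val_one, Pi.zero_apply, neg_eq_zero] at h0 h1
        fin_cases j0
        · exact hj0 h1
        · exact hj0 h0
      have hφz : φ z = 0 := by
        rw [hφ]
        simp only [z, Matrix.cons_val_zero, Matrix.cons_val_one]
        ring
      refine ⟨(2 : F)⁻¹ • p + (1 : F) • z, ?_, ?_⟩
      · rw [hφadd, hφp, hφz]
        field_simp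
        ring
      · intro c hc
        have h1 := congrArg φ hc
        have hφ0 : φ 0 = 0 := by rw [hφ]; simp
        rw [hφadd, hφadd, hφp, hφz, hφ0] at h1
        have h3 : c 1 = -(2 * c 0) := by
          field_simp at h1
          linear_combination h1
        have h4 : c 1 • z = 0 := by
          have : c 0 • p + c 1 • ((2 : F)⁻¹ • p + (1 : F) • z) = (c 0 + c 1 * 2⁻¹) • p + c 1 • z := by
            rw [smul_add, smul_smul, smul_smul, mul_one, add_smul, add_assoc]
          rw [this, h3] at hc
          have h5 : c 0 + -(2 * c 0) * 2⁻¹ = 0 := by field_simp; ring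
          rw [h5, zero_smul, zero_add] at hc
          rw [h3]; exact hc
        have hc1 : c 1 = 0 := by
          rcases smul_eq_zero.1 h4 with h | h
          · exact h
          · exact absurd h hz0
        have hc0 : c 0 = 0 := by
          rw [hc1] at h3
          have : 2 * c 0 = 0 := by linear_combination h3
          rcases mul_eq_zero.1 this with h | h
          · exact absurd h h2
          · exact h
        funext j
        fin_cases j
        · exact hc0
        · exact hc1
  set y := L w with hy
  have hxy : polar Q x y = 1 := hw1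
  have haniso' : ∀ c : Fin 2 → F, Q (c 0 • x + c 1 • y) = 0 → c = 0 := by
    intro c hc
    apply hwind
    apply aniso
    rw [← hL, map_add, map_smul, map_smul]
    exact hc
  refine ⟨p, w, ?_, ?_, ?_, ?_⟩
  · rw [← hL]; exact hp
  · rw [← hL, ← hL]; exact hxy
  · intro t ht
    rw [← hL] at ht
    have h1 : Q (t • x + (1 : F) • y) = t ^ 2 + t + Q y := by
      rw [one_smul, QuadraticMap.map_add ⇑Q, QuadraticMap.map_smul, polar_smul_left, hp, hxy]
      simp only [smul_eq_mul]
      ring
    have h2 := haniso' ![t, 1] (by simpa using h1.trans ht)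
    have := congrFun h2 1
    simp at this
  · intro c hc
    rw [← hL, ← hL] at hc
    exact haniso' c hc

end

end Cfsg.Agent.Helper44
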