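/-
helper44: extensionality of quadratic forms on a basis; similarities built from Witt data.
-/
import Mathlib
import Cfsg.Agent.Helper44.AnisoPlane

set_option autoImplicit false

namespace Cfsg.Agent.Helper44

open QuadraticMap

universe u v

section ext

variable {F : Type u} [Field F] {V : Type v} [AddCommGroup V] [Module F V]

/-- Two quadratic forms with the same polar form and the same values on a basis are equal. -/
theorem quadraticForm_ext_basis {ι : Type*} (b : Module.Basis ι F V) (Q₁ Q₂ : QuadraticForm F V)
    (hpol : ∀ i j, polar Q₁ (b i) (b j) = polar Q₂ (b i) (b j))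
    (hval : ∀ i, Q₁ (b i) = Q₂ (b i)) : Q₁ = Q₂ := by
  have hpb : polarBilin Q₁ = polarBilin Q₂ := by
    refine LinearMap.BilinForm.ext_basis b fun i j => ?_
    rw [polarBilin_apply_apply, polarBilin_apply_apply]
    exact hpol i j
  have hp : ∀ x y, polar ⇑Q₁ x y = polar ⇑Q₂ x y := by
    intro x y
    have := congrArg (fun B => B x y) hpb
    simpa [polarBilin_apply_apply] using this
  let S : Submodule F V :=
    { carrier := {x | Q₁ x = Q₂ x}
      add_mem' := by
        intro x y hx hy
        simp only [Set.mem_ofPred_eq] at hx hy ⊢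
        rw [QuadraticMap.map_add ⇑Q₁, QuadraticMap.map_add ⇑Q₂, hx, hy, hp]
      zero_mem' := by simp
      smul_mem' := by
        intro a x hx
        simp only [Set.mem_ofPred_eq] at hx ⊢
        rw [QuadraticMap.map_smul, QuadraticMap.map_smul, hx] }
  have hS : S = ⊤ := by
    rw [eq_top_iff, ← b.span_eq, Submodule.span_le]
    rintro _ ⟨i, rfl⟩
    exact hval i
  ext x
  have : x ∈ S := by rw [hS]; trivial
  exact this

end ext

section sim

variable {F : Type u} [Field F] {V : Type v} [AddCommGroup V] [Module F V] [FiniteDimensional F V]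
variable {Q : QuadraticForm F V} {k d : ℕ} {e f : Fin k → V} {r : Fin d → V}

/-- A similarity with multiplier `c`, given a scaled copy `r'` of the anisotropic part. -/
theorem WittData.exists_similarity (h : WittData Q e f r) (hcard : 2 * k + d = Module.finrank F V)
    (hnd : ∀ x : V, (∀ y, polar Q x y = 0) → x = 0) (c : F) (hc : c ≠ 0) (r' : Fin d → V)
    (her : ∀ i j, polar Q (e i) (r' j) = 0) (hfr : ∀ i j, polar Q (f i) (r' j) = 0)
    (hrr : ∀ j j', polar Q (r' j) (r' j') = c * polar Q (r j) (r j'))
    (hr : ∀ j, Q (r' j) = c * Q (r j)) :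
    ∃ g : V ≃ₗ[F] V, ∀ v, Q (g v) = c * Q v := by
  obtain ⟨b, hb⟩ := h.exists_basis hcard
  let img : (Fin k ⊕ Fin k) ⊕ Fin d → V := Sum.elim (Sum.elim (fun i => c • e i) f) r'
  let g : V →ₗ[F] V := b.constr F img
  have hg : ∀ i, g (b i) = img i := fun i => b.constr_basis F img i
  have hre : ∀ i j, polar Q (r j) (e i) = 0 := fun i j => by rw [polar_comm]; exact h.er i j
  have hrf : ∀ i j, polar Q (r j) (f i) = 0 := fun i j => by rw [polar_comm]; exact h.fr i j
  have hre' : ∀ i j, polar Q (r' j) (e i) = 0 := fun i j => by rw [polar_comm]; exact her i j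
  have hrf' : ∀ i j, polar Q (r' j) (f i) = 0 := fun i j => by rw [polar_comm]; exact hfr i j
  have hfe : ∀ i j, polar Q (f i) (e j) = if j = i then 1 else 0 := fun i j => by
    rw [polar_comm]; exact h.pair j i
  have hQ : Q.comp g = c • Q := by
    apply quadraticForm_ext_basis b
    · intro i j
      have e1 : polar (Q.comp g) (b i) (b j) = polar Q (img i) (img j) := by
        simp only [polar, QuadraticMap.comp_apply, map_add, hg]
      have e2 : polar (c • Q) (b i) (b j) = c * polar Q (b i) (b j) := by
        simp only [polar, _root_.smul_apply, smul_eq_mul]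
        ring
      rw [e1, e2, hb]
      rcases i with (i | i) | i <;> rcases j with (j | j) | j <;>
        simp [img, polar_smul_left, polar_smul_right, h.ee, h.ff, h.pair, h.er, h.fr, her, hfr, hre, hrf,
          hre', hrf', hfe, hrr]
    · intro i
      rw [QuadraticMap.comp_apply, hg, _root_.smul_apply, smul_eq_mul, hb]
      rcases i with (i | i) | i <;>
        simp [img, QuadraticMap.map_smul, (h.sing _).1, (h.sing _).2, hr]
  have hQv : ∀ v, Q (g v) = c * Q v := by
    intro v
    have := congrArg (fun q : QuadraticForm F V => q v) hQ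
    simpa [QuadraticMap.comp_apply] using this
  have hpol : ∀ u v, polar Q (g u) (g v) = c * polar Q u v := by
    intro u v
    simp only [polar, ← map_add, hQv]
    ring
  have hinj : Function.Injective g := by
    rw [← LinearMap.ker_eq_bot, LinearMap.ker_eq_bot']
    intro v hv
    apply hnd
    intro y
    have h1 := hpol v y
    rw [hv, polar_zero_left] at h1
    rcases mul_eq_zero.1 h1.symm with h2 | h2
    · exact absurd h2 hc
    · exact h2
  exact ⟨LinearEquiv.ofInjectiveEndo g hinj, fun v => hQv v⟩

end sim

end Cfsg.Agent.Helper44
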