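/-
helper44: discriminant of a quadratic form from its Witt data; isometries from matching Witt data.
-/
import Mathlib
import Cfsg.Agent.Helper44.Similarity
import Cfsg.Agent.Helper44.Gram

set_option autoImplicit false

namespace Cfsg.Agent.Helper44

open QuadraticMap

universe u v

section disc

variable {F : Type u} [Field F] {V : Type v} [AddCommGroup V] [Module F V]
variable {Q : QuadraticForm F V} {k d : ℕ} {e f : Fin k → V} {r : Fin d → V}

/-- Gram determinant in the Witt basis. -/
theorem WittData.det_gram (h : WittData Q e f r) :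
    (Matrix.of fun i j : (Fin k ⊕ Fin k) ⊕ Fin d =>
        polar Q (Sum.elim (Sum.elim e f) r i) (Sum.elim (Sum.elim e f) r j)).det
      = (-1) ^ k * (Matrix.of fun i j : Fin d => polar Q (r i) (r j)).det := by
  have hre : ∀ i j, polar Q (r j) (e i) = 0 := fun i j => by rw [polar_comm]; exact h.er i j
  have hrf : ∀ i j, polar Q (r j) (f i) = 0 := fun i j => by rw [polar_comm]; exact h.fr i j
  have hfe : ∀ i j, polar Q (f i) (e j) = if i = j then 1 else 0 := fun i j => by
    rw [polar_comm, h.pair j i]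
    simp only [eq_comm]
  have hM : (Matrix.of fun i j : (Fin k ⊕ Fin k) ⊕ Fin d =>
        polar Q (Sum.elim (Sum.elim e f) r i) (Sum.elim (Sum.elim e f) r j))
      = Matrix.fromBlocks
          (Matrix.fromBlocks (0 : Matrix (Fin k) (Fin k) F) (1 : Matrix (Fin k) (Fin k) F)
            (1 : Matrix (Fin k) (Fin k) F) (0 : Matrix (Fin k) (Fin k) F))
          (0 : Matrix (Fin k ⊕ Fin k) (Fin d) F) (0 : Matrix (Fin d) (Fin k ⊕ Fin k) F)
          (Matrix.of fun i j : Fin d => polar Q (r i) (r j)) := by
    ext i j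
    rcases i with (i | i) | i <;> rcases j with (j | j) | j <;>
      simp [h.ee, h.ff, h.pair, h.er, h.fr, hre, hrf, hfe, Matrix.one_apply]
  rw [hM, Matrix.det_fromBlocks_zero₁₂, det_antidiag_one, Fintype.card_fin]

end disc

section disc2

variable {F : Type u} [Field F] {ι : Type} [Fintype ι] [DecidableEq ι]
variable {Q : QuadraticForm F (ι → F)} {k d : ℕ} {e f : Fin k → (ι → F)} {r : Fin d → (ι → F)}

/-- The standard Gram determinant agrees up to a non-zero square with the one computed from Witt data. -/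
theorem WittData.exists_disc (h : WittData Q e f r) (hcard : 2 * k + d = Fintype.card ι) :
    ∃ t : F, t ≠ 0 ∧ (-1) ^ k * (Matrix.of fun i j : Fin d => polar Q (r i) (r j)).det
      = t * t * (Matrix.of fun i j : ι => polar Q (Pi.single i 1) (Pi.single j 1)).det := by
  have hfr : 2 * k + d = Module.finrank F (ι → F) := by rw [Module.finrank_fintype_fun_eq_card]; exact hcard
  obtain ⟨b, hb⟩ := h.exists_basis hfr
  obtain ⟨t, ht0, ht⟩ := det_gram_of_basis (polarBilin Q) b
  refine ⟨t, ht0, ?_⟩
  have e1 : (Matrix.of fun i j : (Fin k ⊕ Fin k) ⊕ Fin d => (polarBilin Q) (b i) (b j))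
      = (Matrix.of fun i j : (Fin k ⊕ Fin k) ⊕ Fin d =>
        polar Q (Sum.elim (Sum.elim e f) r i) (Sum.elim (Sum.elim e f) r j)) := by
    ext i j
    simp only [Matrix.of_apply, polarBilin_apply_apply, hb]
  have e2 : LinearMap.BilinForm.toMatrix' (polarBilin Q)
      = Matrix.of fun i j : ι => polar Q (Pi.single i 1) (Pi.single j 1) := by
    ext i j
    rw [LinearMap.BilinForm.toMatrix'_apply, polarBilin_apply_apply, Matrix.of_apply]
  rw [e1, h.det_gram, e2] at ht
  exact ht

end disc2

section iso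

variable {F : Type u} [Field F] {V : Type v} [AddCommGroup V] [Module F V] [FiniteDimensional F V]
variable {Q₁ Q₂ : QuadraticForm F V} {k d : ℕ} {e f : Fin k → V} {r : Fin d → V}

/-- An isometry from `Q₁` to `Q₂` from Witt data of `Q₁` and a family satisfying the same relations for `Q₂`. -/
theorem WittData.exists_isometry (h : WittData Q₁ e f r) (hcard : 2 * k + d = Module.finrank F V)
    (hnd : ∀ x : V, (∀ y, polar Q₁ x y = 0) → x = 0)
    (e' f' : Fin k → V) (r' : Fin d → V)
    (hsing : ∀ i, Q₂ (e' i) = 0 ∧ Q₂ (f' i) = 0)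
    (hpair : ∀ i j, polar Q₂ (e' i) (f' j) = if i = j then 1 else 0)
    (hee : ∀ i j, polar Q₂ (e' i) (e' j) = 0) (hff : ∀ i j, polar Q₂ (f' i) (f' j) = 0)
    (her : ∀ i j, polar Q₂ (e' i) (r' j) = 0) (hfr : ∀ i j, polar Q₂ (f' i) (r' j) = 0)
    (hrr : ∀ j j', polar Q₂ (r' j) (r' j') = polar Q₁ (r j) (r j'))
    (hr : ∀ j, Q₂ (r' j) = Q₁ (r j)) :
    ∃ g : V ≃ₗ[F] V, ∀ v, Q₂ (g v) = Q₁ v := by
  obtain ⟨b, hb⟩ := h.exists_basis hcard
  let img : (Fin k ⊕ Fin k) ⊕ Fin d → V := Sum.elim (Sum.elim e' f') r'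
  let g : V →ₗ[F] V := b.constr F img
  have hg : ∀ i, g (b i) = img i := fun i => b.constr_basis F img i
  have hre : ∀ i j, polar Q₁ (r j) (e i) = 0 := fun i j => by rw [polar_comm]; exact h.er i j
  have hrf : ∀ i j, polar Q₁ (r j) (f i) = 0 := fun i j => by rw [polar_comm]; exact h.fr i j
  have hre' : ∀ i j, polar Q₂ (r' j) (e' i) = 0 := fun i j => by rw [polar_comm]; exact her i j
  have hrf' : ∀ i j, polar Q₂ (r' j) (f' i) = 0 := fun i j => by rw [polar_comm]; exact hfr i j
  have hfe : ∀ i j, polar Q₁ (f i) (e j) = if j = i then 1 else 0 := fun i j => by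
    rw [polar_comm]; exact h.pair j i
  have hfe' : ∀ i j, polar Q₂ (f' i) (e' j) = if j = i then 1 else 0 := fun i j => by
    rw [polar_comm]; exact hpair j i
  have hQ : Q₂.comp g = Q₁ := by
    apply quadraticForm_ext_basis b
    · intro i j
      have e1 : polar (Q₂.comp g) (b i) (b j) = polar Q₂ (img i) (img j) := by
        simp only [polar, QuadraticMap.comp_apply, map_add, hg]
      rw [e1, hb]
      rcases i with (i | i) | i <;> rcases j with (j | j) | j <;>
        simp [img, h.ee, h.ff, h.pair, h.er, h.fr, hee, hff, hpair, her, hfr, hre, hrf,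
          hre', hrf', hfe, hfe', hrr]
    · intro i
      rw [QuadraticMap.comp_apply, hg, hb]
      rcases i with (i | i) | i <;>
        simp [img, (h.sing _).1, (h.sing _).2, (hsing _).1, (hsing _).2, hr]
  have hQv : ∀ v, Q₂ (g v) = Q₁ v := by
    intro v
    have := congrArg (fun q : QuadraticForm F V => q v) hQ
    simpa [QuadraticMap.comp_apply] using this
  have hpol : ∀ u v, polar Q₂ (g u) (g v) = polar Q₁ u v := by
    intro u v
    simp only [polar, ← map_add, hQv]
  have hinj : Function.Injective g := by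
    rw [← LinearMap.ker_eq_bot, LinearMap.ker_eq_bot']
    intro v hv
    apply hnd
    intro y
    have h1 := hpol v y
    rw [hv, polar_zero_left] at h1
    exact h1.symm
  exact ⟨LinearEquiv.ofInjectiveEndo g hinj, fun v => hQv v⟩

end iso

end Cfsg.Agent.Helper44
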