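/-
helper44: the three normal forms of a non-degenerate quadratic space over a finite field, with discriminants.
-/
import Mathlib
import Cfsg.Agent.Helper44.Classify

set_option autoImplicit false

namespace Cfsg.Agent.Helper44

open QuadraticMap

universe u v

section cases

variable {F : Type u} [Field F] [Fintype F] {V : Type v} [AddCommGroup V] [Module F V] [FiniteDimensional F V]

/-- Witt decomposition, in three cases according to the dimension of the anisotropic part; the anisotropic
plane is normalised. -/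
theorem exists_wittData_cases (Q : QuadraticForm F V) {n : ℕ} (hV : Module.finrank F V = n)
    (hnd : ∀ x : V, (∀ y, polar Q x y = 0) → x = 0) :
    (∃ (k : ℕ) (e f : Fin k → V) (r : Fin 0 → V), 2 * k = n ∧ WittData Q e f r) ∨
    (∃ (k : ℕ) (e f : Fin k → V) (r : Fin 1 → V), 2 * k + 1 = n ∧ WittData Q e f r) ∨
    (∃ (k : ℕ) (e f : Fin k → V) (x y : V), 2 * k + 2 = n ∧ WittData Q e f ![x, y] ∧ Q x = 1 ∧
      polar Q x y = 1 ∧ ∀ t : F, t ^ 2 + t + Q y ≠ 0) := by
  obtain ⟨k, d, e, f, r, hkd, hd, hdata, hnr⟩ := exists_wittData n Q hV hnd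
  interval_cases d
  · exact Or.inl ⟨k, e, f, r, by omega, hdata⟩
  · exact Or.inr (Or.inl ⟨k, e, f, r, by omega, hdata⟩)
  · right; right
    obtain ⟨p, u, hx1, hxy, hirr, haniso⟩ := exists_aniso_normal_form Q r hdata.aniso hnr
    obtain ⟨x, hx⟩ : ∃ x : V, x = ∑ j, p j • r j := ⟨_, rfl⟩
    obtain ⟨y, hy⟩ : ∃ y : V, y = ∑ j, u j • r j := ⟨_, rfl⟩
    rw [← hx] at hx1 hxy haniso
    rw [← hy] at hxy haniso hirr
    have hex : ∀ i, polar Q (e i) x = 0 := by
      intro i; rw [hx, polar_sum_smul_right]; simp [hdata.er]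
    have hey : ∀ i, polar Q (e i) y = 0 := by
      intro i; rw [hy, polar_sum_smul_right]; simp [hdata.er]
    have hfx : ∀ i, polar Q (f i) x = 0 := by
      intro i; rw [hx, polar_sum_smul_right]; simp [hdata.fr]
    have hfy : ∀ i, polar Q (f i) y = 0 := by
      intro i; rw [hy, polar_sum_smul_right]; simp [hdata.fr]
    refine ⟨k, e, f, x, y, hkd, ⟨hdata.sing, hdata.pair, hdata.ee, hdata.ff, ?_, ?_, ?_⟩, hx1, hxy, hirr⟩
    · intro i j
      fin_cases j
      · exact hex i
      · exact hey i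
    · intro i j
      fin_cases j
      · exact hfx i
      · exact hfy i
    · intro c hc
      apply haniso
      rw [Fin.sum_univ_two] at hc
      simpa using hc

/-- `t² + t + ζ` without roots (and `2 ≠ 0`) forces `1 - 4ζ` to be a non-square. -/
theorem not_isSquare_of_no_root {K : Type*} [Field K] (h2 : (2 : K) ≠ 0) (ζ : K)
    (h : ∀ t : K, t ^ 2 + t + ζ ≠ 0) : ¬ IsSquare (1 - 4 * ζ) := by
  rintro ⟨s, hs⟩
  apply h ((-1 + s) / 2)
  have h4 : (4 : K) ≠ 0 := by
    have : (4 : K) = 2 * 2 := by norm_num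
    rw [this]; exact mul_ne_zero h2 h2
  field_simp
  linear_combination -hs

end cases

end Cfsg.Agent.Helper44
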