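/-
helper44: isometries between two quadratic spaces from matching Witt data (two-space version of
`WittData.exists_isometry`).
-/
import Mathlib
import Cfsg.Agent.Helper44.Classify2

set_option autoImplicit false

namespace Cfsg.Agent.Helper44.QType

open QuadraticMap Cfsg.Agent.Helper44

universe u v w

section iso

variable {F : Type u} [Field F] {V : Type v} [AddCommGroup V] [Module F V] [FiniteDimensional F V]
variable {V' : Type w} [AddCommGroup V'] [Module F V'] [FiniteDimensional F V']
variable {Q₁ : QuadraticForm F V} {Q₂ : QuadraticForm F V'} {k d : ℕ} {e f : Fin k → V} {r : Fin d → V}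

/-- An isometry from `(V, Q₁)` to `(V', Q₂)` from Witt data of `Q₁` and a family in `V'` satisfying the
same relations for `Q₂`. -/
theorem exists_isometry₂ (h : WittData Q₁ e f r) (hcard : 2 * k + d = Module.finrank F V)
    (hdim : Module.finrank F V = Module.finrank F V')
    (hnd : ∀ x : V, (∀ y, polar Q₁ x y = 0) → x = 0)
    (e' f' : Fin k → V') (r' : Fin d → V')
    (hsing : ∀ i, Q₂ (e' i) = 0 ∧ Q₂ (f' i) = 0)
    (hpair : ∀ i j, polar Q₂ (e' i) (f' j) = if i = j then 1 else 0)
    (hee : ∀ i j, polar Q₂ (e' i) (e' j) = 0) (hff : ∀ i j, polar Q₂ (f' i) (f' j) = 0)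
    (her : ∀ i j, polar Q₂ (e' i) (r' j) = 0) (hfr : ∀ i j, polar Q₂ (f' i) (r' j) = 0)
    (hrr : ∀ j j', polar Q₂ (r' j) (r' j') = polar Q₁ (r j) (r j'))
    (hr : ∀ j, Q₂ (r' j) = Q₁ (r j)) :
    ∃ g : V ≃ₗ[F] V', ∀ v, Q₂ (g v) = Q₁ v := by
  obtain ⟨b, hb⟩ := h.exists_basis hcard
  let img : (Fin k ⊕ Fin k) ⊕ Fin d → V' := Sum.elim (Sum.elim e' f') r'
  let g : V →ₗ[F] V' := b.constr F img
  have hg : ∀ i, g (b i) = img i := fun i => b.constr_basis F img i
  have hre : ∀ i j, polar Q₁ (r j) (e i) = 0 := fun i j => by rw [polar_comm]; exact h.er i j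
  have hrf : ∀ i j, polar Q₁ (r j) (f i) = 0 := fun i j => by rw [polar_comm]; exact h.fr i j
  have hre' : ∀ i j, polar Q₂ (r' j) (e' i) = 0 := fun i j => by rw [polar_comm]; exact her i j
  have hrf' : ∀ i j, polar Q₂ (r' j) (f' i) = 0 := fun i j => by rw [polar_comm]; exact hfr i j
  have hfe : ∀ i j, polar Q₁ (f i) (e j) = if j = i then 1 else 0 := fun i j => by
    rw [polar_comm]; exact h.pair j i
  have hfe' : ∀ i j, polar Q₂ (f' i) (e' j) = if j = i then 1 else 0 := fun i j => by
    rw [polar_comm]; exact hpair j i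
  have hQ : Q₂.comp g = Q₁ := by
    apply quadraticForm_ext_basis b
    · intro i j
      have e1 : polar (Q₂.comp g) (b i) (b j) = polar Q₂ (img i) (img j) := by
        simp only [polar, QuadraticMap.comp_apply, map_add, hg]
      rw [e1, hb]
      rcases i with (i | i) | i <;> rcases j with (j | j) | j <;>
        simp [img, h.ee, h.ff, h.pair, h.er, h.fr, hee, hff, hpair, her, hfr, hre, hrf,
          hre', hrf', hfe, hfe', hrr]
    · intro i
      rw [QuadraticMap.comp_apply, hg, hb]
      rcases i with (i | i) | i <;>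
        simp [img, (h.sing _).1, (h.sing _).2, (hsing _).1, (hsing _).2, hr]
  have hQv : ∀ v, Q₂ (g v) = Q₁ v := by
    intro v
    have := congrArg (fun q : QuadraticForm F V => q v) hQ
    simpa [QuadraticMap.comp_apply] using this
  have hpol : ∀ u v, polar Q₂ (g u) (g v) = polar Q₁ u v := by
    intro u v
    simp only [polar, ← map_add, hQv]
  have hinj : Function.Injective g := by
    rw [← LinearMap.ker_eq_bot, LinearMap.ker_eq_bot']
    intro v hv
    apply hnd
    intro y
    have h1 := hpol v y
    rw [hv, polar_zero_left] at h1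
    exact h1.symm
  exact ⟨LinearEquiv.ofInjectiveOfFinrankEq g hinj hdim, fun v => hQv v⟩

end iso

end Cfsg.Agent.Helper44.QType
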