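/-
helper44: every non-degenerate even-dimensional quadratic space over a finite field has a type
`ε = ±1` (zero count), computed from its Witt data.
-/
import Mathlib
import Cfsg.Agent.Helper44.QTypeIso
import Cfsg.Agent.Helper44.QTypeCount

set_option autoImplicit false

namespace Cfsg.Agent.Helper44.QType

open QuadraticMap Cfsg Cfsg.Agent.Helper44

universe u v w

section std

variable {F : Type u} [Field F]

theorem finrank_plus_idx (k : ℕ) : Module.finrank F (Fin k ⊕ Fin k → F) = 2 * k := by
  rw [Module.finrank_fintype_fun_eq_card, Fintype.card_sum, Fintype.card_fin, two_mul]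

theorem finrank_minus_idx (k : ℕ) : Module.finrank F ((Fin k ⊕ Fin k) ⊕ Fin 2 → F) = 2 * k + 2 := by
  rw [Module.finrank_fintype_fun_eq_card, Fintype.card_sum, Fintype.card_sum, Fintype.card_fin,
    Fintype.card_fin, two_mul]

end std

section types

variable {F : Type u} [Field F] [Fintype F] {V : Type v} [AddCommGroup V] [Module F V]
  [FiniteDimensional F V]
variable {Q : QuadraticForm F V} {k : ℕ} {e f : Fin k → V}

/-- hyperbolic Witt data give type `+1` -/
theorem hasType_of_wittData_zero {r : Fin 0 → V} (h : WittData Q e f r)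
    (hV : Module.finrank F V = 2 * k)
    (hnd : ∀ x : V, (∀ y, polar Q x y = 0) → x = 0) : HasType (⇑Q) k 1 := by
  classical
  obtain ⟨g, hg⟩ := exists_isometry₂ (Q₂ := plusForm k F) h (by omega)
    (by rw [hV, finrank_plus_idx]) hnd
    (fun i => Pi.single (Sum.inl i) 1) (fun i => Pi.single (Sum.inr i) 1) (fun j => Fin.elim0 j)
    (fun i => ⟨(isHypPair_plusForm k i).Qa, (isHypPair_plusForm k i).Qb⟩)
    (fun i j => by
      rw [(isHypPair_plusForm k i).polar_a]
      simp [Pi.single_apply, eq_comm])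
    (fun i j => by
      rw [(isHypPair_plusForm k i).polar_a]
      simp [Pi.single_apply])
    (fun i j => by
      rw [(isHypPair_plusForm k i).polar_b]
      simp [Pi.single_apply])
    (fun i j => Fin.elim0 j) (fun i j => Fin.elim0 j) (fun j => Fin.elim0 j) (fun j => Fin.elim0 j)
  have h1 : HasType (⇑(plusForm k F)) k 1 := by
    rw [plusForm_coe]
    exact hasType_plus k
  exact h1.congr g.symm.toEquiv (fun v => by
    have := hg (g.symm v)
    rw [LinearEquiv.apply_symm_apply] at this
    exact this.symm)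

/-- elliptic Witt data give type `-1` -/
theorem hasType_of_wittData_two {x y : V} (h : WittData Q e f ![x, y])
    (hV : Module.finrank F V = 2 * k + 2)
    (hnd : ∀ x : V, (∀ y, polar Q x y = 0) → x = 0) (hx : Q x = 1) (hxy : polar Q x y = 1)
    (hirr : ∀ t : F, t ^ 2 + t + Q y ≠ 0) : HasType (⇑Q) (k + 1) (-1) := by
  classical
  set ζ := Q y with hζ
  have hr0 : quadFormMinus k F 1 ζ (Pi.single (Sum.inr 0) 1) = 1 := by
    rw [quadFormMinus_eq]
    have : (Pi.single (Sum.inr 0 : (Fin k ⊕ Fin k) ⊕ Fin 2) (1 : F)) ∘ Sum.inl = 0 := by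
      funext i
      simp [Pi.single_apply]
    rw [this]
    simp [quadFormPlus, Pi.single_apply]
  have hr1 : quadFormMinus k F 1 ζ (Pi.single (Sum.inr 1) 1) = ζ := by
    rw [quadFormMinus_eq]
    have : (Pi.single (Sum.inr 1 : (Fin k ⊕ Fin k) ⊕ Fin 2) (1 : F)) ∘ Sum.inl = 0 := by
      funext i
      simp [Pi.single_apply]
    rw [this]
    simp [quadFormPlus, Pi.single_apply]
  have hpol : ∀ (a b : Fin 2), polar (quadFormMinus k F 1 ζ)
      (Pi.single (Sum.inr a) 1) (Pi.single (Sum.inr b) 1)
      = 2 * (if a = 0 then 1 else 0) * (if b = 0 then 1 else 0)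
        + ((if a = 0 then 1 else 0) * (if b = 1 then 1 else 0)
          + (if a = 1 then 1 else 0) * (if b = 0 then 1 else 0))
        + 2 * ζ * (if a = 1 then 1 else 0) * (if b = 1 then 1 else 0) := by
    intro a b
    rw [polar_quadFormMinus]
    have h0 : ∀ c : Fin 2, (Pi.single (Sum.inr c : (Fin k ⊕ Fin k) ⊕ Fin 2) (1 : F)) ∘ Sum.inl
        = 0 := by
      intro c
      funext i
      simp [Pi.single_apply]
    rw [h0, h0]
    have hp0 : polar (quadFormPlus k F) 0 0 = 0 := by
      have := QuadraticMap.polar_zero_left (Q := plusForm k F) (0 : Fin k ⊕ Fin k → F)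
      rwa [plusForm_coe] at this
    rw [hp0]
    simp only [Pi.single_apply, Sum.inr.injEq, one_mul, zero_add]
    fin_cases a <;> fin_cases b <;> simp
  have hxx : polar Q x x = 2 := by rw [polar_self, hx]; simp
  have hyy : polar Q y y = 2 * ζ := by rw [polar_self, hζ]; simp
  have hyx : polar Q y x = 1 := by rw [polar_comm]; exact hxy
  obtain ⟨g, hg⟩ := exists_isometry₂ (Q₂ := minusForm k F 1 ζ) h (by omega)
    (by rw [hV, finrank_minus_idx]) hnd
    (fun i => Pi.single (Sum.inl (Sum.inl i)) 1) (fun i => Pi.single (Sum.inl (Sum.inr i)) 1)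
    ![Pi.single (Sum.inr 0) 1, Pi.single (Sum.inr 1) 1]
    (fun i => ⟨(isHypPair_minusForm k 1 ζ i).Qa, (isHypPair_minusForm k 1 ζ i).Qb⟩)
    (fun i j => by
      rw [(isHypPair_minusForm k 1 ζ i).polar_a]
      simp [Pi.single_apply, eq_comm])
    (fun i j => by
      rw [(isHypPair_minusForm k 1 ζ i).polar_a]
      simp [Pi.single_apply])
    (fun i j => by
      rw [(isHypPair_minusForm k 1 ζ i).polar_b]
      simp [Pi.single_apply])
    (fun i j => by
      rw [(isHypPair_minusForm k 1 ζ i).polar_a]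
      fin_cases j <;> simp [Pi.single_apply])
    (fun i j => by
      rw [(isHypPair_minusForm k 1 ζ i).polar_b]
      fin_cases j <;> simp [Pi.single_apply])
    (fun j j' => by
      rw [minusForm_coe]
      fin_cases j <;> fin_cases j' <;>
        simp [hpol, hxx, hxy, hyx, hyy])
    (fun j => by
      rw [minusForm_coe]
      fin_cases j
      · simpa using hr0.trans hx.symm
      · simpa using hr1)
  have h1 : HasType (⇑(minusForm k F 1 ζ)) (k + 1) (-1) := by
    rw [minusForm_coe]
    apply hasType_minus k 1 ζ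
    intro z₁ z₂ hz
    by_cases h2 : z₂ = 0
    · subst h2
      have : z₁ ^ 2 = 0 := by simpa using hz
      exact ⟨pow_eq_zero_iff (two_ne_zero) |>.mp this, rfl⟩
    · exfalso
      apply hirr (z₁ / z₂)
      have : (z₁ / z₂) ^ 2 + z₁ / z₂ + ζ = (z₁ ^ 2 + 1 * z₁ * z₂ + ζ * z₂ ^ 2) / z₂ ^ 2 := by
        field_simp
      rw [this, hz, zero_div]
  exact h1.congr g.symm.toEquiv (fun v => by
    have := hg (g.symm v)
    rw [LinearEquiv.apply_symm_apply] at this
    exact this.symm)

/-- every non-degenerate quadratic space of dimension `2m` over a finite field has a type -/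
theorem exists_hasType (Q : QuadraticForm F V) {m : ℕ} (hV : Module.finrank F V = 2 * m)
    (hnd : ∀ x : V, (∀ y, polar Q x y = 0) → x = 0) :
    ∃ ε : ℤ, (ε = 1 ∨ ε = -1) ∧ HasType (⇑Q) m ε := by
  rcases exists_wittData_cases Q hV hnd with ⟨k, e, f, r, hk, hd⟩ | ⟨k, e, f, r, hk, hd⟩ |
    ⟨k, e, f, x, y, hk, hd, hx, hxy, hirr⟩
  · have hkm : k = m := by omega
    subst hkm
    exact ⟨1, Or.inl rfl, hasType_of_wittData_zero hd hV hnd⟩
  · omega
  · have hkm : m = k + 1 := by omega
    subst hkm
    exact ⟨-1, Or.inr rfl, hasType_of_wittData_two hd (by omega) hnd hx hxy hirr⟩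

end types

end Cfsg.Agent.Helper44.QType
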