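/-
helper44: uniqueness of the anisotropic plane over a finite field (parameter adjustment), and
classification of even-dimensional non-degenerate quadratic spaces by their type.
-/
import Mathlib
import Cfsg.Agent.Helper44.QTypeClassify
import Cfsg.Agent.Helper44.MinusForm

set_option autoImplicit false

namespace Cfsg.Agent.Helper44.QType

open QuadraticMap Cfsg Cfsg.Agent.Helper44

universe u v w

section adjust

variable {F : Type u} [Field F] [Fintype F]

/-- Artin–Schreier: in characteristic two the image of `α ↦ α² + α` has index two. -/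
theorem exists_sq_add_eq_of_char_two (h2 : (2 : F) = 0) (ζ ζ' : F)
    (hζ : ∀ t : F, t ^ 2 + t + ζ ≠ 0) (hζ' : ∀ t : F, t ^ 2 + t + ζ' ≠ 0) :
    ∃ α : F, α ^ 2 + α = ζ + ζ' := by
  classical
  have hneg : ∀ x : F, -x = x := by
    intro x
    have : x + x = 0 := by rw [← two_mul, h2, zero_mul]
    exact neg_eq_of_add_eq_zero_left this
  have hadd2 : ∀ x y : F, (x + y) ^ 2 = x ^ 2 + y ^ 2 := by
    intro x y
    have : (x + y) ^ 2 = x ^ 2 + y ^ 2 + 2 * (x * y) := by ring
    rw [this, h2, zero_mul, add_zero]
  let ℘ : F →+ F :=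
    { toFun := fun α => α ^ 2 + α
      map_zero' := by simp
      map_add' := fun x y => by
        rw [hadd2]
        ring }
  have h℘ : ∀ α, ℘ α = α ^ 2 + α := fun α => rfl
  -- the kernel has two elements
  have hker : Nat.card ℘.ker = 2 := by
    have hmem : ∀ x : F, x ∈ ℘.ker ↔ x = 0 ∨ x = 1 := by
      intro x
      rw [AddMonoidHom.mem_ker, h℘]
      constructor
      · intro h
        have h1 : x * (x + 1) = 0 := by rw [← h]; ring
        rcases mul_eq_zero.mp h1 with h0 | h0
        · exact Or.inl h0
        · right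
          have := eq_neg_of_add_eq_zero_left h0
          rw [this, hneg]
      · rintro (rfl | rfl)
        · simp
        · have : (1 : F) ^ 2 + 1 = 2 := by norm_num
          rw [this, h2]
    rw [Nat.card_eq_two_iff]
    refine ⟨⟨0, (hmem 0).mpr (Or.inl rfl)⟩, ⟨1, (hmem 1).mpr (Or.inr rfl)⟩, ?_, ?_⟩
    · intro h
      have := congrArg Subtype.val h
      exact zero_ne_one this
    · ext ⟨x, hx⟩
      simp only [Set.mem_insert_iff, Set.mem_singleton_iff, Set.mem_univ, iff_true, Subtype.mk.injEq]
      exact (hmem x).mp hx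
  have hidx : ℘.range.index = 2 := by
    have h1 : Nat.card ℘.ker * ℘.ker.index = Nat.card F := AddSubgroup.card_mul_index ℘.ker
    have h2' : ℘.ker.index = Nat.card ℘.range := AddSubgroup.index_ker ℘
    have h3 : Nat.card ℘.range * ℘.range.index = Nat.card F := AddSubgroup.card_mul_index ℘.range
    rw [hker, h2'] at h1
    have hpos : 0 < Nat.card ℘.range := Nat.card_pos
    have : Nat.card ℘.range * ℘.range.index = Nat.card ℘.range * 2 := by
      rw [h3, ← h1, mul_comm]
    exact Nat.eq_of_mul_eq_mul_left hpos this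
  have hnot : ∀ z : F, (∀ t : F, t ^ 2 + t + z ≠ 0) → z ∉ ℘.range := by
    intro z hz hmem
    obtain ⟨t, ht⟩ := hmem
    apply hz t
    rw [← ht, h℘]
    have : t ^ 2 + t + (t ^ 2 + t) = 2 * (t ^ 2 + t) := by ring
    rw [this, h2, zero_mul]
  have hsum : ζ + ζ' ∈ ℘.range := by
    rw [AddSubgroup.add_mem_iff_of_index_two hidx]
    exact ⟨fun h => absurd h (hnot ζ hζ), fun h => absurd h (hnot ζ' hζ')⟩
  obtain ⟨α, hα⟩ := hsum
  exact ⟨α, hα⟩

/-- the adjustment of the second basis vector of an anisotropic plane -/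
theorem exists_adjust (ζ ζ' : F) (hζ : ∀ t : F, t ^ 2 + t + ζ ≠ 0)
    (hζ' : ∀ t : F, t ^ 2 + t + ζ' ≠ 0) :
    ∃ α β : F, 2 * α + β = 1 ∧ α ^ 2 + α * β + β ^ 2 * ζ' = ζ := by
  by_cases h2 : (2 : F) = 0
  · obtain ⟨α, hα⟩ := exists_sq_add_eq_of_char_two h2 ζ ζ' hζ hζ'
    refine ⟨α, 1, by rw [h2, zero_mul, zero_add], ?_⟩
    have hneg : ∀ x : F, -x = x := by
      intro x
      have : x + x = 0 := by rw [← two_mul, h2, zero_mul]
      exact neg_eq_of_add_eq_zero_left this
    have : ζ = α ^ 2 + α - ζ' := by rw [hα]; ring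
    rw [this, sub_eq_add_neg, hneg]
    ring
  · have hD := not_isSquare_of_no_root h2 ζ hζ
    have hD' := not_isSquare_of_no_root h2 ζ' hζ'
    have hD'0 : (1 - 4 * ζ') ≠ 0 := by
      intro h
      apply hD'
      rw [h]
      exact ⟨0, by simp⟩
    -- the ratio of two non-squares is a square
    have hsq : IsSquare ((1 - 4 * ζ) * (1 - 4 * ζ')) := by
      have hD0 : (1 - 4 * ζ) ≠ 0 := by
        intro h
        apply hD
        rw [h]
        exact ⟨0, by simp⟩
      rw [isSquare_mul_nonsquare_iff hD0 hD']
      exact hD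
    obtain ⟨s, hs⟩ := hsq
    -- `α = (1 + s/(1-4ζ'))/2`
    set w : F := s / (1 - 4 * ζ') with hw
    have hw2 : w * w * (1 - 4 * ζ') = 1 - 4 * ζ := by
      rw [hw]
      field_simp
      linear_combination -hs
    have h4 : (4 : F) ≠ 0 := by
      have : (4 : F) = 2 * 2 := by norm_num
      rw [this]; exact mul_ne_zero h2 h2
    refine ⟨(1 - w) / 2, w, by field_simp; ring, ?_⟩
    field_simp
    linear_combination -hw2

end adjust

end Cfsg.Agent.Helper44.QType

namespace Cfsg.Agent.Helper44.QType

open QuadraticMap Cfsg Cfsg.Agent.Helper44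

universe u v w

section classify

variable {F : Type u} [Field F] [Fintype F] {V : Type v} [AddCommGroup V] [Module F V]
  [FiniteDimensional F V] {V' : Type w} [AddCommGroup V'] [Module F V'] [FiniteDimensional F V']

theorem map_lin2' (Q : QuadraticForm F V) (a b : F) (x y : V) :
    Q (a • x + b • y) = a * a * Q x + b * b * Q y + a * b * polar Q x y := by
  rw [QuadraticMap.map_add ⇑Q, QuadraticMap.map_smul, QuadraticMap.map_smul, polar_smul_left,
    polar_smul_right]
  simp only [smul_eq_mul]
  ring

/-- Non-degenerate quadratic spaces of the same even dimension and the same type are isometric. -/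
theorem exists_isometry_of_hasType (Q₁ : QuadraticForm F V) (Q₂ : QuadraticForm F V') {m : ℕ}
    (hV : Module.finrank F V = 2 * m) (hV' : Module.finrank F V' = 2 * m)
    (hnd : ∀ x : V, (∀ y, polar Q₁ x y = 0) → x = 0)
    (hnd' : ∀ x : V', (∀ y, polar Q₂ x y = 0) → x = 0) {ε : ℤ}
    (h₁ : HasType (⇑Q₁) m ε) (h₂ : HasType (⇑Q₂) m ε) :
    ∃ g : V ≃ₗ[F] V', ∀ v, Q₂ (g v) = Q₁ v := by
  have hne : (1 : ℤ) ≠ -1 := by norm_num
  rcases exists_wittData_cases Q₁ hV hnd with ⟨k, e, f, r, hk, hd⟩ | ⟨k, e, f, r, hk, hd⟩ |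
    ⟨k, e, f, x, y, hk, hd, hx, hxy, hirr⟩
  · have hkm : k = m := by omega
    subst hkm
    have ht₁ := hasType_of_wittData_zero hd hV hnd
    rcases exists_wittData_cases Q₂ hV' hnd' with ⟨k', e', f', r', hk', hd'⟩ |
      ⟨k', e', f', r', hk', hd'⟩ | ⟨k', e', f', x', y', hk', hd', hx', hxy', hirr'⟩
    · have hkm' : k' = k := by omega
      subst hkm'
      exact exists_isometry₂ hd (by omega) (by rw [hV, hV']) hnd e' f' (fun j => Fin.elim0 j)
        hd'.sing hd'.pair hd'.ee hd'.ff (fun i j => Fin.elim0 j) (fun i j => Fin.elim0 j)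
        (fun j => Fin.elim0 j) (fun j => Fin.elim0 j)
    · omega
    · exfalso
      have hkm' : k = k' + 1 := by omega
      subst hkm'
      have ht₂ := hasType_of_wittData_two hd' (by omega) hnd' hx' hxy' hirr'
      have e1 := h₁.unique ht₁
      have e2 := h₂.unique ht₂
      exact hne (e1.symm.trans e2)
  · omega
  · have hkm : m = k + 1 := by omega
    subst hkm
    have ht₁ := hasType_of_wittData_two hd (by omega) hnd hx hxy hirr
    rcases exists_wittData_cases Q₂ hV' hnd' with ⟨k', e', f', r', hk', hd'⟩ |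
      ⟨k', e', f', r', hk', hd'⟩ | ⟨k', e', f', x', y', hk', hd', hx', hxy', hirr'⟩
    · exfalso
      have hkm' : k' = k + 1 := by omega
      subst hkm'
      have ht₂ := hasType_of_wittData_zero hd' hV' hnd'
      have e1 := h₁.unique ht₁
      have e2 := h₂.unique ht₂
      exact hne (e2.symm.trans e1)
    · omega
    · have hkm' : k' = k := by omega
      subst hkm'
      obtain ⟨α, β, hab, hval⟩ := exists_adjust (Q₁ y) (Q₂ y') hirr hirr'
      have hex : ∀ i, polar Q₂ (e' i) x' = 0 := fun i => hd'.er i 0
      have hey : ∀ i, polar Q₂ (e' i) y' = 0 := fun i => hd'.er i 1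
      have hfx : ∀ i, polar Q₂ (f' i) x' = 0 := fun i => hd'.fr i 0
      have hfy : ∀ i, polar Q₂ (f' i) y' = 0 := fun i => hd'.fr i 1
      have hxx : polar Q₁ x x = 2 := by rw [polar_self, hx]; simp
      have hyy : polar Q₁ y y = 2 * Q₁ y := by rw [polar_self]; simp
      have hyx : polar Q₁ y x = 1 := by rw [polar_comm]; exact hxy
      have hxx' : polar Q₂ x' x' = 2 := by rw [polar_self, hx']; simp
      have hyy' : polar Q₂ y' y' = 2 * Q₂ y' := by rw [polar_self]; simp
      have hyx' : polar Q₂ y' x' = 1 := by rw [polar_comm]; exact hxy'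
      have hQy : Q₂ (α • x' + β • y') = Q₁ y := by
        rw [map_lin2', hx', hxy']
        linear_combination hval
      refine exists_isometry₂ hd (by omega) (by rw [hV, hV']) hnd e' f' ![x', α • x' + β • y']
        hd'.sing hd'.pair hd'.ee hd'.ff ?_ ?_ ?_ ?_
      · intro i j
        fin_cases j
        · exact hex i
        · simp [polar_add_right, polar_smul_right, hex, hey]
      · intro i j
        fin_cases j
        · exact hfx i
        · simp [polar_add_right, polar_smul_right, hfx, hfy]
      · intro j j'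
        fin_cases j <;> fin_cases j'
        · simp [hxx, hxx']
        · simp only [Fin.zero_eta, Fin.isValue, Matrix.cons_val_zero, Fin.mk_one,
            Matrix.cons_val_one, polar_add_right, polar_smul_right, hxx', hxy', smul_eq_mul, hxy]
          linear_combination hab
        · simp only [Fin.zero_eta, Fin.isValue, Matrix.cons_val_zero, Fin.mk_one,
            Matrix.cons_val_one, polar_add_left, polar_smul_left, hxx', hyx', smul_eq_mul, hyx]
          linear_combination hab
        · show polar (⇑Q₂) (α • x' + β • y') (α • x' + β • y') = polar (⇑Q₁) y y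
          rw [polar_self, polar_self, hQy]
      · intro j
        fin_cases j
        · simp [hx, hx']
        · simpa using hQy

end classify

end Cfsg.Agent.Helper44.QType
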