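/-
helper44: similarities of even-dimensional quadratic spaces over finite fields (general space version of
S2624) and constancy of the non-zero fibre counts.
-/
import Mathlib
import Cfsg.Agent.Helper44.QTypeAniso

set_option autoImplicit false

namespace Cfsg.Agent.Helper44.QType

open QuadraticMap Cfsg Cfsg.Agent.Helper44

universe u v w

section sim

variable {F : Type u} [Field F] [Fintype F] {V : Type v} [AddCommGroup V] [Module F V]
  [FiniteDimensional F V]

/-- In even dimension every non-zero scalar is the multiplier of a similarity. -/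
theorem exists_similarity_even (Q : QuadraticForm F V) {m : ℕ} (hV : Module.finrank F V = 2 * m)
    (hnd : ∀ x : V, (∀ y, polar Q x y = 0) → x = 0) (c : F) (hc : c ≠ 0) :
    ∃ g : V ≃ₗ[F] V, ∀ v, Q (g v) = c * Q v := by
  classical
  rcases exists_wittData_cases Q hV hnd with ⟨k, e, f, r, hk, hd⟩ | ⟨k, e, f, r, hk, hd⟩ |
    ⟨k, e, f, x, y, hk, hd, hx1, hxy, hirr⟩
  · exact hd.exists_similarity (by omega) hnd c hc r (fun i j => Fin.elim0 j)
      (fun i j => Fin.elim0 j) (fun j _ => Fin.elim0 j) (fun j => Fin.elim0 j)
  · omega
  · have hex : ∀ i, polar Q (e i) x = 0 := fun i => hd.er i 0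
    have hey : ∀ i, polar Q (e i) y = 0 := fun i => hd.er i 1
    have hfx : ∀ i, polar Q (f i) x = 0 := fun i => hd.fr i 0
    have hfy : ∀ i, polar Q (f i) y = 0 := fun i => hd.fr i 1
    have haniso2 : ∀ a : Fin 2 → F, (c⁻¹ • Q) (∑ j, a j • ![x, y] j) = 0 → a = 0 := by
      intro a ha
      apply hd.aniso
      rw [_root_.smul_apply, smul_eq_mul] at ha
      rcases mul_eq_zero.1 ha with h | h
      · exact absurd h (inv_ne_zero hc)
      · exact h
    obtain ⟨q, hq⟩ := Helper44.exists_repr_one (c⁻¹ • Q) ![x, y] haniso2
    rw [_root_.smul_apply, smul_eq_mul, Fin.sum_univ_two] at hq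
    simp only [Matrix.cons_val_zero, Matrix.cons_val_one] at hq
    set α := q 0 with hα
    set β := q 1 with hβ
    set ζ := Q y with hζ
    have hyx : polar Q y x = 1 := by rw [polar_comm]; exact hxy
    have hxx : polar Q x x = 2 := by rw [polar_self, hx1]; simp
    have hyy : polar Q y y = 2 * ζ := by rw [polar_self, hζ]; simp
    have hcc : α * α + α * β + ζ * (β * β) = c := by
      rw [map_lin2', hx1, hxy, ← hζ] at hq
      field_simp at hq
      linear_combination hq
    refine hd.exists_similarity (by omega) hnd c hc
      ![α • x + β • y, (-(ζ * β)) • x + (α + β) • y] ?_ ?_ ?_ ?_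
    · intro i j
      fin_cases j <;> simp [polar_add_right, polar_smul_right, hex, hey]
    · intro i j
      fin_cases j <;> simp [polar_add_right, polar_smul_right, hfx, hfy]
    · have key : ∀ a b a' b' : F, polar Q (a • x + b • y) (a' • x + b' • y)
          = 2 * a * a' + a * b' + b * a' + 2 * ζ * b * b' := by
        intro a b a' b'
        simp only [polar_add_left, polar_add_right, polar_smul_left, polar_smul_right, hxx, hxy, hyx,
          hyy, smul_eq_mul]
        ring
      rw [Fin.forall_fin_two]
      constructor <;> rw [Fin.forall_fin_two] <;> constructor <;>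
        simp only [Matrix.cons_val_zero, Matrix.cons_val_one, key, hxx, hxy, hyx, hyy]
      · linear_combination 2 * hcc
      · linear_combination hcc
      · linear_combination hcc
      · linear_combination (2 * ζ) * hcc
    · rw [Fin.forall_fin_two]
      constructor <;> simp only [Matrix.cons_val_zero, Matrix.cons_val_one]
      · rw [map_lin2', hx1, hxy, ← hζ]
        linear_combination hcc
      · rw [map_lin2', hx1, hxy, ← hζ]
        linear_combination ζ * hcc

/-- all non-zero fibres have the same size -/
theorem fc_eq_fc_one (Q : QuadraticForm F V) {m : ℕ} (hV : Module.finrank F V = 2 * m)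
    (hnd : ∀ x : V, (∀ y, polar Q x y = 0) → x = 0) (c : F) (hc : c ≠ 0) :
    fc (⇑Q) c = fc (⇑Q) 1 := by
  obtain ⟨g, hg⟩ := exists_similarity_even Q hV hnd c hc
  unfold fc
  symm
  apply Nat.card_congr
  refine g.toEquiv.subtypeEquiv ?_
  intro v
  simp only [LinearEquiv.coe_toEquiv, hg]
  constructor
  · intro h
    rw [h, mul_one]
  · intro h
    have : c * Q v = c * 1 := by rw [h, mul_one]
    exact mul_left_cancel₀ hc this

end sim

end Cfsg.Agent.Helper44.QType
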