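/-
helper44: fibre counts of an orthogonal sum; the type of an orthogonal sum is the product of the types.
-/
import Mathlib
import Cfsg.Agent.Helper44.QTypeSim
import Cfsg.Agent.Helper44.OrthSumForm

set_option autoImplicit false

namespace Cfsg.Agent.Helper44.QType

open QuadraticMap Cfsg Cfsg.Agent.Helper44

universe u v w

section fibres

variable {F : Type u} [Field F] [Fintype F]

theorem sum_fc {V : Type v} [Finite V] (Q : V → F) : ∑ c : F, fc Q c = Nat.card V := by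
  unfold fc
  rw [← Nat.card_sigma]
  exact Nat.card_congr (Equiv.sigmaFiberEquiv Q)

variable {V : Type v} [AddCommGroup V] [Module F V] [FiniteDimensional F V]

/-- `Z + (q - 1) N = q^(2m)` -/
theorem fc_zero_add (Q : QuadraticForm F V) {m : ℕ} (hV : Module.finrank F V = 2 * m)
    (hnd : ∀ x : V, (∀ y, polar Q x y = 0) → x = 0) :
    (fc (⇑Q) 0 : ℤ) + ((Nat.card F : ℤ) - 1) * (fc (⇑Q) 1 : ℤ) = (Nat.card F : ℤ) ^ (2 * m) := by
  classical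
  haveI : Finite V := Module.finite_of_finite F
  have h1 := sum_fc (F := F) (⇑Q)
  rw [Module.natCard_eq_pow_finrank (K := F) (V := V), hV] at h1
  rw [← Finset.add_sum_erase Finset.univ _ (Finset.mem_univ (0 : F))] at h1
  have h2 : ∑ c ∈ Finset.univ.erase (0 : F), fc (⇑Q) c
      = (Nat.card F - 1) * fc (⇑Q) 1 := by
    rw [Finset.sum_congr rfl (fun c hc => fc_eq_fc_one Q hV hnd c (Finset.ne_of_mem_erase hc)),
      Finset.sum_const, Finset.card_erase_of_mem (Finset.mem_univ _), Finset.card_univ,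
      smul_eq_mul, Nat.card_eq_fintype_card]
  rw [h2] at h1
  have hq : 1 ≤ Nat.card F := Nat.card_pos
  have := congrArg (fun n : ℕ => (n : ℤ)) h1
  push_cast [Nat.cast_sub hq] at this
  linarith

end fibres

section prod

variable {F : Type u} [Field F] [Fintype F]
variable {ι₁ ι₂ : Type} [Fintype ι₁] [DecidableEq ι₁] [Fintype ι₂] [DecidableEq ι₂]

theorem fc_orthSum_zero (Q₁ : (ι₁ → F) → F) (Q₂ : (ι₂ → F) → F) :
    fc (orthSum Q₁ Q₂) 0 = ∑ c : F, fc Q₁ c * fc Q₂ (-c) := by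
  unfold fc
  have e : {x : ι₁ ⊕ ι₂ → F // orthSum Q₁ Q₂ x = 0}
      ≃ (Σ c : F, {u : ι₁ → F // Q₁ u = c} × {w : ι₂ → F // Q₂ w = -c}) :=
    { toFun := fun x => ⟨Q₁ (x.1 ∘ Sum.inl), ⟨x.1 ∘ Sum.inl, rfl⟩, ⟨x.1 ∘ Sum.inr, by
        have := x.2
        simp only [orthSum] at this
        exact eq_neg_of_add_eq_zero_right this⟩⟩
      invFun := fun p => ⟨Sum.elim p.2.1.1 p.2.2.1, by
        simp only [orthSum]
        have e1 : (Sum.elim p.2.1.1 p.2.2.1) ∘ Sum.inl = p.2.1.1 := rfl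
        have e2 : (Sum.elim p.2.1.1 p.2.2.1) ∘ (Sum.inr : ι₂ → ι₁ ⊕ ι₂) = p.2.2.1 := rfl
        rw [e1, e2, p.2.1.2, p.2.2.2, add_neg_cancel]⟩
      left_inv := fun x => by
        apply Subtype.ext
        funext i
        cases i <;> rfl
      right_inv := fun p => by
        obtain ⟨c, ⟨u, hu⟩, ⟨w, hw⟩⟩ := p
        subst hu
        rfl }
  rw [Nat.card_congr e, Nat.card_sigma]
  refine Finset.sum_congr rfl fun c _ => ?_
  rw [Nat.card_prod]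

/-- the type of an orthogonal sum -/
theorem HasType.orthSum (Q₁ : QuadraticForm F (ι₁ → F)) (Q₂ : QuadraticForm F (ι₂ → F))
    {m₁ m₂ : ℕ} (hc₁ : Fintype.card ι₁ = 2 * m₁) (hc₂ : Fintype.card ι₂ = 2 * m₂)
    (hnd₁ : ∀ x, (∀ y, polar Q₁ x y = 0) → x = 0)
    (hnd₂ : ∀ x, (∀ y, polar Q₂ x y = 0) → x = 0) {ε₁ ε₂ : ℤ}
    (h₁ : HasType (⇑Q₁) m₁ ε₁) (h₂ : HasType (⇑Q₂) m₂ ε₂) :
    HasType (Helper44.orthSum (⇑Q₁) (⇑Q₂)) (m₁ + m₂) (ε₁ * ε₂) := by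
  classical
  have hV₁ : Module.finrank F (ι₁ → F) = 2 * m₁ := by
    rw [Module.finrank_fintype_fun_eq_card, hc₁]
  have hV₂ : Module.finrank F (ι₂ → F) = 2 * m₂ := by
    rw [Module.finrank_fintype_fun_eq_card, hc₂]
  have hN₁ := fc_zero_add Q₁ hV₁ hnd₁
  have hN₂ := fc_zero_add Q₂ hV₂ hnd₂
  have hZ : fc (Helper44.orthSum (⇑Q₁) (⇑Q₂)) 0
      = fc (⇑Q₁) 0 * fc (⇑Q₂) 0 + (Nat.card F - 1) * (fc (⇑Q₁) 1 * fc (⇑Q₂) 1) := by
    rw [fc_orthSum_zero, ← Finset.add_sum_erase Finset.univ _ (Finset.mem_univ (0 : F)), neg_zero]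
    congr 1
    rw [Finset.sum_congr rfl (fun c hc => by
      have hc0 : c ≠ 0 := Finset.ne_of_mem_erase hc
      rw [fc_eq_fc_one Q₁ hV₁ hnd₁ c hc0, fc_eq_fc_one Q₂ hV₂ hnd₂ (-c) (neg_ne_zero.mpr hc0)]),
      Finset.sum_const, Finset.card_erase_of_mem (Finset.mem_univ _), Finset.card_univ,
      smul_eq_mul, Nat.card_eq_fintype_card]
  unfold HasType at h₁ h₂ ⊢
  have hq2 := two_le_card (F := F)
  have hq1 : 1 ≤ Nat.card F := Nat.card_pos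
  rw [hZ]
  push_cast [Nat.cast_sub hq1]
  set q : ℤ := (Nat.card F : ℤ) with hq
  set Z₁ : ℤ := (fc (⇑Q₁) 0 : ℤ) with hZ₁
  set Z₂ : ℤ := (fc (⇑Q₂) 0 : ℤ) with hZ₂
  set N₁ : ℤ := (fc (⇑Q₁) 1 : ℤ) with hN₁'
  set N₂ : ℤ := (fc (⇑Q₂) 1 : ℤ) with hN₂'
  have hA : q ^ (2 * m₁) = (q ^ m₁) ^ 2 := by rw [← pow_mul, mul_comm]
  have hB : q ^ (2 * m₂) = (q ^ m₂) ^ 2 := by rw [← pow_mul, mul_comm]
  have hAB : q ^ (2 * (m₁ + m₂)) = (q ^ m₁) ^ 2 * (q ^ m₂) ^ 2 := by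
    rw [← pow_mul, ← pow_mul, ← pow_add]
    congr 1
    ring
  have hA1 : q ^ (m₁ + 1) = q ^ m₁ * q := pow_succ _ _
  have hB1 : q ^ (m₂ + 1) = q ^ m₂ * q := pow_succ _ _
  have hAB1 : q ^ (m₁ + m₂ + 1) = q ^ m₁ * q ^ m₂ * q := by rw [pow_succ, pow_add]
  have hAB0 : q ^ (m₁ + m₂) = q ^ m₁ * q ^ m₂ := pow_add _ _ _
  rw [hA, hA1] at h₁
  rw [hB, hB1] at h₂
  rw [hA] at hN₁
  rw [hB] at hN₂
  rw [hAB, hAB1, hAB0]
  set A : ℤ := q ^ m₁ with hAdef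
  set B : ℤ := q ^ m₂ with hBdef
  -- cancel `q (q - 1)`
  have hq0 : q * (q - 1) ≠ 0 := mul_ne_zero (by linarith) (by linarith)
  apply mul_left_cancel₀ hq0
  linear_combination (q ^ 2 * (q - 1) * N₂) * hN₁ + (q ^ 2 * (A ^ 2 - Z₁)) * hN₂
    + (q * q * Z₂ - q * B ^ 2) * h₁ + (q * ε₁ * (A * q - A)) * h₂

end prod

end Cfsg.Agent.Helper44.QType
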