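/-
helper44: a fixed-point-free isometry of prime order `r` forces `q^m = ε (mod r)`.
-/
import Mathlib
import Cfsg.Agent.Helper44.QTypeProd

set_option autoImplicit false

namespace Cfsg.Agent.Helper44.QType

open QuadraticMap Cfsg Cfsg.Agent.Helper44

universe u v w

section fpf

variable {F : Type u} [Field F] [Fintype F] {V : Type v} [AddCommGroup V] [Module F V]
  [FiniteDimensional F V]

/-- `N q = q^m (q^m - ε)` for the common size `N` of the non-zero fibres -/
theorem fc_one_mul (Q : QuadraticForm F V) {m : ℕ} (hV : Module.finrank F V = 2 * m)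
    (hnd : ∀ x : V, (∀ y, polar Q x y = 0) → x = 0) {ε : ℤ} (hε : HasType (⇑Q) m ε) :
    (fc (⇑Q) 1 : ℤ) * (Nat.card F : ℤ)
      = (Nat.card F : ℤ) ^ m * ((Nat.card F : ℤ) ^ m - ε) := by
  have h1 := fc_zero_add Q hV hnd
  unfold HasType at hε
  have hq2 := two_le_card (F := F)
  set q : ℤ := (Nat.card F : ℤ) with hq
  have hA : q ^ (2 * m) = (q ^ m) ^ 2 := by rw [← pow_mul, mul_comm]
  have hA1 : q ^ (m + 1) = q ^ m * q := pow_succ _ _
  rw [hA] at h1
  rw [hA, hA1] at hε
  have hq0 : q - 1 ≠ 0 := by linarith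
  apply mul_left_cancel₀ hq0
  linear_combination q * h1 - hε

/-- A map of prime order `r` preserving `Q` without non-zero fixed vectors forces
`q^m = ε` modulo `r`. -/
theorem pow_eq_of_fpf (Q : QuadraticForm F V) {m : ℕ} (hV : Module.finrank F V = 2 * m)
    (hnd : ∀ x : V, (∀ y, polar Q x y = 0) → x = 0) {ε : ℤ} (hε : HasType (⇑Q) m ε)
    (r : ℕ) [hr : Fact r.Prime] (hrq : ¬ r ∣ Nat.card F)
    (T : V → V) (hT : ∀ v, Q (T v) = Q v) (hTr : ∀ v, T^[r] v = v)
    (hfix : ∀ v, T v = v → v = 0) :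
    ((Nat.card F : ℕ) : ZMod r) ^ m = ((ε : ℤ) : ZMod r) := by
  classical
  haveI : Finite V := Module.finite_of_finite F
  haveI : Fintype V := Fintype.ofFinite V
  let f : Function.End {v : V // Q v = 1} := fun v => ⟨T v.1, by rw [hT, v.2]⟩
  have hiter : ∀ (n : ℕ) (v : {v : V // Q v = 1}), ((f ^ n) v).1 = T^[n] v.1 := by
    intro n
    induction n with
    | zero => intro v; rfl
    | succ n ih =>
      intro v
      rw [pow_succ', Function.iterate_succ_apply']
      show T ((f ^ n) v).1 = _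
      rw [ih]
  have hf : f ^ r ^ 1 = 1 := by
    rw [pow_one]
    funext v
    apply Subtype.ext
    rw [hiter, hTr]
    rfl
  have hmod := Equiv.Perm.card_fixedPoints_modEq (p := r) (n := 1) hf
  have hfp : Fintype.card (Function.fixedPoints f) = 0 := by
    rw [Fintype.card_eq_zero_iff]
    constructor
    rintro ⟨v, hv⟩
    have h1 : T v.1 = v.1 := congrArg Subtype.val hv
    have h2 := hfix v.1 h1
    have h3 := v.2
    rw [h2, map_zero] at h3
    exact zero_ne_one h3
  rw [hfp] at hmod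
  have hdvd : r ∣ fc (⇑Q) 1 := by
    unfold fc
    rw [Nat.card_eq_fintype_card]
    exact (Nat.modEq_zero_iff_dvd).mp hmod
  have key := fc_one_mul Q hV hnd hε
  have hz : ((fc (⇑Q) 1 : ℕ) : ZMod r) = 0 := (ZMod.natCast_eq_zero_iff _ _).mpr hdvd
  have key' := congrArg (fun z : ℤ => (z : ZMod r)) key
  push_cast at key'
  rw [hz, zero_mul] at key'
  have hq0 : ((Nat.card F : ℕ) : ZMod r) ≠ 0 := by
    rw [Ne, ZMod.natCast_eq_zero_iff]
    exact hrq
  have := mul_eq_zero.mp key'.symm
  rcases this with h | h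
  · exact absurd (eq_zero_of_pow_eq_zero h) hq0
  · exact sub_eq_zero.mp h

end fpf

end Cfsg.Agent.Helper44.QType
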