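import Mathlib
import Cfsg.Prelude.Def_ClassicalGeometry
import Cfsg.Agent.Helper44.StdForms
import Cfsg.Agent.Helper44.OrthBasis

/-!
# Nondegeneracy and discriminants of the standard plus and minus forms; `-1 ∈ Ω±`
-/

set_option autoImplicit false

namespace Cfsg.Agent.Helper44

open Matrix

variable {F : Type*} [Field F]

theorem polarBilin_plusForm (m : ℕ) :
    QuadraticMap.polarBilin (plusForm m F) = Matrix.toBilin' (gramPlus m F) := by
  refine LinearMap.ext₂ fun u v => ?_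
  rw [QuadraticMap.polarBilin_apply_apply, plusForm_coe]
  exact polar_quadFormPlus_eq_toBilin' m u v

theorem polarBilin_minusForm (k : ℕ) (a c : F) :
    QuadraticMap.polarBilin (minusForm k F a c) = Matrix.toBilin' (gramMinus k F a c) := by
  refine LinearMap.ext₂ fun u v => ?_
  rw [QuadraticMap.polarBilin_apply_apply, minusForm_coe]
  exact polar_quadFormMinus_eq_toBilin' k a c u v

theorem nondegenerate_plusForm (m : ℕ) :
    (QuadraticMap.polarBilin (plusForm m F)).Nondegenerate := by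
  rw [polarBilin_plusForm]
  apply LinearMap.BilinForm.nondegenerate_toBilin'_of_det_ne_zero'
  rw [det_gramPlus]
  exact pow_ne_zero _ (neg_ne_zero.2 one_ne_zero)

theorem nondegenerate_minusForm (k : ℕ) (a c : F) (hD : a ^ 2 - 4 * c ≠ 0) :
    (QuadraticMap.polarBilin (minusForm k F a c)).Nondegenerate := by
  rw [polarBilin_minusForm]
  apply LinearMap.BilinForm.nondegenerate_toBilin'_of_det_ne_zero'
  rw [det_gramMinus]
  exact mul_ne_zero (pow_ne_zero _ (neg_ne_zero.2 one_ne_zero)) hD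

theorem finrank_sum_fun (α β : Type*) [Fintype α] [Fintype β] :
    Module.finrank F (α ⊕ β → F) = Fintype.card α + Fintype.card β := by
  rw [Module.finrank_pi, Fintype.card_sum]

/-- `-1 ∈ Ω⁺_{2m}(q)` iff `q^m ≡ 1 (mod 4)`. -/
theorem exists_neg_one_mem_Omega_plus_iff [Fintype F] {q : ℕ} (hF : Fintype.card F = q)
    (hodd : Odd q) (m : ℕ) :
    (∃ g : Cfsg.isometryGroup F (quadFormPlus m F), g ∈ Cfsg.Omega F (quadFormPlus m F) ∧
      ((g : Matrix.GeneralLinearGroup (Fin m ⊕ Fin m) F) : Matrix (Fin m ⊕ Fin m) (Fin m ⊕ Fin m) F)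
        = -1) ↔ q ^ m % 4 = 1 := by
  have h2 : (2 : F) ≠ 0 := two_ne_zero_of_odd_card hF hodd
  have he : Even (Module.finrank F (Fin m ⊕ Fin m → F)) := by
    rw [finrank_sum_fun, Fintype.card_fin]
    exact ⟨m, rfl⟩
  have h := exists_neg_one_mem_Omega_iff (plusForm m F) h2 he (nondegenerate_plusForm m)
  rw [polarBilin_plusForm, LinearMap.BilinForm.toMatrix'_toBilin', det_gramPlus,
    isSquare_neg_one_pow_iff_mod_four hF hodd] at h
  exact h

/-- `-1 ∈ Ω⁻_{2m}(q)` iff `q^m ≡ 3 (mod 4)`. -/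
theorem exists_neg_one_mem_Omega_minus_iff [Fintype F] {q : ℕ} (hF : Fintype.card F = q)
    (hodd : Odd q) (m : ℕ) (hm : 1 ≤ m) (a b : F)
    (hab : ∀ z₁ z₂ : F, z₁ ^ 2 + a * z₁ * z₂ + b * z₂ ^ 2 = 0 → z₁ = 0 ∧ z₂ = 0) :
    (∃ g : Cfsg.isometryGroup F (quadFormMinus (m - 1) F a b),
      g ∈ Cfsg.Omega F (quadFormMinus (m - 1) F a b) ∧
      ((g : Matrix.GeneralLinearGroup ((Fin (m - 1) ⊕ Fin (m - 1)) ⊕ Fin 2) F) :
        Matrix ((Fin (m - 1) ⊕ Fin (m - 1)) ⊕ Fin 2) ((Fin (m - 1) ⊕ Fin (m - 1)) ⊕ Fin 2) F)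
        = -1) ↔ q ^ m % 4 = 3 := by
  have h2 : (2 : F) ≠ 0 := two_ne_zero_of_odd_card hF hodd
  have hD : ¬ IsSquare (a ^ 2 - 4 * b) := not_isSquare_disc_of_anisotropic h2 a b hab
  have hD0 : a ^ 2 - 4 * b ≠ 0 := by
    intro h0
    exact hD ⟨0, by rw [h0, mul_zero]⟩
  have he : Even (Module.finrank F ((Fin (m - 1) ⊕ Fin (m - 1)) ⊕ Fin 2 → F)) := by
    rw [finrank_sum_fun, Fintype.card_sum, Fintype.card_fin, Fintype.card_fin]
    exact ⟨m - 1 + 1, by ring⟩
  have h := exists_neg_one_mem_Omega_iff (minusForm (m - 1) F a b) h2 he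
    (nondegenerate_minusForm (m - 1) a b hD0)
  have hm1 : m - 1 + 1 = m := Nat.sub_add_cancel hm
  rw [polarBilin_minusForm, LinearMap.BilinForm.toMatrix'_toBilin', det_gramMinus, hm1,
    isSquare_mul_nonsquare_iff (pow_ne_zero _ (neg_ne_zero.2 one_ne_zero)) hD,
    isSquare_neg_one_pow_iff_mod_four hF hodd] at h
  rw [show (quadFormMinus (m - 1) F a b) = ⇑(minusForm (m - 1) F a b) from rfl, h]
  -- `q^m` is odd, so `q^m % 4` is `1` or `3`
  have hq4 : q ^ m % 4 = 1 ∨ q ^ m % 4 = 3 := by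
    have : Odd (q ^ m) := hodd.pow
    obtain ⟨k, hk⟩ := this
    omega
  omega

end Cfsg.Agent.Helper44
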