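/-
helper44: realising polynomials as characteristic polynomials of elements of odd prime order of the
isometry group of an even-dimensional quadratic form of given type.
-/
import Mathlib
import Cfsg.Agent.Helper44.OrthRealizeB
import Cfsg.Agent.Helper44.QTypeFpf
import Cfsg.Agent.Helper44.IsoTransport
import Cfsg.Agent.Helper44.StdNondeg

set_option autoImplicit false

namespace Cfsg.Agent.Helper44.QType

open Polynomial Matrix QuadraticMap Cfsg Cfsg.Agent.Helper44

universe u

section aux

variable {F : Type u} [Field F]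

theorem nondeg_iff {V : Type*} [AddCommGroup V] [Module F V] (Q : QuadraticForm F V) :
    (polarBilin Q).Nondegenerate ↔ ∀ x, (∀ y, polar Q x y = 0) → x = 0 := by
  constructor
  · intro h x hx
    exact h.1 x hx
  · intro h
    constructor
    · intro x hx
      exact h x hx
    · intro y hy
      apply h y
      intro x
      rw [polar_comm]
      exact hy x

variable {ι κ : Type} [Fintype ι] [DecidableEq ι] [Fintype κ] [DecidableEq κ]

theorem charpoly_isoTransport (Q₁ : (ι → F) → F) (Q₂ : (κ → F) → F)
    (C : (ι → F) ≃ₗ[F] (κ → F)) (hC : ∀ w, Q₂ (C w) = Q₁ w) (g : Cfsg.isometryGroup F Q₁) :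
    ((isoTransport Q₁ Q₂ C hC g).1 : Matrix κ κ F).charpoly = (g.1 : Matrix ι ι F).charpoly := by
  show (conjMatAlgEquiv C (g.1 : Matrix ι ι F)).charpoly = _
  have h1 : conjMatAlgEquiv C (g.1 : Matrix ι ι F)
      = LinearMap.toMatrix' (C.conj (Matrix.toLin' (g.1 : Matrix ι ι F))) := rfl
  rw [h1, ← Matrix.charpoly_toLin', Matrix.toLin'_toMatrix', LinearEquiv.charpoly_conj,
    Matrix.charpoly_toLin']

theorem isoTransport_injective (Q₁ : (ι → F) → F) (Q₂ : (κ → F) → F)
    (C : (ι → F) ≃ₗ[F] (κ → F)) (hC : ∀ w, Q₂ (C w) = Q₁ w) :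
    Function.Injective (isoTransport Q₁ Q₂ C hC) := by
  intro g h hgh
  apply Subtype.ext
  apply Units.ext
  apply Matrix.mulVec_injective
  funext v
  have h1 := isoTransport_mulVec Q₁ Q₂ C hC g (C v)
  have h2 := isoTransport_mulVec Q₁ Q₂ C hC h (C v)
  rw [hgh, h2, LinearEquiv.symm_apply_apply] at h1
  exact (C.injective h1).symm

end aux

section zeta

variable {F : Type u} [Field F] [Fintype F]

theorem exists_irred_param : ∃ ζ : F, (∀ t : F, t ^ 2 + t + ζ ≠ 0) ∧ (1 : F) ^ 2 - 4 * ζ ≠ 0 := by
  classical
  have hninj : ¬ Function.Injective (fun t : F => t ^ 2 + t) := by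
    intro h
    have : (0 : F) = -1 := h (by simp)
    exact one_ne_zero (neg_eq_zero.mp this.symm)
  have hnsurj : ¬ Function.Surjective (fun t : F => t ^ 2 + t) :=
    fun h => hninj (Finite.injective_iff_surjective.mpr h)
  rw [Function.Surjective] at hnsurj
  push Not at hnsurj
  obtain ⟨c, hc⟩ := hnsurj
  refine ⟨-c, ?_, ?_⟩
  · intro t ht
    apply hc t
    show t ^ 2 + t = c
    linear_combination ht
  · intro h
    by_cases h2 : (2 : F) = 0
    · have h4 : (4 : F) = 0 := by
        have : (4 : F) = 2 * 2 := by norm_num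
        rw [this, h2, mul_zero]
      rw [h4, zero_mul, sub_zero, one_pow] at h
      exact one_ne_zero h
    · apply hc (-(1 / 2))
      show (-(1 / 2) : F) ^ 2 + -(1 / 2) = c
      field_simp
      linear_combination -h

end zeta

end Cfsg.Agent.Helper44.QType
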