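import Mathlib

set_option autoImplicit false

namespace Cfsg.Agent.Helper44

open Matrix

section TraceLemmas

variable {R : Type*} [CommRing R] [CharP R 2] {n : Type*} [Fintype n] [DecidableEq n]

/-- symmetric with zero diagonal -/
def IsAlt2 (S : Matrix n n R) : Prop := Sᵀ = S ∧ ∀ i, S i i = 0

theorem IsAlt2.transpose {S : Matrix n n R} (h : IsAlt2 S) : IsAlt2 Sᵀ := by
  rw [h.1]
  exact h

theorem trace_mul_eq_zero_of_isAlt2 {S T : Matrix n n R} (hS : IsAlt2 S) (hT : IsAlt2 T) :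
    trace (S * T) = 0 := by
  have h1 : trace (S * T) = ∑ p ∈ (Finset.univ : Finset (n × n)), S p.1 p.2 * T p.1 p.2 := by
    rw [Matrix.trace, ← Finset.univ_product_univ, Finset.sum_product]
    refine Finset.sum_congr rfl fun i _ => ?_
    rw [Matrix.diag_apply, Matrix.mul_apply]
    refine Finset.sum_congr rfl fun j _ => ?_
    have : T j i = T i j := by
      have := congrFun (congrFun hT.1 i) j
      rw [Matrix.transpose_apply] at this
      exact this
    rw [this]
  rw [h1]
  apply Finset.sum_ninvolution (fun p : n × n => (p.2, p.1))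
  · intro p
    have h2 : S p.2 p.1 = S p.1 p.2 := by
      have := congrFun (congrFun hS.1 p.1) p.2
      rw [Matrix.transpose_apply] at this
      exact this
    have h3 : T p.2 p.1 = T p.1 p.2 := by
      have := congrFun (congrFun hT.1 p.1) p.2
      rw [Matrix.transpose_apply] at this
      exact this
    simp only
    rw [h2, h3]
    exact CharTwo.add_self_eq_zero _
  · intro p hp hpp
    apply hp
    have h4 : p.2 = p.1 := congrArg Prod.fst hpp
    rw [h4, hS.2, zero_mul]
  · intro p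
    exact Finset.mem_univ _
  · intro p
    rfl

omit [Fintype n] [DecidableEq n] in
theorem mat_add_self (M : Matrix n n R) : M + M = 0 := by
  ext i j
  exact CharTwo.add_self_eq_zero _

/-- the key trace identity behind the additivity of the Dickson invariant -/
theorem dickson_add_aux (A B C D A' B' C' D' : Matrix n n R)
    (h1 : IsAlt2 (Aᵀ * C)) (h2 : IsAlt2 (Bᵀ * D)) (h3 : Aᵀ * D + Cᵀ * B = 1)
    (h1' : IsAlt2 (A' * B'ᵀ)) (h2' : IsAlt2 (C' * D'ᵀ)) (h3' : A' * D'ᵀ + B' * C'ᵀ = 1) :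
    trace ((A * B' + B * D')ᵀ * (C * A' + D * C')) = trace (Bᵀ * C) + trace (B'ᵀ * C') := by
  have e3 : Aᵀ * D = 1 + Cᵀ * B := by
    rw [← h3, add_assoc, mat_add_self, add_zero]
  have e3' : A' * D'ᵀ = 1 + B' * C'ᵀ := by
    rw [← h3', add_assoc, mat_add_self, add_zero]
  have t1 : trace (B'ᵀ * Aᵀ * (C * A')) = 0 := by
    have : B'ᵀ * Aᵀ * (C * A') = B'ᵀ * (Aᵀ * C) * A' := by simp only [Matrix.mul_assoc]
    rw [this, Matrix.trace_mul_cycle, Matrix.trace_mul_comm]
    exact trace_mul_eq_zero_of_isAlt2 h1 h1'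
  have t4 : trace (D'ᵀ * Bᵀ * (D * C')) = 0 := by
    have : D'ᵀ * Bᵀ * (D * C') = D'ᵀ * (Bᵀ * D) * C' := by simp only [Matrix.mul_assoc]
    rw [this, Matrix.trace_mul_cycle, Matrix.trace_mul_comm]
    exact trace_mul_eq_zero_of_isAlt2 h2 h2'
  have t2 : trace (B'ᵀ * Aᵀ * (D * C')) = trace (B'ᵀ * C') + trace (Cᵀ * B * (C' * B'ᵀ)) := by
    have : B'ᵀ * Aᵀ * (D * C') = B'ᵀ * (Aᵀ * D) * C' := by simp only [Matrix.mul_assoc]
    rw [this, e3, Matrix.trace_mul_cycle, Matrix.trace_mul_comm, Matrix.add_mul,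
      Matrix.one_mul, Matrix.trace_add, Matrix.trace_mul_comm C' B'ᵀ]
  have t3 : trace (D'ᵀ * Bᵀ * (C * A')) = trace (Bᵀ * C) + trace (Cᵀ * B * (C' * B'ᵀ)) := by
    have : D'ᵀ * Bᵀ * (C * A') = D'ᵀ * (Bᵀ * C) * A' := by simp only [Matrix.mul_assoc]
    rw [this, Matrix.trace_mul_cycle, Matrix.trace_mul_comm, e3', Matrix.mul_add,
      Matrix.mul_one, Matrix.trace_add]
    congr 1
    rw [← Matrix.trace_transpose]
    simp only [Matrix.transpose_mul, Matrix.transpose_transpose]
    rw [Matrix.trace_mul_comm]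
  simp only [Matrix.transpose_add, Matrix.transpose_mul, Matrix.add_mul, Matrix.mul_add,
    Matrix.trace_add]
  rw [t1, t2, t3, t4]
  have := CharTwo.add_self_eq_zero (trace (Cᵀ * B * (C' * B'ᵀ)))
  linear_combination this

end TraceLemmas

end Cfsg.Agent.Helper44
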