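import Mathlib
import Cfsg.Agent.Helper5.SLn
import Cfsg.Agent.Helper44.OrthSum

set_option autoImplicit false

namespace Cfsg.Agent.Helper44

open Matrix
open scoped commutatorElement

variable {ι F : Type*} [DecidableEq ι] [Fintype ι] [Field F]

/-- the diagonal matrix with `t` at `i` and `1` elsewhere, in `GL` -/
noncomputable def diagAt (i : ι) (t : F) (ht : t ≠ 0) : GL ι F :=
  ⟨diagonal (fun k => if k = i then t else 1), diagonal (fun k => if k = i then t⁻¹ else 1), by
    rw [diagonal_mul_diagonal, ← diagonal_one]
    congr 1
    funext k
    split_ifs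
    · exact mul_inv_cancel₀ ht
    · exact mul_one 1, by
    rw [diagonal_mul_diagonal, ← diagonal_one]
    congr 1
    funext k
    split_ifs
    · exact inv_mul_cancel₀ ht
    · exact mul_one 1⟩

theorem diagAt_mul_transvection {i j : ι} (hij : i ≠ j) (t : F) (ht : t ≠ 0) (b : F) :
    diagAt i t ht * SpecialLinearGroup.toGL (SpecialLinearGroup.transvection hij b)
      = SpecialLinearGroup.toGL (SpecialLinearGroup.transvection hij (t * b)) * diagAt i t ht := by
  apply Units.ext
  show diagonal (fun k => if k = i then t else 1) * (1 + single i j b)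
    = (1 + single i j (t * b)) * diagonal (fun k => if k = i then t else 1)
  ext k l
  simp only [mul_add, add_mul, Matrix.add_apply,
    Matrix.diagonal_mul, Matrix.mul_diagonal, Matrix.single_apply]
  simp only [Matrix.one_apply]
  by_cases hk : i = k <;> by_cases hl : j = l <;> by_cases hkl : k = l <;>
    (try subst hk) <;> (try subst hl) <;> (try subst hkl) <;> simp_all [eq_comm]

theorem transvection_mem_commutator_GL {i j : ι} (hij : i ≠ j) (t : F) (ht : t ≠ 0) (ht1 : t ≠ 1)
    (a : F) :
    SpecialLinearGroup.toGL (SpecialLinearGroup.transvection hij a) ∈ commutator (GL ι F) := by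
  have ht1' : t - 1 ≠ 0 := sub_ne_zero.2 ht1
  set b := a / (t - 1) with hb
  have h1 : ⁅diagAt i t ht, SpecialLinearGroup.toGL (SpecialLinearGroup.transvection hij b)⁆
      = SpecialLinearGroup.toGL (SpecialLinearGroup.transvection hij a) := by
    have h2 : SpecialLinearGroup.transvection hij (t * b) * (SpecialLinearGroup.transvection hij b)⁻¹
        = SpecialLinearGroup.transvection hij a := by
      rw [SpecialLinearGroup.transvection_inv, ← SpecialLinearGroup.transvection_add]
      congr 1
      rw [hb]
      field_simp
      ring
    rw [commutatorElement_def, diagAt_mul_transvection, mul_assoc _ (diagAt i t ht),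
      mul_inv_cancel, mul_one, ← map_inv, ← map_mul, h2]
  rw [← h1, commutator_def]
  exact Subgroup.commutator_mem_commutator (Subgroup.mem_top _) (Subgroup.mem_top _)

theorem toGL_mem_commutator_GL [Fintype F] {m : ℕ} (h : Fintype.card F ≠ 2 ∨ m ≠ 2)
    (S : SpecialLinearGroup (Fin m) F) :
    SpecialLinearGroup.toGL S ∈ commutator (GL (Fin m) F) := by
  rcases Nat.lt_or_ge m 2 with hm | hm
  · -- `m ≤ 1`: `SL` is trivial
    have hS : S = 1 := by
      apply Subtype.ext
      ext i j
      interval_cases m
      · exact i.elim0
      · have hi : i = 0 := Subsingleton.elim _ _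
        have hj : j = 0 := Subsingleton.elim _ _
        subst hi; subst hj
        have := S.2
        rw [Matrix.det_fin_one] at this
        simp [this]
    rw [hS, map_one]
    exact one_mem _
  · have : Nontrivial (Fin m) := Fin.nontrivial_iff_two_le.2 hm
    by_cases hq : Fintype.card F = 2
    · -- `q = 2`, so `m ≥ 3`
      have hm3 : 3 ≤ Fintype.card (Fin m) := by
        rw [Fintype.card_fin]
        rcases h with h | h
        · exact absurd hq h
        · omega
      have := Helper5.commutator_SL_eq_top_of_three_le (F := F) hm3
      have hS : S ∈ commutator (SpecialLinearGroup (Fin m) F) := by rw [this]; exact Subgroup.mem_top _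
      exact map_mem_commutator _ hS
    · -- `q ≥ 3`: there is `t ≠ 0, 1`
      obtain ⟨t, ht0, ht1⟩ : ∃ t : F, t ≠ 0 ∧ t ≠ 1 := by
        classical
        by_contra hcon
        push Not at hcon
        have h1 : (Finset.univ : Finset F) ⊆ {0, 1} := by
          intro x _
          by_cases hx : x = 0
          · simp [hx]
          · simp [hcon x hx]
        have h2 := Finset.card_le_card h1
        rw [Finset.card_univ] at h2
        have h3 : ({0, 1} : Finset F).card ≤ 2 := Finset.card_le_two
        have h4 : 1 < Fintype.card F := Fintype.one_lt_card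
        omega
      exact Helper5.transvection_induction
        (fun S => SpecialLinearGroup.toGL S ∈ commutator (GL (Fin m) F))
        (fun i j hij a => transvection_mem_commutator_GL hij t ht0 ht1 a)
        (fun A B hA hB => by rw [map_mul]; exact mul_mem hA hB) S

/-- In `GL_m(F)`, `F` finite, `(|F|, m) ≠ (2, 2)`: every matrix of determinant one is in the commutator
subgroup. -/
theorem mem_commutator_GL_of_det_eq_one [Fintype F] {m : ℕ} (h : Fintype.card F ≠ 2 ∨ m ≠ 2)
    (A : GL (Fin m) F) (hA : (A : Matrix (Fin m) (Fin m) F).det = 1) :
    A ∈ commutator (GL (Fin m) F) := by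
  have hAS : A = SpecialLinearGroup.toGL ⟨A.1, hA⟩ := Units.ext rfl
  rw [hAS]
  exact toGL_mem_commutator_GL h _

end Cfsg.Agent.Helper44
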