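import Mathlib
import Cfsg.Prelude.Def_ClassicalGeometry
import Cfsg.Agent.Helper44.GLcomm
import Cfsg.Agent.Helper44.StdHyp

set_option autoImplicit false

namespace Cfsg.Agent.Helper44

open Matrix
open scoped commutatorElement

variable {F : Type*} [Field F] {m : ℕ}

/-- `A ↦ diag(A, A⁻ᵀ)` as a matrix -/
def plusEmbedMat (A : GL (Fin m) F) : Matrix (Fin m ⊕ Fin m) (Fin m ⊕ Fin m) F :=
  Matrix.fromBlocks (A : Matrix (Fin m) (Fin m) F) 0 0 ((A⁻¹ : GL (Fin m) F) : Matrix (Fin m) (Fin m) F)ᵀ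

theorem plusEmbedMat_mul (A B : GL (Fin m) F) :
    plusEmbedMat (A * B) = plusEmbedMat A * plusEmbedMat B := by
  unfold plusEmbedMat
  rw [Matrix.fromBlocks_multiply]
  simp only [Matrix.mul_zero, Matrix.zero_mul, add_zero, zero_add, _root_.mul_inv_rev, Units.val_mul,
    Matrix.transpose_mul]

theorem plusEmbedMat_one : plusEmbedMat (1 : GL (Fin m) F) = 1 := by
  unfold plusEmbedMat
  simp

/-- `A ↦ diag(A, A⁻ᵀ)` into `GL` -/
def plusEmbedGL : GL (Fin m) F →* GL (Fin m ⊕ Fin m) F where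
  toFun A := ⟨plusEmbedMat A, plusEmbedMat A⁻¹, by rw [← plusEmbedMat_mul, mul_inv_cancel, plusEmbedMat_one],
    by rw [← plusEmbedMat_mul, inv_mul_cancel, plusEmbedMat_one]⟩
  map_one' := Units.ext plusEmbedMat_one
  map_mul' A B := Units.ext (plusEmbedMat_mul A B)

theorem plusEmbedGL_coe (A : GL (Fin m) F) :
    ((plusEmbedGL A : GL (Fin m ⊕ Fin m) F) : Matrix _ _ F) = plusEmbedMat A := rfl

theorem quadFormPlus_eq_dotProduct (v : Fin m ⊕ Fin m → F) :
    quadFormPlus m F v = (v ∘ Sum.inl) ⬝ᵥ (v ∘ Sum.inr) := rfl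

theorem plusEmbedGL_mem (A : GL (Fin m) F) :
    plusEmbedGL A ∈ Cfsg.isometryGroup F (quadFormPlus m F) := by
  rw [Helper13.mem_isometryGroup_iff]
  intro u
  rw [plusEmbedGL_coe, plusEmbedMat, quadFormPlus_eq_dotProduct, quadFormPlus_eq_dotProduct,
    Matrix.fromBlocks_mulVec]
  simp only [Matrix.zero_mulVec, add_zero, zero_add]
  have h1 : (Sum.elim ((A : Matrix (Fin m) (Fin m) F) *ᵥ (u ∘ Sum.inl))
      (((A⁻¹ : GL (Fin m) F) : Matrix (Fin m) (Fin m) F)ᵀ *ᵥ (u ∘ Sum.inr))) ∘ Sum.inl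
      = (A : Matrix (Fin m) (Fin m) F) *ᵥ (u ∘ Sum.inl) := rfl
  have h2 : (Sum.elim ((A : Matrix (Fin m) (Fin m) F) *ᵥ (u ∘ Sum.inl))
      (((A⁻¹ : GL (Fin m) F) : Matrix (Fin m) (Fin m) F)ᵀ *ᵥ (u ∘ Sum.inr))) ∘ Sum.inr
      = ((A⁻¹ : GL (Fin m) F) : Matrix (Fin m) (Fin m) F)ᵀ *ᵥ (u ∘ Sum.inr) := rfl
  rw [h1, h2, Matrix.mulVec_transpose, dotProduct_comm, ← Matrix.dotProduct_mulVec,
    Matrix.mulVec_mulVec, ← Units.val_mul, inv_mul_cancel, Units.val_one, Matrix.one_mulVec,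
    dotProduct_comm]

/-- `A ↦ diag(A, A⁻ᵀ)` into the isometry group of the plus form -/
def plusEmbed : GL (Fin m) F →* Cfsg.isometryGroup F (quadFormPlus m F) :=
  plusEmbedGL.codRestrict _ plusEmbedGL_mem

theorem plusEmbed_coe (A : GL (Fin m) F) :
    (((plusEmbed A : Cfsg.isometryGroup F (quadFormPlus m F)) : GL (Fin m ⊕ Fin m) F) : Matrix _ _ F)
      = plusEmbedMat A := rfl

theorem plusEmbed_coe' (A : GL (Fin m) F) :
    (((plusEmbed A : Cfsg.isometryGroup F (quadFormPlus m F)) : GL (Fin m ⊕ Fin m) F) : Matrix _ _ F)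
      = Matrix.fromBlocks (A : Matrix (Fin m) (Fin m) F) 0 0
          ((A : Matrix (Fin m) (Fin m) F)⁻¹).transpose := by
  rw [plusEmbed_coe, plusEmbedMat, Matrix.coe_units_inv]

/-- the swap of the two standard maximal totally singular subspaces -/
def swapMat (m : ℕ) (F : Type*) [Field F] : Matrix (Fin m ⊕ Fin m) (Fin m ⊕ Fin m) F :=
  Matrix.fromBlocks 0 1 1 0

theorem swapMat_mul_self : swapMat m F * swapMat m F = 1 := by
  unfold swapMat
  rw [Matrix.fromBlocks_multiply]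
  simp

/-- the swap as an element of `GL` -/
def swapGL (m : ℕ) (F : Type*) [Field F] : GL (Fin m ⊕ Fin m) F :=
  ⟨swapMat m F, swapMat m F, swapMat_mul_self, swapMat_mul_self⟩

theorem swapGL_mem : swapGL m F ∈ Cfsg.isometryGroup F (quadFormPlus m F) := by
  rw [Helper13.mem_isometryGroup_iff]
  intro u
  show quadFormPlus m F (swapMat m F *ᵥ u) = quadFormPlus m F u
  rw [swapMat, quadFormPlus_eq_dotProduct, quadFormPlus_eq_dotProduct, Matrix.fromBlocks_mulVec]
  simp only [Matrix.zero_mulVec, Matrix.one_mulVec, add_zero, zero_add]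
  exact dotProduct_comm _ _

/-- the swap as an isometry -/
def swapIso (m : ℕ) (F : Type*) [Field F] : Cfsg.isometryGroup F (quadFormPlus m F) :=
  ⟨swapGL m F, swapGL_mem⟩

/-- transpose in `GL` -/
def transposeGL (A : GL (Fin m) F) : GL (Fin m) F :=
  ⟨(A : Matrix (Fin m) (Fin m) F)ᵀ, ((A⁻¹ : GL (Fin m) F) : Matrix (Fin m) (Fin m) F)ᵀ, by
    rw [← Matrix.transpose_mul, ← Units.val_mul, inv_mul_cancel, Units.val_one, Matrix.transpose_one], by
    rw [← Matrix.transpose_mul, ← Units.val_mul, mul_inv_cancel, Units.val_one, Matrix.transpose_one]⟩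

theorem swapIso_conj (A : GL (Fin m) F) :
    swapIso m F * plusEmbed A⁻¹ * (swapIso m F)⁻¹ = plusEmbed (transposeGL A) := by
  have hinv : (swapIso m F)⁻¹ = swapIso m F := by
    apply inv_eq_of_mul_eq_one_left
    apply Subtype.ext
    apply Units.ext
    exact swapMat_mul_self
  rw [hinv]
  apply Subtype.ext
  apply Units.ext
  show swapMat m F * plusEmbedMat A⁻¹ * swapMat m F = plusEmbedMat (transposeGL A)
  unfold swapMat plusEmbedMat
  rw [Matrix.fromBlocks_multiply, Matrix.fromBlocks_multiply]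
  simp only [Matrix.mul_zero, Matrix.zero_mul, add_zero, zero_add, Matrix.one_mul, Matrix.mul_one,
    inv_inv]
  rfl

/-- `diag(A Aᵀ, (A Aᵀ)⁻ᵀ)` is a commutator in the isometry group. -/
theorem plusEmbed_mul_transpose_mem_Omega (A : GL (Fin m) F) :
    plusEmbed (A * transposeGL A) ∈ Cfsg.Omega F (quadFormPlus m F) := by
  have h : plusEmbed (A * transposeGL A) = ⁅plusEmbed A, swapIso m F⁆ := by
    rw [commutatorElement_def, map_mul, ← swapIso_conj, map_inv]
    group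
  rw [h]
  show _ ∈ commutator _
  rw [commutator_def]
  exact Subgroup.commutator_mem_commutator (Subgroup.mem_top _) (Subgroup.mem_top _)

theorem plusEmbed_mem_Omega_of_det_eq_one [Fintype F] (h : Fintype.card F ≠ 2 ∨ m ≠ 2)
    (A : GL (Fin m) F) (hA : (A : Matrix (Fin m) (Fin m) F).det = 1) :
    plusEmbed A ∈ Cfsg.Omega F (quadFormPlus m F) :=
  map_mem_commutator plusEmbed (mem_commutator_GL_of_det_eq_one h A hA)

end Cfsg.Agent.Helper44
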