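import Mathlib
import Cfsg.Prelude.Def_ClassicalGeometry
import Cfsg.Agent.Helper44.DicksonTrace
import Cfsg.Agent.Helper44.StdNondeg
import Cfsg.Agent.Helper44.PlusEmbed

set_option autoImplicit false

namespace Cfsg.Agent.Helper44

open Matrix

variable {F : Type*} [Field F] {m : ℕ}

/-- block relations satisfied by an isometry of the plus form -/
structure PlusRel (A B C D : Matrix (Fin m) (Fin m) F) : Prop where
  r1s : Cᵀ * A + Aᵀ * C = 0
  r1d : ∀ i, (Aᵀ * C) i i = 0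
  r2s : Dᵀ * B + Bᵀ * D = 0
  r2d : ∀ i, (Bᵀ * D) i i = 0
  r3 : Cᵀ * B + Aᵀ * D = 1

theorem plusRel_of_isometry (M : Matrix (Fin m ⊕ Fin m) (Fin m ⊕ Fin m) F)
    (hM : ∀ v, quadFormPlus m F (M *ᵥ v) = quadFormPlus m F v) :
    PlusRel M.toBlocks₁₁ M.toBlocks₁₂ M.toBlocks₂₁ M.toBlocks₂₂ := by
  have h1 := Helper13.transpose_mul_polarMatrix_mul (plusForm m F) M hM
  rw [polarBilin_plusForm, LinearMap.BilinForm.toMatrix'_toBilin', gramPlus] at h1
  have hMb : M = fromBlocks M.toBlocks₁₁ M.toBlocks₁₂ M.toBlocks₂₁ M.toBlocks₂₂ :=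
    (Matrix.fromBlocks_toBlocks M).symm
  set A := M.toBlocks₁₁
  set B := M.toBlocks₁₂
  set C := M.toBlocks₂₁
  set D := M.toBlocks₂₂
  rw [hMb, Matrix.fromBlocks_transpose, Matrix.fromBlocks_multiply, Matrix.fromBlocks_multiply] at h1
  simp only [Matrix.mul_zero, Matrix.mul_one, zero_add, add_zero] at h1
  rw [Matrix.fromBlocks_inj] at h1
  obtain ⟨e1, e2, e3, e4⟩ := h1
  have hcolL : ∀ i : Fin m, (Aᵀ * C) i i = 0 := by
    intro i
    have h5 := hM (Pi.single (Sum.inl i) 1)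
    have h6 : quadFormPlus m F (Pi.single (Sum.inl i) 1) = 0 := by
      simp [quadFormPlus]
    rw [h6, Matrix.mulVec_single_one] at h5
    rw [← h5, Matrix.mul_apply]
    simp only [quadFormPlus, Matrix.transpose_apply]
    rfl
  have hcolR : ∀ i : Fin m, (Bᵀ * D) i i = 0 := by
    intro i
    have h5 := hM (Pi.single (Sum.inr i) 1)
    have h6 : quadFormPlus m F (Pi.single (Sum.inr i) 1) = 0 := by
      simp [quadFormPlus]
    rw [h6, Matrix.mulVec_single_one] at h5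
    rw [← h5, Matrix.mul_apply]
    simp only [quadFormPlus, Matrix.transpose_apply]
    rfl
  exact ⟨e1, hcolL, e4, hcolR, e2⟩

/-- the inverse of a plus-isometry `M` is `G Mᵀ G` -/
theorem inv_blocks_of_isometry (M N : Matrix (Fin m ⊕ Fin m) (Fin m ⊕ Fin m) F)
    (hM : ∀ v, quadFormPlus m F (M *ᵥ v) = quadFormPlus m F v) (hMN : M * N = 1) :
    N = fromBlocks M.toBlocks₂₂ᵀ M.toBlocks₁₂ᵀ M.toBlocks₂₁ᵀ M.toBlocks₁₁ᵀ := by
  have h1 := Helper13.transpose_mul_polarMatrix_mul (plusForm m F) M hM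
  rw [polarBilin_plusForm, LinearMap.BilinForm.toMatrix'_toBilin', gramPlus] at h1
  have hG : (fromBlocks 0 1 1 0 : Matrix (Fin m ⊕ Fin m) (Fin m ⊕ Fin m) F)
      * fromBlocks 0 1 1 0 = 1 := swapMat_mul_self
  have h2 : fromBlocks 0 1 1 0 * Mᵀ * fromBlocks 0 1 1 0 * M = 1 := by
    rw [Matrix.mul_assoc, Matrix.mul_assoc, ← Matrix.mul_assoc Mᵀ, h1, hG]
  have h3 : N = fromBlocks 0 1 1 0 * Mᵀ * fromBlocks 0 1 1 0 := by
    calc N = (fromBlocks 0 1 1 0 * Mᵀ * fromBlocks 0 1 1 0 * M) * N := by rw [h2, Matrix.one_mul]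
      _ = fromBlocks 0 1 1 0 * Mᵀ * fromBlocks 0 1 1 0 := by rw [Matrix.mul_assoc _ M N, hMN, Matrix.mul_one]
  rw [h3]
  conv_lhs => rw [(Matrix.fromBlocks_toBlocks M).symm]
  rw [Matrix.fromBlocks_transpose, Matrix.fromBlocks_multiply, Matrix.fromBlocks_multiply]
  simp only [Matrix.mul_zero, Matrix.mul_one, Matrix.zero_mul, Matrix.one_mul, zero_add, add_zero]

section CharTwo

variable [CharP F 2]

theorem PlusRel.alt1 {A B C D : Matrix (Fin m) (Fin m) F} (h : PlusRel A B C D) :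
    IsAlt2 (Aᵀ * C) := by
  refine ⟨?_, h.r1d⟩
  rw [Matrix.transpose_mul, Matrix.transpose_transpose]
  have := h.r1s
  calc Cᵀ * A = Cᵀ * A + (Aᵀ * C + Aᵀ * C) := by rw [mat_add_self, add_zero]
    _ = Aᵀ * C := by rw [← add_assoc, this, zero_add]

theorem PlusRel.alt2 {A B C D : Matrix (Fin m) (Fin m) F} (h : PlusRel A B C D) :
    IsAlt2 (Bᵀ * D) := by
  refine ⟨?_, h.r2d⟩
  rw [Matrix.transpose_mul, Matrix.transpose_transpose]
  have := h.r2s
  calc Dᵀ * B = Dᵀ * B + (Bᵀ * D + Bᵀ * D) := by rw [mat_add_self, add_zero]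
    _ = Bᵀ * D := by rw [← add_assoc, this, zero_add]

/-- the Dickson invariant of a matrix written in blocks -/
def dicksonMat (M : Matrix (Fin m ⊕ Fin m) (Fin m ⊕ Fin m) F) : F :=
  trace (M.toBlocks₁₂ᵀ * M.toBlocks₂₁)

theorem dicksonMat_mul (M M' N' : Matrix (Fin m ⊕ Fin m) (Fin m ⊕ Fin m) F)
    (hM : ∀ v, quadFormPlus m F (M *ᵥ v) = quadFormPlus m F v)
    (hN' : ∀ v, quadFormPlus m F (N' *ᵥ v) = quadFormPlus m F v)
    (hMN : N' * M' = 1) :
    dicksonMat (M * M') = dicksonMat M + dicksonMat M' := by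
  have hr := plusRel_of_isometry M hM
  have hrN := plusRel_of_isometry N' hN'
  have hM'b := inv_blocks_of_isometry N' M' hN' hMN
  -- blocks of `M'` in terms of blocks of `N'`
  set A := M.toBlocks₁₁
  set B := M.toBlocks₁₂
  set C := M.toBlocks₂₁
  set D := M.toBlocks₂₂
  set A'' := N'.toBlocks₁₁
  set B'' := N'.toBlocks₁₂
  set C'' := N'.toBlocks₂₁
  set D'' := N'.toBlocks₂₂
  have hprod : M * M' = fromBlocks (A * D''ᵀ + B * C''ᵀ) (A * B''ᵀ + B * A''ᵀ)
      (C * D''ᵀ + D * C''ᵀ) (C * B''ᵀ + D * A''ᵀ) := by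
    rw [hM'b]
    conv_lhs => rw [(Matrix.fromBlocks_toBlocks M).symm]
    rw [Matrix.fromBlocks_multiply]
  unfold dicksonMat
  rw [hprod, Matrix.toBlocks_fromBlocks₁₂, Matrix.toBlocks_fromBlocks₂₁, hM'b,
    Matrix.toBlocks_fromBlocks₁₂, Matrix.toBlocks_fromBlocks₂₁]
  -- relations for `M'`: rows
  have h1' : IsAlt2 (D''ᵀ * B''ᵀᵀ) := by
    rw [Matrix.transpose_transpose]
    have := hrN.alt2.transpose
    rwa [Matrix.transpose_mul, Matrix.transpose_transpose] at this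
  have h2' : IsAlt2 (C''ᵀ * A''ᵀᵀ) := by
    rw [Matrix.transpose_transpose]
    have := hrN.alt1.transpose
    rwa [Matrix.transpose_mul, Matrix.transpose_transpose] at this
  have h3' : D''ᵀ * A''ᵀᵀ + B''ᵀ * C''ᵀᵀ = 1 := by
    rw [Matrix.transpose_transpose, Matrix.transpose_transpose]
    have := congrArg Matrix.transpose hrN.r3
    simp only [Matrix.transpose_add, Matrix.transpose_mul, Matrix.transpose_transpose,
      Matrix.transpose_one] at this
    rw [add_comm]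
    exact this
  have h3 : Aᵀ * D + Cᵀ * B = 1 := by
    rw [add_comm]
    exact hr.r3
  exact dickson_add_aux A B C D (D''ᵀ) (B''ᵀ) (C''ᵀ) (A''ᵀ) hr.alt1 hr.alt2 h3 h1' h2' h3'

theorem dicksonMat_one : dicksonMat (1 : Matrix (Fin m ⊕ Fin m) (Fin m ⊕ Fin m) F) = 0 := by
  unfold dicksonMat
  rw [← Matrix.fromBlocks_one, Matrix.toBlocks_fromBlocks₁₂, Matrix.transpose_zero, Matrix.zero_mul,
    Matrix.trace_zero]

/-- **The Dickson invariant** of the plus form in characteristic two, `g ↦ tr(Bᵀ C)`, as a homomorphism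
to the additive group of `F`. -/
noncomputable def dicksonHom (m : ℕ) (F : Type*) [Field F] [CharP F 2] :
    Cfsg.isometryGroup F (quadFormPlus m F) →* Multiplicative F where
  toFun g := Multiplicative.ofAdd (dicksonMat (g.1 : Matrix (Fin m ⊕ Fin m) (Fin m ⊕ Fin m) F))
  map_one' := by
    show Multiplicative.ofAdd (dicksonMat (1 : Matrix (Fin m ⊕ Fin m) (Fin m ⊕ Fin m) F)) = 1
    rw [dicksonMat_one]
    rfl
  map_mul' g h := by
    show Multiplicative.ofAdd (dicksonMat ((g.1 : Matrix (Fin m ⊕ Fin m) (Fin m ⊕ Fin m) F)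
      * (h.1 : Matrix (Fin m ⊕ Fin m) (Fin m ⊕ Fin m) F))) = _
    rw [dicksonMat_mul _ _ ((h⁻¹).1 : Matrix (Fin m ⊕ Fin m) (Fin m ⊕ Fin m) F)
      (isometryGroup_apply g) (isometryGroup_apply h⁻¹)
      (by
        have : h⁻¹ * h = 1 := inv_mul_cancel h
        have h2 := congrArg (fun x : Cfsg.isometryGroup F (quadFormPlus m F) =>
          ((x.1 : GL (Fin m ⊕ Fin m) F) : Matrix (Fin m ⊕ Fin m) (Fin m ⊕ Fin m) F)) this
        exact h2)]
    rfl

theorem dicksonMat_eq_zero_of_mem_Omega {g : Cfsg.isometryGroup F (quadFormPlus m F)}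
    (hg : g ∈ Cfsg.Omega F (quadFormPlus m F)) :
    dicksonMat (g.1 : Matrix (Fin m ⊕ Fin m) (Fin m ⊕ Fin m) F) = 0 := by
  have h := hom_eq_one_of_mem_Omega (dicksonHom m F) hg
  exact h

end CharTwo

end Cfsg.Agent.Helper44
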