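import Mathlib
import Cfsg.Prelude.Def_ClassicalGeometry
import Cfsg.Agent.Helper44.Dickson
import Cfsg.Agent.Helper44.IsoTransport
import Cfsg.Agent.Helper44.OrthSumForm

/-!
# The Dickson invariant for an arbitrary non-degenerate form in characteristic two

`Q ⊕ Q` is isometric to the standard plus form (explicitly), so `O(Q) → O(Q ⊕ Q) ≅ O⁺` pulls the
Dickson invariant of the plus form back to `O(Q)`; every reflection has invariant `1`.
-/

set_option autoImplicit false

namespace Cfsg.Agent.Helper44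

open Matrix QuadraticMap

section reflplus

variable {F : Type*} [Field F] {m : ℕ}

theorem polarVec_plus_inl (w : Fin m ⊕ Fin m → F) (j : Fin m) :
    Cfsg.polarVec (quadFormPlus m F) w (Sum.inl j) = w (Sum.inr j) := by
  unfold Cfsg.polarVec
  rw [polar_quadFormPlus]
  simp [Pi.single_apply]

theorem polarVec_plus_inr (w : Fin m ⊕ Fin m → F) (j : Fin m) :
    Cfsg.polarVec (quadFormPlus m F) w (Sum.inr j) = w (Sum.inl j) := by
  unfold Cfsg.polarVec
  rw [polar_quadFormPlus]
  simp [Pi.single_apply]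

/-- the Dickson invariant of a reflection is `1` -/
theorem dicksonMat_reflectionMatrix (w : Fin m ⊕ Fin m → F) (hw : quadFormPlus m F w ≠ 0) :
    dicksonMat (Cfsg.reflectionMatrix (quadFormPlus m F) w) = 1 := by
  unfold dicksonMat
  have h12 : (Cfsg.reflectionMatrix (quadFormPlus m F) w).toBlocks₁₂
      = Matrix.of fun i j => -((quadFormPlus m F w)⁻¹ * (w (Sum.inl i) * w (Sum.inl j))) := by
    ext i j
    simp [Cfsg.reflectionMatrix, Matrix.toBlocks₁₂, Matrix.vecMulVec_apply, polarVec_plus_inr]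
  have h21 : (Cfsg.reflectionMatrix (quadFormPlus m F) w).toBlocks₂₁
      = Matrix.of fun i j => -((quadFormPlus m F w)⁻¹ * (w (Sum.inr i) * w (Sum.inr j))) := by
    ext i j
    simp [Cfsg.reflectionMatrix, Matrix.toBlocks₂₁, Matrix.vecMulVec_apply, polarVec_plus_inl]
  rw [h12, h21, Matrix.trace]
  simp only [Matrix.diag_apply, Matrix.mul_apply, Matrix.transpose_apply, Matrix.of_apply]
  have e : ∀ i k : Fin m, -((quadFormPlus m F w)⁻¹ * (w (Sum.inl k) * w (Sum.inl i)))
        * -((quadFormPlus m F w)⁻¹ * (w (Sum.inr k) * w (Sum.inr i)))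
      = (quadFormPlus m F w)⁻¹ * (quadFormPlus m F w)⁻¹
        * ((w (Sum.inl k) * w (Sum.inr k)) * (w (Sum.inl i) * w (Sum.inr i))) := by
    intro i k
    ring
  simp only [e]
  simp only [← Finset.mul_sum, ← Finset.sum_mul]
  have hq : ∑ i : Fin m, w (Sum.inl i) * w (Sum.inr i) = quadFormPlus m F w := rfl
  rw [hq]
  field_simp

end reflplus

section doubling

variable {F : Type*} [Field F] [CharP F 2] {ι : Type} [Fintype ι] [DecidableEq ι]

/-- `Q ⊕ Q` is isometric to the plus form on `ι ⊕ ι`, in characteristic two. -/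
theorem exists_doubling_aux (Q : QuadraticForm F (ι → F))
    (hQ : (QuadraticMap.polarBilin Q).Nondegenerate) :
    ∃ Ψ : (ι ⊕ ι → F) ≃ₗ[F] (ι ⊕ ι → F),
      ∀ v, ∑ i : ι, Ψ v (Sum.inl i) * Ψ v (Sum.inr i) = orthSum ⇑Q ⇑Q v := by
  obtain ⟨T, hT⟩ := LinearMap.BilinMap.toQuadraticMap_surjective Q
  have hTx : ∀ x, T x x = Q x := fun x => by
    rw [← hT, LinearMap.BilinMap.toQuadraticMap_apply]
  let L : (ι ⊕ ι → F) →ₗ[F] (ι → F) := LinearMap.funLeft F F Sum.inl
  let R : (ι ⊕ ι → F) →ₗ[F] (ι → F) := LinearMap.funLeft F F Sum.inr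
  let rmap : (ι ⊕ ι → F) →ₗ[F] (ι → F) :=
    LinearMap.pi fun i => (T.flip (Pi.single i 1)).comp (L + R)
      + ((QuadraticMap.polarBilin Q).flip (Pi.single i 1)).comp L
  let Ψ : (ι ⊕ ι → F) →ₗ[F] (ι ⊕ ι → F) :=
    LinearMap.pi fun k => Sum.elim (fun i => (LinearMap.proj i).comp (L + R))
      (fun i => (LinearMap.proj i).comp rmap) k
  have hΨl : ∀ v i, Ψ v (Sum.inl i) = v (Sum.inl i) + v (Sum.inr i) := fun v i => rfl
  have hΨr : ∀ v i, Ψ v (Sum.inr i)
      = T (v ∘ Sum.inl + v ∘ Sum.inr) (Pi.single i 1)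
        + polar ⇑Q (v ∘ Sum.inl) (Pi.single i 1) := fun v i => rfl
  have hinj : Function.Injective Ψ := by
    rw [← LinearMap.ker_eq_bot, LinearMap.ker_eq_bot']
    intro v hv
    have h1 : v ∘ Sum.inl + v ∘ Sum.inr = 0 := by
      funext i
      have := congrFun hv (Sum.inl i)
      rw [hΨl] at this
      exact this
    have h2 : ∀ i, polar ⇑Q (v ∘ Sum.inl) (Pi.single i 1) = 0 := by
      intro i
      have := congrFun hv (Sum.inr i)
      rw [hΨr, h1, map_zero, LinearMap.zero_apply, zero_add] at this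
      exact this
    have h3 : v ∘ Sum.inl = 0 := by
      apply hQ.1
      intro y
      have : QuadraticMap.polarBilin Q (v ∘ Sum.inl) = 0 := by
        apply (Pi.basisFun F ι).ext
        intro i
        rw [Pi.basisFun_apply, QuadraticMap.polarBilin_apply_apply, LinearMap.zero_apply]
        exact h2 i
      rw [this, LinearMap.zero_apply]
    have h4 : v ∘ Sum.inr = 0 := by
      rw [h3, zero_add] at h1
      exact h1
    funext k
    rcases k with i | i
    · exact congrFun h3 i
    · exact congrFun h4 i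
  refine ⟨LinearEquiv.ofInjectiveEndo Ψ hinj, ?_⟩
  intro v
  have hcoe : ∀ k, (LinearEquiv.ofInjectiveEndo Ψ hinj) v k = Ψ v k := fun k => rfl
  simp only [hcoe, hΨl, hΨr]
  set x := v ∘ Sum.inl with hx
  set y := v ∘ Sum.inr with hy
  have hs : ∀ i, v (Sum.inl i) + v (Sum.inr i) = (x + y) i := fun i => rfl
  simp only [hs]
  have hsum : ∑ i, (x + y) i • (Pi.single i (1 : F) : ι → F) = x + y := by
    have := (Pi.basisFun F ι).sum_repr (x + y)
    simpa using this
  have hlin : ∀ f : (ι → F) →ₗ[F] F, f (x + y) = ∑ i, (x + y) i * f (Pi.single i 1) := by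
    intro f
    have h0 := congrArg f hsum
    rw [map_sum] at h0
    rw [← h0]
    refine Finset.sum_congr rfl fun i _ => ?_
    rw [map_smul, smul_eq_mul]
  have h1 : ∑ i, (x + y) i * (T (x + y) (Pi.single i 1) + polar ⇑Q x (Pi.single i 1))
      = T (x + y) (x + y) + polar ⇑Q x (x + y) := by
    rw [hlin (T (x + y)), ← QuadraticMap.polarBilin_apply_apply, hlin (QuadraticMap.polarBilin Q x),
      ← Finset.sum_add_distrib]
    refine Finset.sum_congr rfl fun i _ => ?_
    rw [QuadraticMap.polarBilin_apply_apply]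
    ring
  rw [h1, hTx, polar_add_right, polar_self_charTwo, QuadraticMap.map_add ⇑Q]
  show Q x + Q y + polar ⇑Q x y + (0 + polar ⇑Q x y) = Q x + Q y
  rw [zero_add, add_assoc, CharTwo.add_self_eq_zero, add_zero]

/-- `Q ⊕ Q` is isometric to the standard plus form, in characteristic two. -/
theorem exists_doubling (Q : QuadraticForm F (ι → F))
    (hQ : (QuadraticMap.polarBilin Q).Nondegenerate) :
    ∃ C : (ι ⊕ ι → F) ≃ₗ[F] (Fin (Fintype.card ι) ⊕ Fin (Fintype.card ι) → F),
      ∀ v, quadFormPlus (Fintype.card ι) F (C v) = orthSum ⇑Q ⇑Q v := by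
  obtain ⟨Ψ, hΨ⟩ := exists_doubling_aux Q hQ
  let e : ι ≃ Fin (Fintype.card ι) := Fintype.equivFin ι
  let Rx : (ι ⊕ ι → F) ≃ₗ[F] (Fin (Fintype.card ι) ⊕ Fin (Fintype.card ι) → F) :=
    LinearEquiv.funCongrLeft F F (e.sumCongr e).symm
  refine ⟨Ψ.trans Rx, ?_⟩
  intro v
  rw [← hΨ v]
  unfold quadFormPlus
  have hRl : ∀ (w : ι ⊕ ι → F) (j : Fin (Fintype.card ι)), Rx w (Sum.inl j) = w (Sum.inl (e.symm j)) :=
    fun w j => rfl
  have hRr : ∀ (w : ι ⊕ ι → F) (j : Fin (Fintype.card ι)), Rx w (Sum.inr j) = w (Sum.inr (e.symm j)) :=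
    fun w j => rfl
  simp only [LinearEquiv.trans_apply, hRl, hRr]
  exact Equiv.sum_comp e.symm (fun i => Ψ v (Sum.inl i) * Ψ v (Sum.inr i))

end doubling

section gen

variable {F : Type*} [Field F] [CharP F 2] {ι : Type} [Fintype ι] [DecidableEq ι]

/-- **The Dickson invariant** of an arbitrary quadratic form with non-degenerate polar form in
characteristic two, with values in the additive group of `F` (it takes the values `0, 1`). -/
noncomputable def dicksonGen (Q : QuadraticForm F (ι → F))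
    (hQ : (QuadraticMap.polarBilin Q).Nondegenerate) :
    Cfsg.isometryGroup F ⇑Q →* Multiplicative F :=
  (dicksonHom (Fintype.card ι) F).comp
    ((isoTransport ⇑(orthSumForm Q Q) (quadFormPlus (Fintype.card ι) F)
      (Classical.choose (exists_doubling Q hQ)) (Classical.choose_spec (exists_doubling Q hQ))).comp
      (inlIso Q Q))

theorem dicksonHom_reflT {m : ℕ} (w : Fin m ⊕ Fin m → F) (hw : plusForm m F w ≠ 0) :
    dicksonHom m F (reflT (plusForm m F) w) = Multiplicative.ofAdd 1 := by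
  show Multiplicative.ofAdd (dicksonMat (((reflT (plusForm m F) w).1 : GL (Fin m ⊕ Fin m) F) :
    Matrix (Fin m ⊕ Fin m) (Fin m ⊕ Fin m) F)) = _
  rw [reflT_coe _ w hw]
  exact congrArg _ (dicksonMat_reflectionMatrix w hw)

theorem dicksonGen_reflT (Q : QuadraticForm F (ι → F))
    (hQ : (QuadraticMap.polarBilin Q).Nondegenerate) (u : ι → F) (hu : Q u ≠ 0) :
    dicksonGen Q hQ (reflT Q u) = Multiplicative.ofAdd 1 := by
  unfold dicksonGen
  rw [MonoidHom.comp_apply, MonoidHom.comp_apply, inlIso_reflT Q Q u hu]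
  have hu' : orthSumForm Q Q (Sum.elim u 0) ≠ 0 := by rw [orthSumForm_elim_zero]; exact hu
  have h1 := isoTransport_reflT (orthSumForm Q Q) (plusForm (Fintype.card ι) F)
    (Classical.choose (exists_doubling Q hQ)) (Classical.choose_spec (exists_doubling Q hQ))
    (Sum.elim u 0) hu'
  have h2 : plusForm (Fintype.card ι) F
      ((Classical.choose (exists_doubling Q hQ)) (Sum.elim u 0)) ≠ 0 := by
    have := Classical.choose_spec (exists_doubling Q hQ) (Sum.elim u 0)
    rw [plusForm_coe, this]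
    exact hu'
  have h3 := dicksonHom_reflT _ h2
  rw [← h1] at h3
  exact h3

theorem dicksonGen_prod_reflT (Q : QuadraticForm F (ι → F))
    (hQ : (QuadraticMap.polarBilin Q).Nondegenerate) (vs : List (ι → F))
    (hvs : ∀ x ∈ vs, Q x ≠ 0) :
    dicksonGen Q hQ (vs.map (reflT Q)).prod = Multiplicative.ofAdd (vs.length : F) := by
  induction vs with
  | nil => simp
  | cons a l ih =>
    rw [List.map_cons, List.prod_cons, map_mul, ih (fun x hx => hvs x (List.mem_cons_of_mem _ hx)),
      dicksonGen_reflT Q hQ a (hvs a List.mem_cons_self), ← ofAdd_add, List.length_cons]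
    push_cast
    rw [add_comm]

theorem even_length_of_prod_reflT_mem_Omega (Q : QuadraticForm F (ι → F))
    (hQ : (QuadraticMap.polarBilin Q).Nondegenerate) (vs : List (ι → F))
    (hvs : ∀ x ∈ vs, Q x ≠ 0) (hmem : (vs.map (reflT Q)).prod ∈ Cfsg.Omega F ⇑Q) :
    Even vs.length := by
  have h1 := hom_eq_one_of_mem_Omega (dicksonGen Q hQ) hmem
  rw [dicksonGen_prod_reflT Q hQ vs hvs] at h1
  have h2 : (vs.length : F) = 0 := h1
  rw [CharP.cast_eq_zero_iff F 2] at h2
  exact even_iff_two_dvd.2 h2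

/-- In characteristic two, a product of reflections lies in `Ω` iff the number of factors is even. -/
theorem prod_reflT_mem_Omega_iff_two [Finite F] (Q : QuadraticForm F (ι → F))
    (hQ : (QuadraticMap.polarBilin Q).Nondegenerate)
    (h : (∃ s : F, s ≠ 0 ∧ s ≠ 1) ∨ Fintype.card ι ≠ 4) (vs : List (ι → F))
    (hvs : ∀ x ∈ vs, Q x ≠ 0) :
    (vs.map (reflT Q)).prod ∈ Cfsg.Omega F ⇑Q ↔ Even vs.length :=
  ⟨even_length_of_prod_reflT_mem_Omega Q hQ vs hvs, prod_reflT_mem_Omega_two Q hQ h vs hvs⟩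

end gen

end Cfsg.Agent.Helper44
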