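import Mathlib
import Cfsg.Agent.Helper14.CharTwoRefl

/-!
# Parity of the intersection of maximal totally singular subspaces

In a non-degenerate quadratic space of dimension `2m`, for totally singular subspaces `U`, `W` of
dimension `m` and a reflection `r`, `dim (U ∩ r W) = dim (U ∩ W) ± 1`.  Hence for a product `g` of
`t` reflections, `dim (U ∩ g U) ≡ m + t (mod 2)`.
-/

set_option autoImplicit false

namespace Cfsg.Agent.Helper44

open Module QuadraticMap Cfsg.Agent.Helper14

variable {F V : Type*} [Field F] [AddCommGroup V] [Module F V]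

/-- a totally singular subspace -/
def IsTotSing (Q : QuadraticForm F V) (U : Submodule F V) : Prop := ∀ u ∈ U, Q u = 0

theorem IsTotSing.polar_eq_zero {Q : QuadraticForm F V} {U : Submodule F V} (hU : IsTotSing Q U)
    {x y : V} (hx : x ∈ U) (hy : y ∈ U) : polar ⇑Q x y = 0 := by
  unfold polar
  rw [hU _ (U.add_mem hx hy), hU x hx, hU y hy]
  ring

theorem qRefl_comp_self (Q : QuadraticForm F V) (v : V) (hv : Q v ≠ 0) :
    (qRefl Q v).comp (qRefl Q v) = LinearMap.id := by
  apply LinearMap.ext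
  intro x
  exact qRefl_qRefl Q v hv x

theorem qRefl_injective (Q : QuadraticForm F V) (v : V) (hv : Q v ≠ 0) :
    Function.Injective (qRefl Q v) := by
  intro x y hxy
  have := congrArg (qRefl Q v) hxy
  rwa [qRefl_qRefl Q v hv, qRefl_qRefl Q v hv] at this

theorem IsTotSing.map_qRefl {Q : QuadraticForm F V} {U : Submodule F V} (hU : IsTotSing Q U)
    (v : V) (hv : Q v ≠ 0) : IsTotSing Q (U.map (qRefl Q v)) := by
  rintro _ ⟨u, hu, rfl⟩
  rw [quad_qRefl Q v hv]
  exact hU u hu

theorem map_qRefl_map_qRefl (Q : QuadraticForm F V) (U : Submodule F V) (v : V) (hv : Q v ≠ 0) :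
    (U.map (qRefl Q v)).map (qRefl Q v) = U := by
  rw [← Submodule.map_comp, qRefl_comp_self Q v hv, Submodule.map_id]

theorem finrank_map_qRefl (Q : QuadraticForm F V) (U : Submodule F V) (v : V) (hv : Q v ≠ 0) :
    finrank F ↥(U.map (qRefl Q v)) = finrank F ↥U :=
  (Submodule.equivMapOfInjective (qRefl Q v) (qRefl_injective Q v hv) U).finrank_eq.symm

/-- the kernel of a functional not vanishing on `I` has codimension one in `I` -/
theorem finrank_inf_ker_add_one [FiniteDimensional F V] (φ : V →ₗ[F] F) (I : Submodule F V)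
    (h : ∃ y ∈ I, φ y ≠ 0) : finrank F ↥(I ⊓ LinearMap.ker φ) + 1 = finrank F ↥I := by
  obtain ⟨y, hy, hφ⟩ := h
  let ψ : ↥I →ₗ[F] F := φ.domRestrict I
  have hsurj : LinearMap.range ψ = ⊤ := by
    rw [LinearMap.range_eq_top]
    intro c
    refine ⟨(c / φ y) • ⟨y, hy⟩, ?_⟩
    show φ ((c / φ y) • y) = c
    rw [map_smul, smul_eq_mul, div_mul_cancel₀ _ hφ]
  have h1 := LinearMap.finrank_range_add_finrank_ker ψ
  rw [hsurj, finrank_top, finrank_self] at h1
  have h2 : (LinearMap.ker ψ).map I.subtype = I ⊓ LinearMap.ker φ := by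
    ext x
    constructor
    · rintro ⟨z, hz, rfl⟩
      exact ⟨z.2, hz⟩
    · rintro ⟨hx1, hx2⟩
      exact ⟨⟨x, hx1⟩, hx2, rfl⟩
  have h3 : finrank F ↥((LinearMap.ker ψ).map I.subtype) = finrank F ↥(LinearMap.ker ψ) :=
    Submodule.finrank_map_subtype_eq I _
  rw [← h2, h3]
  omega

variable (Q : QuadraticForm F V)

/-- Lemma A: if some vector of `U ⊓ W` is not orthogonal to `v`, reflecting `W` in `v` lowers the
dimension of the intersection by one. -/
theorem finrank_inf_map_qRefl_add_one [FiniteDimensional F V] {U W : Submodule F V}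
    (hU : IsTotSing Q U) (hW : IsTotSing Q W) (v : V) (hv : Q v ≠ 0)
    (h : ∃ y ∈ U ⊓ W, polar ⇑Q v y ≠ 0) :
    finrank F ↥(U ⊓ W.map (qRefl Q v)) + 1 = finrank F ↥(U ⊓ W) := by
  have key : U ⊓ W.map (qRefl Q v) = (U ⊓ W) ⊓ LinearMap.ker (QuadraticMap.polarBilin Q v) := by
    obtain ⟨y, hy, hφ⟩ := h
    ext x
    constructor
    · rintro ⟨hxU, w, hw, rfl⟩
      have h1 : polar ⇑Q (qRefl Q v w) y = 0 := hU.polar_eq_zero hxU hy.1
      have h2 : polar ⇑Q w y = 0 := hW.polar_eq_zero hw hy.2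
      rw [qRefl_apply, polar_sub_left, h2, polar_smul_left, zero_sub, neg_eq_zero, smul_eq_mul] at h1
      have h3 : (Q v)⁻¹ * QuadraticMap.polarBilin Q v w = 0 := (mul_eq_zero.1 h1).resolve_right hφ
      have h4 : QuadraticMap.polarBilin Q v w = 0 :=
        (mul_eq_zero.1 h3).resolve_left (inv_ne_zero hv)
      have h5 : qRefl Q v w = w := qRefl_of_ortho Q v w h4
      rw [h5] at hxU ⊢
      exact ⟨⟨hxU, hw⟩, h4⟩
    · rintro ⟨⟨hxU, hxW⟩, hx⟩
      refine ⟨hxU, x, hxW, qRefl_of_ortho Q v x hx⟩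
  rw [key]
  exact finrank_inf_ker_add_one (QuadraticMap.polarBilin Q v) (U ⊓ W) h

/-- Lemma B: one of the two intersections contains a vector not orthogonal to `v`. -/
theorem exists_polar_ne_zero_inf [FiniteDimensional F V]
    (hQ : (QuadraticMap.polarBilin Q).Nondegenerate) {U W : Submodule F V}
    (hU : IsTotSing Q U) (hW : IsTotSing Q W) {m : ℕ} (hUm : finrank F ↥U = m)
    (hWm : finrank F ↥W = m) (hV : finrank F V = 2 * m) (v : V) (hv : Q v ≠ 0) :
    (∃ y ∈ U ⊓ W, polar ⇑Q v y ≠ 0) ∨ (∃ y ∈ U ⊓ W.map (qRefl Q v), polar ⇑Q v y ≠ 0) := by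
  by_contra hcon
  push Not at hcon
  obtain ⟨h1, h2⟩ := hcon
  set B : LinearMap.BilinForm F V := QuadraticMap.polarBilin Q with hB
  have hvI : v ∈ B.orthogonal (U ⊓ W) := by
    rw [LinearMap.BilinForm.mem_orthogonal_iff]
    intro n hn
    show polar ⇑Q n v = 0
    rw [polar_comm]
    exact h1 n hn
  have hle : U ⊔ W ≤ B.orthogonal (U ⊓ W) := by
    rw [sup_le_iff]
    constructor
    · intro x hx
      rw [LinearMap.BilinForm.mem_orthogonal_iff]
      intro n hn
      exact hU.polar_eq_zero hn.1 hx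
    · intro x hx
      rw [LinearMap.BilinForm.mem_orthogonal_iff]
      intro n hn
      exact hW.polar_eq_zero hn.2 hx
  have hd1 := LinearMap.BilinForm.finrank_orthogonal hQ (U ⊓ W)
  have hd2 := Submodule.finrank_sup_add_finrank_inf_eq U W
  have hd3 : finrank F ↥(U ⊓ W) ≤ m := by
    rw [← hUm]
    exact Submodule.finrank_mono inf_le_left
  have heq : U ⊔ W = B.orthogonal (U ⊓ W) := by
    apply Submodule.eq_of_le_of_finrank_eq hle
    rw [hd1]
    omega
  rw [← heq, Submodule.mem_sup] at hvI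
  obtain ⟨u, hu, w, hw, rfl⟩ := hvI
  have hQv : Q (u + w) = polar ⇑Q u w := by
    rw [QuadraticMap.map_add ⇑Q, hU u hu, hW w hw, zero_add, zero_add]
  have hpw : QuadraticMap.polarBilin Q (u + w) w = Q (u + w) := by
    rw [QuadraticMap.polarBilin_apply_apply, polar_add_left, hW.polar_eq_zero hw hw, add_zero, hQv]
  have hr : qRefl Q (u + w) w = -u := by
    rw [qRefl_apply, hpw, inv_mul_cancel₀ hv, one_smul]
    abel
  have hu' : u ∈ U ⊓ W.map (qRefl Q (u + w)) := by
    refine ⟨hu, ?_⟩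
    have : -u ∈ W.map (qRefl Q (u + w)) := ⟨w, hw, hr⟩
    simpa using Submodule.neg_mem _ this
  have h3 := h2 u hu'
  rw [polar_add_left, hU.polar_eq_zero hu hu, zero_add, polar_comm, ← hQv] at h3
  exact hv h3

/-- the parity lemma for one reflection -/
theorem odd_finrank_inf_map_qRefl [FiniteDimensional F V]
    (hQ : (QuadraticMap.polarBilin Q).Nondegenerate) {U W : Submodule F V}
    (hU : IsTotSing Q U) (hW : IsTotSing Q W) {m : ℕ} (hUm : finrank F ↥U = m)
    (hWm : finrank F ↥W = m) (hV : finrank F V = 2 * m) (v : V) (hv : Q v ≠ 0) :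
    Odd (finrank F ↥(U ⊓ W.map (qRefl Q v)) + finrank F ↥(U ⊓ W)) := by
  rcases exists_polar_ne_zero_inf Q hQ hU hW hUm hWm hV v hv with h | h
  · have := finrank_inf_map_qRefl_add_one Q hU hW v hv h
    rw [Nat.odd_iff]
    omega
  · have := finrank_inf_map_qRefl_add_one Q hU (hW.map_qRefl v hv) v hv h
    rw [map_qRefl_map_qRefl Q W v hv] at this
    rw [Nat.odd_iff]
    omega

/-- the parity theorem for a product of reflections -/
theorem even_finrank_inf_map_prod_aux [FiniteDimensional F V]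
    (hQ : (QuadraticMap.polarBilin Q).Nondegenerate) {U : Submodule F V}
    (hU : IsTotSing Q U) {m : ℕ} (hUm : finrank F ↥U = m) (hV : finrank F V = 2 * m)
    (ws : List V) (hws : ∀ w ∈ ws, Q w ≠ 0) :
    ∀ W : Submodule F V, IsTotSing Q W → finrank F ↥W = m →
      IsTotSing Q (W.map (ws.map (qRefl Q)).prod) ∧
      finrank F ↥(W.map (ws.map (qRefl Q)).prod) = m ∧
      Even (finrank F ↥(U ⊓ W.map (ws.map (qRefl Q)).prod) + finrank F ↥(U ⊓ W) + ws.length) := by
  induction ws with
  | nil =>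
    intro W hW hWm
    have : W.map ((([] : List V).map (qRefl Q)).prod) = W := by
      rw [List.map_nil, List.prod_nil]
      exact Submodule.map_id W
    rw [this, List.length_nil, add_zero]
    exact ⟨hW, hWm, ⟨_, rfl⟩⟩
  | cons a l ih =>
    intro W hW hWm
    have ha : Q a ≠ 0 := hws a List.mem_cons_self
    obtain ⟨h1, h2, h3⟩ := ih (fun w hw => hws w (List.mem_cons_of_mem _ hw)) W hW hWm
    rw [List.map_cons, List.prod_cons]
    have hmap : W.map (qRefl Q a * (l.map (qRefl Q)).prod)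
        = (W.map (l.map (qRefl Q)).prod).map (qRefl Q a) := by
      rw [← Submodule.map_comp]
      rfl
    rw [hmap]
    refine ⟨h1.map_qRefl a ha, ?_, ?_⟩
    · rw [finrank_map_qRefl Q _ a ha, h2]
    · have h4 := odd_finrank_inf_map_qRefl Q hQ hU h1 hUm h2 hV a ha
      rw [List.length_cons]
      rw [Nat.odd_iff] at h4
      rw [Nat.even_iff] at h3 ⊢
      omega

theorem even_finrank_inf_map_prod [FiniteDimensional F V]
    (hQ : (QuadraticMap.polarBilin Q).Nondegenerate) {U : Submodule F V}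
    (hU : IsTotSing Q U) {m : ℕ} (hUm : finrank F ↥U = m) (hV : finrank F V = 2 * m)
    (ws : List V) (hws : ∀ w ∈ ws, Q w ≠ 0) :
    Even (m - finrank F ↥(U ⊓ U.map (ws.map (qRefl Q)).prod)) ↔ Even ws.length := by
  obtain ⟨-, -, h3⟩ := even_finrank_inf_map_prod_aux Q hQ hU hUm hV ws hws U hU hUm
  have h4 : finrank F ↥(U ⊓ U) = m := by rw [inf_idem, hUm]
  have h5 : finrank F ↥(U ⊓ U.map (ws.map (qRefl Q)).prod) ≤ m := by
    rw [← hUm]
    exact Submodule.finrank_mono inf_le_left
  rw [h4] at h3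
  rw [Nat.even_iff] at h3 ⊢
  rw [Nat.even_iff]
  omega

end Cfsg.Agent.Helper44
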