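import Mathlib
import Cfsg.Prelude.Def_ClassicalGeometry
import Cfsg.Agent.Helper44.MaxSingParity
import Cfsg.Agent.Helper44.ReflGenAll
import Cfsg.Agent.Helper44.StdNondeg
import Cfsg.Agent.Helper44.DicksonGen

/-!
# The two classes of maximal totally singular subspaces of the plus form

For `g ∈ O⁺_{2m}(F)` written as a product of `t` reflections and `U₀ = {y = 0}`:
`m - dim (U₀ ∩ g U₀)` is even iff `t` is even.
-/

set_option autoImplicit false

namespace Cfsg.Agent.Helper44

open Matrix QuadraticMap Module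

variable {F : Type*} [Field F]

theorem mulVecLin_prod_reflT' {ι : Type} [Fintype ι] [DecidableEq ι] (Q : QuadraticForm F (ι → F))
    (vs : List (ι → F)) (hvs : ∀ v ∈ vs, Q v ≠ 0) :
    ((((vs.map (reflT Q)).prod : Cfsg.isometryGroup F ⇑Q).1 : Matrix ι ι F)).mulVecLin
      = (vs.map (Helper14.qRefl Q)).prod := by
  induction vs with
  | nil =>
    simp only [List.map_nil, List.prod_nil]
    show (1 : Matrix ι ι F).mulVecLin = 1
    rw [Matrix.mulVecLin_one]
    rfl
  | cons a l ih =>
    rw [List.map_cons, List.prod_cons, List.map_cons, List.prod_cons,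
      ← ih (fun v hv => hvs v (List.mem_cons_of_mem _ hv))]
    show ((((reflT Q a).1 : Matrix ι ι F)) * _).mulVecLin = _
    rw [Matrix.mulVecLin_mul, reflT_coe Q a (hvs a List.mem_cons_self),
      mulVecLin_reflectionMatrix_eq_qRefl']
    rfl

/-- the standard maximal totally singular subspace `{y = 0}` -/
def stdSing (m : ℕ) (F : Type*) [Field F] : Submodule F (Fin m ⊕ Fin m → F) :=
  LinearMap.ker (LinearMap.funLeft F F (Sum.inr : Fin m → Fin m ⊕ Fin m))

theorem mem_stdSing {m : ℕ} (v : Fin m ⊕ Fin m → F) :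
    v ∈ stdSing m F ↔ ∀ i, v (Sum.inr i) = 0 := by
  unfold stdSing
  rw [LinearMap.mem_ker]
  constructor
  · intro h i
    exact congrFun h i
  · intro h
    funext i
    exact h i

theorem isTotSing_stdSing (m : ℕ) : IsTotSing (plusForm m F) (stdSing m F) := by
  intro v hv
  rw [mem_stdSing] at hv
  show quadFormPlus m F v = 0
  unfold quadFormPlus
  apply Finset.sum_eq_zero
  intro i _
  rw [hv i, mul_zero]

theorem finrank_stdSing (m : ℕ) : finrank F ↥(stdSing m F) = m := by
  have h1 := LinearMap.finrank_range_add_finrank_ker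
    (LinearMap.funLeft F F (Sum.inr : Fin m → Fin m ⊕ Fin m))
  have hsurj : LinearMap.range (LinearMap.funLeft F F (Sum.inr : Fin m → Fin m ⊕ Fin m)) = ⊤ := by
    rw [LinearMap.range_eq_top]
    intro y
    exact ⟨Sum.elim 0 y, rfl⟩
  rw [hsurj, finrank_top, finrank_sum_fun, Module.finrank_fintype_fun_eq_card, Fintype.card_fin] at h1
  unfold stdSing
  omega

/-- parity of the codimension of `U₀ ∩ g U₀` for a product of reflections -/
theorem even_codim_stdSing_iff {m : ℕ} (vs : List (Fin m ⊕ Fin m → F))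
    (hvs : ∀ v ∈ vs, plusForm m F v ≠ 0) :
    Even (m - finrank F ↥(stdSing m F ⊓ (stdSing m F).map
      ((((vs.map (reflT (plusForm m F))).prod :
        Cfsg.isometryGroup F ⇑(plusForm m F)).1 : Matrix (Fin m ⊕ Fin m) (Fin m ⊕ Fin m) F)).mulVecLin))
      ↔ Even vs.length := by
  rw [mulVecLin_prod_reflT' (plusForm m F) vs hvs]
  apply even_finrank_inf_map_prod (plusForm m F) (nondegenerate_plusForm m) (isTotSing_stdSing m)
    (finrank_stdSing m) _ vs hvs
  rw [finrank_sum_fun, Fintype.card_fin]
  ring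

end Cfsg.Agent.Helper44
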