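/-
helper44: realising polynomials as characteristic polynomials of elements of odd prime order of the
isometry group of an even-dimensional quadratic form of given type (main theorem).
-/
import Mathlib
import Cfsg.Agent.Helper44.OrthRealizeC

set_option autoImplicit false

namespace Cfsg.Agent.Helper44.QType

open Polynomial Matrix QuadraticMap Cfsg Cfsg.Agent.Helper44

universe u

section final

variable {F : Type u} [Field F] [Fintype F]

/-- transport step: an element of the isometry group of a form of the right type gives one in the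
target group -/
theorem exists_of_same_type {ι κ : Type} [Fintype ι] [DecidableEq ι] [Fintype κ] [DecidableEq κ]
    (Q : QuadraticForm F (ι → F)) (Qt : QuadraticForm F (κ → F)) {m : ℕ}
    (hι : Fintype.card ι = 2 * m) (hκ : Fintype.card κ = 2 * m)
    (hndQ : ∀ x, (∀ y, polar Q x y = 0) → x = 0)
    (hnd : ∀ x, (∀ y, polar Qt x y = 0) → x = 0) {ε : ℤ}
    (hTQ : HasType (⇑Q) m ε) (hT : HasType (⇑Qt) m ε) (r : ℕ) (hr : r.Prime)
    (x : ↥(Cfsg.isometryGroup F ⇑Q)) (hxr : x ^ r = 1) {f : F[X]}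
    (hxf : ((x : GL ι F) : Matrix ι ι F).charpoly = f) (hne : f ≠ (X - 1) ^ (2 * m)) :
    ∃ y : ↥(Cfsg.isometryGroup F ⇑Qt), orderOf y = r ∧
      ((y : GL κ F) : Matrix κ κ F).charpoly = f := by
  have hV : Module.finrank F (ι → F) = 2 * m := by rw [Module.finrank_fintype_fun_eq_card, hι]
  have hV' : Module.finrank F (κ → F) = 2 * m := by rw [Module.finrank_fintype_fun_eq_card, hκ]
  obtain ⟨C, hC⟩ := exists_isometry_of_hasType Q Qt hV hV' hndQ hnd hTQ hT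
  refine ⟨isoTransport (⇑Q) (⇑Qt) C hC x, ?_, ?_⟩
  · haveI : Fact r.Prime := ⟨hr⟩
    apply orderOf_eq_prime
    · rw [← map_pow, hxr, map_one]
    · intro h1
      apply hne
      rw [← hxf, ← charpoly_isoTransport (⇑Q) (⇑Qt) C hC x, h1]
      show (1 : Matrix κ κ F).charpoly = _
      rw [Matrix.charpoly_one, hκ]
  · rw [← hxf]
    exact charpoly_isoTransport (⇑Q) (⇑Qt) C hC x

/-- sum step -/
theorem sum_step {ι₁ ι₂ : Type} [Fintype ι₁] [DecidableEq ι₁] [Fintype ι₂] [DecidableEq ι₂]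
    (Q₁ : QuadraticForm F (ι₁ → F)) (Q₂ : QuadraticForm F (ι₂ → F)) {m₁ m₂ : ℕ}
    (hc₁ : Fintype.card ι₁ = 2 * m₁) (hc₂ : Fintype.card ι₂ = 2 * m₂)
    (hnd₁ : ∀ x, (∀ y, polar Q₁ x y = 0) → x = 0)
    (hnd₂ : ∀ x, (∀ y, polar Q₂ x y = 0) → x = 0) {ε₁ ε₂ : ℤ}
    (h₁ : HasType (⇑Q₁) m₁ ε₁) (h₂ : HasType (⇑Q₂) m₂ ε₂) (r : ℕ)
    (x : ↥(Cfsg.isometryGroup F ⇑Q₁)) (hxr : x ^ r = 1) :
    Fintype.card (ι₁ ⊕ ι₂) = 2 * (m₁ + m₂) ∧
    (∀ v, (∀ w, polar (orthSumForm Q₁ Q₂) v w = 0) → v = 0) ∧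
    HasType (⇑(orthSumForm Q₁ Q₂)) (m₁ + m₂) (ε₁ * ε₂) ∧
    (inlIso Q₁ Q₂ x) ^ r = 1 ∧
    (((inlIso Q₁ Q₂ x : ↥(Cfsg.isometryGroup F ⇑(orthSumForm Q₁ Q₂))) : GL (ι₁ ⊕ ι₂) F) :
      Matrix (ι₁ ⊕ ι₂) (ι₁ ⊕ ι₂) F).charpoly
      = ((x : GL ι₁ F) : Matrix ι₁ ι₁ F).charpoly * (X - 1) ^ (2 * m₂) := by
  refine ⟨by rw [Fintype.card_sum, hc₁, hc₂]; ring, ?_, ?_, ?_, ?_⟩
  · exact (nondeg_iff _).mp (nondegenerate_orthSumForm Q₁ Q₂ ((nondeg_iff _).mpr hnd₁)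
      ((nondeg_iff _).mpr hnd₂))
  · rw [orthSumForm_coe]
    exact HasType.orthSum Q₁ Q₂ hc₁ hc₂ hnd₁ hnd₂ h₁ h₂
  · rw [← map_pow, hxr, map_one]
  · rw [inlIso_coe, Matrix.charpoly_fromBlocks_zero₁₂, Matrix.charpoly_one, hc₂]

/-- a fixed-point-free model: quadratic form, isometry of order dividing `r`, and its type -/
theorem exists_fpf_model (p : ℕ) [Fact p.Prime] [CharP F p] (n r : ℕ) (hr : r.Prime) (hr2 : r ≠ 2)
    (hrp : r ≠ p) {g : F[X]} (hgm : g.Monic) (hgd : g.natDegree = 2 * n) (hgr : g.reverse = g)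
    (hfacg : ∀ P : F[X], P.Monic → Irreducible P → P ∣ g → P ∣ (X ^ r - 1 : F[X]))
    (hgn : ¬ (X - 1 : F[X]) ∣ g) :
    ∃ (QW : QuadraticForm F (Fin n ⊕ Fin n → F)) (xW : ↥(Cfsg.isometryGroup F ⇑QW)) (εW : ℤ),
      (∀ x, (∀ y, polar QW x y = 0) → x = 0) ∧ xW ^ r = 1 ∧
      ((xW : GL (Fin n ⊕ Fin n) F) : Matrix (Fin n ⊕ Fin n) (Fin n ⊕ Fin n) F).charpoly = g ∧
      (εW = 1 ∨ εW = -1) ∧ HasType (⇑QW) n εW ∧
      ((Nat.card F : ℕ) : ZMod r) ^ n = ((εW : ℤ) : ZMod r) := by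
  classical
  haveI : Fact r.Prime := ⟨hr⟩
  have hp : p.Prime := Fact.out
  have hrodd : Odd r := hr.eq_two_or_odd'.resolve_left hr2
  have hrpos : 0 < r := hr.pos
  have hrq : ¬ r ∣ Nat.card F := by
    obtain ⟨e, -, hcard⟩ := FiniteField.card F p
    rw [Nat.card_eq_fintype_card, hcard]
    intro hdvd
    exact hrp ((Nat.prime_dvd_prime_iff_eq hr hp).mp (hr.dvd_of_dvd_pow hdvd))
  obtain ⟨A, hA, hAr, hAch⟩ := exists_symp_of_poly p n r hr hrp hgm hgd hgr hfacg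
  have hL : ¬ (X - 1 : F[X]) ∣ A.charpoly := by rw [hAch]; exact hgn
  obtain ⟨QW, hQWnd, hQWinv⟩ := exists_quad_of_symp p n r hrodd hA hAr hL
  have hAA : A * A ^ (r - 1) = 1 := by rw [← pow_succ', Nat.sub_add_cancel hrpos, hAr]
  have hAA' : A ^ (r - 1) * A = 1 := by rw [← pow_succ, Nat.sub_add_cancel hrpos, hAr]
  let Au : GL (Fin n ⊕ Fin n) F := ⟨A, A ^ (r - 1), hAA, hAA'⟩
  have hAumem : Au ∈ Cfsg.isometryGroup F ⇑QW := by
    rw [Helper13.mem_isometryGroup_iff]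
    intro u
    exact hQWinv u
  have hcW : Fintype.card (Fin n ⊕ Fin n) = 2 * n := by
    rw [Fintype.card_sum, Fintype.card_fin, two_mul]
  have hVW : Module.finrank F (Fin n ⊕ Fin n → F) = 2 * n := by
    rw [Module.finrank_fintype_fun_eq_card, hcW]
  obtain ⟨εW, hεW, hTW⟩ := exists_hasType QW hVW hQWnd
  refine ⟨QW, ⟨Au, hAumem⟩, εW, hQWnd, ?_, hAch, hεW, hTW, ?_⟩
  · apply Subtype.ext
    apply Units.ext
    have : ((Au ^ r : GL (Fin n ⊕ Fin n) F) : Matrix (Fin n ⊕ Fin n) (Fin n ⊕ Fin n) F)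
        = A ^ r := Units.val_pow_eq_pow_val Au r
    exact this.trans hAr
  · apply pow_eq_of_fpf QW hVW hQWnd hTW r hrq (fun v => A *ᵥ v) hQWinv
    · intro v
      have : ∀ j : ℕ, (fun v => A *ᵥ v)^[j] v = (A ^ j) *ᵥ v := by
        intro j
        induction j with
        | zero => simp
        | succ j ih =>
          rw [Function.iterate_succ_apply', ih, Matrix.mulVec_mulVec, ← pow_succ']
      rw [this, hAr, Matrix.one_mulVec]
    · intro v hv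
      exact eq_zero_of_mulVec_eq A hL v hv

end final

end Cfsg.Agent.Helper44.QType
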