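/-
helper44: realising polynomials as characteristic polynomials of elements of odd prime order of the
isometry group of an even-dimensional quadratic form of given type (main theorem).
-/
import Mathlib
import Cfsg.Agent.Helper44.OrthRealizeD

set_option autoImplicit false

namespace Cfsg.Agent.Helper44.QType

open Polynomial Matrix QuadraticMap Cfsg Cfsg.Agent.Helper44

universe u

section final

variable {F : Type u} [Field F] [Fintype F]

theorem int_cast_ne {r : ℕ} (hr : r.Prime) (hr2 : r ≠ 2) :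
    ((1 : ℤ) : ZMod r) ≠ ((-1 : ℤ) : ZMod r) := by
  haveI : Fact r.Prime := ⟨hr⟩
  intro h
  have h2 : ((2 : ℕ) : ZMod r) = 0 := by
    have : ((1 : ℤ) : ZMod r) - ((-1 : ℤ) : ZMod r) = 0 := sub_eq_zero.mpr h
    push_cast at this
    have h3 : (1 : ZMod r) - -1 = 2 := by ring
    rw [h3] at this
    exact_mod_cast this
  rw [ZMod.natCast_eq_zero_iff] at h2
  exact hr2 ((Nat.prime_dvd_prime_iff_eq hr Nat.prime_two).mp h2)

theorem sign_eq_of_cast_eq {r : ℕ} (hr : r.Prime) (hr2 : r ≠ 2) {ε ε' : ℤ}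
    (hε : ε = 1 ∨ ε = -1) (hε' : ε' = 1 ∨ ε' = -1)
    (h : ((ε : ℤ) : ZMod r) = ((ε' : ℤ) : ZMod r)) : ε = ε' := by
  have hne1 := int_cast_ne hr hr2
  rcases hε with rfl | rfl <;> rcases hε' with rfl | rfl
  · rfl
  · exact absurd h hne1
  · exact absurd h.symm hne1
  · rfl

/-- with a fixed space -/
theorem exists_isometry_of_poly_pos (p : ℕ) [Fact p.Prime] [CharP F p] {κ : Type} [Fintype κ]
    [DecidableEq κ] (Qt : QuadraticForm F (κ → F)) {m : ℕ} (hκ : Fintype.card κ = 2 * m)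
    (hnd : ∀ x, (∀ y, polar Qt x y = 0) → x = 0) {εt : ℤ} (hεt : εt = 1 ∨ εt = -1)
    (hT : HasType (⇑Qt) m εt) (r : ℕ) (hr : r.Prime) (hr2 : r ≠ 2) (hrp : r ≠ p)
    {f g : F[X]} (n k : ℕ) (hk : 0 < k) (hnk : n + k = m) (hn : 0 < n)
    (hfg : f = (X - 1) ^ (2 * k) * g) (hne : f ≠ (X - 1) ^ (2 * m))
    (hgm : g.Monic) (hgd : g.natDegree = 2 * n) (hgr : g.reverse = g)
    (hfacg : ∀ P : F[X], P.Monic → Irreducible P → P ∣ g → P ∣ (X ^ r - 1 : F[X]))
    (hgn : ¬ (X - 1 : F[X]) ∣ g) :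
    ∃ y : ↥(Cfsg.isometryGroup F ⇑Qt), orderOf y = r ∧
      ((y : GL κ F) : Matrix κ κ F).charpoly = f := by
  classical
  obtain ⟨QW, xW, εW, hQWnd, hxWr, hxWf, hεW, hTW, -⟩ :=
    exists_fpf_model p n r hr hr2 hrp hgm hgd hgr hfacg hgn
  have hcW : Fintype.card (Fin n ⊕ Fin n) = 2 * n := by
    rw [Fintype.card_sum, Fintype.card_fin, two_mul]
  have hεprod : εW * (εt * εW) = εt := by
    rcases hεW with rfl | rfl <;> ring
  have hfinal : ∀ {ι₂ : Type} [Fintype ι₂] [DecidableEq ι₂] (QU : QuadraticForm F (ι₂ → F)),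
      Fintype.card ι₂ = 2 * k → (∀ x, (∀ y, polar QU x y = 0) → x = 0) →
      HasType (⇑QU) k (εt * εW) →
      ∃ y : ↥(Cfsg.isometryGroup F ⇑Qt), orderOf y = r ∧
        ((y : GL κ F) : Matrix κ κ F).charpoly = f := by
    intro ι₂ _ _ QU hcU hndU hTU
    obtain ⟨hc, hndS, hTS, hxr, hxf⟩ := sum_step QW QU hcW hcU hQWnd hndU hTW hTU r xW hxWr
    rw [hεprod, hnk] at hTS
    rw [hnk] at hc
    refine exists_of_same_type (orthSumForm QW QU) Qt hc hκ hndS hnd hTS hT r hr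
      (inlIso QW QU xW) hxr ?_ hne
    rw [hxf, hxWf, hfg]
    ring
  have hεU : εt * εW = 1 ∨ εt * εW = -1 := by
    rcases hεW with rfl | rfl <;> rcases hεt with rfl | rfl <;> simp
  rcases hεU with hU | hU
  · rw [hU] at hfinal
    refine hfinal (plusForm k F) ?_ ((nondeg_iff _).mp (nondegenerate_plusForm k)) ?_
    · rw [Fintype.card_sum, Fintype.card_fin, two_mul]
    · rw [plusForm_coe]
      exact hasType_plus k
  · rw [hU] at hfinal
    obtain ⟨k', rfl⟩ : ∃ k', k = k' + 1 := ⟨k - 1, by omega⟩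
    obtain ⟨ζ, hζ, hD⟩ := exists_irred_param (F := F)
    refine hfinal (minusForm k' F 1 ζ) ?_
      ((nondeg_iff _).mp (nondegenerate_minusForm k' 1 ζ hD)) ?_
    · rw [Fintype.card_sum, Fintype.card_sum, Fintype.card_fin, Fintype.card_fin]
      ring
    · rw [minusForm_coe]
      apply hasType_minus k' 1 ζ
      intro z₁ z₂ hz
      by_cases h2 : z₂ = 0
      · subst h2
        have : z₁ ^ 2 = 0 := by simpa using hz
        exact ⟨pow_eq_zero_iff (two_ne_zero) |>.mp this, rfl⟩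
      · exfalso
        apply hζ (z₁ / z₂)
        have : (z₁ / z₂) ^ 2 + z₁ / z₂ + ζ = (z₁ ^ 2 + 1 * z₁ * z₂ + ζ * z₂ ^ 2) / z₂ ^ 2 := by
          field_simp
        rw [this, hz, zero_div]

/-- without fixed space -/
theorem exists_isometry_of_poly_zero (p : ℕ) [Fact p.Prime] [CharP F p] {κ : Type} [Fintype κ]
    [DecidableEq κ] (Qt : QuadraticForm F (κ → F)) {m : ℕ} (hκ : Fintype.card κ = 2 * m)
    (hnd : ∀ x, (∀ y, polar Qt x y = 0) → x = 0) {εt : ℤ} (hεt : εt = 1 ∨ εt = -1)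
    (hT : HasType (⇑Qt) m εt) (r : ℕ) (hr : r.Prime) (hr2 : r ≠ 2) (hrp : r ≠ p)
    {g : F[X]} (hne : g ≠ (X - 1) ^ (2 * m))
    (hgm : g.Monic) (hgd : g.natDegree = 2 * m) (hgr : g.reverse = g)
    (hfacg : ∀ P : F[X], P.Monic → Irreducible P → P ∣ g → P ∣ (X ^ r - 1 : F[X]))
    (hgn : ¬ (X - 1 : F[X]) ∣ g)
    (hgood : ((Nat.card F : ℕ) : ZMod r) ^ m = ((εt : ℤ) : ZMod r)) :
    ∃ y : ↥(Cfsg.isometryGroup F ⇑Qt), orderOf y = r ∧
      ((y : GL κ F) : Matrix κ κ F).charpoly = g := by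
  classical
  obtain ⟨QW, xW, εW, hQWnd, hxWr, hxWf, hεW, hTW, hpowW⟩ :=
    exists_fpf_model p m r hr hr2 hrp hgm hgd hgr hfacg hgn
  have hcW : Fintype.card (Fin m ⊕ Fin m) = 2 * m := by
    rw [Fintype.card_sum, Fintype.card_fin, two_mul]
  have hεeq : εW = εt := sign_eq_of_cast_eq hr hr2 hεW hεt (hpowW.symm.trans hgood)
  rw [hεeq] at hTW
  exact exists_of_same_type QW Qt hcW hκ hQWnd hnd hTW hT r hr xW hxWr hxWf hne

theorem exists_isometry_of_poly (p : ℕ) [Fact p.Prime] [CharP F p] {κ : Type} [Fintype κ]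
    [DecidableEq κ] (Qt : QuadraticForm F (κ → F)) {m : ℕ} (hκ : Fintype.card κ = 2 * m)
    (hnd : ∀ x, (∀ y, polar Qt x y = 0) → x = 0) {εt : ℤ} (hεt : εt = 1 ∨ εt = -1)
    (hT : HasType (⇑Qt) m εt) (r : ℕ) (hr : r.Prime) (hr2 : r ≠ 2) (hrp : r ≠ p)
    {f : F[X]} (hfm : f.Monic) (hfd : f.natDegree = 2 * m) (hfr : f.reverse = f)
    (hfac : ∀ P : F[X], P.Monic → Irreducible P → P ∣ f → P ∣ (X ^ r - 1 : F[X]))
    (hne : f ≠ (X - 1) ^ (2 * m))
    (hgood : ¬ (X - 1 : F[X]) ∣ f → ((Nat.card F : ℕ) : ZMod r) ^ m = ((εt : ℤ) : ZMod r)) :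
    ∃ y : ↥(Cfsg.isometryGroup F ⇑Qt), orderOf y = r ∧
      ((y : GL κ F) : Matrix κ κ F).charpoly = f := by
  obtain ⟨k, g, hk, hfg, hgm, hgd, hgr, hgn⟩ := exists_decomp m f hfm hfd hfr
  have hgf : g ∣ f := ⟨(X - 1) ^ (2 * k), by rw [hfg]; ring⟩
  have hfacg : ∀ P : F[X], P.Monic → Irreducible P → P ∣ g → P ∣ (X ^ r - 1 : F[X]) :=
    fun P hPm hPi hP => hfac P hPm hPi (hP.trans hgf)
  obtain ⟨n, hn⟩ : ∃ n, m - k = n := ⟨_, rfl⟩
  rw [hn] at hgd
  have hnpos : 0 < n := by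
    rcases Nat.eq_zero_or_pos n with h0 | h0
    · exfalso
      apply hne
      have hg1 : g = 1 := by
        rw [← hgm.natDegree_eq_zero, hgd, h0]
      have hkm : k = m := by omega
      rw [hfg, hg1, mul_one, hkm]
    · exact h0
  rcases Nat.eq_zero_or_pos k with hk0 | hkpos
  · subst hk0
    have hnm : n = m := by omega
    subst hnm
    have hfg' : f = g := by rw [hfg]; simp
    subst hfg'
    exact exists_isometry_of_poly_zero p Qt hκ hnd hεt hT r hr hr2 hrp hne hgm hgd hgr hfacg hgn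
      (hgood hgn)
  · exact exists_isometry_of_poly_pos p Qt hκ hnd hεt hT r hr hr2 hrp n k hkpos (by omega) hnpos
      hfg hne hgm hgd hgr hfacg hgn

end final

end Cfsg.Agent.Helper44.QType
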