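import Mathlib
import Cfsg.Prelude.Def_LieTypeDatum
import Cfsg.Agent.Helper44.Spinor

/-!
# The action of the similarity group of `Q` on `PΩ(Q)` by conjugation

`conjAut Q : ↥(quadSimilarityGroup Q) →* MulAut (POmega F Q)`, and the identification of the
Prelude's `pgoAut`, `poAut`, `psoAut`, `Inn` with images under `conjAut`.
-/

set_option autoImplicit false

namespace Cfsg.Agent.Helper44

open Matrix

section generic

/-- automorphisms of `H` act on `H ⧸ Z(H)` -/
noncomputable def autQuotCenter (H : Type*) [Group H] :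
    MulAut H →* MulAut (H ⧸ Subgroup.center H) where
  toFun φ := QuotientGroup.congr (Subgroup.center H) (Subgroup.center H) φ
    (Subgroup.characteristic_iff_map_eq.1 inferInstance φ)
  map_one' := by
    ext x
    induction x using QuotientGroup.induction_on
    rfl
  map_mul' φ ψ := by
    ext x
    induction x using QuotientGroup.induction_on
    rfl

theorem autQuotCenter_mk (H : Type*) [Group H] (φ : MulAut H) (x : H) :
    autQuotCenter H φ (QuotientGroup.mk x) = QuotientGroup.mk (φ x) := rfl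

/-- automorphisms of `N` act on `N' ⧸ Z(N')`, `N'` the commutator subgroup -/
noncomputable def autPC (N : Type*) [Group N] :
    MulAut N →* MulAut (commutator N ⧸ Subgroup.center (commutator N)) :=
  (autQuotCenter (commutator N)).comp (MulAut.characteristic (commutator N))

theorem autPC_mk (N : Type*) [Group N] (φ : MulAut N) (x : commutator N) :
    autPC N φ (QuotientGroup.mk x)
      = QuotientGroup.mk (MulAut.characteristic (commutator N) φ x) := rfl

theorem coe_characteristic_apply (N : Type*) [Group N] (φ : MulAut N) (x : commutator N) :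
    ((MulAut.characteristic (commutator N) φ x : commutator N) : N) = φ (x : N) := rfl

end generic

variable {F : Type*} [Field F] {ι : Type} [Fintype ι] [DecidableEq ι]
variable (Q : (ι → F) → F)

theorem isometryGroup_le_quadSimilarityGroup :
    Cfsg.isometryGroup F Q ≤ Cfsg.Geo.quadSimilarityGroup (F := F) Q := by
  intro g hg
  refine ⟨1, fun v => ?_⟩
  rw [Units.val_one, one_mul]
  exact (Helper13.mem_isometryGroup_iff Q g).1 hg v

/-- similarities normalise the isometry group -/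
theorem conj_mem_isometryGroup {g : GL ι F} (hg : g ∈ Cfsg.Geo.quadSimilarityGroup (F := F) Q)
    {s : GL ι F} (hs : s ∈ Cfsg.isometryGroup F Q) : g * s * g⁻¹ ∈ Cfsg.isometryGroup F Q := by
  rw [Helper13.mem_isometryGroup_iff] at hs ⊢
  obtain ⟨c, hc⟩ := hg
  intro v
  have h1 : ((g * s * g⁻¹ : GL ι F) : Matrix ι ι F) *ᵥ v
      = (g : Matrix ι ι F) *ᵥ ((s : Matrix ι ι F) *ᵥ (((g⁻¹ : GL ι F) : Matrix ι ι F) *ᵥ v)) := by
    rw [Matrix.mulVec_mulVec, Matrix.mulVec_mulVec]
    rfl
  have h2 : v = (g : Matrix ι ι F) *ᵥ (((g⁻¹ : GL ι F) : Matrix ι ι F) *ᵥ v) := by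
    rw [Matrix.mulVec_mulVec, ← Units.val_mul, mul_inv_cancel, Units.val_one, Matrix.one_mulVec]
  rw [h1, hc, hs]
  conv_rhs => rw [h2, hc]

/-- conjugation by a similarity, as an automorphism of the isometry group -/
noncomputable def simConj :
    ↥(Cfsg.Geo.quadSimilarityGroup (F := F) Q) →* MulAut ↥(Cfsg.isometryGroup F Q) where
  toFun g :=
    { toFun := fun s => ⟨g.1 * s.1 * g.1⁻¹, conj_mem_isometryGroup Q g.2 s.2⟩
      invFun := fun s => ⟨g.1⁻¹ * s.1 * g.1, by
        have h := conj_mem_isometryGroup Q (inv_mem g.2) s.2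
        rwa [inv_inv] at h⟩
      left_inv := fun s => Subtype.ext (by
        show g.1⁻¹ * (g.1 * s.1 * g.1⁻¹) * g.1 = s.1
        group)
      right_inv := fun s => Subtype.ext (by
        show g.1 * (g.1⁻¹ * s.1 * g.1) * g.1⁻¹ = s.1
        group)
      map_mul' := fun s t => Subtype.ext (by
        show g.1 * (s.1 * t.1) * g.1⁻¹ = (g.1 * s.1 * g.1⁻¹) * (g.1 * t.1 * g.1⁻¹)
        group) }
  map_one' := by
    apply MulEquiv.ext
    intro s
    apply Subtype.ext
    show ((1 : GL ι F) * s.1 * (1 : GL ι F)⁻¹) = s.1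
    group
  map_mul' g h := by
    apply MulEquiv.ext
    intro s
    apply Subtype.ext
    show (g.1 * h.1) * s.1 * (g.1 * h.1)⁻¹ = g.1 * (h.1 * s.1 * h.1⁻¹) * g.1⁻¹
    group

theorem simConj_apply_coe (g : ↥(Cfsg.Geo.quadSimilarityGroup (F := F) Q))
    (s : ↥(Cfsg.isometryGroup F Q)) :
    ((simConj Q g s : ↥(Cfsg.isometryGroup F Q)) : GL ι F) = g.1 * s.1 * g.1⁻¹ := rfl

/-- the action of the similarity group on `PΩ(Q)` -/
noncomputable def conjAut :
    ↥(Cfsg.Geo.quadSimilarityGroup (F := F) Q) →* MulAut (Cfsg.POmega F Q) :=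
  (autPC ↥(Cfsg.isometryGroup F Q)).comp (simConj Q)

theorem conjAut_mk (g : ↥(Cfsg.Geo.quadSimilarityGroup (F := F) Q)) (s : ↥(Cfsg.Omega F Q)) :
    conjAut Q g (QuotientGroup.mk s)
      = QuotientGroup.mk (MulAut.characteristic (Cfsg.Omega F Q) (simConj Q g) s) := rfl

theorem coe_conj_Omega (g : ↥(Cfsg.Geo.quadSimilarityGroup (F := F) Q)) (s : ↥(Cfsg.Omega F Q)) :
    (((MulAut.characteristic (Cfsg.Omega F Q) (simConj Q g) s : ↥(Cfsg.Omega F Q)) :
      ↥(Cfsg.isometryGroup F Q)) : GL ι F) = g.1 * (s.1 : GL ι F) * g.1⁻¹ := rfl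

theorem map_refl (M : Matrix ι ι F) : M.map (RingEquiv.refl F) = M := by
  ext i j
  rfl

/-- `β` is induced by the similarity `g` iff `β = conjAut g` -/
theorem isInduced_iff (g : GL ι F) (hg : g ∈ Cfsg.Geo.quadSimilarityGroup (F := F) Q)
    (β : Cfsg.POmega F Q ≃* Cfsg.POmega F Q) :
    Cfsg.IsInducedBySemilinearPOmega Q g (RingEquiv.refl F) β ↔ β = conjAut Q ⟨g, hg⟩ := by
  constructor
  · intro h
    ext x
    induction x using QuotientGroup.induction_on with
    | H s =>
      rw [conjAut_mk]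
      apply h
      rw [coe_conj_Omega, map_refl]
      rfl
  · rintro rfl s s' hs
    rw [conjAut_mk]
    congr 1
    apply Subtype.ext
    apply Subtype.ext
    apply Units.ext
    rw [hs, map_refl]
    rfl

/-- the subgroup of `Aut(PΩ)` generated by the automorphisms induced by the elements of a group
`R` of similarities is the image of `R` under `conjAut` -/
theorem closure_induced_eq_map (R : Subgroup (GL ι F))
    (hR : R ≤ Cfsg.Geo.quadSimilarityGroup (F := F) Q) :
    Subgroup.closure {β : MulAut (Cfsg.POmega F Q) | ∃ g : GL ι F, g ∈ R ∧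
      Cfsg.IsInducedBySemilinearPOmega Q g (RingEquiv.refl F) β}
      = (R.subgroupOf (Cfsg.Geo.quadSimilarityGroup (F := F) Q)).map (conjAut Q) := by
  have e : {β : MulAut (Cfsg.POmega F Q) | ∃ g : GL ι F, g ∈ R ∧
      Cfsg.IsInducedBySemilinearPOmega Q g (RingEquiv.refl F) β}
      = (((R.subgroupOf (Cfsg.Geo.quadSimilarityGroup (F := F) Q)).map (conjAut Q) :
        Subgroup (MulAut (Cfsg.POmega F Q))) : Set (MulAut (Cfsg.POmega F Q))) := by
    ext β
    constructor
    · rintro ⟨g, hgR, hβ⟩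
      rw [isInduced_iff Q g (hR hgR)] at hβ
      exact ⟨⟨g, hR hgR⟩, hgR, hβ.symm⟩
    · rintro ⟨g, hgR, rfl⟩
      exact ⟨g.1, hgR, (isInduced_iff Q g.1 g.2 _).2 rfl⟩
  rw [e, Subgroup.closure_eq]

theorem pgoAut_eq_map : Cfsg.pgoAut F Q = (conjAut Q).range := by
  have h := closure_induced_eq_map Q (Cfsg.Geo.quadSimilarityGroup (F := F) Q) le_rfl
  rw [Subgroup.subgroupOf_self, ← MonoidHom.range_eq_map] at h
  exact h

theorem poAut_eq_map : Cfsg.poAut F Q
    = ((Cfsg.isometryGroup F Q).subgroupOf (Cfsg.Geo.quadSimilarityGroup (F := F) Q)).map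
      (conjAut Q) :=
  closure_induced_eq_map Q _ (isometryGroup_le_quadSimilarityGroup Q)

theorem psoAut_eq_map : Cfsg.psoAut F Q
    = ((Cfsg.specialIsometryGL F Q).subgroupOf (Cfsg.Geo.quadSimilarityGroup (F := F) Q)).map
      (conjAut Q) :=
  closure_induced_eq_map Q _ (inf_le_left.trans (isometryGroup_le_quadSimilarityGroup Q))

/-- `Ω(Q)` as a subgroup of `GL` -/
def OmegaGL : Subgroup (GL ι F) := (Cfsg.Omega F Q).map (Cfsg.isometryGroup F Q).subtype

theorem OmegaGL_le_isometryGroup : OmegaGL Q ≤ Cfsg.isometryGroup F Q := by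
  rintro _ ⟨s, _, rfl⟩
  exact s.2

theorem conjAut_of_mem_Omega (s : ↥(Cfsg.Omega F Q))
    (hs : ((s : ↥(Cfsg.isometryGroup F Q)) : GL ι F) ∈ Cfsg.Geo.quadSimilarityGroup (F := F) Q) :
    conjAut Q ⟨((s : ↥(Cfsg.isometryGroup F Q)) : GL ι F), hs⟩
      = MulAut.conj (QuotientGroup.mk s : Cfsg.POmega F Q) := by
  ext x
  induction x using QuotientGroup.induction_on with
  | H t =>
    rw [conjAut_mk, MulAut.conj_apply, ← QuotientGroup.mk_inv, ← QuotientGroup.mk_mul,
      ← QuotientGroup.mk_mul]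
    congr 1

theorem Inn_eq_map : Cfsg.Inn (Cfsg.POmega F Q)
    = ((OmegaGL Q).subgroupOf (Cfsg.Geo.quadSimilarityGroup (F := F) Q)).map (conjAut Q) := by
  ext β
  constructor
  · rintro ⟨x, rfl⟩
    induction x using QuotientGroup.induction_on with
    | H s =>
      have hs : ((s : ↥(Cfsg.isometryGroup F Q)) : GL ι F)
          ∈ Cfsg.Geo.quadSimilarityGroup (F := F) Q :=
        isometryGroup_le_quadSimilarityGroup Q s.1.2
      refine ⟨⟨_, hs⟩, ?_, conjAut_of_mem_Omega Q s hs⟩
      exact ⟨s.1, s.2, rfl⟩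
  · rintro ⟨g, ⟨s, hs, hsg⟩, rfl⟩
    refine ⟨QuotientGroup.mk (⟨s, hs⟩ : ↥(Cfsg.Omega F Q)), ?_⟩
    have hs' : (s : GL ι F) ∈ Cfsg.Geo.quadSimilarityGroup (F := F) Q :=
      isometryGroup_le_quadSimilarityGroup Q s.2
    rw [← conjAut_of_mem_Omega Q ⟨s, hs⟩ hs']
    congr 1
    exact Subtype.ext hsg

end Cfsg.Agent.Helper44
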