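import Mathlib
import Cfsg.Agent.Helper14.CharTwoRefl

/-!
# Eichler (Siegel) transformations: algebraic identities in any characteristic

`E(u,z) x = x + f(z,x) u - f(u,x) z - Q(z) f(u,x) u` for `u` singular and `z ⟂ u` (helper14's
`eichler`).  Here: inverse, scaling, conjugation by isometries, expression as a product of two
reflections, transitivity on the singular vectors not orthogonal to `u`.
-/

set_option autoImplicit false

namespace Cfsg.Agent.Helper44

open Module QuadraticMap Cfsg.Agent.Helper14

variable {F V : Type*} [Field F] [AddCommGroup V] [Module F V]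
variable (Q : QuadraticForm F V)

local notation "B" => QuadraticMap.polarBilin Q

theorem eichler_neg_eichler (u z : V) (hu : Q u = 0) (huz : B u z = 0) (x : V) :
    eichler Q u (-z) (eichler Q u z x) = x := by
  rw [eichler_eichler Q u (-z) z hu (by rw [map_neg, huz, neg_zero]) huz, neg_add_cancel,
    eichler_zero]

theorem eichler_eichler_neg (u z : V) (hu : Q u = 0) (huz : B u z = 0) (x : V) :
    eichler Q u z (eichler Q u (-z) x) = x := by
  rw [eichler_eichler Q u z (-z) hu huz (by rw [map_neg, huz, neg_zero]), add_neg_cancel,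
    eichler_zero]

theorem eichler_smul_left (u z : V) (c : F) (x : V) :
    eichler Q (c • u) z x = eichler Q u (c • z) x := by
  rw [eichler_apply, eichler_apply]
  simp only [map_smul, LinearMap.smul_apply, smul_eq_mul, QuadraticMap.map_smul]
  module

/-- conjugation by an isometry -/
theorem map_eichler (g : V →ₗ[F] V) (hg : ∀ x, Q (g x) = Q x) (u z x : V) :
    g (eichler Q u z x) = eichler Q (g u) (g z) (g x) := by
  rw [eichler_apply, eichler_apply, qr_polar_isometry Q g hg, qr_polar_isometry Q g hg, hg]
  simp only [map_add, map_sub, map_smul]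

/-- an Eichler transformation in a non-singular direction is a product of two reflections -/
theorem eichler_neg_eq_qRefl_comp (u w : V) (hu : Q u = 0) (huw : B u w = 0) (hw : Q w ≠ 0)
    (x : V) : eichler Q u (-w) x = qRefl Q w (qRefl Q (w + Q w • u) x) := by
  have h : (Q w)⁻¹ * Q w = 1 := inv_mul_cancel₀ hw
  have hwu : B w u = 0 := by rw [qr_polar_comm, huw]
  have hww : B w w = 2 * Q w := qr_polar_self Q w
  have hQ' : Q (w + Q w • u) = Q w := quad_add_smul_singular Q u w hu huw (Q w)
  rw [qRefl_apply Q w, qRefl_apply Q (w + Q w • u), hQ', eichler_apply]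
  simp only [map_add, map_sub, map_smul, map_neg, LinearMap.add_apply, LinearMap.smul_apply,
    LinearMap.neg_apply, smul_eq_mul, hww, hwu, mul_zero, add_zero, QuadraticMap.map_neg]
  linear_combination (norm := module)
    ((B w x + Q w * B u x) * h) • u
      + (-(B u x + 2 * (Q w)⁻¹ * (B w x + Q w * B u x)) * h) • w

/-- `E(u, ·)` moves a vector `a` to any `b` of the same norm with `f(u,a) = f(u,b) ≠ 0`
(the hypothesis `f(u,b) = β` is only needed to make `β⁻¹(a-b)` orthogonal to `u`). -/
theorem eichler_map_eq' (u a b : V) (hab : Q a = Q b) (β : F) (hβ : β ≠ 0)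
    (hua : B u a = β) :
    eichler Q u (β⁻¹ • (a - b)) a = b := by
  have haa : B a a = 2 * Q a := qr_polar_self Q a
  have hQ : Q (a - b) = Q a + Q b - B a b := by
    have := qr_quad_add_smul Q a b (-1)
    rw [neg_one_smul, ← sub_eq_add_neg] at this
    rw [this]
    ring
  rw [eichler_apply, QuadraticMap.map_smul, hQ, hua]
  simp only [map_smul, map_sub, LinearMap.smul_apply, LinearMap.sub_apply, smul_eq_mul, haa,
    qr_polar_comm Q b a, ← hab]
  have h : β⁻¹ * β = 1 := inv_mul_cancel₀ hβ
  linear_combination (norm := module) ((B a b - 2 * Q a) * β⁻¹ * h) • u + (h) • (b - a)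

/-- `E(u, ·)` moves a singular vector `a` to any singular `b` with `f(u,a) = f(u,b) ≠ 0` -/
theorem eichler_map_eq (u a b : V) (ha : Q a = 0) (hb : Q b = 0) (β : F) (hβ : β ≠ 0)
    (hua : B u a = β) :
    eichler Q u (β⁻¹ • (a - b)) a = b :=
  eichler_map_eq' Q u a b (by rw [ha, hb]) β hβ hua

end Cfsg.Agent.Helper44
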