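import Mathlib
import Cfsg.Agent.Helper44.Singular
import Cfsg.Agent.Helper44.CharTwoWitt

/-!
# Geometry of singular vectors in a non-degenerate quadratic space (abstract)
-/

set_option autoImplicit false

namespace Cfsg.Agent.Helper44

open Module QuadraticMap

variable {F V : Type*} [Field F] [AddCommGroup V] [Module F V]
variable (Q : QuadraticForm F V)

theorem polarBilin_isRefl : (QuadraticMap.polarBilin Q).IsRefl := by
  intro x y h
  rw [QuadraticMap.polarBilin_apply_apply] at h ⊢
  rw [polar_comm]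
  exact h

/-- the orthogonal of the span of two vectors -/
theorem mem_orthogonal_span_pair (u w t : V) :
    t ∈ LinearMap.BilinForm.orthogonal (QuadraticMap.polarBilin Q) (Submodule.span F {u, w})
      ↔ polar ⇑Q u t = 0 ∧ polar ⇑Q w t = 0 := by
  rw [LinearMap.BilinForm.mem_orthogonal_iff]
  constructor
  · intro h
    exact ⟨h u (Submodule.subset_span (by simp)), h w (Submodule.subset_span (by simp))⟩
  · rintro ⟨h1, h2⟩ n hn
    show QuadraticMap.polarBilin Q n t = 0
    induction hn using Submodule.span_induction with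
    | mem n hn =>
      rcases hn with rfl | rfl
      · exact h1
      · exact h2
    | zero => simp
    | add x y _ _ hx hy => rw [map_add, LinearMap.add_apply, hx, hy, add_zero]
    | smul c x _ hx => rw [map_smul, LinearMap.smul_apply, hx, smul_zero]

theorem finrank_span_pair_le (u w : V) : finrank F ↥(Submodule.span F {u, w}) ≤ 2 := by
  classical
  have h := finrank_span_finset_le_card (R := F) ({u, w} : Finset V)
  have h2 : ({u, w} : Finset V).card ≤ 2 := Finset.card_le_two
  have e : ((({u, w} : Finset V)) : Set V) = {u, w} := by simp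
  rw [e] at h
  unfold Set.finrank at h
  omega

/-- (G1) in dimension at least five there is a non-singular vector orthogonal to two given vectors -/
theorem exists_nonsingular_perp_pair [FiniteDimensional F V]
    (hQ : (QuadraticMap.polarBilin Q).Nondegenerate) (hn : 5 ≤ finrank F V) (u w : V) :
    ∃ t, polar ⇑Q u t = 0 ∧ polar ⇑Q w t = 0 ∧ Q t ≠ 0 := by
  by_contra hcon
  push Not at hcon
  set Bf : LinearMap.BilinForm F V := QuadraticMap.polarBilin Q with hB
  set S := Bf.orthogonal (Submodule.span F {u, w}) with hS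
  have hsing : ∀ t ∈ S, Q t = 0 := by
    intro t ht
    rw [hS, mem_orthogonal_span_pair] at ht
    exact hcon t ht.1 ht.2
  have hiso : S ≤ Bf.orthogonal S := by
    intro y hy
    rw [LinearMap.BilinForm.mem_orthogonal_iff]
    intro y' hy'
    show polar ⇑Q y' y = 0
    unfold polar
    rw [hsing _ (S.add_mem hy' hy), hsing _ hy', hsing _ hy]
    ring
  have hd1 : finrank F S = finrank F V - finrank F (Submodule.span F {u, w}) :=
    LinearMap.BilinForm.finrank_orthogonal hQ (Submodule.span F {u, w})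
  have hd2 : finrank F (Bf.orthogonal S) = finrank F V - finrank F S :=
    LinearMap.BilinForm.finrank_orthogonal hQ S
  have hd3 := Submodule.finrank_mono hiso
  have hd4 := finrank_span_pair_le (F := F) u w
  have hd5 := Submodule.finrank_le S
  have hd6 := Submodule.finrank_le (Submodule.span F {u, w})
  omega

/-- (G2) two singular points have a common singular non-neighbour -/
theorem exists_singular_polar_ne_zero_both [FiniteDimensional F V]
    (hQ : (QuadraticMap.polarBilin Q).Nondegenerate) (hn : 5 ≤ finrank F V) (u v : V)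
    (hu : Q u = 0) (hv : Q v = 0) (hu0 : u ≠ 0) (hv0 : v ≠ 0) :
    ∃ p, Q p = 0 ∧ polar ⇑Q p u ≠ 0 ∧ polar ⇑Q p v ≠ 0 := by
  have huu : polar ⇑Q u u = 0 := by rw [polar_self, hu]; simp
  by_cases huv : polar ⇑Q u v = 0
  · obtain ⟨z, hzu, hzv⟩ := exists_polar_ne_zero_both Q hQ u v hu0 hv0
    refine ⟨z - (Q z / polar ⇑Q u z) • u, ?_, ?_, ?_⟩
    · have h1 : Q (z - (Q z / polar ⇑Q u z) • u)
          = Q z + Q (-((Q z / polar ⇑Q u z) • u)) + polar ⇑Q z (-((Q z / polar ⇑Q u z) • u)) := by
        rw [sub_eq_add_neg, QuadraticMap.map_add ⇑Q]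
      rw [h1, QuadraticMap.map_neg, QuadraticMap.map_smul, hu, polar_neg_right, polar_smul_right,
        polar_comm ⇑Q z u, smul_eq_mul, smul_eq_mul, mul_zero, add_zero, div_mul_cancel₀ _ hzu,
        add_neg_cancel]
    · rw [polar_sub_left, polar_smul_left, huu, smul_zero, sub_zero, polar_comm]
      exact hzu
    · rw [polar_sub_left, polar_smul_left, huv, smul_zero, sub_zero, polar_comm]
      exact hzv
  · obtain ⟨t, htu, htv, ht⟩ := exists_nonsingular_perp_pair Q hQ hn u v
    set β : F := -(Q t) / polar ⇑Q u v with hβ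
    have hβ0 : β ≠ 0 := div_ne_zero (neg_ne_zero.2 ht) huv
    have hvv : polar ⇑Q v v = 0 := by rw [polar_self, hv]; simp
    refine ⟨u + β • v + t, ?_, ?_, ?_⟩
    · rw [QuadraticMap.map_add ⇑Q, QuadraticMap.map_add ⇑Q, QuadraticMap.map_smul, hu, hv,
        polar_smul_right, polar_add_left, polar_smul_left, htu, htv, smul_eq_mul, smul_eq_mul,
        smul_eq_mul, hβ]
      field_simp
      ring
    · rw [polar_add_left, polar_add_left, polar_smul_left, huu, polar_comm ⇑Q t u, htu,
        polar_comm ⇑Q v u, smul_eq_mul, zero_add, add_zero]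
      exact mul_ne_zero hβ0 huv
    · rw [polar_add_left, polar_add_left, polar_smul_left, hvv, polar_comm ⇑Q t v, htv,
        smul_eq_mul, mul_zero, add_zero, add_zero]
      exact huv

/-- a hyperbolic-partner-like vector: singular `z` with `f(z,b) = 0`, `f(z,a) ≠ 0`, for independent
orthogonal singular `a`, `b` -/
theorem exists_singular_perp_not_perp [FiniteDimensional F V]
    (hQ : (QuadraticMap.polarBilin Q).Nondegenerate) (a b : V) (ha : Q a = 0)
    (hab : polar ⇑Q a b = 0) (hind : a ∉ Submodule.span F {b}) :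
    ∃ z, Q z = 0 ∧ polar ⇑Q z b = 0 ∧ polar ⇑Q z a ≠ 0 := by
  set Bf : LinearMap.BilinForm F V := QuadraticMap.polarBilin Q with hB
  obtain ⟨v, hvb, hva⟩ : ∃ v, polar ⇑Q b v = 0 ∧ polar ⇑Q a v ≠ 0 := by
    by_contra hcon
    push Not at hcon
    apply hind
    rw [← LinearMap.BilinForm.orthogonal_orthogonal hQ (polarBilin_isRefl Q) (Submodule.span F {b}),
      LinearMap.BilinForm.mem_orthogonal_iff]
    intro n hn
    rw [LinearMap.BilinForm.mem_orthogonal_iff] at hn
    have h1 : polar ⇑Q b n = 0 := hn b (Submodule.mem_span_singleton_self b)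
    show polar ⇑Q n a = 0
    rw [polar_comm]
    exact hcon n h1
  have haa : polar ⇑Q a a = 0 := by rw [polar_self, ha]; simp
  refine ⟨v - (Q v / polar ⇑Q a v) • a, ?_, ?_, ?_⟩
  · have h1 : Q (v - (Q v / polar ⇑Q a v) • a)
        = Q v + Q (-((Q v / polar ⇑Q a v) • a)) + polar ⇑Q v (-((Q v / polar ⇑Q a v) • a)) := by
      rw [sub_eq_add_neg, QuadraticMap.map_add ⇑Q]
    rw [h1, QuadraticMap.map_neg, QuadraticMap.map_smul, ha, polar_neg_right, polar_smul_right,
      polar_comm ⇑Q v a, smul_eq_mul, smul_eq_mul, mul_zero, add_zero, div_mul_cancel₀ _ hva,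
      add_neg_cancel]
  · rw [polar_sub_left, polar_smul_left, hab, smul_zero, sub_zero, polar_comm]
    exact hvb
  · rw [polar_sub_left, polar_smul_left, haa, smul_zero, sub_zero, polar_comm]
    exact hva

/-- the orthogonal of a span -/
theorem mem_orthogonal_span (S : Set V) (t : V) :
    t ∈ LinearMap.BilinForm.orthogonal (QuadraticMap.polarBilin Q) (Submodule.span F S)
      ↔ ∀ x ∈ S, polar ⇑Q x t = 0 := by
  rw [LinearMap.BilinForm.mem_orthogonal_iff]
  constructor
  · intro h x hx
    exact h x (Submodule.subset_span hx)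
  · intro h n hn
    show QuadraticMap.polarBilin Q n t = 0
    induction hn using Submodule.span_induction with
    | mem n hn => exact h n hn
    | zero => simp
    | add x y _ _ hx hy => rw [map_add, LinearMap.add_apply, hx, hy, add_zero]
    | smul c x _ hx => rw [map_smul, LinearMap.smul_apply, hx, smul_zero]

/-- a vector outside the line `⟨d⟩` is detected by some vector of `d^⟂` -/
theorem exists_perp_not_perp [FiniteDimensional F V]
    (hQ : (QuadraticMap.polarBilin Q).Nondegenerate) (a d : V)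
    (hind : a ∉ Submodule.span F {d}) :
    ∃ v, polar ⇑Q d v = 0 ∧ polar ⇑Q a v ≠ 0 := by
  by_contra hcon
  push Not at hcon
  apply hind
  rw [← LinearMap.BilinForm.orthogonal_orthogonal hQ (polarBilin_isRefl Q) (Submodule.span F {d}),
    LinearMap.BilinForm.mem_orthogonal_iff]
  intro n hn
  rw [LinearMap.BilinForm.mem_orthogonal_iff] at hn
  have h1 : polar ⇑Q d n = 0 := hn d (Submodule.mem_span_singleton_self d)
  show polar ⇑Q n a = 0
  rw [polar_comm]
  exact hcon n h1

/-- two vectors outside the line `⟨d⟩` are simultaneously detected by some vector of `d^⟂` -/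
theorem exists_perp_not_perp_both [FiniteDimensional F V]
    (hQ : (QuadraticMap.polarBilin Q).Nondegenerate) (a z d : V)
    (ha : a ∉ Submodule.span F {d}) (hz : z ∉ Submodule.span F {d}) :
    ∃ v, polar ⇑Q d v = 0 ∧ polar ⇑Q a v ≠ 0 ∧ polar ⇑Q z v ≠ 0 := by
  obtain ⟨v₁, h1d, h1a⟩ := exists_perp_not_perp Q hQ a d ha
  obtain ⟨v₂, h2d, h2z⟩ := exists_perp_not_perp Q hQ z d hz
  by_cases h1z : polar ⇑Q z v₁ = 0
  swap
  · exact ⟨v₁, h1d, h1a, h1z⟩
  by_cases h2a : polar ⇑Q a v₂ = 0
  swap
  · exact ⟨v₂, h2d, h2a, h2z⟩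
  refine ⟨v₁ + v₂, ?_, ?_, ?_⟩
  · rw [polar_add_right, h1d, h2d, add_zero]
  · rw [polar_add_right, h2a, add_zero]
    exact h1a
  · rw [polar_add_right, h1z, zero_add]
    exact h2z

/-- (G6) singular vectors of the hyperplane `d^⟂` are not all orthogonal to `a ∉ ⟨d⟩` -/
theorem exists_singular_perp_ne [Fintype F] [FiniteDimensional F V]
    (hQ : (QuadraticMap.polarBilin Q).Nondegenerate) (hn : 6 ≤ finrank F V) (a d : V)
    (hd : d ≠ 0) (hind : a ∉ Submodule.span F {d}) :
    ∃ u, Q u = 0 ∧ polar ⇑Q u d = 0 ∧ polar ⇑Q u a ≠ 0 := by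
  classical
  set Bf : LinearMap.BilinForm F V := QuadraticMap.polarBilin Q with hB
  -- a vector `c` not orthogonal to `d`
  obtain ⟨c, hc⟩ : ∃ c, polar ⇑Q d c ≠ 0 := by
    by_contra hcon
    push Not at hcon
    exact hd (hQ.1 d hcon)
  -- a non-zero singular vector orthogonal to `d`, `a`, `c`
  set T : Finset V := {d, a, c} with hT
  set N := Bf.orthogonal (Submodule.span F (T : Set V)) with hN
  have hdN : finrank F N = finrank F V - finrank F (Submodule.span F (T : Set V)) :=
    LinearMap.BilinForm.finrank_orthogonal hQ _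
  have hTle : finrank F (Submodule.span F (T : Set V)) ≤ 3 := by
    have h := finrank_span_finset_le_card (R := F) T
    have h2 : T.card ≤ 3 := Finset.card_le_three
    unfold Set.finrank at h
    omega
  have hN3 : 3 ≤ finrank F N := by omega
  obtain ⟨z', hz'0, hz'⟩ := exists_singular (Q.comp N.subtype) hN3
  have hzN : ∀ x ∈ (T : Set V), polar ⇑Q x (z' : V) = 0 :=
    (mem_orthogonal_span Q (T : Set V) (z' : V)).1 z'.2
  have hzd : polar ⇑Q d (z' : V) = 0 := hzN d (by simp [hT])
  have hza : polar ⇑Q a (z' : V) = 0 := hzN a (by simp [hT])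
  have hzc : polar ⇑Q c (z' : V) = 0 := hzN c (by simp [hT])
  have hzQ : Q (z' : V) = 0 := hz'
  have hz0 : (z' : V) ≠ 0 := fun h => hz'0 (Subtype.ext h)
  have hzind : (z' : V) ∉ Submodule.span F {d} := by
    intro hmem
    obtain ⟨μ, hμ⟩ := Submodule.mem_span_singleton.1 hmem
    have hμ0 : μ ≠ 0 := by
      rintro rfl
      rw [zero_smul] at hμ
      exact hz0 hμ.symm
    rw [← hμ, polar_smul_right, smul_eq_mul, polar_comm] at hzc
    exact (mul_ne_zero hμ0 hc) hzc
  obtain ⟨y, hyd, hya, hyz⟩ := exists_perp_not_perp_both Q hQ a (z' : V) d hind hzind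
  refine ⟨y - (Q y / polar ⇑Q (z' : V) y) • (z' : V), ?_, ?_, ?_⟩
  · have h1 : Q (y - (Q y / polar ⇑Q (z' : V) y) • (z' : V))
        = Q y + Q (-((Q y / polar ⇑Q (z' : V) y) • (z' : V)))
          + polar ⇑Q y (-((Q y / polar ⇑Q (z' : V) y) • (z' : V))) := by
      rw [sub_eq_add_neg, QuadraticMap.map_add ⇑Q]
    rw [h1, QuadraticMap.map_neg, QuadraticMap.map_smul, hzQ, polar_neg_right, polar_smul_right,
      polar_comm ⇑Q y (z' : V), smul_eq_mul, smul_eq_mul, mul_zero, add_zero,
      div_mul_cancel₀ _ hyz, add_neg_cancel]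
  · rw [polar_sub_left, polar_smul_left, polar_comm ⇑Q (z' : V) d, hzd, smul_zero, sub_zero,
      polar_comm]
    exact hyd
  · rw [polar_sub_left, polar_smul_left, polar_comm ⇑Q (z' : V) a, hza, smul_zero, sub_zero,
      polar_comm]
    exact hya

/-- a vector outside the plane `⟨y,z⟩` is detected by some vector of `{y,z}^⟂` -/
theorem exists_perp_pair_not_perp [FiniteDimensional F V]
    (hQ : (QuadraticMap.polarBilin Q).Nondegenerate) (x y z : V)
    (hind : x ∉ Submodule.span F {y, z}) :
    ∃ p, polar ⇑Q y p = 0 ∧ polar ⇑Q z p = 0 ∧ polar ⇑Q x p ≠ 0 := by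
  by_contra hcon
  push Not at hcon
  apply hind
  rw [← LinearMap.BilinForm.orthogonal_orthogonal hQ (polarBilin_isRefl Q)
    (Submodule.span F {y, z}), LinearMap.BilinForm.mem_orthogonal_iff]
  intro n hn
  rw [mem_orthogonal_span_pair] at hn
  show polar ⇑Q n x = 0
  rw [polar_comm]
  exact hcon n hn.1 hn.2

/-- data for writing the Eichler transformation `E(u,w)` as a commutator
`⁅E(u',w), E(u,w')⁆` -/
theorem exists_commutator_data [Fintype F] [FiniteDimensional F V]
    (hQ : (QuadraticMap.polarBilin Q).Nondegenerate) (hn : 7 ≤ finrank F V) (u w : V)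
    (hu0 : u ≠ 0) (hind : w ∉ Submodule.span F {u}) :
    ∃ u' w', Q u' = 0 ∧ polar ⇑Q u u' = 0 ∧ polar ⇑Q u' w = 0 ∧ polar ⇑Q u w' = 0 ∧
      polar ⇑Q u' w' = -1 ∧ polar ⇑Q w w' = -(Q w) := by
  classical
  set Bf : LinearMap.BilinForm F V := QuadraticMap.polarBilin Q with hB
  obtain ⟨c₂, hc₂u, hc₂w⟩ := exists_perp_not_perp Q hQ w u hind
  obtain ⟨c₁, hc₁⟩ : ∃ c, polar ⇑Q u c ≠ 0 := by
    by_contra hcon
    push Not at hcon
    exact hu0 (hQ.1 u hcon)
  set T : Finset V := {u, w, c₁, c₂} with hT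
  set N := Bf.orthogonal (Submodule.span F (T : Set V)) with hN
  have hdN : finrank F N = finrank F V - finrank F (Submodule.span F (T : Set V)) :=
    LinearMap.BilinForm.finrank_orthogonal hQ _
  have hTle : finrank F (Submodule.span F (T : Set V)) ≤ 4 := by
    have h := finrank_span_finset_le_card (R := F) T
    have h2 : T.card ≤ 4 := Finset.card_le_four
    unfold Set.finrank at h
    omega
  have hN3 : 3 ≤ finrank F N := by omega
  obtain ⟨z', hz'0, hz'⟩ := exists_singular (Q.comp N.subtype) hN3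
  have hzN : ∀ x ∈ (T : Set V), polar ⇑Q x (z' : V) = 0 :=
    (mem_orthogonal_span Q (T : Set V) (z' : V)).1 z'.2
  have hzu : polar ⇑Q u (z' : V) = 0 := hzN u (by simp [hT])
  have hzw : polar ⇑Q w (z' : V) = 0 := hzN w (by simp [hT])
  have hzc₁ : polar ⇑Q c₁ (z' : V) = 0 := hzN c₁ (by simp [hT])
  have hzc₂ : polar ⇑Q c₂ (z' : V) = 0 := hzN c₂ (by simp [hT])
  have hzQ : Q (z' : V) = 0 := hz'
  have hz0 : (z' : V) ≠ 0 := fun h => hz'0 (Subtype.ext h)
  -- `z' ∉ ⟨u, w⟩`
  have hzind : (z' : V) ∉ Submodule.span F {u, w} := by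
    intro hmem
    obtain ⟨α, β, hαβ⟩ := Submodule.mem_span_pair.1 hmem
    have h1 : polar ⇑Q c₂ (z' : V) = β * polar ⇑Q w c₂ := by
      rw [← hαβ, polar_add_right, polar_smul_right, polar_smul_right, polar_comm ⇑Q c₂ u, hc₂u,
        polar_comm ⇑Q c₂ w]
      simp
    have hβ : β = 0 := by
      rw [hzc₂] at h1
      rcases mul_eq_zero.1 h1.symm with h | h
      · exact h
      · exact absurd h hc₂w
    have h2 : polar ⇑Q c₁ (z' : V) = α * polar ⇑Q u c₁ := by
      rw [← hαβ, hβ, zero_smul, add_zero, polar_smul_right, polar_comm ⇑Q c₁ u]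
      simp
    have hα : α = 0 := by
      rw [hzc₁] at h2
      rcases mul_eq_zero.1 h2.symm with h | h
      · exact h
      · exact absurd h hc₁
    rw [hα, hβ, zero_smul, zero_smul, add_zero] at hαβ
    exact hz0 hαβ.symm
  obtain ⟨p, hpu, hpw, hpz⟩ := exists_perp_pair_not_perp Q hQ (z' : V) u w hzind
  refine ⟨(z' : V), (-(polar ⇑Q (z' : V) p)⁻¹) • p + (-(Q w) / polar ⇑Q w c₂) • c₂, hzQ, hzu, ?_,
    ?_, ?_, ?_⟩
  · rw [polar_comm]
    exact hzw
  · rw [polar_add_right, polar_smul_right, polar_smul_right, hpu, hc₂u, smul_zero, smul_zero,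
      add_zero]
  · rw [polar_add_right, polar_smul_right, polar_smul_right, polar_comm ⇑Q (z' : V) c₂, hzc₂,
      smul_zero, add_zero, smul_eq_mul, neg_mul, inv_mul_cancel₀ hpz]
  · rw [polar_add_right, polar_smul_right, polar_smul_right, hpw, smul_zero, zero_add,
      smul_eq_mul, div_mul_cancel₀ _ hc₂w]

end Cfsg.Agent.Helper44
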