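import Mathlib
import Cfsg.Agent.Helper44.Eichler
import Cfsg.Agent.Helper44.SingGeom

/-!
# Transitivity properties of Eichler transformations (abstract quadratic space, finite field)

* `exists_eichler_map_eq`: if `Q a = Q a'`, `a' ≠ a` and `a ∉ ⟨a' - a⟩`, a single Eichler
  transformation maps `a` to `a'` (dimension at least 6).
* `exists_eichler_map_smul`: a single Eichler transformation maps a singular point to any other
  singular point (dimension at least 5).
-/

set_option autoImplicit false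

namespace Cfsg.Agent.Helper44

open Module QuadraticMap Cfsg.Agent.Helper14

variable {F V : Type*} [Field F] [AddCommGroup V] [Module F V]
variable (Q : QuadraticForm F V)

local notation "B" => QuadraticMap.polarBilin Q

theorem exists_eichler_map_eq [Fintype F] [FiniteDimensional F V]
    (hQ : (QuadraticMap.polarBilin Q).Nondegenerate) (hn : 6 ≤ finrank F V) (a a' : V)
    (haa' : Q a = Q a') (hd : a' - a ≠ 0) (hind : a ∉ Submodule.span F {a' - a}) :
    ∃ u w, Q u = 0 ∧ B u w = 0 ∧ eichler Q u w a = a' := by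
  obtain ⟨u, hu, hud, hua⟩ := exists_singular_perp_ne Q hQ hn a (a' - a) hd hind
  have hua' : B u a ≠ 0 := hua
  have hud' : B u (a' - a) = 0 := hud
  refine ⟨u, (B u a)⁻¹ • (a - a'), hu, ?_, eichler_map_eq' Q u a a' haa' (B u a) hua' rfl⟩
  have h1 : a - a' = -(a' - a) := by abel
  rw [map_smul, h1, map_neg, hud', neg_zero, smul_zero]

theorem exists_eichler_map_smul [FiniteDimensional F V]
    (hQ : (QuadraticMap.polarBilin Q).Nondegenerate) (hn : 5 ≤ finrank F V) (a b : V)
    (ha : Q a = 0) (hb : Q b = 0) (ha0 : a ≠ 0) (hb0 : b ≠ 0) :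
    ∃ (u w : V) (c : F), Q u = 0 ∧ B u w = 0 ∧ c ≠ 0 ∧ eichler Q u w a = c • b := by
  obtain ⟨p, hp, hpa, hpb⟩ := exists_singular_polar_ne_zero_both Q hQ hn a b ha hb ha0 hb0
  have hpa' : B p a ≠ 0 := hpa
  have hpb' : B p b ≠ 0 := hpb
  have hQcb : Q ((B p a / B p b) • b) = 0 := by rw [QuadraticMap.map_smul, hb, smul_zero]
  refine ⟨p, (B p a)⁻¹ • (a - (B p a / B p b) • b), B p a / B p b, hp, ?_,
    div_ne_zero hpa' hpb', eichler_map_eq Q p a _ ha hQcb (B p a) hpa' rfl⟩
  rw [map_smul, map_sub, map_smul, smul_eq_mul, smul_eq_mul, div_mul_cancel₀ _ hpb', sub_self,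
    mul_zero]

end Cfsg.Agent.Helper44
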