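import Mathlib
import Cfsg.Prelude.Def_ClassicalGeometry
import Cfsg.Agent.Helper44.DicksonGen
import Cfsg.Agent.Helper44.HypPairs

/-!
# `diag(g₁, 1) ∈ Ω(Q₁ ⊕ Q₂) ↔ g₁ ∈ Ω(Q₁)`
-/

set_option autoImplicit false

namespace Cfsg.Agent.Helper44

open Matrix QuadraticMap

variable {F : Type*} [Field F]
variable {ι₁ ι₂ : Type} [Fintype ι₁] [DecidableEq ι₁] [Fintype ι₂] [DecidableEq ι₂]

/-- spinor norm criterion for a product of `reflT`s, odd characteristic -/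
theorem prod_reflT_mem_Omega_iff [Finite F] {ι : Type} [Fintype ι] [DecidableEq ι]
    (Q : QuadraticForm F (ι → F)) (h2 : (2 : F) ≠ 0) (vs : List (ι → F))
    (hvs : ∀ v ∈ vs, Q v ≠ 0) :
    (vs.map (reflT Q)).prod ∈ Cfsg.Omega F ⇑Q
      ↔ (Even vs.length ∧ IsSquare (vs.map (fun v => Q v)).prod) :=
  mem_Omega_iff_of_prod_reflections Q h2 _ vs hvs (coe_prod_reflT Q vs hvs)

theorem inlIso_mem_Omega_iff [Fintype F] (Q₁ : QuadraticForm F (ι₁ → F))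
    (Q₂ : QuadraticForm F (ι₂ → F)) (h₁ : (QuadraticMap.polarBilin Q₁).Nondegenerate)
    (h₂ : (QuadraticMap.polarBilin Q₂).Nondegenerate)
    (h : Fintype.card F ≠ 2 ∨ Fintype.card ι₁ ≠ 4) (g₁ : Cfsg.isometryGroup F ⇑Q₁) :
    inlIso Q₁ Q₂ g₁ ∈ Cfsg.Omega F ⇑(orthSumForm Q₁ Q₂) ↔ g₁ ∈ Cfsg.Omega F ⇑Q₁ := by
  constructor
  swap
  · intro hg
    exact map_mem_commutator (inlIso Q₁ Q₂) hg
  intro hg
  obtain ⟨vs, hvs, rfl⟩ := exists_list_reflT Q₁ h₁ h g₁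
  rw [inlIso_prod_reflT Q₁ Q₂ vs hvs] at hg
  have hvs' : ∀ x ∈ vs.map (fun v => (Sum.elim v 0 : ι₁ ⊕ ι₂ → F)), orthSumForm Q₁ Q₂ x ≠ 0 := by
    intro x hx
    obtain ⟨v, hv, rfl⟩ := List.mem_map.1 hx
    rw [orthSumForm_elim_zero]
    exact hvs v hv
  by_cases h2 : (2 : F) = 0
  · haveI : CharP F 2 := CharTwo.of_one_ne_zero_of_two_eq_zero one_ne_zero h2
    have hev := even_length_of_prod_reflT_mem_Omega (orthSumForm Q₁ Q₂)
      (nondegenerate_orthSumForm Q₁ Q₂ h₁ h₂) _ hvs' hg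
    rw [List.length_map] at hev
    apply prod_reflT_mem_Omega_two Q₁ h₁ _ vs hvs hev
    rcases h with h | h
    · exact Or.inl (exists_ne_zero_ne_one_of_card_ne_two h)
    · exact Or.inr h
  · rw [prod_reflT_mem_Omega_iff _ h2 _ hvs'] at hg
    rw [prod_reflT_mem_Omega_iff _ h2 _ hvs]
    rw [List.length_map, List.map_map] at hg
    have e : ((fun v => (orthSumForm Q₁ Q₂) v) ∘ fun v => (Sum.elim v 0 : ι₁ ⊕ ι₂ → F))
        = fun v => Q₁ v := by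
      funext v
      exact orthSumForm_elim_zero Q₁ Q₂ v
    rw [e] at hg
    exact hg

end Cfsg.Agent.Helper44
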