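import Mathlib
import Cfsg.Prelude.Def_ClassicalGeometry
import Cfsg.Agent.Helper5.EichlerO
import Cfsg.Agent.Helper44.EichlerTrans

/-!
# Eichler transformations and `Ω`

General `Q : QuadraticForm F (ι → F)` over a finite field with non-degenerate polar form.

* `eichlerO_mem_Omega`: every Eichler transformation lies in `Ω` (`5 ≤ card ι`).
* `Omega_le_eichlerGroup`: `Ω` is contained in the group generated by the Eichler transformations
  (`6 ≤ card ι`).
* `Omega_eq_eichlerGroup`.
-/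

set_option autoImplicit false

namespace Cfsg.Agent.Helper44

open Matrix QuadraticMap Module Cfsg.Agent.Helper45.OmegaParity Cfsg.Agent.Helper5

open scoped commutatorElement

variable {F : Type*} [Field F] {ι : Type} [Fintype ι] [DecidableEq ι]
variable (Q : QuadraticForm F (ι → F))

theorem lin_refl (w : ι → F) (hw : Q w ≠ 0) (x : ι → F) :
    lin Q (refl Q w hw) x = Helper14.qRefl Q w x := by
  rw [← reflT_of_ne Q w hw, lin_reflT Q w hw]

/-- `E(u,w) = r_{-w} r_{-w + Q(w) u}` for non-singular `w` -/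
theorem eichlerO_eq_refl_mul_refl {u w : ι → F} (hu : Q u = 0) (huw : polar ⇑Q u w = 0)
    (hw : Q w ≠ 0) :
    ∃ (h1 : Q (-w) ≠ 0) (h2 : Q (-w + Q (-w) • u) ≠ 0), Q (-w) = Q (-w + Q (-w) • u) ∧
      eichlerO Q u w = refl Q (-w) h1 * refl Q (-w + Q (-w) • u) h2 := by
  have h1 : Q (-w) ≠ 0 := by rw [QuadraticMap.map_neg]; exact hw
  have huw' : polarBilin Q u (-w) = 0 := by
    rw [map_neg, polarBilin_apply_apply, huw, neg_zero]
  have hQ' : Q (-w + Q (-w) • u) = Q (-w) :=
    Helper14.quad_add_smul_singular Q u (-w) hu huw' (Q (-w))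
  have h2 : Q (-w + Q (-w) • u) ≠ 0 := by rw [hQ']; exact h1
  refine ⟨h1, h2, hQ'.symm, ?_⟩
  apply isom_ext
  intro x
  rw [lin_mul_apply, lin_refl, lin_refl, ← eichler_neg_eq_qRefl_comp Q u (-w) hu huw' h1, neg_neg,
    lin_eichlerO Q hu huw, Helper14.eichler_apply]
  simp only [polarBilin_apply_apply]

theorem eichlerO_mem_Omega_of_ne [Fintype F] (hQ : (QuadraticMap.polarBilin Q).Nondegenerate)
    (hn : 5 ≤ Fintype.card ι) {u w : ι → F} (hu : Q u = 0) (huw : polar ⇑Q u w = 0)
    (hw : Q w ≠ 0) : eichlerO Q u w ∈ Cfsg.Omega F ⇑Q := by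
  obtain ⟨h1, h2, h12, e⟩ := eichlerO_eq_refl_mul_refl Q hu huw hw
  rw [e]
  by_cases h2F : (2 : F) = 0
  · haveI : CharP F 2 := CharTwo.of_one_ne_zero_of_two_eq_zero one_ne_zero h2F
    exact refl_mul_refl_mem_Omega_two_of_eq Q hQ (Or.inr (by omega)) _ _ h1 h2 h12
  · exact refl_mul_refl_mem_Omega_of_eq Q h2F _ _ h1 h2 h12

/-- **Every Eichler transformation lies in `Ω`.** -/
theorem eichlerO_mem_Omega [Fintype F] (hQ : (QuadraticMap.polarBilin Q).Nondegenerate)
    (hn : 5 ≤ Fintype.card ι) (u w : ι → F) : eichlerO Q u w ∈ Cfsg.Omega F ⇑Q := by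
  by_cases h : Q u = 0 ∧ polar ⇑Q u w = 0
  swap
  · unfold eichlerO
    rw [dif_neg h]
    exact one_mem _
  obtain ⟨hu, huw⟩ := h
  by_cases hw : Q w = 0
  swap
  · exact eichlerO_mem_Omega_of_ne Q hQ hn hu huw hw
  obtain ⟨t, htu, htw, ht⟩ := exists_nonsingular_perp_pair Q hQ
    (by rw [Module.finrank_fintype_fun_eq_card]; exact hn) u w
  have h1 : polar ⇑Q u (w - t) = 0 := by rw [polar_sub_right, huw, htu, sub_zero]
  have h2 : Q (w - t) ≠ 0 := by
    have e : Q (w - t) = Q w + Q t - polar ⇑Q w t := by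
      have h3 : w - t = w + (-t) := sub_eq_add_neg w t
      rw [h3, QuadraticMap.map_add ⇑Q, QuadraticMap.map_neg, polar_neg_right]
      ring
    rw [e, hw, htw, zero_add, sub_zero]
    exact ht
  have h3 : eichlerO Q u w = eichlerO Q u t * eichlerO Q u (w - t) := by
    rw [eichlerO_mul Q hu htu h1, add_sub_cancel]
  rw [h3]
  exact mul_mem (eichlerO_mem_Omega_of_ne Q hQ hn hu htu ht)
    (eichlerO_mem_Omega_of_ne Q hQ hn hu h1 h2)

theorem eichlerGroup_le_Omega [Fintype F] (hQ : (QuadraticMap.polarBilin Q).Nondegenerate)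
    (hn : 5 ≤ Fintype.card ι) : eichlerGroup Q ≤ Cfsg.Omega F ⇑Q := by
  unfold eichlerGroup
  rw [Subgroup.closure_le]
  rintro g ⟨u, w, _, _, rfl⟩
  exact eichlerO_mem_Omega Q hQ hn u w

/-- products of two reflections in vectors of equal norm lie in the Eichler group -/
theorem refl_mul_refl_mem_eichlerGroup [Fintype F]
    (hQ : (QuadraticMap.polarBilin Q).Nondegenerate) (hn : 6 ≤ Fintype.card ι) (a a' : ι → F)
    (ha : Q a ≠ 0) (ha' : Q a' ≠ 0) (haa' : Q a = Q a') :
    refl Q a ha * refl Q a' ha' ∈ eichlerGroup Q := by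
  by_cases hd : a' - a = 0
  · have e : a' = a := sub_eq_zero.1 hd
    rw [refl_congr Q e ha' ha, refl_mul_self]
    exact one_mem _
  by_cases hind : a ∈ Submodule.span F {a' - a}
  · obtain ⟨μ, hμ⟩ := Submodule.mem_span_singleton.1 hind
    have hμ0 : μ ≠ 0 := by
      rintro rfl
      rw [zero_smul] at hμ
      rw [← hμ, map_zero] at ha
      exact ha rfl
    have e : a' = (μ⁻¹ * (1 + μ)) • a := by
      have h1 : μ • a' = (1 + μ) • a := by
        rw [smul_sub] at hμ
        rw [add_smul, one_smul]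
        nth_rewrite 1 [← hμ]
        abel
      rw [mul_smul, ← h1, smul_smul, inv_mul_cancel₀ hμ0, one_smul]
    have ha'' : Q ((μ⁻¹ * (1 + μ)) • a) ≠ 0 := by rw [← e]; exact ha'
    rw [refl_congr Q e ha' ha'', refl_smul Q a ha _ ha'', refl_mul_self]
    exact one_mem _
  obtain ⟨u, w, hu, huw, hmap⟩ := exists_eichler_map_eq Q hQ
    (by rw [Module.finrank_fintype_fun_eq_card]; exact hn) a a' haa' hd hind
  have huw' : polar ⇑Q u w = 0 := huw
  have hka : ((eichlerO Q u w).1 : Matrix ι ι F) *ᵥ a = a' := by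
    rw [← lin_apply, lin_eichlerO Q hu huw', ← hmap, Helper14.eichler_apply]
    simp only [polarBilin_apply_apply]
  have hk' : Q (((eichlerO Q u w).1 : Matrix ι ι F) *ᵥ a) ≠ 0 := by rw [hka]; exact ha'
  have h1 := mul_refl Q (eichlerO Q u w) a ha hk'
  have h2 : refl Q a' ha' = eichlerO Q u w * refl Q a ha * (eichlerO Q u w)⁻¹ := by
    rw [h1, refl_congr Q hka hk' ha']
    group
  have h3 : refl Q a ha * refl Q a' ha'
      = (refl Q a ha * eichlerO Q u w * (refl Q a ha)⁻¹) * (eichlerO Q u w)⁻¹ := by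
    rw [h2, refl_inv]
    group
  rw [h3]
  exact mul_mem ((eichlerGroup_normal Q).conj_mem _ (eichlerO_mem_eichlerGroup Q u w) _)
    (inv_mem (eichlerO_mem_eichlerGroup Q u w))

/-- commutators of reflections lie in the Eichler group -/
theorem commutator_refl_mem_eichlerGroup [Fintype F]
    (hQ : (QuadraticMap.polarBilin Q).Nondegenerate) (hn : 6 ≤ Fintype.card ι) (a b : ι → F)
    (ha : Q a ≠ 0) (hb : Q b ≠ 0) :
    ⁅refl Q a ha, refl Q b hb⁆ ∈ eichlerGroup Q := by
  have hQa' : Q (((refl Q b hb).1 : Matrix ι ι F) *ᵥ a) = Q a := isometryGroup_apply _ a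
  have ha' : Q (((refl Q b hb).1 : Matrix ι ι F) *ᵥ a) ≠ 0 := by rw [hQa']; exact ha
  have h1 := mul_refl Q (refl Q b hb) a ha ha'
  have h2 : refl Q _ ha' = refl Q b hb * refl Q a ha * refl Q b hb := by
    rw [h1, mul_assoc, refl_mul_self, mul_one]
  have h3 : ⁅refl Q a ha, refl Q b hb⁆ = refl Q a ha * refl Q _ ha' := by
    rw [commutatorElement_def, refl_inv, refl_inv, h2]
    group
  rw [h3]
  exact refl_mul_refl_mem_eichlerGroup Q hQ hn a _ ha ha' hQa'.symm

/-- **`Ω` is generated by Eichler transformations** (one inclusion). -/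
theorem Omega_le_eichlerGroup [Fintype F] (hQ : (QuadraticMap.polarBilin Q).Nondegenerate)
    (hn : 6 ≤ Fintype.card ι) : Cfsg.Omega F ⇑Q ≤ eichlerGroup Q := by
  have hcomm : ∀ a b : ι → F, Q a ≠ 0 → Q b ≠ 0 →
      Commute (QuotientGroup.mk' (eichlerGroup Q) (reflT Q a))
        (QuotientGroup.mk' (eichlerGroup Q) (reflT Q b)) := by
    intro a b ha hb
    rw [← commutatorElement_eq_one_iff_commute, ← map_commutatorElement, reflT_of_ne Q a ha,
      reflT_of_ne Q b hb]
    exact (QuotientGroup.eq_one_iff _).2 (commutator_refl_mem_eichlerGroup Q hQ hn a b ha hb)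
  have hall : ∀ g h : Cfsg.isometryGroup F ⇑Q,
      Commute (QuotientGroup.mk' (eichlerGroup Q) g) (QuotientGroup.mk' (eichlerGroup Q) h) := by
    intro g h
    obtain ⟨vs, hvs, rfl⟩ := exists_list_reflT Q hQ (Or.inr (by omega)) g
    obtain ⟨ws, hws, rfl⟩ := exists_list_reflT Q hQ (Or.inr (by omega)) h
    rw [map_list_prod, map_list_prod]
    apply Commute.list_prod_left
    intro x hx
    apply Commute.list_prod_right
    intro y hy
    rw [List.map_map, List.mem_map] at hx hy
    obtain ⟨a, ha, rfl⟩ := hx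
    obtain ⟨b, hb, rfl⟩ := hy
    exact hcomm a b (hvs a ha) (hws b hb)
  show commutator (Cfsg.isometryGroup F ⇑Q) ≤ _
  rw [commutator_def, Subgroup.commutator_le]
  intro g _ h _
  rw [← QuotientGroup.eq_one_iff (N := eichlerGroup Q)]
  show QuotientGroup.mk' (eichlerGroup Q) ⁅g, h⁆ = 1
  rw [map_commutatorElement]
  exact commutatorElement_eq_one_iff_commute.2 (hall g h)

/-- **`Ω` is the group generated by the Eichler transformations.** -/
theorem Omega_eq_eichlerGroup [Fintype F] (hQ : (QuadraticMap.polarBilin Q).Nondegenerate)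
    (hn : 6 ≤ Fintype.card ι) : Cfsg.Omega F ⇑Q = eichlerGroup Q :=
  le_antisymm (Omega_le_eichlerGroup Q hQ hn) (eichlerGroup_le_Omega Q hQ (by omega))

end Cfsg.Agent.Helper44
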