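import Mathlib
import Cfsg.Prelude.Def_ClassicalGeometry
import Cfsg.Agent.Helper44.EichlerOmega

/-!
# `Ω` is perfect (dimension at least seven)

`E(u,w) = ⁅E(u',w), E(u,w')⁆` for suitable `u'`, `w'`; hence the Eichler group, which is `Ω`, is
perfect.
-/

set_option autoImplicit false

namespace Cfsg.Agent.Helper44

open Matrix QuadraticMap Module Cfsg.Agent.Helper45.OmegaParity Cfsg.Agent.Helper5

open scoped commutatorElement

variable {F : Type*} [Field F] {ι : Type} [Fintype ι] [DecidableEq ι]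
variable (Q : QuadraticForm F (ι → F))

/-- the commutator formula `E(u,w) = ⁅E(u',w), E(u,w')⁆` -/
theorem eichlerO_eq_commutator {u u' w w' : ι → F} (hu : Q u = 0) (hu' : Q u' = 0)
    (huu' : polar ⇑Q u u' = 0) (huw : polar ⇑Q u w = 0) (hu'w : polar ⇑Q u' w = 0)
    (huw' : polar ⇑Q u w' = 0) (hu'w' : polar ⇑Q u' w' = -1) (hww' : polar ⇑Q w w' = -(Q w)) :
    eichlerO Q u w = ⁅eichlerO Q u' w, eichlerO Q u w'⁆ := by
  have h1 : lin Q (eichlerO Q u' w) u = u := by
    rw [lin_eichlerO Q hu' hu'w, polar_comm ⇑Q w u, huw, polar_comm ⇑Q u' u, huu']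
    simp
  have h2 : lin Q (eichlerO Q u' w) w' = w' + w := by
    rw [lin_eichlerO Q hu' hu'w, hww', hu'w']
    module
  rw [commutatorElement_def, eichlerO_conj Q (eichlerO Q u' w) hu huw', eichlerO_inv Q hu huw',
    h1, h2, eichlerO_mul Q hu (by rw [polar_add_right, huw', huw, add_zero])
      (by rw [polar_neg_right, huw', neg_zero])]
  congr 1
  abel

theorem eichlerO_mem_commutator [Fintype F] (hQ : (QuadraticMap.polarBilin Q).Nondegenerate)
    (hn : 7 ≤ Fintype.card ι) (u w : ι → F) :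
    eichlerO Q u w ∈ ⁅eichlerGroup Q, eichlerGroup Q⁆ := by
  by_cases h : Q u = 0 ∧ polar ⇑Q u w = 0
  swap
  · unfold eichlerO
    rw [dif_neg h]
    exact one_mem _
  obtain ⟨hu, huw⟩ := h
  by_cases hu0 : u = 0
  · subst hu0
    have e : eichlerO Q 0 w = 1 := by
      apply isom_ext
      intro x
      rw [lin_eichlerO Q hu huw, lin_one_apply]
      simp
    rw [e]
    exact one_mem _
  by_cases hind : w ∈ Submodule.span F {u}
  · obtain ⟨c, rfl⟩ := Submodule.mem_span_singleton.1 hind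
    have e : eichlerO Q u (c • u) = 1 := by
      have h1 := eichlerO_add_smul Q hu (QuadraticMap.polar_zero_right Q u) c
      rw [zero_add, eichlerO_zero] at h1
      exact h1
    rw [e]
    exact one_mem _
  obtain ⟨u', w', hu', huu', hu'w, huw', hu'w', hww'⟩ := exists_commutator_data Q hQ
    (by rw [Module.finrank_fintype_fun_eq_card]; exact hn) u w hu0 hind
  rw [eichlerO_eq_commutator Q hu hu' huu' huw hu'w huw' hu'w' hww']
  exact Subgroup.commutator_mem_commutator (eichlerO_mem_eichlerGroup Q u' w)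
    (eichlerO_mem_eichlerGroup Q u w')

theorem eichlerGroup_le_commutator [Fintype F] (hQ : (QuadraticMap.polarBilin Q).Nondegenerate)
    (hn : 7 ≤ Fintype.card ι) : eichlerGroup Q ≤ ⁅eichlerGroup Q, eichlerGroup Q⁆ := by
  show Subgroup.closure (eichlerSet Q) ≤ _
  rw [Subgroup.closure_le]
  rintro g ⟨u, w, _, _, rfl⟩
  exact eichlerO_mem_commutator Q hQ hn u w

/-- **`Ω` is perfect** (as a subgroup of the isometry group) -/
theorem commutator_Omega_Omega [Fintype F] (hQ : (QuadraticMap.polarBilin Q).Nondegenerate)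
    (hn : 7 ≤ Fintype.card ι) :
    ⁅Cfsg.Omega F ⇑Q, Cfsg.Omega F ⇑Q⁆ = Cfsg.Omega F ⇑Q := by
  rw [Omega_eq_eichlerGroup Q hQ (by omega)]
  exact le_antisymm (Subgroup.commutator_le_right _ _) (eichlerGroup_le_commutator Q hQ hn)

/-- **`Ω` is perfect** (as a group) -/
theorem commutator_Omega_eq_top [Fintype F] (hQ : (QuadraticMap.polarBilin Q).Nondegenerate)
    (hn : 7 ≤ Fintype.card ι) : commutator ↥(Cfsg.Omega F ⇑Q) = ⊤ := by
  have h := Subgroup.map_subtype_commutator (Cfsg.Omega F ⇑Q)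
  rw [commutator_Omega_Omega Q hQ hn] at h
  apply Subgroup.map_injective (Cfsg.Omega F ⇑Q).subtype_injective
  rw [h, ← MonoidHom.range_eq_map, Subgroup.range_subtype]

end Cfsg.Agent.Helper44
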