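import Mathlib
import Cfsg.Agent.Helper44.EichlerTrans

/-!
# Linear maps commuting with all Eichler transformations are scalar (abstract quadratic space)

* `exists_smul_of_commute_eichler`: a linear map commuting with all Eichler transformations
  `E(u, ·)` maps the singular vector `u` to a multiple of itself.
* `exists_scalar_of_eigen`: a similarity fixing all singular points is a scalar.
-/

set_option autoImplicit false

namespace Cfsg.Agent.Helper44

open Module QuadraticMap Cfsg.Agent.Helper14

variable {F V : Type*} [Field F] [AddCommGroup V] [Module F V]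
variable (Q : QuadraticForm F V)

theorem exists_smul_of_commute_eichler [FiniteDimensional F V]
    (hQ : (QuadraticMap.polarBilin Q).Nondegenerate) (hn : 4 ≤ finrank F V) (G : V →ₗ[F] V)
    (u : V) (hu0 : u ≠ 0)
    (hG : ∀ w, polar ⇑Q u w = 0 → ∀ x, G (eichler Q u w x) = eichler Q u w (G x)) :
    ∃ a : F, G u = a • u := by
  set Bf : LinearMap.BilinForm F V := QuadraticMap.polarBilin Q with hB
  have key : ∀ y, polar ⇑Q u y = 0 → polar ⇑Q (G u) y = 0 := by
    intro y hy
    -- a vector `w ⟂ u, y` outside `⟨u⟩`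
    obtain ⟨w, hwN, hwu⟩ : ∃ w, w ∈ Bf.orthogonal (Submodule.span F {u, y})
        ∧ w ∉ Submodule.span F {u} := by
      by_contra hcon
      push Not at hcon
      have hle : Bf.orthogonal (Submodule.span F {u, y}) ≤ Submodule.span F {u} := hcon
      have h1 := Submodule.finrank_mono hle
      have h2 : finrank F (Bf.orthogonal (Submodule.span F {u, y}))
          = finrank F V - finrank F (Submodule.span F {u, y}) :=
        LinearMap.BilinForm.finrank_orthogonal hQ _
      have h3 := finrank_span_pair_le (F := F) u y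
      have h4 : finrank F (Submodule.span F {u}) = 1 := finrank_span_singleton hu0
      omega
    rw [mem_orthogonal_span_pair] at hwN
    obtain ⟨huw, hyw⟩ := hwN
    obtain ⟨x, hux, hwx⟩ := exists_perp_not_perp Q hQ w u hwu
    set x' := (polar ⇑Q w x)⁻¹ • x with hx'
    have hux' : polar ⇑Q u x' = 0 := by rw [hx', polar_smul_right, hux, smul_zero]
    have hwx' : polar ⇑Q w x' = 1 := by
      rw [hx', polar_smul_right, smul_eq_mul, inv_mul_cancel₀ hwx]
    have h1 : eichler Q u w x' = x' + u := by
      rw [eichler_apply]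
      simp only [polarBilin_apply_apply, hux', hwx']
      module
    have h2 := hG w huw x'
    rw [h1, map_add, eichler_apply] at h2
    have h3 : G u = polarBilin Q w (G x') • u - polarBilin Q u (G x') • w
        - (Q w * polarBilin Q u (G x')) • u := by
      linear_combination (norm := module) h2
    rw [h3]
    simp only [polar_sub_left, polar_smul_left, hy, polar_comm ⇑Q w y, hyw, smul_zero, sub_zero]
  have hmem : G u ∈ Bf.orthogonal (Bf.orthogonal (Submodule.span F {u})) := by
    rw [LinearMap.BilinForm.mem_orthogonal_iff]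
    intro n hn'
    rw [LinearMap.BilinForm.mem_orthogonal_iff] at hn'
    have h1 : polar ⇑Q u n = 0 := hn' u (Submodule.mem_span_singleton_self u)
    show polar ⇑Q n (G u) = 0
    rw [polar_comm]
    exact key n h1
  rw [LinearMap.BilinForm.orthogonal_orthogonal hQ (polarBilin_isRefl Q)] at hmem
  obtain ⟨a, ha⟩ := Submodule.mem_span_singleton.1 hmem
  exact ⟨a, ha.symm⟩

/-- a similarity fixing every singular point is a scalar -/
theorem exists_scalar_of_eigen [Fintype F] [FiniteDimensional F V]
    (hQ : (QuadraticMap.polarBilin Q).Nondegenerate) (hn : 5 ≤ finrank F V) (G : V →ₗ[F] V)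
    (μ : F) (hμ : μ ≠ 0) (hG : ∀ x, Q (G x) = μ * Q x)
    (heig : ∀ u, u ≠ 0 → Q u = 0 → ∃ a : F, G u = a • u) :
    ∃ a : F, ∀ x, G x = a • x := by
  have hpol : ∀ x y, polar ⇑Q (G x) (G y) = μ * polar ⇑Q x y := by
    intro x y
    unfold polar
    rw [← map_add, hG, hG, hG]
    ring
  have hA : ∀ {u v : V} {a b : F}, polar ⇑Q u v ≠ 0 → G u = a • u → G v = b • v → a * b = μ := by
    intro u v a b huv ha hb
    have h1 := hpol u v
    rw [ha, hb, polar_smul_left, polar_smul_right] at h1
    simp only [smul_eq_mul] at h1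
    have h2 : (a * b - μ) * polar ⇑Q u v = 0 := by linear_combination h1
    rcases mul_eq_zero.1 h2 with h | h
    · linear_combination h
    · exact absurd h huv
  have hB : ∀ {u v : V} {a b : F}, u ≠ 0 → v ≠ 0 → Q u = 0 → Q v = 0 →
      G u = a • u → G v = b • v → a = b := by
    intro u v a b hu0 hv0 hu hv ha hb
    obtain ⟨z, hz, hzu, hzv⟩ := exists_singular_polar_ne_zero_both Q hQ hn u v hu hv hu0 hv0
    have hz0 : z ≠ 0 := by
      rintro rfl
      exact hzu (polar_zero_left _ _)
    obtain ⟨c, hc⟩ := heig z hz0 hz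
    have h1 := hA hzu hc ha
    have h2 := hA hzv hc hb
    have hc0 : c ≠ 0 := by
      rintro rfl
      rw [zero_mul] at h1
      exact hμ h1.symm
    apply mul_left_cancel₀ hc0
    rw [h1, h2]
  obtain ⟨u₀, hu₀0, hu₀⟩ := exists_singular Q (by omega)
  have heig' : ∀ x : V, ∃ a : F, G x = a • x := by
    intro x
    by_cases hx0 : x = 0
    · exact ⟨0, by rw [hx0, map_zero, smul_zero]⟩
    obtain ⟨u, hu, hux⟩ : ∃ u, Q u = 0 ∧ polar ⇑Q u x ≠ 0 := by
      by_cases h : polar ⇑Q u₀ x = 0
      · obtain ⟨t, ht1, ht2⟩ := exists_polar_ne_zero_both Q hQ x u₀ hx0 hu₀0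
        refine ⟨t - (Q t / polar ⇑Q u₀ t) • u₀, ?_, ?_⟩
        · have h1 : Q (t - (Q t / polar ⇑Q u₀ t) • u₀)
              = Q t + Q (-((Q t / polar ⇑Q u₀ t) • u₀))
                + polar ⇑Q t (-((Q t / polar ⇑Q u₀ t) • u₀)) := by
            rw [sub_eq_add_neg, QuadraticMap.map_add ⇑Q]
          rw [h1, QuadraticMap.map_neg, QuadraticMap.map_smul, hu₀, polar_neg_right,
            polar_smul_right, polar_comm ⇑Q t u₀, smul_eq_mul, smul_eq_mul, mul_zero, add_zero,
            div_mul_cancel₀ _ ht2, add_neg_cancel]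
        · rw [polar_sub_left, polar_smul_left, h, smul_zero, sub_zero, polar_comm]
          exact ht1
      · exact ⟨u₀, hu₀, h⟩
    have hu0 : u ≠ 0 := by
      rintro rfl
      exact hux (polar_zero_left _ _)
    set c : F := -(Q x) / polar ⇑Q u x with hc
    have hsing : Q (x + c • u) = 0 := by
      rw [QuadraticMap.map_add ⇑Q, QuadraticMap.map_smul, hu, polar_smul_right, polar_comm ⇑Q x u,
        hc]
      simp only [smul_eq_mul, mul_zero, add_zero]
      field_simp
      ring
    have hu'0 : x + c • u ≠ 0 := by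
      intro h
      have h1 : polar ⇑Q u (x + c • u) = polar ⇑Q u x := by
        rw [polar_add_right, polar_smul_right, polar_self, hu]
        simp
      rw [h, polar_zero_right] at h1
      exact hux h1.symm
    obtain ⟨a, ha⟩ := heig u hu0 hu
    obtain ⟨b, hb⟩ := heig (x + c • u) hu'0 hsing
    have hab : a = b := hB hu0 hu'0 hu hsing ha hb
    refine ⟨a, ?_⟩
    have hx : x = (x + c • u) - c • u := by abel
    conv_lhs => rw [hx]
    rw [map_sub, map_smul, hb, ha, ← hab]
    module
  obtain ⟨a, ha⟩ := LinearMap.exists_eq_smul_id_of_forall_notLinearIndependent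
    (f := G) (by
      intro v
      obtain ⟨a, ha⟩ := heig' v
      rw [LinearIndependent.pair_iff]
      intro h
      have := h a (-1) (by rw [ha]; simp)
      exact one_ne_zero (neg_eq_zero.1 this.2))
  refine ⟨a, fun x => ?_⟩
  rw [ha]
  rfl

end Cfsg.Agent.Helper44
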