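import Mathlib
import Cfsg.Prelude.Def_LieTypeDatum
import Cfsg.Agent.Helper44.ConjAut
import Cfsg.Agent.Helper44.EichlerPerfect
import Cfsg.Agent.Helper44.ScalarOfCommute

/-!
# The kernel of the action of the similarity group on `PΩ(Q)` is the group of scalars
-/

set_option autoImplicit false

namespace Cfsg.Agent.Helper44

open Matrix QuadraticMap Module Cfsg.Agent.Helper45.OmegaParity Cfsg.Agent.Helper5

section generic

/-- an automorphism of a perfect group inducing the identity modulo the centre is the identity -/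
theorem aut_eq_one_of_perfect {H : Type*} [Group H] (hperf : commutator H = ⊤) (φ : MulAut H)
    (h : ∀ x, φ x * x⁻¹ ∈ Subgroup.center H) (x : H) : φ x = x := by
  let z : H →* H :=
    { toFun := fun x => φ x * x⁻¹
      map_one' := by simp
      map_mul' := fun a b => by
        show φ (a * b) * (a * b)⁻¹ = (φ a * a⁻¹) * (φ b * b⁻¹)
        have hb := Subgroup.mem_center_iff.1 (h b)
        rw [map_mul, _root_.mul_inv_rev]
        calc φ a * φ b * (b⁻¹ * a⁻¹) = φ a * ((φ b * b⁻¹) * a⁻¹) := by group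
          _ = φ a * (a⁻¹ * (φ b * b⁻¹)) := by rw [hb a⁻¹]
          _ = _ := by group }
  have hk : z.ker = ⊤ := by
    rw [eq_top_iff, ← hperf, commutator_def, Subgroup.commutator_le]
    intro a _ b _
    rw [MonoidHom.mem_ker, map_commutatorElement, commutatorElement_eq_one_iff_commute]
    exact (Subgroup.mem_center_iff.1 (h b) (z a))
  have h1 : z x = 1 := MonoidHom.mem_ker.1 (by rw [hk]; trivial)
  exact mul_inv_eq_one.1 h1

end generic

variable {F : Type*} [Field F] {ι : Type} [Fintype ι] [DecidableEq ι]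
variable (Q : QuadraticForm F (ι → F))

/-- an element of the kernel of `conjAut` commutes with `Ω` -/
theorem commute_of_mem_ker [Fintype F] (hQ : (QuadraticMap.polarBilin Q).Nondegenerate)
    (hn : 7 ≤ Fintype.card ι) (g : ↥(Cfsg.Geo.quadSimilarityGroup (F := F) ⇑Q))
    (hg : g ∈ (conjAut ⇑Q).ker) (s : ↥(Cfsg.Omega F ⇑Q)) :
    g.1 * ((s : ↥(Cfsg.isometryGroup F ⇑Q)) : GL ι F)
      = ((s : ↥(Cfsg.isometryGroup F ⇑Q)) : GL ι F) * g.1 := by
  have h1 : ∀ s : ↥(Cfsg.Omega F ⇑Q),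
      MulAut.characteristic (Cfsg.Omega F ⇑Q) (simConj ⇑Q g) s = s := by
    apply aut_eq_one_of_perfect (commutator_Omega_eq_top Q hQ hn)
    intro s
    have h2 : conjAut ⇑Q g (QuotientGroup.mk s) = QuotientGroup.mk s := by
      rw [MonoidHom.mem_ker.1 hg]
      rfl
    rw [conjAut_mk] at h2
    have h3 := QuotientGroup.eq.1 h2.symm
    have h4 := (inferInstance : (Subgroup.center ↥(Cfsg.Omega F ⇑Q)).Normal).conj_mem _ h3 s
    convert h4 using 1
    group
  have h5 := congrArg (fun t : ↥(Cfsg.Omega F ⇑Q) => ((t : ↥(Cfsg.isometryGroup F ⇑Q)) : GL ι F))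
    (h1 s)
  simp only [coe_conj_Omega] at h5
  calc g.1 * ((s : ↥(Cfsg.isometryGroup F ⇑Q)) : GL ι F)
      = (g.1 * ((s : ↥(Cfsg.isometryGroup F ⇑Q)) : GL ι F) * g.1⁻¹) * g.1 := by group
    _ = ((s : ↥(Cfsg.isometryGroup F ⇑Q)) : GL ι F) * g.1 := by rw [h5]

/-- elements of the kernel of `conjAut` are scalar matrices -/
theorem mem_scalars_of_mem_ker [Fintype F] (hQ : (QuadraticMap.polarBilin Q).Nondegenerate)
    (hn : 7 ≤ Fintype.card ι) (g : ↥(Cfsg.Geo.quadSimilarityGroup (F := F) ⇑Q))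
    (hg : g ∈ (conjAut ⇑Q).ker) : (g : GL ι F) ∈ Cfsg.Geo.scalars ι F := by
  obtain ⟨c, hc⟩ := g.2
  have hfr : Module.finrank F (ι → F) = Fintype.card ι := Module.finrank_fintype_fun_eq_card F
  set G : (ι → F) →ₗ[F] (ι → F) := ((g.1 : GL ι F) : Matrix ι ι F).mulVecLin with hGdef
  have hGQ : ∀ x, Q (G x) = (c : F) * Q x := hc
  have heig : ∀ u, u ≠ 0 → Q u = 0 → ∃ a : F, G u = a • u := by
    intro u hu0 hu
    apply exists_smul_of_commute_eichler Q hQ (by rw [hfr]; omega) G u hu0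
    intro w huw x
    have h1 := commute_of_mem_ker Q hQ hn g hg
      ⟨eichlerO Q u w, eichlerO_mem_Omega Q hQ (by omega) u w⟩
    have h2 : ((g.1 : GL ι F) : Matrix ι ι F) * ((eichlerO Q u w).1 : Matrix ι ι F)
        = ((eichlerO Q u w).1 : Matrix ι ι F) * ((g.1 : GL ι F) : Matrix ι ι F) :=
      congrArg Units.val h1
    have e : ∀ y, Helper14.eichler Q u w y = ((eichlerO Q u w).1 : Matrix ι ι F) *ᵥ y := by
      intro y
      rw [← lin_apply, lin_eichlerO Q hu huw, Helper14.eichler_apply]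
      simp only [polarBilin_apply_apply]
    rw [e, e]
    show ((g.1 : GL ι F) : Matrix ι ι F) *ᵥ (((eichlerO Q u w).1 : Matrix ι ι F) *ᵥ x)
      = ((eichlerO Q u w).1 : Matrix ι ι F) *ᵥ (((g.1 : GL ι F) : Matrix ι ι F) *ᵥ x)
    rw [Matrix.mulVec_mulVec, Matrix.mulVec_mulVec, h2]
  obtain ⟨a, ha⟩ := exists_scalar_of_eigen Q hQ (by rw [hfr]; omega) G c c.ne_zero hGQ heig
  have ha0 : a ≠ 0 := by
    rintro rfl
    obtain ⟨t, _, _, ht⟩ := exists_nonsingular_perp_pair Q hQ (by rw [hfr]; omega) 0 0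
    have h1 := hGQ t
    rw [ha, zero_smul, map_zero] at h1
    rcases mul_eq_zero.1 h1.symm with h | h
    · exact c.ne_zero h
    · exact ht h
  rw [Cfsg.Geo.mem_scalars_iff]
  refine ⟨Units.mk0 a ha0, ?_⟩
  apply Matrix.mulVec_injective
  funext x
  rw [Units.val_mk0, Matrix.smul_mulVec, Matrix.one_mulVec]
  exact ha x

/-- scalar similarities act trivially -/
theorem mem_ker_of_mem_scalars (Q : (ι → F) → F) (g : ↥(Cfsg.Geo.quadSimilarityGroup (F := F) Q))
    (hg : (g : GL ι F) ∈ Cfsg.Geo.scalars ι F) : g ∈ (conjAut Q).ker := by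
  rw [MonoidHom.mem_ker]
  obtain ⟨c, hc⟩ := (Cfsg.Geo.mem_scalars_iff _).1 hg
  ext x
  induction x using QuotientGroup.induction_on with
  | H s =>
    rw [conjAut_mk]
    show _ = QuotientGroup.mk s
    congr 1
    apply Subtype.ext
    apply Subtype.ext
    rw [coe_conj_Omega]
    have hcomm : g.1 * ((s : ↥(Cfsg.isometryGroup F Q)) : GL ι F)
        = ((s : ↥(Cfsg.isometryGroup F Q)) : GL ι F) * g.1 := by
      apply Units.ext
      rw [Units.val_mul, Units.val_mul, hc, Matrix.smul_mul, Matrix.mul_smul, Matrix.one_mul,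
        Matrix.mul_one]
    rw [hcomm]
    group

theorem ker_conjAut [Fintype F] (hQ : (QuadraticMap.polarBilin Q).Nondegenerate)
    (hn : 7 ≤ Fintype.card ι) :
    (conjAut ⇑Q).ker
      = (Cfsg.Geo.scalars ι F).subgroupOf (Cfsg.Geo.quadSimilarityGroup (F := F) ⇑Q) := by
  ext g
  rw [Subgroup.mem_subgroupOf]
  exact ⟨mem_scalars_of_mem_ker Q hQ hn g, mem_ker_of_mem_scalars ⇑Q g⟩

end Cfsg.Agent.Helper44
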