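import Mathlib
import Cfsg.Prelude.Def_LieTypeDatum
import Cfsg.Agent.Helper44.ConjKer
import Cfsg.Agent.Helper13.Isom

/-!
# Characters of the similarity group: multiplier, `det / μ^m`

For `Q` with `Q t ≠ 0`: `multHom : GO(Q) →* Fˣ`.  For a quadratic form with non-degenerate polar
form in dimension `2m`: `dHom g = det g / μ(g)^m ∈ {±1}`.
-/

set_option autoImplicit false

namespace Cfsg.Agent.Helper44

open Matrix QuadraticMap Module

variable {F : Type*} [Field F] {ι : Type} [Fintype ι] [DecidableEq ι]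

section mult

variable (Q : (ι → F) → F)

/-- the multiplier of a similarity -/
noncomputable def multFun (g : ↥(Cfsg.Geo.quadSimilarityGroup (F := F) Q)) : Fˣ :=
  Classical.choose g.2

theorem multFun_spec (g : ↥(Cfsg.Geo.quadSimilarityGroup (F := F) Q)) (v : ι → F) :
    Q ((g.1 : Matrix ι ι F) *ᵥ v) = (multFun Q g : F) * Q v :=
  Classical.choose_spec g.2 v

theorem multFun_unique {t : ι → F} (ht : Q t ≠ 0)
    (g : ↥(Cfsg.Geo.quadSimilarityGroup (F := F) Q)) (c : Fˣ)
    (hc : ∀ v, Q ((g.1 : Matrix ι ι F) *ᵥ v) = (c : F) * Q v) : multFun Q g = c := by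
  apply Units.ext
  have h1 := multFun_spec Q g t
  rw [hc t] at h1
  exact (mul_right_cancel₀ ht h1).symm

/-- the multiplier homomorphism -/
noncomputable def multHom {t : ι → F} (ht : Q t ≠ 0) :
    ↥(Cfsg.Geo.quadSimilarityGroup (F := F) Q) →* Fˣ where
  toFun := multFun Q
  map_one' := multFun_unique Q ht 1 1 (fun v => by
    show Q (((1 : GL ι F) : Matrix ι ι F) *ᵥ v) = _
    rw [Units.val_one, Matrix.one_mulVec, Units.val_one, one_mul])
  map_mul' g h := multFun_unique Q ht (g * h) (multFun Q g * multFun Q h) (fun v => by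
    show Q (((g.1 * h.1 : GL ι F) : Matrix ι ι F) *ᵥ v) = _
    rw [Units.val_mul, ← Matrix.mulVec_mulVec, multFun_spec Q g, multFun_spec Q h, Units.val_mul,
      mul_assoc])

theorem multHom_apply {t : ι → F} (ht : Q t ≠ 0)
    (g : ↥(Cfsg.Geo.quadSimilarityGroup (F := F) Q)) : multHom Q ht g = multFun Q g := rfl

theorem multHom_eq {t : ι → F} (ht : Q t ≠ 0)
    (g : ↥(Cfsg.Geo.quadSimilarityGroup (F := F) Q)) (c : Fˣ)
    (hc : ∀ v, Q ((g.1 : Matrix ι ι F) *ᵥ v) = (c : F) * Q v) : multHom Q ht g = c :=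
  multFun_unique Q ht g c hc

theorem multHom_of_isometry {t : ι → F} (ht : Q t ≠ 0)
    (g : ↥(Cfsg.Geo.quadSimilarityGroup (F := F) Q)) (hg : g.1 ∈ Cfsg.isometryGroup F Q) :
    multHom Q ht g = 1 :=
  multHom_eq Q ht g 1 (fun v => by
    rw [Units.val_one, one_mul]
    exact (Helper13.mem_isometryGroup_iff Q g.1).1 hg v)

theorem mem_isometryGroup_of_multHom {t : ι → F} (ht : Q t ≠ 0)
    (g : ↥(Cfsg.Geo.quadSimilarityGroup (F := F) Q)) (hg : multHom Q ht g = 1) :
    g.1 ∈ Cfsg.isometryGroup F Q := by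
  rw [Helper13.mem_isometryGroup_iff]
  intro v
  have h := multFun_spec Q g v
  rw [← multHom_apply Q ht, hg, Units.val_one, one_mul] at h
  exact h

end mult

section det

variable (Q : QuadraticForm F (ι → F))

omit [DecidableEq ι] in
theorem polar_mulVec_of_similarity (A : Matrix ι ι F) (c : F)
    (hA : ∀ u, Q (A *ᵥ u) = c * Q u) (x y : ι → F) :
    polar ⇑Q (A *ᵥ x) (A *ᵥ y) = c * polar ⇑Q x y := by
  simp only [polar, ← Matrix.mulVec_add, hA]
  ring

theorem transpose_mul_polarMatrix_mul_sim (A : Matrix ι ι F) (c : F)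
    (hA : ∀ u, Q (A *ᵥ u) = c * Q u) :
    Aᵀ * LinearMap.BilinForm.toMatrix' (QuadraticMap.polarBilin Q) * A
      = c • LinearMap.BilinForm.toMatrix' (QuadraticMap.polarBilin Q) := by
  have h := LinearMap.BilinForm.toMatrix'_comp (QuadraticMap.polarBilin Q)
    (Matrix.toLin' A) (Matrix.toLin' A)
  rw [LinearMap.toMatrix'_toLin'] at h
  rw [← h, ← map_smul]
  congr 1
  refine LinearMap.ext fun x => LinearMap.ext fun y => ?_
  simp only [LinearMap.BilinForm.comp_apply, Matrix.toLin'_apply,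
    QuadraticMap.polarBilin_apply_apply, LinearMap.smul_apply, smul_eq_mul]
  exact polar_mulVec_of_similarity Q A c hA _ _

theorem det_sq_of_similarity (hQ : (QuadraticMap.polarBilin Q).Nondegenerate) (A : Matrix ι ι F)
    (c : F) (hA : ∀ u, Q (A *ᵥ u) = c * Q u) : A.det * A.det = c ^ Fintype.card ι := by
  have hM : (LinearMap.BilinForm.toMatrix' (QuadraticMap.polarBilin Q)).det ≠ 0 := by
    rw [← Matrix.nondegenerate_iff_det_ne_zero, LinearMap.BilinForm.nondegenerate_toMatrix'_iff]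
    exact hQ
  have h := congrArg Matrix.det (transpose_mul_polarMatrix_mul_sim Q A c hA)
  rw [Matrix.det_mul, Matrix.det_mul, Matrix.det_transpose, Matrix.det_smul] at h
  have h2 : (A.det * A.det - c ^ Fintype.card ι) *
      (LinearMap.BilinForm.toMatrix' (QuadraticMap.polarBilin Q)).det = 0 := by
    linear_combination h
  rcases mul_eq_zero.mp h2 with h3 | h3
  · exact sub_eq_zero.mp h3
  · exact absurd h3 hM

/-- `g ↦ det g / μ(g)^m` -/
noncomputable def dHom {t : ι → F} (ht : Q t ≠ 0) (m : ℕ) :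
    ↥(Cfsg.Geo.quadSimilarityGroup (F := F) ⇑Q) →* Fˣ :=
  (Matrix.GeneralLinearGroup.det.comp (Subgroup.subtype _)) * ((multHom ⇑Q ht)⁻¹ ^ m)

theorem dHom_apply {t : ι → F} (ht : Q t ≠ 0) (m : ℕ)
    (g : ↥(Cfsg.Geo.quadSimilarityGroup (F := F) ⇑Q)) :
    dHom Q ht m g = Matrix.GeneralLinearGroup.det g.1 * ((multHom ⇑Q ht g)⁻¹) ^ m := rfl

theorem dHom_eq_one_or {t : ι → F} (ht : Q t ≠ 0) (m : ℕ) (hm : Fintype.card ι = 2 * m)
    (hQ : (QuadraticMap.polarBilin Q).Nondegenerate)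
    (g : ↥(Cfsg.Geo.quadSimilarityGroup (F := F) ⇑Q)) :
    dHom Q ht m g = 1 ∨ dHom Q ht m g = -1 := by
  have h1 := det_sq_of_similarity Q hQ (g.1 : Matrix ι ι F) (multFun ⇑Q g : F)
    (multFun_spec ⇑Q g)
  have h2 : ((dHom Q ht m g : Fˣ) : F) * ((dHom Q ht m g : Fˣ) : F) = 1 := by
    rw [dHom_apply, multHom_apply, Units.val_mul, Units.val_pow_eq_pow_val, Units.val_inv_eq_inv_val,
      Matrix.GeneralLinearGroup.val_det_apply]
    have h3 : (multFun ⇑Q g : F) ≠ 0 := (multFun ⇑Q g).ne_zero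
    rw [hm] at h1
    calc ((g.1 : GL ι F) : Matrix ι ι F).det * ((multFun ⇑Q g : F)⁻¹) ^ m
          * (((g.1 : GL ι F) : Matrix ι ι F).det * ((multFun ⇑Q g : F)⁻¹) ^ m)
        = (((g.1 : GL ι F) : Matrix ι ι F).det * ((g.1 : GL ι F) : Matrix ι ι F).det)
          * (((multFun ⇑Q g : F)⁻¹) ^ m * ((multFun ⇑Q g : F)⁻¹) ^ m) := by ring
      _ = (multFun ⇑Q g : F) ^ (2 * m)
          * (((multFun ⇑Q g : F)⁻¹) ^ m * ((multFun ⇑Q g : F)⁻¹) ^ m) := by rw [h1]
      _ = 1 := by rw [← pow_add, ← two_mul, ← mul_pow, mul_inv_cancel₀ h3, one_pow]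
  rcases mul_self_eq_one_iff.1 h2 with h | h
  · left
    exact Units.ext h
  · right
    apply Units.ext
    rw [h, Units.val_neg, Units.val_one]

end det

section pm

/-- a character with values `±1 ∈ Fˣ` read in `ℤˣ` -/
noncomputable def pmChar {G : Type*} [Group G] (d : G →* Fˣ) (hd : ∀ g, d g = 1 ∨ d g = -1)
    (h2 : (2 : F) ≠ 0) : G →* ℤˣ := by
  classical
  exact
  { toFun := fun g => if d g = 1 then 1 else -1
    map_one' := by simp
    map_mul' := fun a b => by
      have hne : (-1 : Fˣ) ≠ 1 := by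
        intro h
        have h3 : ((-1 : Fˣ) : F) = ((1 : Fˣ) : F) := by rw [h]
        rw [Units.val_neg, Units.val_one] at h3
        apply h2
        have : (2 : F) = 1 - (-1) := by ring
        rw [this, h3, sub_self]
      rcases hd a with ha | ha <;> rcases hd b with hb | hb <;> simp [ha, hb, hne] }

theorem pmChar_eq_one_iff {G : Type*} [Group G] (d : G →* Fˣ) (hd : ∀ g, d g = 1 ∨ d g = -1)
    (h2 : (2 : F) ≠ 0) (g : G) : pmChar d hd h2 g = 1 ↔ d g = 1 := by
  classical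
  show (if d g = 1 then (1 : ℤˣ) else -1) = 1 ↔ _
  by_cases h : d g = 1
  · simp [h]
  · simp only [h, if_false, iff_false]
    decide

end pm

end Cfsg.Agent.Helper44
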