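/-
helper44: conjugacy classes of elements of odd prime order of the isometry group of an even-dimensional
quadratic form correspond to characteristic polynomials.
-/
import Mathlib
import Cfsg.Agent.Helper44.OrthRealizeE
import Cfsg.Agent.Helper44.SimChar
import Cfsg.Agent.Helper43.OrthSSB
import Cfsg.Agent.Helper43.SSConj
import Cfsg.Agent.Helper43.SSCount

set_option autoImplicit false

namespace Cfsg.Agent.Helper44.QType

open Polynomial Matrix QuadraticMap Cfsg Cfsg.Agent.Helper44
open Cfsg.Agent.Helper43 Cfsg.Agent.Helper43.SS Cfsg.Agent.Helper43.OrthSS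

universe u

section rev

variable {F : Type u} [Field F] {κ : Type} [Fintype κ] [DecidableEq κ]

/-- the characteristic polynomial of an isometry of odd order is self-reciprocal (even dimension) -/
theorem charpoly_reverse_of_isometry (Q : QuadraticForm F (κ → F))
    (hQ : (polarBilin Q).Nondegenerate) {m : ℕ} (hκ : Fintype.card κ = 2 * m)
    (A : Matrix κ κ F) (hA : ∀ u, Q (A *ᵥ u) = Q u) {r : ℕ} (hr : Odd r) (hAr : A ^ r = 1) :
    A.charpoly.reverse = A.charpoly := by
  have hA1 : ∀ u, Q (A *ᵥ u) = 1 * Q u := fun u => by rw [one_mul, hA]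
  have hd2 : A.det * A.det = 1 := by
    rw [det_sq_of_similarity Q hQ A 1 hA1, one_pow]
  have hdr : A.det ^ r = 1 := by rw [← Matrix.det_pow, hAr, Matrix.det_one]
  have hdet : A.det = 1 := by
    obtain ⟨s, rfl⟩ := hr
    have : A.det ^ (2 * s + 1) = A.det := by
      rw [pow_succ, pow_mul, pow_two, hd2, one_pow, one_mul]
    rw [← this, hdr]
  have hunit : IsUnit A := by
    rw [Matrix.isUnit_iff_isUnit_det, hdet]
    exact isUnit_one
  set G := LinearMap.BilinForm.toMatrix' (polarBilin Q) with hG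
  have hGdet : G.det ≠ 0 := by
    rw [← Matrix.nondegenerate_iff_det_ne_zero, LinearMap.BilinForm.nondegenerate_toMatrix'_iff]
    exact hQ
  have hGunit : IsUnit G.det := isUnit_iff_ne_zero.mpr hGdet
  have hrel : Aᵀ * G * A = G := by
    have := transpose_mul_polarMatrix_mul_sim Q A 1 hA1
    rwa [one_smul] at this
  have hinv : A⁻¹ = G⁻¹ * Aᵀ * G := by
    apply Matrix.inv_eq_left_inv
    rw [Matrix.mul_assoc, Matrix.mul_assoc, ← Matrix.mul_assoc Aᵀ, hrel,
      Matrix.nonsing_inv_mul _ hGunit]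
  have h1 := Matrix.charpoly_inv A hunit
  rw [hdet, Ring.inverse_one, map_one, mul_one, hκ, pow_mul, neg_one_sq, one_pow, one_mul,
    ← Matrix.reverse_charpoly] at h1
  rw [← h1, hinv, Matrix.charpoly_mul_comm, ← Matrix.mul_assoc, Matrix.mul_nonsing_inv _ hGunit,
    Matrix.one_mul, Matrix.charpoly_transpose]

end rev

section conj

variable {F : Type u} [Field F] [Fintype F] {κ : Type} [Fintype κ] [DecidableEq κ]

theorem coe_pow_isometryGroup (Q : (κ → F) → F) (g : ↥(Cfsg.isometryGroup F Q)) (k : ℕ)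
    (hg : g ^ k = 1) : ((g : GL κ F) : Matrix κ κ F) ^ k = 1 := by
  have h1 : ((g ^ k : ↥(Cfsg.isometryGroup F Q)) : GL κ F) = (g : GL κ F) ^ k := rfl
  rw [hg] at h1
  have h3 := congrArg (fun z : GL κ F => (z : Matrix κ κ F)) h1
  simp only [Units.val_pow_eq_pow_val] at h3
  exact h3.symm

/-- elements of odd order prime to the characteristic with the same characteristic polynomial are
conjugate in the isometry group -/
theorem isConj_of_charpoly_orth (Q : QuadraticForm F (κ → F))
    (hQ : (polarBilin Q).Nondegenerate) (g h : ↥(Cfsg.isometryGroup F ⇑Q)) (k : ℕ) (hodd : Odd k)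
    (hkF : (k : F) ≠ 0) (hgk : g ^ k = 1) (hhk : h ^ k = 1)
    (hc : ((g : GL κ F) : Matrix κ κ F).charpoly = ((h : GL κ F) : Matrix κ κ F).charpoly) :
    IsConj g h := by
  set MA : Matrix κ κ F := ((g : GL κ F) : Matrix κ κ F) with hMA
  set MB : Matrix κ κ F := ((h : GL κ F) : Matrix κ κ F) with hMB
  have hAk : MA ^ k = 1 := coe_pow_isometryGroup (⇑Q) g k hgk
  have hBk : MB ^ k = 1 := coe_pow_isometryGroup (⇑Q) h k hhk
  have hAiso : ∀ x, Q (Matrix.toLin' MA x) = Q x := by
    intro x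
    rw [Matrix.toLin'_apply]
    exact (Cfsg.Agent.Helper13.mem_isometryGroup_iff (⇑Q) (g : GL κ F)).mp g.2 x
  have hBiso : ∀ x, Q (Matrix.toLin' MB x) = Q x := by
    intro x
    rw [Matrix.toLin'_apply]
    exact (Cfsg.Agent.Helper13.mem_isometryGroup_iff (⇑Q) (h : GL κ F)).mp h.2 x
  have hpow : ∀ M : Matrix κ κ F, M ^ k = 1 → Matrix.toLin' M ^ k = 1 := by
    intro M hM
    rw [← Matrix.toLin'_pow, hM, Matrix.toLin'_one]
    rfl
  have hdA : OData Q (Matrix.toLin' MA) k := ⟨hQ, hAiso, hodd, hkF, hpow MA hAk⟩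
  have hdB : OData Q (Matrix.toLin' MB) k := ⟨hQ, hBiso, hodd, hkF, hpow MB hBk⟩
  have hsA := isSemisimple_of_pow_eq_one _ k hkF (hpow MA hAk)
  have hsB := isSemisimple_of_pow_eq_one _ k hkF (hpow MB hBk)
  have hc' : (Matrix.toLin' MA).charpoly = (Matrix.toLin' MB).charpoly := by
    rw [Matrix.charpoly_toLin', Matrix.charpoly_toLin', hc]
  obtain ⟨e, he⟩ := exists_equiv_of_charpoly_eq _ _ hsA hsB hc'
  obtain ⟨G, hGQ, hGc⟩ := exists_isometry_conj hdA hdB e he
  let C : Matrix κ κ F := LinearMap.toMatrix' G.toLinearMap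
  let C' : Matrix κ κ F := LinearMap.toMatrix' G.symm.toLinearMap
  have hCC' : C * C' = 1 := by
    rw [← LinearMap.toMatrix'_comp]
    have : G.toLinearMap ∘ₗ G.symm.toLinearMap = LinearMap.id := by
      apply LinearMap.ext
      intro x
      simp
    rw [this, LinearMap.toMatrix'_id]
  have hC'C : C' * C = 1 := by
    rw [← LinearMap.toMatrix'_comp]
    have : G.symm.toLinearMap ∘ₗ G.toLinearMap = LinearMap.id := by
      apply LinearMap.ext
      intro x
      simp
    rw [this, LinearMap.toMatrix'_id]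
  let Cu : GL κ F := ⟨C, C', hCC', hC'C⟩
  have hClin : Matrix.toLin' C = G.toLinearMap := Matrix.toLin'_toMatrix' _
  have hCv : ∀ x, C *ᵥ x = G x := by
    intro x
    rw [← Matrix.toLin'_apply, hClin]
    rfl
  have hCmem : Cu ∈ Cfsg.isometryGroup F ⇑Q := by
    rw [Cfsg.Agent.Helper13.mem_isometryGroup_iff]
    intro x
    show Q (C *ᵥ x) = Q x
    rw [hCv, hGQ]
  have hCAB : C * MA = MB * C := by
    apply Matrix.toLin'.injective
    rw [Matrix.toLin'_mul, Matrix.toLin'_mul, hClin]
    apply LinearMap.ext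
    intro x
    exact hGc x
  rw [isConj_iff]
  refine ⟨⟨Cu, hCmem⟩, ?_⟩
  rw [mul_inv_eq_iff_eq_mul]
  apply Subtype.ext
  apply Units.ext
  exact hCAB

end conj

end Cfsg.Agent.Helper44.QType
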