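/-
helper44: odd-dimensional quadratic forms over a finite field of odd characteristic: every non-degenerate
form of dimension `2m+1` is similar to `x₀² + Σ x_j y_j`.
-/
import Mathlib
import Cfsg.Agent.Helper44.OrthPrimeCls

set_option autoImplicit false

namespace Cfsg.Agent.Helper44.QType

open Polynomial Matrix QuadraticMap Cfsg Cfsg.Agent.Helper44

universe u v

section std

variable {F : Type u} [Field F]

/-- non-degeneracy of the standard odd-dimensional form -/
theorem nondeg_oddForm (h2 : (2 : F) ≠ 0) (m : ℕ) :
    ∀ x, (∀ y, polar (oddForm m F) x y = 0) → x = 0 := by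
  intro x hx
  have h0 : x (Sum.inl ()) = 0 := by
    have := hx (Pi.single (Sum.inl ()) 1)
    rw [oddForm_coe, polar_quadFormOdd] at this
    have hz : (Pi.single (Sum.inl ()) (1 : F) : Unit ⊕ (Fin m ⊕ Fin m) → F) ∘ Sum.inr = 0 := by
      funext j
      simp
    rw [hz] at this
    have hp : polar (quadFormPlus m F) (x ∘ Sum.inr) 0 = 0 := by
      rw [← plusForm_coe]
      exact polar_zero_right _ _
    rw [hp, Pi.single_eq_same, mul_one, add_zero] at this
    exact (mul_eq_zero.mp this).resolve_left h2
  have hr : x ∘ Sum.inr = 0 := by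
    apply (nondegenerate_plusForm (F := F) m).1
    intro w
    have := hx (Sum.elim 0 w)
    rw [oddForm_coe, polar_quadFormOdd] at this
    have hw : (Sum.elim (0 : Unit → F) w) ∘ Sum.inr = w := by
      funext j
      simp
    rw [hw, h0] at this
    show polar (⇑(plusForm m F)) (x ∘ Sum.inr) w = 0
    rw [plusForm_coe]
    simpa using this
  funext j
  rcases j with j | j
  · cases j
    exact h0
  · exact congrFun hr j

theorem oddForm_single_inl (m : ℕ) :
    oddForm m F (Pi.single (Sum.inl ()) 1) = 1 := by
  rw [oddForm_coe, quadFormOdd_eq]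
  have hz : (Pi.single (Sum.inl ()) (1 : F) : Unit ⊕ (Fin m ⊕ Fin m) → F) ∘ Sum.inr = 0 := by
    funext j
    simp
  rw [hz]
  have : quadFormPlus m F 0 = 0 := by
    rw [← plusForm_coe]
    exact map_zero _
  rw [this]
  simp

/-- the isometry group does not change when the form is scaled -/
theorem mem_isometryGroup_smul_iff {κ : Type} [Fintype κ] [DecidableEq κ] (Q : (κ → F) → F) (a : F)
    (ha : a ≠ 0) (g : GL κ F) :
    g ∈ Cfsg.isometryGroup F (fun v => a * Q v) ↔ g ∈ Cfsg.isometryGroup F Q := by
  rw [Cfsg.Agent.Helper13.mem_isometryGroup_iff, Cfsg.Agent.Helper13.mem_isometryGroup_iff]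
  constructor
  · intro h v
    exact mul_left_cancel₀ ha (h v)
  · intro h v
    show a * Q _ = a * Q v
    rw [h v]

end std

section sim

variable {F : Type u} [Field F] [Fintype F] {V : Type v} [AddCommGroup V] [Module F V]
  [FiniteDimensional F V]

/-- every non-degenerate quadratic form of dimension `2m+1` is similar to the standard one -/
theorem exists_similarity_odd (Q : QuadraticForm F V) {m : ℕ}
    (hV : Module.finrank F V = 2 * m + 1) (hnd : ∀ x : V, (∀ y, polar Q x y = 0) → x = 0) :
    ∃ (a : F) (g : V ≃ₗ[F] (Unit ⊕ (Fin m ⊕ Fin m) → F)), a ≠ 0 ∧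
      ∀ v, a * quadFormOdd m F (g v) = Q v := by
  classical
  rcases exists_wittData_cases Q hV hnd with ⟨k, e, f, r, hk, -⟩ | ⟨k, e, f, r, hk, hW⟩ |
    ⟨k, e, f, x, y, hk, -⟩
  · omega
  · have hkm : k = m := by omega
    subst hkm
    obtain ⟨a, ha⟩ : ∃ a : F, a = Q (r 0) := ⟨_, rfl⟩
    have ha0 : a ≠ 0 := by
      intro h0
      have := hW.aniso (fun _ => 1) (by
        rw [Fin.sum_univ_one, one_smul, ← ha, h0])
      exact one_ne_zero (congrFun this 0)
    let Q₂ : QuadraticForm F (Unit ⊕ (Fin k ⊕ Fin k) → F) := a • oddForm k F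
    have hQ₂ : ∀ v, Q₂ v = a * oddForm k F v := fun v => rfl
    have hpol : ∀ v w, polar Q₂ v w = a * polar (oddForm k F) v w := by
      intro v w
      simp only [polar, hQ₂]
      ring
    have hcard : Module.finrank F (Unit ⊕ (Fin k ⊕ Fin k) → F) = 2 * k + 1 := by
      rw [Module.finrank_fintype_fun_eq_card, Fintype.card_sum, Fintype.card_sum, Fintype.card_fin,
        Fintype.card_unit]
      ring
    have hH := fun j => isHypPair_oddForm (F := F) k j
    obtain ⟨g, hg⟩ := exists_isometry₂ (Q₂ := Q₂) hW hV.symm (hV.trans hcard.symm) hnd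
      (fun i => a⁻¹ • Pi.single (Sum.inr (Sum.inl i)) 1) (fun i => Pi.single (Sum.inr (Sum.inr i)) 1)
      (fun _ => Pi.single (Sum.inl ()) 1)
      (by
        intro i
        constructor
        · rw [hQ₂, QuadraticMap.map_smul, (hH i).Qa]
          simp
        · rw [hQ₂, (hH i).Qb, mul_zero])
      (by
        intro i j
        rw [hpol, polar_smul_left, (hH i).polar_a, smul_eq_mul, ← mul_assoc, mul_inv_cancel₀ ha0,
          one_mul, Pi.single_apply]
        simp only [Sum.inr.injEq])
      (by
        intro i j
        rw [hpol, polar_smul_left, polar_smul_right, (hH i).polar_a]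
        simp)
      (by
        intro i j
        rw [hpol, (hH i).polar_b]
        simp)
      (by
        intro i j
        rw [hpol, polar_smul_left, (hH i).polar_a]
        simp)
      (by
        intro i j
        rw [hpol, (hH i).polar_b]
        simp)
      (by
        intro j j'
        rw [Subsingleton.elim j 0, Subsingleton.elim j' 0, hpol, polar_self, polar_self,
          oddForm_single_inl, ← ha]
        ring)
      (by
        intro j
        rw [Subsingleton.elim j 0, hQ₂, oddForm_single_inl, mul_one, ha])
    refine ⟨a, g, ha0, ?_⟩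
    intro v
    rw [← hg v, hQ₂, oddForm_coe]
  · omega

end sim

end Cfsg.Agent.Helper44.QType
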