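/-
helper44: the characteristic polynomial of an isometry of odd order of an odd-dimensional quadratic
space is `(X - 1)` times a self-reciprocal polynomial.
-/
import Mathlib
import Cfsg.Agent.Helper44.OrthOddA

set_option autoImplicit false

namespace Cfsg.Agent.Helper44.QType

open Polynomial Matrix QuadraticMap Cfsg Cfsg.Agent.Helper44

universe u

section rev

variable {F : Type u} [Field F] {κ : Type} [Fintype κ] [DecidableEq κ]

theorem eval_one_reverse (f : F[X]) : f.reverse.eval 1 = f.eval 1 := by
  haveI : Invertible (1 : F) := invertibleOne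
  have h := eval₂_reverse_mul_pow (RingHom.id F) (1 : F) f
  rw [invOf_one, one_pow, mul_one] at h
  exact h

/-- the characteristic polynomial of an isometry of odd order in odd dimension is anti-reciprocal -/
theorem charpoly_reverse_of_isometry_odd (Q : QuadraticForm F (κ → F))
    (hQ : (polarBilin Q).Nondegenerate) {m : ℕ} (hκ : Fintype.card κ = 2 * m + 1)
    (A : Matrix κ κ F) (hA : ∀ u, Q (A *ᵥ u) = Q u) {r : ℕ} (hr : Odd r) (hAr : A ^ r = 1) :
    A.charpoly.reverse = - A.charpoly := by
  have hA1 : ∀ u, Q (A *ᵥ u) = 1 * Q u := fun u => by rw [one_mul, hA]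
  have hd2 : A.det * A.det = 1 := by
    rw [det_sq_of_similarity Q hQ A 1 hA1, one_pow]
  have hdr : A.det ^ r = 1 := by rw [← Matrix.det_pow, hAr, Matrix.det_one]
  have hdet : A.det = 1 := by
    obtain ⟨s, rfl⟩ := hr
    have : A.det ^ (2 * s + 1) = A.det := by
      rw [pow_succ, pow_mul, pow_two, hd2, one_pow, one_mul]
    rw [← this, hdr]
  have hunit : IsUnit A := by
    rw [Matrix.isUnit_iff_isUnit_det, hdet]
    exact isUnit_one
  set G := LinearMap.BilinForm.toMatrix' (polarBilin Q) with hG
  have hGdet : G.det ≠ 0 := by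
    rw [← Matrix.nondegenerate_iff_det_ne_zero, LinearMap.BilinForm.nondegenerate_toMatrix'_iff]
    exact hQ
  have hGunit : IsUnit G.det := isUnit_iff_ne_zero.mpr hGdet
  have hrel : Aᵀ * G * A = G := by
    have := transpose_mul_polarMatrix_mul_sim Q A 1 hA1
    rwa [one_smul] at this
  have hinv : A⁻¹ = G⁻¹ * Aᵀ * G := by
    apply Matrix.inv_eq_left_inv
    rw [Matrix.mul_assoc, Matrix.mul_assoc, ← Matrix.mul_assoc Aᵀ, hrel,
      Matrix.nonsing_inv_mul _ hGunit]
  have h1 := Matrix.charpoly_inv A hunit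
  rw [hdet, Ring.inverse_one, map_one, mul_one, hκ, pow_succ, pow_mul, neg_one_sq, one_pow, one_mul,
    ← Matrix.reverse_charpoly] at h1
  have h2 : A⁻¹.charpoly = A.charpoly := by
    rw [hinv, Matrix.charpoly_mul_comm, ← Matrix.mul_assoc, Matrix.mul_nonsing_inv _ hGunit,
      Matrix.one_mul, Matrix.charpoly_transpose]
  rw [h2] at h1
  rw [neg_one_mul] at h1
  exact (neg_eq_iff_eq_neg.mpr h1).symm

/-- the shape of the characteristic polynomial in odd dimension -/
theorem exists_quot_odd (h2 : (2 : F) ≠ 0) {f : F[X]} {m : ℕ} (hfm : f.Monic)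
    (hfd : f.natDegree = 2 * m + 1) (hfr : f.reverse = - f) :
    ∃ f' : F[X], f = (X - 1) * f' ∧ f'.Monic ∧ f'.natDegree = 2 * m ∧ f'.reverse = f' := by
  have he : f.eval 1 = 0 := by
    have h := eval_one_reverse f
    rw [hfr, eval_neg] at h
    have : (2 : F) * f.eval 1 = 0 := by linear_combination -h
    exact (mul_eq_zero.mp this).resolve_left h2
  have hroot : (X - C (1 : F)) ∣ f := dvd_iff_isRoot.mpr he
  rw [map_one] at hroot
  obtain ⟨f', hf'⟩ := hroot
  have hL : (X - 1 : F[X]).Monic := by
    have : (X - 1 : F[X]) = X - C 1 := by rw [map_one]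
    rw [this]
    exact monic_X_sub_C 1
  have hLd : (X - 1 : F[X]).natDegree = 1 := by
    have : (X - 1 : F[X]) = X - C 1 := by rw [map_one]
    rw [this, natDegree_X_sub_C]
  have hf'm : f'.Monic := by
    rw [hf'] at hfm
    exact hL.of_mul_monic_left hfm
  refine ⟨f', hf', hf'm, ?_, ?_⟩
  · have := hL.natDegree_mul hf'm
    rw [← hf', hfd, hLd] at this
    omega
  · have h3 : f.reverse = (1 - X) * f'.reverse := by
      rw [hf', reverse_mul_of_domain, reverse_X_sub_one]
    rw [hfr, hf'] at h3
    have h4 : (X - 1 : F[X]) * f'.reverse = (X - 1) * f' := by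
      linear_combination h3
    exact mul_left_cancel₀ hL.ne_zero h4

end rev

end Cfsg.Agent.Helper44.QType
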