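/-
helper44: the number of classes of elements of odd prime order `r` in the isometry group of an
even-dimensional quadratic form of type `ε` equals the number of admissible polynomials.
-/
import Mathlib
import Cfsg.Agent.Helper44.OrthPrimeCls

set_option autoImplicit false

namespace Cfsg.Agent.Helper44.QType

open Polynomial Matrix QuadraticMap Cfsg Cfsg.Agent.Helper44
open Cfsg.Agent.Helper43 Cfsg.Agent.Helper43.SS Cfsg.Agent.Helper43.SpPrime

universe u

section card

variable {F : Type u} [Field F] [Fintype F]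

/-- the characteristic polynomials of elements of order `r` of `O^ε_{2m}(F)` -/
def OrthPred (m r : ℕ) (ε : ℤ) (f : F[X]) : Prop :=
  SpPrimePred m r f ∧
    (¬ (X - 1 : F[X]) ∣ f → ((Nat.card F : ℕ) : ZMod r) ^ m = ((ε : ℤ) : ZMod r))

theorem card_classes_prime_order_orth (p : ℕ) [Fact p.Prime] [CharP F p] {κ : Type} [Fintype κ]
    [DecidableEq κ] (Qt : QuadraticForm F (κ → F)) {m : ℕ} (hκ : Fintype.card κ = 2 * m)
    (hnd : ∀ x, (∀ y, polar Qt x y = 0) → x = 0) {εt : ℤ} (hεt : εt = 1 ∨ εt = -1)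
    (hT : HasType (⇑Qt) m εt) (r : ℕ) (hr : r.Prime) (hr2 : r ≠ 2) (hrp : r ≠ p) :
    Nat.card {C : ConjClasses ↥(Cfsg.isometryGroup F ⇑Qt) //
      ∃ g : ↥(Cfsg.isometryGroup F ⇑Qt), ConjClasses.mk g = C ∧ orderOf g = r}
      = Nat.card {f : F[X] // OrthPred (F := F) m r εt f} := by
  classical
  haveI : Fact r.Prime := ⟨hr⟩
  have hp : p.Prime := Fact.out
  have hrodd : Odd r := hr.eq_two_or_odd'.resolve_left hr2
  have hQ : (polarBilin Qt).Nondegenerate := (nondeg_iff Qt).mpr hnd
  have hV : Module.finrank F (κ → F) = 2 * m := by rw [Module.finrank_fintype_fun_eq_card, hκ]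
  have hrF : (r : F) ≠ 0 := by
    intro h0
    rw [CharP.cast_eq_zero_iff F p r] at h0
    exact hrp ((Nat.prime_dvd_prime_iff_eq hp hr).mp h0).symm
  have hrq : ¬ r ∣ Nat.card F := by
    obtain ⟨e, -, hcard⟩ := FiniteField.card F p
    rw [Nat.card_eq_fintype_card, hcard]
    intro hdvd
    exact hrp ((Nat.prime_dvd_prime_iff_eq hr hp).mp (hr.dvd_of_dvd_pow hdvd))
  have hsep : (X ^ r - 1 : F[X]).Separable := by
    have := Polynomial.separable_X_pow_sub_C (1 : F) hrF one_ne_zero
    simpa using this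
  have haev : ∀ A : Matrix κ κ F, aeval A (X ^ r - 1 : F[X]) = A ^ r - 1 := by
    intro A
    rw [map_sub, map_pow, aeval_X, map_one]
  have hone : ((1 : ↥(Cfsg.isometryGroup F ⇑Qt)) : GL κ F) = 1 := rfl
  apply card_classes_eq (G := ↥(Cfsg.isometryGroup F ⇑Qt)) (T := F[X])
    (fun g => orderOf g = r) (fun g => ((g : GL κ F) : Matrix κ κ F).charpoly)
    (OrthPred (F := F) m r εt)
  · intro g c
    show (((c * g * c⁻¹ : ↥(Cfsg.isometryGroup F ⇑Qt)) : GL κ F) : Matrix κ κ F).charpoly = _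
    have : ((c * g * c⁻¹ : ↥(Cfsg.isometryGroup F ⇑Qt)) : GL κ F)
        = (c : GL κ F) * (g : GL κ F) * (c : GL κ F)⁻¹ := rfl
    rw [this, Units.val_mul, Units.val_mul, Matrix.coe_units_inv]
    exact Matrix.charpoly_units_conj (c : GL κ F) _
  · intro g h hg hh hc
    have hg' : g ^ r = 1 := by rw [← hg]; exact pow_orderOf_eq_one g
    have hh' : h ^ r = 1 := by rw [← hh]; exact pow_orderOf_eq_one h
    exact isConj_of_charpoly_orth Qt hQ g h r hrodd hrF hg' hh' hc
  · intro g hg
    have hg' : g ^ r = 1 := by rw [← hg]; exact pow_orderOf_eq_one g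
    have hAr := coe_pow_isometryGroup (⇑Qt) g r hg'
    have hAiso : ∀ u, Qt (((g : GL κ F) : Matrix κ κ F) *ᵥ u) = Qt u :=
      (Cfsg.Agent.Helper13.mem_isometryGroup_iff (⇑Qt) (g : GL κ F)).mp g.2
    refine ⟨⟨Matrix.charpoly_monic _, ?_, ?_, ?_, ?_⟩, ?_⟩
    · rw [Matrix.charpoly_natDegree_eq_dim, hκ]
    · exact charpoly_reverse_of_isometry Qt hQ hκ _ hAiso hrodd hAr
    · intro P hPm hPi hP
      apply dvd_of_dvd_charpoly_gen ((g : GL κ F) : Matrix κ κ F) _ hsep.squarefree ?_ P hPm hPi hP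
      rw [haev, hAr, sub_self]
    · intro hc
      have h1 : ((g : GL κ F) : Matrix κ κ F).charpoly
          = (((1 : ↥(Cfsg.isometryGroup F ⇑Qt)) : GL κ F) : Matrix κ κ F).charpoly := by
        rw [hc, hone, Units.val_one, Matrix.charpoly_one, hκ]
      have hconj := isConj_of_charpoly_orth Qt hQ g 1 r hrodd hrF hg' (one_pow r) h1
      have hg1 : g = 1 := by
        obtain ⟨c, hc⟩ := isConj_iff.mp hconj.symm
        rw [← hc]; group
      rw [hg1, orderOf_one] at hg
      exact hr.one_lt.ne hg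
    · intro hL
      apply pow_eq_of_fpf Qt hV hnd hT r hrq (fun v => ((g : GL κ F) : Matrix κ κ F) *ᵥ v) hAiso
      · intro v
        have : ∀ j : ℕ, (fun v => ((g : GL κ F) : Matrix κ κ F) *ᵥ v)^[j] v
            = (((g : GL κ F) : Matrix κ κ F) ^ j) *ᵥ v := by
          intro j
          induction j with
          | zero => simp
          | succ j ih =>
            rw [Function.iterate_succ_apply', ih, Matrix.mulVec_mulVec, ← pow_succ']
        rw [this, hAr, Matrix.one_mulVec]
      · intro v hv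
        exact eq_zero_of_mulVec_eq _ hL v hv
  · rintro f ⟨⟨hfm, hfd, hfr, hfac, hne⟩, hgood⟩
    exact exists_isometry_of_poly p Qt hκ hnd hεt hT r hr hr2 hrp hfm hfd hfr hfac hne hgood

end card

end Cfsg.Agent.Helper44.QType
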