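/-
helper44: counting the admissible polynomials for `O^ε_{2m}(q)`.
-/
import Mathlib
import Cfsg.Agent.Helper44.OrthPrimeCard

set_option autoImplicit false

namespace Cfsg.Agent.Helper44.QType

open Polynomial
open Cfsg.Agent.Helper43 Cfsg.Agent.Helper43.SS Cfsg.Agent.Helper43.SpPrime

universe u

section count

variable {F : Type u} [Field F]

theorem X_sub_one_monic : (X - 1 : F[X]).Monic := by
  have : (X - 1 : F[X]) = X - C 1 := by rw [map_one]
  rw [this]
  exact monic_X_sub_C 1

theorem X_sub_one_irreducible : Irreducible (X - 1 : F[X]) := by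
  have : (X - 1 : F[X]) = X - C 1 := by rw [map_one]
  rw [this]
  exact irreducible_X_sub_C 1

theorem X_sub_one_natDegree : (X - 1 : F[X]).natDegree = 1 := by
  have : (X - 1 : F[X]) = X - C 1 := by rw [map_one]
  rw [this, natDegree_X_sub_C]

theorem X_sub_one_dvd_X_pow_sub_one (r : ℕ) : (X - 1 : F[X]) ∣ X ^ r - 1 := by
  have := sub_dvd_pow_sub_pow (X : F[X]) 1 r
  rwa [one_pow] at this

/-- polynomials of `Sp`-type of degree `2m` divisible by `X - 1` correspond to those of degree
`2(m-1)` -/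
theorem card_spPrimePred_dvd (m r : ℕ) (hm : 1 ≤ m) :
    Nat.card {f : F[X] // SpPrimePred m r f ∧ (X - 1 : F[X]) ∣ f}
      = Nat.card {f : F[X] // SpPrimePred (m - 1) r f} := by
  symm
  have hL2m : ((X - 1 : F[X]) ^ 2).Monic := X_sub_one_monic.pow 2
  have hL2d : ((X - 1 : F[X]) ^ 2).natDegree = 2 := by
    rw [X_sub_one_monic.natDegree_pow, X_sub_one_natDegree]
  let Θ : {f : F[X] // SpPrimePred (m - 1) r f} →
      {f : F[X] // SpPrimePred m r f ∧ (X - 1 : F[X]) ∣ f} := fun f =>
    ⟨(X - 1) ^ 2 * f.1, ⟨hL2m.mul f.2.1, by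
        rw [hL2m.natDegree_mul f.2.1, hL2d, f.2.2.1]
        omega, by
        rw [reverse_mul_of_domain, reverse_X_sub_one_sq, f.2.2.2.1], by
        intro P hPm hPi hP
        rcases hPi.prime.dvd_or_dvd hP with h | h
        · have h1 := hPi.prime.dvd_of_dvd_pow h
          have h2 : P = X - 1 := eq_of_monic_of_associated hPm X_sub_one_monic
            (hPi.associated_of_dvd X_sub_one_irreducible h1)
          rw [h2]
          exact X_sub_one_dvd_X_pow_sub_one r
        · exact f.2.2.2.2.1 P hPm hPi h, by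
        intro h
        apply f.2.2.2.2.2
        have e : (X - 1 : F[X]) ^ (2 * m) = (X - 1) ^ 2 * (X - 1) ^ (2 * (m - 1)) := by
          rw [← pow_add]
          congr 1
          omega
        rw [e] at h
        exact mul_left_cancel₀ hL2m.ne_zero h⟩,
      Dvd.dvd.mul_right (dvd_pow_self _ two_ne_zero) _⟩
  apply Nat.card_eq_of_bijective Θ
  constructor
  · intro f f' h
    have h1 : (X - 1 : F[X]) ^ 2 * f.1 = (X - 1) ^ 2 * f'.1 := congrArg Subtype.val h
    exact Subtype.ext (mul_left_cancel₀ hL2m.ne_zero h1)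
  · rintro ⟨f, ⟨hfm, hfd, hfr, hfac, hne⟩, hdvd⟩
    obtain ⟨f₁, hf, hm₁, hd₁, -, hr₁⟩ := exists_quot_of_reverse hfm hfd hfr hdvd
    refine ⟨⟨f₁, hm₁, hd₁, hr₁, ?_, ?_⟩, ?_⟩
    · intro P hPm hPi hP
      apply hfac P hPm hPi
      rw [hf]
      exact Dvd.dvd.mul_left hP _
    · intro h
      apply hne
      rw [hf, h, ← pow_add]
      congr 1
      omega
    · apply Subtype.ext
      exact hf.symm

variable [Fintype F]

theorem card_orthPred (m r : ℕ) (hm : 1 ≤ m) (ε : ℤ) :
    Nat.card {f : F[X] // OrthPred (F := F) m r ε f}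
      = if ((Nat.card F : ℕ) : ZMod r) ^ m = ((ε : ℤ) : ZMod r)
        then Nat.card {f : F[X] // SpPrimePred m r f}
        else Nat.card {f : F[X] // SpPrimePred (m - 1) r f} := by
  split_ifs with h
  · apply Nat.card_congr
    apply Equiv.subtypeEquivRight
    intro f
    exact ⟨fun hf => hf.1, fun hf => ⟨hf, fun _ => h⟩⟩
  · rw [← card_spPrimePred_dvd m r hm]
    apply Nat.card_congr
    apply Equiv.subtypeEquivRight
    intro f
    constructor
    · rintro ⟨hf, hgood⟩
      refine ⟨hf, ?_⟩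
      by_contra hn
      exact h (hgood hn)
    · rintro ⟨hf, hdvd⟩
      exact ⟨hf, fun hn => absurd hdvd hn⟩

end count

end Cfsg.Agent.Helper44.QType
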