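/-
helper44: classes of elements of odd prime order in `O_{2m+1}(q)`, `q` odd.
-/
import Mathlib
import Cfsg.Agent.Helper44.OrthOddB
import Cfsg.Agent.Helper44.OrthPrimeCount

set_option autoImplicit false

namespace Cfsg.Agent.Helper44.QType

open Polynomial Matrix QuadraticMap Cfsg Cfsg.Agent.Helper44
open Cfsg.Agent.Helper43 Cfsg.Agent.Helper43.SS Cfsg.Agent.Helper43.SpPrime

universe u

section real

variable {F : Type u} [Field F] [Fintype F]

theorem card_oddIdx (m : ℕ) : Fintype.card (Unit ⊕ (Fin m ⊕ Fin m)) = 2 * m + 1 := by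
  rw [Fintype.card_sum, Fintype.card_sum, Fintype.card_fin, Fintype.card_unit]
  ring

/-- transport along a similarity -/
theorem exists_of_similar {ι κ : Type} [Fintype ι] [DecidableEq ι] [Fintype κ] [DecidableEq κ]
    (Q : (ι → F) → F) (Qt : (κ → F) → F) (a : F) (ha : a ≠ 0) (C : (ι → F) ≃ₗ[F] (κ → F))
    (hC : ∀ v, a * Qt (C v) = Q v) (r : ℕ) (hr : r.Prime)
    (x : ↥(Cfsg.isometryGroup F Q)) (hxr : x ^ r = 1) {f : F[X]}
    (hxf : ((x : GL ι F) : Matrix ι ι F).charpoly = f)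
    (hne : f ≠ (X - 1) ^ (Fintype.card κ)) :
    ∃ y : ↥(Cfsg.isometryGroup F Qt), orderOf y = r ∧
      ((y : GL κ F) : Matrix κ κ F).charpoly = f := by
  set y0 := isoTransport Q (fun v => a * Qt v) C hC x with hy0
  have hy0r : y0 ^ r = 1 := by rw [hy0, ← map_pow, hxr, map_one]
  have hy0f : ((y0 : GL κ F) : Matrix κ κ F).charpoly = f := by
    rw [hy0, charpoly_isoTransport, hxf]
  have hmem : (y0 : GL κ F) ∈ Cfsg.isometryGroup F Qt :=
    (mem_isometryGroup_smul_iff Qt a ha _).mp y0.2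
  have hyr : (⟨(y0 : GL κ F), hmem⟩ : ↥(Cfsg.isometryGroup F Qt)) ^ r = 1 := by
    apply Subtype.ext
    show (y0 : GL κ F) ^ r = 1
    have := congrArg Subtype.val hy0r
    exact this
  refine ⟨⟨(y0 : GL κ F), hmem⟩, ?_, hy0f⟩
  haveI : Fact r.Prime := ⟨hr⟩
  apply orderOf_eq_prime hyr
  intro h1
  apply hne
  have h3 : (y0 : GL κ F) = 1 := congrArg Subtype.val h1
  rw [h3, Units.val_one, Matrix.charpoly_one] at hy0f
  exact hy0f.symm

/-- the sum of a fixed-point-free piece with a trivial odd-dimensional piece -/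
theorem exists_sum_model {ι₁ ι₂ : Type} [Fintype ι₁] [DecidableEq ι₁] [Fintype ι₂] [DecidableEq ι₂]
    (Q₁ : QuadraticForm F (ι₁ → F)) (Q₂ : QuadraticForm F (ι₂ → F))
    (hnd₁ : ∀ x, (∀ y, polar Q₁ x y = 0) → x = 0)
    (hnd₂ : ∀ x, (∀ y, polar Q₂ x y = 0) → x = 0) (r : ℕ)
    (x : ↥(Cfsg.isometryGroup F ⇑Q₁)) (hxr : x ^ r = 1) :
    (∀ v, (∀ w, polar (orthSumForm Q₁ Q₂) v w = 0) → v = 0) ∧
    (inlIso Q₁ Q₂ x) ^ r = 1 ∧
    (((inlIso Q₁ Q₂ x : ↥(Cfsg.isometryGroup F ⇑(orthSumForm Q₁ Q₂))) : GL (ι₁ ⊕ ι₂) F) :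
      Matrix (ι₁ ⊕ ι₂) (ι₁ ⊕ ι₂) F).charpoly
      = ((x : GL ι₁ F) : Matrix ι₁ ι₁ F).charpoly * (X - 1) ^ (Fintype.card ι₂) := by
  refine ⟨?_, ?_, ?_⟩
  · exact (nondeg_iff _).mp (nondegenerate_orthSumForm Q₁ Q₂ ((nondeg_iff _).mpr hnd₁)
      ((nondeg_iff _).mpr hnd₂))
  · rw [← map_pow, hxr, map_one]
  · rw [inlIso_coe, Matrix.charpoly_fromBlocks_zero₁₂, Matrix.charpoly_one]

/-- realisation in odd dimension -/
theorem exists_isometry_of_poly_odd (p : ℕ) [Fact p.Prime] [CharP F p] (h2 : (2 : F) ≠ 0)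
    (m r : ℕ) (hr : r.Prime) (hr2 : r ≠ 2) (hrp : r ≠ p) {f : F[X]} (hf : SpPrimePred m r f) :
    ∃ y : ↥(Cfsg.isometryGroup F (quadFormOdd m F)), orderOf y = r ∧
      ((y : GL (Unit ⊕ (Fin m ⊕ Fin m)) F) :
        Matrix (Unit ⊕ (Fin m ⊕ Fin m)) (Unit ⊕ (Fin m ⊕ Fin m)) F).charpoly = (X - 1) * f := by
  classical
  obtain ⟨hfm, hfd, hfr, hfac, hne⟩ := hf
  obtain ⟨k, g, hk, hfg, hgm, hgd, hgr, hgn⟩ := exists_decomp m f hfm hfd hfr
  have hgf : g ∣ f := ⟨(X - 1) ^ (2 * k), by rw [hfg]; ring⟩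
  have hfacg : ∀ P : F[X], P.Monic → Irreducible P → P ∣ g → P ∣ (X ^ r - 1 : F[X]) :=
    fun P hPm hPi hP => hfac P hPm hPi (hP.trans hgf)
  obtain ⟨n, hn⟩ : ∃ n, m - k = n := ⟨_, rfl⟩
  rw [hn] at hgd
  obtain ⟨QW, xW, εW, hQWnd, hxWr, hxWf, -, -, -⟩ :=
    exists_fpf_model p n r hr hr2 hrp hgm hgd hgr hfacg hgn
  obtain ⟨hndS, hxr, hxf⟩ := exists_sum_model QW (oddForm k F) hQWnd (nondeg_oddForm h2 k) r xW hxWr
  have hcU : Fintype.card (Unit ⊕ (Fin k ⊕ Fin k)) = 2 * k + 1 := card_oddIdx k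
  have hV : Module.finrank F ((Fin n ⊕ Fin n) ⊕ (Unit ⊕ (Fin k ⊕ Fin k)) → F) = 2 * m + 1 := by
    rw [Module.finrank_fintype_fun_eq_card, Fintype.card_sum, hcU, Fintype.card_sum,
      Fintype.card_fin]
    omega
  obtain ⟨a, C, ha, hC⟩ := exists_similarity_odd (orthSumForm QW (oddForm k F)) hV hndS
  have hL : (X - 1 : F[X]) ≠ 0 := X_sub_one_monic.ne_zero
  refine exists_of_similar (⇑(orthSumForm QW (oddForm k F))) (quadFormOdd m F) a ha C hC r hr
    (inlIso QW (oddForm k F) xW) hxr ?_ ?_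
  · rw [hxf, hxWf, hcU, hfg]
    ring
  · rw [card_oddIdx, pow_succ']
    intro h
    exact hne (mul_left_cancel₀ hL h)

end real

section card

variable {F : Type u} [Field F] [Fintype F]

/-- classes of elements of odd prime order in odd dimension, given the realisation of polynomials -/
theorem card_classes_prime_order_odd_gen (p : ℕ) [Fact p.Prime] [CharP F p] (h2 : (2 : F) ≠ 0)
    {κ : Type} [Fintype κ] [DecidableEq κ] (Qt : QuadraticForm F (κ → F)) {m : ℕ}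
    (hκ : Fintype.card κ = 2 * m + 1) (hnd : ∀ x, (∀ y, polar Qt x y = 0) → x = 0)
    (r : ℕ) (hr : r.Prime) (hr2 : r ≠ 2) (hrp : r ≠ p)
    (hreal : ∀ f : F[X], SpPrimePred m r f → ∃ y : ↥(Cfsg.isometryGroup F ⇑Qt), orderOf y = r ∧
      ((y : GL κ F) : Matrix κ κ F).charpoly = (X - 1) * f) :
    Nat.card {C : ConjClasses ↥(Cfsg.isometryGroup F ⇑Qt) //
      ∃ g : ↥(Cfsg.isometryGroup F ⇑Qt), ConjClasses.mk g = C ∧ orderOf g = r}
      = Nat.card {f : F[X] // SpPrimePred m r f} := by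
  classical
  haveI : Fact r.Prime := ⟨hr⟩
  have hp : p.Prime := Fact.out
  have hrodd : Odd r := hr.eq_two_or_odd'.resolve_left hr2
  have hQ : (polarBilin Qt).Nondegenerate := (nondeg_iff Qt).mpr hnd
  have hrF : (r : F) ≠ 0 := by
    intro h0
    rw [CharP.cast_eq_zero_iff F p r] at h0
    exact hrp ((Nat.prime_dvd_prime_iff_eq hp hr).mp h0).symm
  have hsep : (X ^ r - 1 : F[X]).Separable := by
    have := Polynomial.separable_X_pow_sub_C (1 : F) hrF one_ne_zero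
    simpa using this
  have haev : ∀ A : Matrix κ κ F, aeval A (X ^ r - 1 : F[X]) = A ^ r - 1 := by
    intro A
    rw [map_sub, map_pow, aeval_X, map_one]
  have hL : (X - 1 : F[X]) ≠ 0 := X_sub_one_monic.ne_zero
  have hone : ((1 : ↥(Cfsg.isometryGroup F ⇑Qt)) : GL κ F) = 1 := rfl
  have hcount : Nat.card {t : F[X] // ∃ f', t = (X - 1) * f' ∧ SpPrimePred m r f'}
      = Nat.card {f : F[X] // SpPrimePred m r f} := by
    symm
    apply Nat.card_eq_of_bijective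
      (fun f : {f : F[X] // SpPrimePred m r f} =>
        (⟨(X - 1) * f.1, f.1, rfl, f.2⟩ : {t : F[X] // ∃ f', t = (X - 1) * f' ∧ SpPrimePred m r f'}))
    constructor
    · intro f f' h
      have h1 : (X - 1 : F[X]) * f.1 = (X - 1) * f'.1 := congrArg Subtype.val h
      exact Subtype.ext (mul_left_cancel₀ hL h1)
    · rintro ⟨t, f', rfl, hf'⟩
      exact ⟨⟨f', hf'⟩, rfl⟩
  rw [← hcount]
  apply card_classes_eq (G := ↥(Cfsg.isometryGroup F ⇑Qt)) (T := F[X])
    (fun g => orderOf g = r) (fun g => ((g : GL κ F) : Matrix κ κ F).charpoly)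
    (fun t => ∃ f', t = (X - 1) * f' ∧ SpPrimePred m r f')
  · intro g c
    show (((c * g * c⁻¹ : ↥(Cfsg.isometryGroup F ⇑Qt)) : GL κ F) : Matrix κ κ F).charpoly = _
    have : ((c * g * c⁻¹ : ↥(Cfsg.isometryGroup F ⇑Qt)) : GL κ F)
        = (c : GL κ F) * (g : GL κ F) * (c : GL κ F)⁻¹ := rfl
    rw [this, Units.val_mul, Units.val_mul, Matrix.coe_units_inv]
    exact Matrix.charpoly_units_conj (c : GL κ F) _
  · intro g h hg hh hc
    have hg' : g ^ r = 1 := by rw [← hg]; exact pow_orderOf_eq_one g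
    have hh' : h ^ r = 1 := by rw [← hh]; exact pow_orderOf_eq_one h
    exact isConj_of_charpoly_orth Qt hQ g h r hrodd hrF hg' hh' hc
  · intro g hg
    have hg' : g ^ r = 1 := by rw [← hg]; exact pow_orderOf_eq_one g
    have hAr := coe_pow_isometryGroup (⇑Qt) g r hg'
    have hAiso : ∀ u, Qt (((g : GL κ F) : Matrix κ κ F) *ᵥ u) = Qt u :=
      (Cfsg.Agent.Helper13.mem_isometryGroup_iff (⇑Qt) (g : GL κ F)).mp g.2
    have hrev := charpoly_reverse_of_isometry_odd Qt hQ hκ _ hAiso hrodd hAr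
    obtain ⟨f', hf', hf'm, hf'd, hf'r⟩ := exists_quot_odd h2 (Matrix.charpoly_monic _)
      (by rw [Matrix.charpoly_natDegree_eq_dim, hκ]) hrev
    refine ⟨f', hf', hf'm, hf'd, hf'r, ?_, ?_⟩
    · intro P hPm hPi hP
      apply dvd_of_dvd_charpoly_gen ((g : GL κ F) : Matrix κ κ F) _ hsep.squarefree ?_ P hPm hPi
        (by rw [hf']; exact Dvd.dvd.mul_left hP _)
      rw [haev, hAr, sub_self]
    · intro hc
      have h1 : ((g : GL κ F) : Matrix κ κ F).charpoly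
          = (((1 : ↥(Cfsg.isometryGroup F ⇑Qt)) : GL κ F) : Matrix κ κ F).charpoly := by
        rw [hf', hc, hone, Units.val_one, Matrix.charpoly_one, hκ, pow_succ']
      have hconj := isConj_of_charpoly_orth Qt hQ g 1 r hrodd hrF hg' (one_pow r) h1
      have hg1 : g = 1 := by
        obtain ⟨c, hc⟩ := isConj_iff.mp hconj.symm
        rw [← hc]; group
      rw [hg1, orderOf_one] at hg
      exact hr.one_lt.ne hg
  · rintro t ⟨f', rfl, hf'⟩
    exact hreal f' hf'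

/-- classes of elements of odd prime order in `O_{2m+1}(q)` correspond to the same polynomials as
those of `Sp_{2m}(q)` -/
theorem card_classes_prime_order_odd_dim (p : ℕ) [Fact p.Prime] [CharP F p] (h2 : (2 : F) ≠ 0)
    (m r : ℕ) (hr : r.Prime) (hr2 : r ≠ 2) (hrp : r ≠ p) :
    Nat.card {C : ConjClasses ↥(Cfsg.isometryGroup F (quadFormOdd m F)) //
      ∃ g : ↥(Cfsg.isometryGroup F (quadFormOdd m F)), ConjClasses.mk g = C ∧ orderOf g = r}
      = Nat.card {f : F[X] // SpPrimePred m r f} :=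
  card_classes_prime_order_odd_gen p h2 (oddForm m F) (card_oddIdx m) (nondeg_oddForm h2 m) r hr hr2
    hrp (fun _ hf => exists_isometry_of_poly_odd p h2 m r hr hr2 hrp hf)

end card

end Cfsg.Agent.Helper44.QType
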