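import Mathlib
import Cfsg.Agent.Helper99.QSpDefs
import Cfsg.Agent.Helper94.TnJ
import Cfsg.Agent.Helper94.OrD4
import Cfsg.Agent.Helper44.OrthRealizeE
import Cfsg.Agent.Helper43.OrthInvI

/-!
# (QA2) for helper99's S5974: a nondegenerate quadratic space of dimension `2 g` over a finite
field (any characteristic) contains nondegenerate subspaces of every smaller even dimension `2 t`
and of both types (type `-` needs `0 < t`).

Route: build the model `Q₁ ⟂ Q₂` with `Q₁` of dimension `2 t` and type `ε`, `Q₂` of dimension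
`2 (g - t)` and type `ε * εX`; it is isometric to `X` (`exists_isometry_of_hasType`); take the image
of the first summand.
-/

set_option autoImplicit false
set_option linter.unusedSectionVars false

namespace Cfsg.Agent.Helper44.QSp

open Module Polynomial
open Cfsg.Agent.Helper59.InvChain Cfsg.Agent.Helper59.Elusive
open Cfsg.Agent.Helper99.SpStruct Cfsg.Agent.Helper99.RDecomp
open Cfsg.Agent.Helper44 Cfsg.Agent.Helper44.QType
open Cfsg.Agent.Helper99.QSp

universe u v

variable {F : Type u} [Field F] [Fintype F]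
variable {V : Type v} [AddCommGroup V] [Module F V] [FiniteDimensional F V]

/-- the embedding of the first summand `u ↦ (u, 0)` -/
def sumInl (F : Type u) [Field F] (ι₁ ι₂ : Type) : (ι₁ → F) →ₗ[F] (ι₁ ⊕ ι₂ → F) where
  toFun u := Sum.elim u 0
  map_add' u v := by
    funext i
    rcases i with i | i
    · rfl
    · simp
  map_smul' a u := by
    funext i
    rcases i with i | i
    · rfl
    · simp

omit [Fintype F] in
theorem sumInl_apply (ι₁ ι₂ : Type) (u : ι₁ → F) : sumInl F ι₁ ι₂ u = Sum.elim u 0 := rfl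

omit [Fintype F] in
theorem sumInl_injective (ι₁ ι₂ : Type) : Function.Injective (sumInl F ι₁ ι₂) := by
  intro u v h
  funext i
  have := congrFun h (Sum.inl i)
  simpa [sumInl_apply] using this

/-- the standard models: a nondegenerate form of dimension `2 t` and type `ε` -/
theorem exists_std_model (t : ℕ) (ε : ℤ) (hε : ε = 1 ∨ (ε = -1 ∧ 0 < t)) :
    ∃ (ι : Type) (_ : Fintype ι) (_ : DecidableEq ι) (Q₁ : QuadraticForm F (ι → F)),
      Fintype.card ι = 2 * t ∧ (QuadraticMap.polarBilin Q₁).Nondegenerate ∧ HasType (⇑Q₁) t ε := by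
  rcases hε with rfl | ⟨rfl, ht⟩
  · refine ⟨Fin t ⊕ Fin t, inferInstance, inferInstance, plusForm t F, ?_,
      nondegenerate_plusForm t, ?_⟩
    · rw [Fintype.card_sum, Fintype.card_fin, two_mul]
    · rw [plusForm_coe]
      exact hasType_plus t
  · obtain ⟨t', rfl⟩ : ∃ t', t = t' + 1 := ⟨t - 1, by omega⟩
    obtain ⟨ζ, hζ, hD⟩ := exists_irred_param (F := F)
    refine ⟨(Fin t' ⊕ Fin t') ⊕ Fin 2, inferInstance, inferInstance, minusForm t' F 1 ζ, ?_,
      nondegenerate_minusForm t' 1 ζ hD, ?_⟩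
    · rw [Fintype.card_sum, Fintype.card_sum, Fintype.card_fin, Fintype.card_fin]
      ring
    · rw [minusForm_coe]
      apply hasType_minus t' 1 ζ
      intro z₁ z₂ hz
      by_cases h2 : z₂ = 0
      · subst h2
        have : z₁ ^ 2 = 0 := by simpa using hz
        exact ⟨pow_eq_zero_iff (two_ne_zero) |>.mp this, rfl⟩
      · exfalso
        apply hζ (z₁ / z₂)
        have : (z₁ / z₂) ^ 2 + z₁ / z₂ + ζ = (z₁ ^ 2 + 1 * z₁ * z₂ + ζ * z₂ ^ 2) / z₂ ^ 2 := by
          field_simp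
        rw [this, hz, zero_div]

/-- the image of the first summand of a model of `X` -/
theorem exists_sub_of_model (Q : QuadraticForm F V) {X : Submodule F V} (hX : Nd (pB Q) X)
    {ι₁ ι₂ : Type} [Fintype ι₁] [DecidableEq ι₁] [Fintype ι₂] [DecidableEq ι₂]
    (Q₁ : QuadraticForm F (ι₁ → F)) (Q₂ : QuadraticForm F (ι₂ → F)) {t s : ℕ}
    (hc₁ : Fintype.card ι₁ = 2 * t) (hc₂ : Fintype.card ι₂ = 2 * s)
    (hnd₁ : (QuadraticMap.polarBilin Q₁).Nondegenerate)
    (hnd₂ : (QuadraticMap.polarBilin Q₂).Nondegenerate)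
    {ε₁ ε₂ : ℤ} (h₁ : HasType (⇑Q₁) t ε₁) (h₂ : HasType (⇑Q₂) s ε₂)
    (hdim : finrank F ↥X = 2 * (t + s)) (hTX : QType Q X (t + s) (ε₁ * ε₂)) :
    ∃ W : Submodule F V, W ≤ X ∧ Nd (pB Q) W ∧ finrank F ↥W = 2 * t ∧ QType Q W t ε₁ := by
  classical
  have hfinS : finrank F (ι₁ ⊕ ι₂ → F) = 2 * (t + s) := by
    rw [Module.finrank_fintype_fun_eq_card, Fintype.card_sum, hc₁, hc₂]
    ring
  have hndS : ∀ x, (∀ y, QuadraticMap.polar (orthSumForm Q₁ Q₂) x y = 0) → x = 0 :=
    (nondeg_iff _).mp (nondegenerate_orthSumForm Q₁ Q₂ hnd₁ hnd₂)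
  have hTS : HasType (⇑(orthSumForm Q₁ Q₂)) (t + s) (ε₁ * ε₂) := by
    rw [orthSumForm_coe]
    exact HasType.orthSum Q₁ Q₂ hc₁ hc₂ ((nondeg_iff _).mp hnd₁) ((nondeg_iff _).mp hnd₂) h₁ h₂
  obtain ⟨g, hg⟩ := exists_isometry_of_hasType (orthSumForm Q₁ Q₂) (qSub Q X) hfinS hdim hndS
    (qSub_nd Q hX) hTS hTX
  let j : (ι₁ → F) →ₗ[F] V := X.subtype ∘ₗ g.toLinearMap ∘ₗ sumInl F ι₁ ι₂
  have hj_apply : ∀ u, j u = ((g (Sum.elim u 0) : ↥X) : V) := fun u => rfl
  have hj_inj : Function.Injective j := by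
    intro u v h
    apply sumInl_injective ι₁ ι₂
    apply g.injective
    apply Subtype.ext
    exact h
  have hjQ : ∀ u, Q (j u) = Q₁ u := by
    intro u
    rw [hj_apply]
    have := hg (Sum.elim u 0)
    rw [qSub_apply, orthSumForm_elim_zero] at this
    exact this
  have hjpolar : ∀ u u', QuadraticMap.polar Q (j u) (j u') = QuadraticMap.polar Q₁ u u' := by
    intro u u'
    unfold QuadraticMap.polar
    rw [← map_add, hjQ, hjQ, hjQ]
  refine ⟨LinearMap.range j, ?_, ?_, ?_, ?_⟩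
  · rintro _ ⟨u, rfl⟩
    rw [hj_apply]
    exact (g (Sum.elim u 0)).2
  · rw [nd_iff]
    rintro _ ⟨u, rfl⟩ hu
    have : u = 0 := by
      apply (nondeg_iff _).mp hnd₁
      intro u'
      have := hu (j u') ⟨u', rfl⟩
      rw [pB_apply, hjpolar, QuadraticMap.polar_comm] at this
      exact this
    rw [this, map_zero]
  · rw [LinearMap.finrank_range_of_inj hj_inj, Module.finrank_fintype_fun_eq_card, hc₁]
  · unfold QType
    refine HasType.congr h₁ (LinearEquiv.ofInjective j hj_inj).toEquiv ?_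
    intro u
    show Q ((LinearEquiv.ofInjective j hj_inj u : ↥(LinearMap.range j)) : V) = Q₁ u
    rw [LinearEquiv.ofInjective_apply]
    exact hjQ u

/-- (QA2) subspaces of every smaller even dimension and of both types -/
theorem exists_typed_sub (Q : QuadraticForm F V) {X : Submodule F V} (hX : Nd (pB Q) X) {g t : ℕ}
    (hdim : finrank F ↥X = 2 * g) (ht : t < g) (ε : ℤ) (hε : ε = 1 ∨ (ε = -1 ∧ 0 < t)) :
    ∃ W : Submodule F V, W ≤ X ∧ Nd (pB Q) W ∧ finrank F ↥W = 2 * t ∧ QType Q W t ε := by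
  obtain ⟨εX, hεX, hTX⟩ := exists_qType Q hX hdim
  obtain ⟨s, rfl⟩ : ∃ s, g = t + s := ⟨g - t, by omega⟩
  have hs : 0 < s := by omega
  have hε1 : ε = 1 ∨ ε = -1 := by
    rcases hε with h | ⟨h, -⟩
    · exact Or.inl h
    · exact Or.inr h
  have hε2 : ε * εX = 1 ∨ (ε * εX = -1 ∧ 0 < s) := by
    rcases hε1 with rfl | rfl <;> rcases hεX with rfl | rfl
    · left; norm_num
    · right; exact ⟨by norm_num, hs⟩
    · right; exact ⟨by norm_num, hs⟩
    · left; norm_num
  have hprod : ε * (ε * εX) = εX := by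
    rcases hε1 with rfl | rfl <;> ring
  obtain ⟨ι₁, i₁, d₁, Q₁, hc₁, hnd₁, h₁⟩ := exists_std_model (F := F) t ε hε
  obtain ⟨ι₂, i₂, d₂, Q₂, hc₂, hnd₂, h₂⟩ := exists_std_model (F := F) s (ε * εX) hε2
  rw [← hprod] at hTX
  exact exists_sub_of_model Q hX Q₁ Q₂ hc₁ hc₂ hnd₁ hnd₂ h₁ h₂ hdim hTX

end Cfsg.Agent.Helper44.QSp
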