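import Mathlib
import Cfsg.Agent.Helper99.QSpDefs
import Cfsg.Agent.Helper94.TnJ
import Cfsg.Agent.Helper94.OrD4
import Cfsg.Agent.Helper94.TsH
import Cfsg.Agent.Helper44.OrthRealizeE
import Cfsg.Agent.Helper43.OrthInvI

/-!
# (QD) for helper99's S5974: test elements of odd prime order `r ≠ p` of `O⁺_{2d}(F)` with `k`
blocks (all characteristics).

Route: the block polynomial of helper94 (`Ts.exists_block_poly`) is realised in the isometry group
of the plus form by `exists_isometry_of_poly`; the dimension of the fixed space is the multiplicity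
of the root `1` of the characteristic polynomial.
-/

set_option autoImplicit false
set_option linter.unusedSectionVars false

namespace Cfsg.Agent.Helper44.QSp

open Module Polynomial
open Cfsg.Agent.Helper59.InvChain Cfsg.Agent.Helper59.Elusive
open Cfsg.Agent.Helper99.SpStruct Cfsg.Agent.Helper99.RDecomp
open Cfsg.Agent.Helper44 Cfsg.Agent.Helper44.QType
open Cfsg.Agent.Helper99.QSp

universe u v

variable {F : Type u} [Field F] [Fintype F]
variable {V : Type v} [AddCommGroup V] [Module F V] [FiniteDimensional F V]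

/-- the arithmetic: `k` blocks filling the whole space with sign `+` force `i ∣ d` -/
theorem order_dvd_of_bsign {i k d : ℕ} (hkc : k * blockSize i = 2 * d) (hs : bsign i k = 1) :
    i ∣ d := by
  unfold bsign at hs
  unfold blockSize at hkc
  by_cases hi : Even i
  · rw [if_pos hi] at hs hkc
    have hk : Even k := by
      rcases Nat.even_or_odd k with h | h
      · exact h
      · rw [h.neg_one_pow] at hs
        norm_num at hs
    obtain ⟨k', rfl⟩ := hk
    exact ⟨k', by nlinarith⟩
  · rw [if_neg hi] at hkc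
    exact ⟨k, by nlinarith⟩

/-- (QD) an element of order `r` of `O⁺_{2d}(F)` with `k` blocks -/
theorem exists_plus_elt {p : ℕ} [Fact p.Prime] [CharP F p] (d r : ℕ) [Fact r.Prime] (hrp : r ≠ p)
    (hr2 : r ≠ 2) (k : ℕ) (hk : 0 < k)
    (hkc : k * blockSize (orderOf ((Fintype.card F : ℕ) : ZMod r)) ≤ 2 * d)
    (hsign : k * blockSize (orderOf ((Fintype.card F : ℕ) : ZMod r)) = 2 * d →
      bsign (orderOf ((Fintype.card F : ℕ) : ZMod r)) k = 1) :
    ∃ y : ↥(Cfsg.isometryGroup F (Cfsg.quadFormPlus d F)), orderOf y = r ∧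
      finrank F ↥(fixSp (Matrix.toLin' ((y : GL (Fin d ⊕ Fin d) F) :
        Matrix (Fin d ⊕ Fin d) (Fin d ⊕ Fin d) F))) =
        2 * d - k * blockSize (orderOf ((Fintype.card F : ℕ) : ZMod r)) := by
  classical
  have hr : r.Prime := Fact.out
  have hrF : (r : F) ≠ 0 := natCast_ne_zero_of_ne r hrp
  obtain ⟨f, ⟨hfm, hfd, hfr, hfac, hne⟩, hrm⟩ :=
    Cfsg.Agent.Helper94.Ts.exists_block_poly (F := F) d r hrp k hk hkc
  have hf0 : f ≠ 0 := hfm.ne_zero
  have hκ : Fintype.card (Fin d ⊕ Fin d) = 2 * d := by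
    rw [Fintype.card_sum, Fintype.card_fin, two_mul]
  have hT : HasType (⇑(plusForm d F)) d 1 := by
    rw [plusForm_coe]
    exact hasType_plus d
  have hgood : ¬ (X - 1 : F[X]) ∣ f →
      ((Nat.card F : ℕ) : ZMod r) ^ d = (((1 : ℤ) : ℤ) : ZMod r) := by
    intro hnd
    have h0 : rootMultiplicity 1 f = 0 := by
      by_contra hpos
      apply hnd
      have := (Polynomial.le_rootMultiplicity_iff hf0).mp (Nat.one_le_iff_ne_zero.mpr hpos)
      simpa using this
    rw [h0] at hrm
    have hfull : k * blockSize (orderOf ((Fintype.card F : ℕ) : ZMod r)) = 2 * d := by omega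
    have hdvd := order_dvd_of_bsign hfull (hsign hfull)
    rw [Nat.card_eq_fintype_card, Int.cast_one]
    exact orderOf_dvd_iff_pow_eq_one.mp hdvd
  obtain ⟨y, hyord, hych⟩ := exists_isometry_of_poly p (plusForm d F) hκ
    ((nondeg_iff _).mp (nondegenerate_plusForm d)) (Or.inl rfl) hT r hr hr2 hrp hfm hfd hfr hfac
    hne hgood
  refine ⟨y, hyord, ?_⟩
  have hyr : y ^ r = 1 := by rw [← hyord]; exact pow_orderOf_eq_one y
  have hlin := Cfsg.Agent.Helper94.Ts.toLin_pow_eq_one' y hyr
  have h1 := Cfsg.Agent.Helper99.SpElt.finrank_fixSp_eq_rootMultiplicity r hrF _ hlin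
  rw [Matrix.charpoly_toLin', hych, hrm] at h1
  exact h1

end Cfsg.Agent.Helper44.QSp
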