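import Mathlib
import Cfsg.Prelude.Def_TwoFusion

set_option autoImplicit false

/-!
# Direct decomposability of the Sylow 2-subgroups of the alternating groups (S2221): vocabulary

* `C2`: the group with two elements; `sC2`: its non-trivial character to `ℤˣ`;
* `wrSign s`: the character `w ↦ s (w.left 1) * s (w.left g)` of the regular wreath product
  `D ≀ᵣ C2` attached to a character `s` of `D`;
* `W e`: the iterated wreath product of `C2` (Mathlib's model of the Sylow 2-subgroups of the
  symmetric group of degree `2 ^ e`), `sgnW e`: the sign of its permutation action on `Fin e → C2`;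
* `Decomp G`: `G` is the internal direct product of two non-trivial subgroups;
* `piSign s`: the product character `w ↦ ∏ j, s j (w j)` of a product of groups;
* `Good D s`, `Strong D s`: the facts on a factor `(W e, sgnW e)` (`e ≥ 2`, resp. `e ≥ 3`) used in the
  indecomposability argument;
* `bits n`: the set of binary digits of `n`; `Model n`, `modelSign n`: the product of the `W i` over
  the binary digits `i` of `n`, a model of the Sylow 2-subgroups of the symmetric group of degree `n`,
  and its sign character.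
-/

namespace Cfsg.Agent.Helper44.AltSyl

open scoped RegularWreathProduct

/-- the group with two elements -/
abbrev C2 : Type := Multiplicative (ZMod 2)

/-- the non-identity element of `C2` -/
def gC2 : C2 := Multiplicative.ofAdd 1

/-- the non-trivial character of `C2` -/
def sC2 : C2 →* ℤˣ where
  toFun c := if c = 1 then 1 else -1
  map_one' := by simp
  map_mul' := by decide

/-- the character of `D ≀ᵣ C2` attached to a character of `D` -/
def wrSign {D : Type*} [Group D] (s : D →* ℤˣ) : D ≀ᵣ C2 →* ℤˣ where
  toFun w := s (w.left 1) * s (w.left gC2)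
  map_one' := by simp
  map_mul' a b := by
    have h : ∀ c : C2, s (b.left (c⁻¹ * 1)) * s (b.left (c⁻¹ * gC2))
        = s (b.left 1) * s (b.left gC2) := by
      have h2 : ∀ c : C2, c = 1 ∨ c = gC2 := by decide
      intro c
      rcases h2 c with rfl | rfl
      · simp
      · have e1 : (gC2⁻¹ * 1 : C2) = gC2 := by decide
        have e2 : (gC2⁻¹ * gC2 : C2) = 1 := by decide
        rw [e1, e2, mul_comm]
    simp only [RegularWreathProduct.mul_left, Pi.mul_apply, map_mul]
    rw [← h a.right]
    exact mul_mul_mul_comm _ _ _ _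

/-- the iterated wreath product of `C2` -/
abbrev W (e : ℕ) : Type := IteratedWreathProduct C2 e

/-- the sign of the permutation action of `W e` on `Fin e → C2` -/
noncomputable def sgnW (e : ℕ) : W e →* ℤˣ :=
  Equiv.Perm.sign.comp (iteratedWreathToPermHom C2 e)

/-- `G` is the internal direct product of two non-trivial subgroups -/
def Decomp (G : Type*) [Group G] : Prop :=
  ∃ S₁ S₂ : Subgroup G, S₁ ≠ ⊥ ∧ S₂ ≠ ⊥ ∧ (∀ a ∈ S₁, ∀ b ∈ S₂, a * b = b * a) ∧
    S₁ ⊓ S₂ = ⊥ ∧ S₁ ⊔ S₂ = ⊤

/-- the product character of a product of groups -/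
def piSign {J : Type*} [Fintype J] {Wf : J → Type*} [∀ j, Group (Wf j)] (s : ∀ j, Wf j →* ℤˣ) :
    (∀ j, Wf j) →* ℤˣ where
  toFun w := ∏ j, s j (w j)
  map_one' := by simp
  map_mul' a b := by simp [Finset.prod_mul_distrib]

@[simp] theorem piSign_apply {J : Type*} [Fintype J] {Wf : J → Type*} [∀ j, Group (Wf j)]
    (s : ∀ j, Wf j →* ℤˣ) (w : ∀ j, Wf j) : piSign s w = ∏ j, s j (w j) := rfl

/-- the facts on a factor `(W e, sgnW e)`, `e ≥ 2` -/
structure Good (D : Type*) [Group D] (s : D →* ℤˣ) : Prop where
  finite : Finite D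
  pgroup : IsPGroup 2 D
  card_center : Nat.card (Subgroup.center D) = 2
  exists_odd : ∃ u : D, s u = -1
  center_le : ∀ c ∈ Subgroup.center D, s c = 1
  cent_sign : ∀ c : D, (∀ v : D, s v = 1 → Commute c v) → s c = 1
  cent_comm : ∀ c : D, (∀ v : D, s v = 1 → Commute c v) → ∀ w : D, c * w * c⁻¹ * w⁻¹ ∈ Subgroup.center D
  cent_commute : ∀ c c' : D, (∀ v : D, s v = 1 → Commute c v) →
    (∀ v : D, s v = 1 → Commute c' v) → Commute c c'
  exists_comm : ∃ v w : D, s v = 1 ∧ v * w * v⁻¹ * w⁻¹ ≠ 1 ∧
    v * w * v⁻¹ * w⁻¹ ∈ Subgroup.center D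

/-- the facts on a factor `(W e, sgnW e)`, `e ≥ 3` -/
structure Strong (D : Type*) [Group D] (s : D →* ℤˣ) : Prop extends Good D s where
  cent_le : ∀ c : D, (∀ v : D, s v = 1 → Commute c v) → c ∈ Subgroup.center D

/-- the set of binary digits of `n` -/
def bits (n : ℕ) : Finset ℕ := n.bitIndices.toFinset

theorem mem_bits {n i : ℕ} : i ∈ bits n ↔ n.testBit i := by
  unfold bits
  rw [List.mem_toFinset, Nat.mem_bitIndices]

theorem sum_bits (n : ℕ) : ∑ i ∈ bits n, 2 ^ i = n :=
  Finset.sum_toFinset_bitIndices_two_pow n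

/-- the product of the `W i` over the binary digits `i` of `n` -/
abbrev Model (n : ℕ) : Type := ∀ i : ↥(bits n), W (i : ℕ)

/-- the sign character of `Model n` -/
noncomputable def modelSign (n : ℕ) : Model n →* ℤˣ :=
  piSign (fun i : ↥(bits n) => sgnW (i : ℕ))

end Cfsg.Agent.Helper44.AltSyl
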