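import Mathlib
import Cfsg.Agent.Helper14.CharTwoRefl
import Cfsg.Agent.Helper44.MaxSingParity

/-!
# Transitivity on maximal totally singular subspaces by products of reflections

In a non-degenerate quadratic space of dimension `2m`, for totally singular subspaces `U`, `W` of
dimension `m` there is a product of exactly `m - dim (U ∩ W)` reflections mapping `W` onto `U`.
Also: a rotation in a hyperbolic plane stabilising a given totally singular subspace, with
prescribed spinor norm.
-/

set_option autoImplicit false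

namespace Cfsg.Agent.Helper44

open Module QuadraticMap Cfsg.Agent.Helper14

variable {F V : Type*} [Field F] [AddCommGroup V] [Module F V]
variable (Q : QuadraticForm F V)

/-- a maximal totally singular subspace is its own orthogonal -/
theorem IsTotSing.orthogonal_eq [FiniteDimensional F V]
    (hQ : (QuadraticMap.polarBilin Q).Nondegenerate) {W : Submodule F V} (hW : IsTotSing Q W)
    {m : ℕ} (hWm : finrank F ↥W = m) (hV : finrank F V = 2 * m) :
    LinearMap.BilinForm.orthogonal (QuadraticMap.polarBilin Q) W = W := by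
  symm
  apply Submodule.eq_of_le_of_finrank_eq
  · intro x hx
    rw [LinearMap.BilinForm.mem_orthogonal_iff]
    intro n hn
    exact hW.polar_eq_zero hn hx
  · rw [LinearMap.BilinForm.finrank_orthogonal hQ W]
    omega

/-- one step: if `U ≠ W` there is a reflection increasing `dim (U ∩ W)` by one -/
theorem exists_qRefl_finrank_inf_succ [FiniteDimensional F V]
    (hQ : (QuadraticMap.polarBilin Q).Nondegenerate) {U W : Submodule F V}
    (hU : IsTotSing Q U) (hW : IsTotSing Q W) {m : ℕ} (hUm : finrank F ↥U = m)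
    (hWm : finrank F ↥W = m) (hV : finrank F V = 2 * m) (hne : finrank F ↥(U ⊓ W) < m) :
    ∃ v, Q v ≠ 0 ∧ finrank F ↥(U ⊓ W.map (qRefl Q v)) = finrank F ↥(U ⊓ W) + 1 := by
  -- a vector of `U` outside `W`
  obtain ⟨u, hu, huW⟩ : ∃ u ∈ U, u ∉ W := by
    by_contra hcon
    push Not at hcon
    have hle : U ≤ W := hcon
    have : U ⊓ W = U := inf_eq_left.2 hle
    rw [this, hUm] at hne
    exact lt_irrefl _ hne
  have hWperp := hW.orthogonal_eq Q hQ hWm hV
  obtain ⟨w, hw, hwu⟩ : ∃ w ∈ W, polar ⇑Q w u ≠ 0 := by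
    by_contra hcon
    push Not at hcon
    apply huW
    rw [← hWperp, LinearMap.BilinForm.mem_orthogonal_iff]
    intro n hn
    exact hcon n hn
  have hQv : Q (u + w) = polar ⇑Q u w := by
    rw [QuadraticMap.map_add ⇑Q, hU u hu, hW w hw, zero_add, zero_add]
  have hv : Q (u + w) ≠ 0 := by
    rw [hQv, polar_comm]
    exact hwu
  refine ⟨u + w, hv, ?_⟩
  have hpw : QuadraticMap.polarBilin Q (u + w) w = Q (u + w) := by
    rw [QuadraticMap.polarBilin_apply_apply, polar_add_left, hW.polar_eq_zero hw hw, add_zero, hQv]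
  have hr : qRefl Q (u + w) w = -u := by
    rw [qRefl_apply, hpw, inv_mul_cancel₀ hv, one_smul]
    abel
  have hu' : u ∈ U ⊓ W.map (qRefl Q (u + w)) := by
    refine ⟨hu, ?_⟩
    have : -u ∈ W.map (qRefl Q (u + w)) := ⟨w, hw, hr⟩
    simpa using Submodule.neg_mem _ this
  have hφ : polar ⇑Q (u + w) u ≠ 0 := by
    rw [polar_add_left, hU.polar_eq_zero hu hu, zero_add]
    exact hwu
  have h1 := finrank_inf_map_qRefl_add_one Q hU (hW.map_qRefl (u + w) hv) (u + w) hv ⟨u, hu', hφ⟩
  rw [map_qRefl_map_qRefl Q W _ hv] at h1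
  exact h1.symm

/-- **Transitivity with length**: a product of exactly `m - dim (U ∩ W)` reflections maps `W` to `U`. -/
theorem exists_list_qRefl_map_eq [FiniteDimensional F V]
    (hQ : (QuadraticMap.polarBilin Q).Nondegenerate) {U : Submodule F V}
    (hU : IsTotSing Q U) {m : ℕ} (hUm : finrank F ↥U = m) (hV : finrank F V = 2 * m) :
    ∀ (d : ℕ) (W : Submodule F V), IsTotSing Q W → finrank F ↥W = m →
      m - finrank F ↥(U ⊓ W) = d →
      ∃ vs : List V, (∀ v ∈ vs, Q v ≠ 0) ∧ vs.length = d ∧
        W.map (vs.map (qRefl Q)).prod = U := by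
  intro d
  induction d with
  | zero =>
    intro W hW hWm hd
    refine ⟨[], by simp, rfl, ?_⟩
    have h1 : finrank F ↥(U ⊓ W) ≤ m := by
      rw [← hUm]; exact Submodule.finrank_mono inf_le_left
    have h2 : finrank F ↥(U ⊓ W) = m := by omega
    have h3 : U ⊓ W = U := Submodule.eq_of_le_of_finrank_eq inf_le_left (by rw [h2, hUm])
    have h4 : U ⊓ W = W := Submodule.eq_of_le_of_finrank_eq inf_le_right (by rw [h2, hWm])
    rw [List.map_nil, List.prod_nil]
    show W.map LinearMap.id = U
    rw [Submodule.map_id, ← h4, h3]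
  | succ d ih =>
    intro W hW hWm hd
    have hne : finrank F ↥(U ⊓ W) < m := by omega
    obtain ⟨v, hv, hstep⟩ := exists_qRefl_finrank_inf_succ Q hQ hU hW hUm hWm hV hne
    obtain ⟨vs, hvs, hlen, hmap⟩ := ih (W.map (qRefl Q v)) (hW.map_qRefl v hv)
      (by rw [finrank_map_qRefl Q W v hv, hWm]) (by omega)
    refine ⟨vs ++ [v], ?_, ?_, ?_⟩
    · intro x hx
      rw [List.mem_append, List.mem_singleton] at hx
      rcases hx with hx | rfl
      · exact hvs x hx
      · exact hv
    · rw [List.length_append, hlen, List.length_singleton]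
    · rw [List.map_append, List.prod_append, List.map_singleton, List.prod_singleton]
      have : W.map ((vs.map (qRefl Q)).prod * qRefl Q v)
          = (W.map (qRefl Q v)).map (vs.map (qRefl Q)).prod := by
        rw [← Submodule.map_comp]
        rfl
      rw [this, hmap]

/-- a rotation in a hyperbolic plane that stabilises `W`, as a product of two reflections of
norms `1` and `c` -/
theorem exists_pair_qRefl_stabilizing [FiniteDimensional F V]
    (hQ : (QuadraticMap.polarBilin Q).Nondegenerate) {W : Submodule F V} (hW : IsTotSing Q W)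
    (hW0 : W ≠ ⊥) (c : F) (hc : c ≠ 0) :
    ∃ x y : V, Q x = 1 ∧ Q y = c ∧ W.map (qRefl Q x * qRefl Q y) = W := by
  obtain ⟨e, heW, he0⟩ := Submodule.exists_mem_ne_zero_of_ne_bot hW0
  have heQ : Q e = 0 := hW e heW
  -- hyperbolic partner
  obtain ⟨f, hf, hef⟩ : ∃ f : V, Q f = 0 ∧ polar ⇑Q e f = 1 := by
    obtain ⟨z, hz⟩ : ∃ z, polar ⇑Q e z ≠ 0 := by
      by_contra h
      push Not at h
      exact he0 (hQ.1 e h)
    obtain ⟨z1, h1⟩ : ∃ z1, polar ⇑Q e z1 = 1 :=
      ⟨(polar ⇑Q e z)⁻¹ • z, by rw [polar_smul_right, smul_eq_mul, inv_mul_cancel₀ hz]⟩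
    refine ⟨z1 - Q z1 • e, ?_, ?_⟩
    · have h2 : Q (z1 - Q z1 • e) = Q z1 + Q (-(Q z1 • e)) + polar ⇑Q z1 (-(Q z1 • e)) := by
        rw [sub_eq_add_neg, QuadraticMap.map_add ⇑Q]
      rw [h2, QuadraticMap.map_neg, QuadraticMap.map_smul, heQ, polar_neg_right, polar_smul_right,
        polar_comm, h1]
      simp
    · rw [polar_sub_right, polar_smul_right, h1, polar_self, heQ]
      simp
  have hfe : polar ⇑Q f e = 1 := by rw [polar_comm]; exact hef
  have hee : polar ⇑Q e e = 0 := by rw [polar_self, heQ]; simp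
  have hff : polar ⇑Q f f = 0 := by rw [polar_self, hf]; simp
  have hx : Q (e + f) = 1 := by
    rw [QuadraticMap.map_add ⇑Q, heQ, hf, hef]; ring
  have hy : Q (e + c • f) = c := by
    rw [QuadraticMap.map_add ⇑Q, QuadraticMap.map_smul, heQ, hf, polar_smul_right, hef]
    simp
  have hx0 : Q (e + f) ≠ 0 := by rw [hx]; exact one_ne_zero
  have hy0 : Q (e + c • f) ≠ 0 := by rw [hy]; exact hc
  refine ⟨e + f, e + c • f, hx, hy, ?_⟩
  -- images
  have h1 : qRefl Q (e + c • f) e = -(c • f) := by
    have hp : QuadraticMap.polarBilin Q (e + c • f) e = c := by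
      rw [QuadraticMap.polarBilin_apply_apply, polar_add_left, polar_smul_left, hee, hfe]
      simp
    rw [qRefl_apply, hp, hy, inv_mul_cancel₀ hc, one_smul]
    abel
  have h2 : qRefl Q (e + f) f = -e := by
    have hp : QuadraticMap.polarBilin Q (e + f) f = 1 := by
      rw [QuadraticMap.polarBilin_apply_apply, polar_add_left, hff, hef, add_zero]
    rw [qRefl_apply, hp, hx, inv_one, one_mul, one_smul]
    abel
  have hre : (qRefl Q (e + f) * qRefl Q (e + c • f)) e = c • e := by
    rw [Module.End.mul_apply, h1, map_neg, map_smul, h2, smul_neg, neg_neg]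
  have hfix : ∀ w₀ ∈ W, polar ⇑Q f w₀ = 0 →
      (qRefl Q (e + f) * qRefl Q (e + c • f)) w₀ = w₀ := by
    intro w₀ hw₀ hfw
    have hew : polar ⇑Q e w₀ = 0 := hW.polar_eq_zero heW hw₀
    have h3 : qRefl Q (e + c • f) w₀ = w₀ := by
      apply qRefl_of_ortho
      rw [QuadraticMap.polarBilin_apply_apply, polar_add_left, polar_smul_left, hew, hfw]
      simp
    have h4 : qRefl Q (e + f) w₀ = w₀ := by
      apply qRefl_of_ortho
      rw [QuadraticMap.polarBilin_apply_apply, polar_add_left, hew, hfw, add_zero]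
    rw [Module.End.mul_apply, h3, h4]
  have hle : W.map (qRefl Q (e + f) * qRefl Q (e + c • f)) ≤ W := by
    rintro _ ⟨w, hw, rfl⟩
    set t : F := polar ⇑Q f w with ht
    have hw₀ : w - t • e ∈ W := W.sub_mem hw (W.smul_mem t heW)
    have hfw₀ : polar ⇑Q f (w - t • e) = 0 := by
      rw [polar_sub_right, polar_smul_right, hfe, smul_eq_mul, mul_one, ← ht, sub_self]
    have hdecomp : w = t • e + (w - t • e) := by abel
    rw [hdecomp, map_add, map_smul, hre, hfix _ hw₀ hfw₀]
    exact W.add_mem (W.smul_mem t (W.smul_mem c heW)) hw₀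
  have hinj : Function.Injective (qRefl Q (e + f) * qRefl Q (e + c • f)) := by
    show Function.Injective ((qRefl Q (e + f)).comp (qRefl Q (e + c • f)))
    rw [LinearMap.coe_comp]
    exact (qRefl_injective Q _ hx0).comp (qRefl_injective Q _ hy0)
  apply Submodule.eq_of_le_of_finrank_eq hle
  exact (Submodule.equivMapOfInjective _ hinj W).finrank_eq.symm

end Cfsg.Agent.Helper44
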