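import Mathlib
import Cfsg.Agent.Helper45.Dihedral

/-!
# Recognising the dihedral group of order eight
-/

set_option autoImplicit false

namespace Cfsg.Agent.Helper44

theorem nonempty_mulEquiv_dihedral_four {K : Type*} [Group K] (hK : Nat.card K = 8)
    (x d y : K) (γ : K →* ℤˣ × ℤˣ) (hx2 : x * x = 1) (hy1 : y ≠ 1) (hy2 : y * y = 1)
    (hd : d * d = 1 ∨ d * d = y) (hconj : d * x * d⁻¹ = x * y) (hxy : x * y * x⁻¹ = y)
    (hγx : γ x = (1, -1)) (hγd : (γ d).1 = -1) (hγy : γ y = 1) :
    Nonempty (K ≃* DihedralGroup 4) := by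
  have hxinv : x⁻¹ = x := inv_eq_of_mul_eq_one_right hx2
  -- the element of order four
  obtain ⟨a, ha2, hrel, hγa⟩ : ∃ a : K, a * a = y ∧ x * a * x⁻¹ = a⁻¹ ∧ (γ a).1 = -1 := by
    rcases hd with hd | hd
    · refine ⟨d * x, ?_, ?_, ?_⟩
      · have h1 : d * x * (d * x) = (d * x * d⁻¹) * (d * d) * x := by group
        rw [h1, hconj, hd, mul_one]
        have h2 : x * y * x = x * y * x⁻¹ := by rw [hxinv]
        rw [h2, hxy]
      · have hdinv : d⁻¹ = d := inv_eq_of_mul_eq_one_right hd
        rw [mul_inv_rev, hxinv, hdinv]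
        have h1 : x * (d * x) * x = x * d * (x * x) := by group
        rw [h1, hx2, mul_one]
      · rw [map_mul, Prod.fst_mul, hγd, hγx]
        rfl
    · refine ⟨d, hd, ?_, hγd⟩
      rw [← mul_eq_one_iff_eq_inv, hxinv]
      have h1 : x * d * x * d = x * (d * x * d⁻¹) * (d * d) := by group
      rw [h1, hconj, hd]
      have h2 : x * (x * y) * y = (x * x) * (y * y) := by group
      rw [h2, hx2, hy2, mul_one]
  have ha4 : a ^ 2 ^ (1 + 1) = 1 := by
    show a ^ 4 = 1
    have : a ^ 4 = (a * a) * (a * a) := by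
      simp only [pow_succ, pow_zero, one_mul, mul_assoc]
    rw [this, ha2, hy2]
  have ha2' : ¬ a ^ 2 ^ 1 = 1 := by
    rw [pow_one, pow_two, ha2]
    exact hy1
  have hord : orderOf a = 4 := orderOf_eq_prime_pow ha2' ha4
  have hxa : x ∉ Subgroup.zpowers a := by
    intro hmem
    obtain ⟨k, hk⟩ := Subgroup.mem_zpowers_iff.1 hmem
    rcases Int.even_or_odd' k with ⟨j, rfl | rfl⟩
    · have h1 : a ^ (2 * j) = y ^ j := by
        rw [zpow_mul, zpow_two, ha2]
      rw [h1] at hk
      have h2 := congrArg γ hk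
      rw [map_zpow, hγy, one_zpow, hγx] at h2
      exact absurd (congrArg Prod.snd h2) (by decide)
    · have h1 : a ^ (2 * j + 1) = y ^ j * a := by
        rw [zpow_add, zpow_one, zpow_mul, zpow_two, ha2]
      rw [h1] at hk
      have h2 := congrArg γ hk
      rw [map_mul, map_zpow, hγy, one_zpow, one_mul, hγx] at h2
      have h3 := congrArg Prod.fst h2
      rw [hγa] at h3
      exact absurd h3 (by decide)
  have hidx : (Subgroup.zpowers a).index = 2 := by
    have h1 := Subgroup.index_mul_card (Subgroup.zpowers a)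
    rw [Nat.card_zpowers, hord, hK] at h1
    omega
  apply Helper45.nonempty_mulEquiv_dihedral 4 a x hord hx2 hrel hxa
  intro g
  by_cases hg : g ∈ Subgroup.zpowers a
  · exact Or.inl hg
  · right
    rw [Subgroup.mul_mem_iff_of_index_two hidx]
    exact ⟨fun h => absurd h hxa, fun h => absurd h hg⟩

end Cfsg.Agent.Helper44
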