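import Mathlib
import Cfsg.Prelude.Def_ClassicalGeometry
import Cfsg.Agent.Helper44.CartanDieudonne

/-!
# `O / Ω` is a four-group in odd characteristic (dimension at least two)
-/

set_option autoImplicit false

namespace Cfsg.Agent.Helper44

open Matrix Polynomial

variable {F : Type*} [Field F] {ι : Type} [Fintype ι] [DecidableEq ι]
variable (Q : QuadraticForm F (ι → F))

theorem ringChar_ne_two_of_two_ne_zero (h2 : (2 : F) ≠ 0) : ringChar F ≠ 2 := by
  intro h
  haveI : CharP F 2 := by rw [← h]; exact ringChar.charP F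
  exact h2 (CharTwo.two_eq_zero)

/-- a nondegenerate form in dimension at least two over a finite field of odd order is universal -/
theorem exists_Q_eq [Fintype F] (h2 : (2 : F) ≠ 0)
    (hQ : (QuadraticMap.polarBilin Q).Nondegenerate) (hn : 2 ≤ Module.finrank F (ι → F)) (c : F) :
    ∃ u : ι → F, Q u = c := by
  obtain ⟨v, hv, hv0⟩ := exists_orthogonal_basis_nonsingular Q h2 hQ
  set i0 : Fin (Module.finrank F (ι → F)) := ⟨0, by omega⟩
  set i1 : Fin (Module.finrank F (ι → F)) := ⟨1, by omega⟩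
  have h01 : i0 ≠ i1 := by
    intro h
    have := congrArg Fin.val h
    simp [i0, i1] at this
  have hcard : Fintype.card F % 2 = 1 :=
    FiniteField.odd_card_of_char_ne_two (ringChar_ne_two_of_two_ne_zero h2)
  have hf : degree (C (Q (v i0)) * X ^ 2 - C c : F[X]) = 2 := by
    rw [degree_sub_C, degree_C_mul_X_pow 2 (hv0 i0)]
    · rfl
    · rw [degree_C_mul_X_pow 2 (hv0 i0)]
      norm_num
  have hg : degree (C (Q (v i1)) * X ^ 2 : F[X]) = 2 := by
    rw [degree_C_mul_X_pow 2 (hv0 i1)]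
    rfl
  obtain ⟨x, y, hxy⟩ := FiniteField.exists_root_sum_quadratic hf hg hcard
  simp only [eval_sub, eval_mul, eval_C, eval_pow, eval_X] at hxy
  refine ⟨x • v i0 + y • v i1, ?_⟩
  rw [QuadraticMap.map_add ⇑Q, QuadraticMap.map_smul, QuadraticMap.map_smul,
    QuadraticMap.polar_smul_left, QuadraticMap.polar_smul_right, hv i0 i1 h01]
  simp only [smul_eq_mul, mul_zero, add_zero]
  linear_combination hxy

section Finite

variable [Finite F]

/-- the character `g ↦ (-1)^(number of reflections)` built from two sign characters -/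
noncomputable def parityChar (c : F) : Cfsg.isometryGroup F ⇑Q →* ℤˣ :=
  signChar ⇑Q 1 * signChar ⇑Q c

theorem parityChar_reflT (h2 : (2 : F) ≠ 0) {c : F} (hc : ¬ IsSquare c) (u : ι → F)
    (hu : Q u ≠ 0) : parityChar Q c (reflT Q u) = -1 := by
  have hc0 : c ≠ 0 := by
    rintro rfl
    exact hc ⟨0, by simp⟩
  obtain ⟨hr1, hr2⟩ := signChar_reflT Q h2 hc u hu
  rw [parityChar, MonoidHom.mul_apply]
  by_cases hsq : IsSquare (Q u)
  · rw [hr1 hsq, reflT_of_ne Q u hu,
      signChar_refl_of_isSquare Q h2 one_ne_zero u hu (by rw [one_mul]; exact hsq)]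
    rfl
  · rw [hr2 hsq, reflT_of_ne Q u hu,
      signChar_refl_of_not_isSquare Q h2 one_ne_zero u hu (by rw [one_mul]; exact hsq)]
    rfl

theorem parityChar_prod_reflT (h2 : (2 : F) ≠ 0) {c : F} (hc : ¬ IsSquare c)
    (vs : List (ι → F)) (hvs : ∀ v ∈ vs, Q v ≠ 0) :
    parityChar Q c (vs.map (reflT Q)).prod = (-1) ^ vs.length := by
  induction vs with
  | nil => simp
  | cons v vs ih =>
    have hv : Q v ≠ 0 := hvs v List.mem_cons_self
    have hvs' : ∀ x ∈ vs, Q x ≠ 0 := fun x hx => hvs x (List.mem_cons_of_mem _ hx)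
    rw [List.map_cons, List.prod_cons, map_mul, ih hvs', parityChar_reflT Q h2 hc v hv,
      List.length_cons, pow_succ, mul_comm]

/-- the pair of characters detecting `Ω` -/
noncomputable def omegaChar (c : F) : Cfsg.isometryGroup F ⇑Q →* ℤˣ × ℤˣ :=
  (parityChar Q c).prod (signChar ⇑Q c)

theorem ker_omegaChar (h2 : (2 : F) ≠ 0) (hQ : (QuadraticMap.polarBilin Q).Nondegenerate)
    {c : F} (hc : ¬ IsSquare c) : (omegaChar Q c).ker = Cfsg.Omega F ⇑Q := by
  apply le_antisymm
  · intro g hg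
    rw [MonoidHom.mem_ker, omegaChar, MonoidHom.prod_apply, Prod.mk_eq_one] at hg
    obtain ⟨hg1, hg2⟩ := hg
    obtain ⟨vs, hvs, rfl⟩ := cartan_dieudonne Q h2 hQ g
    rw [parityChar_prod_reflT Q h2 hc vs hvs] at hg1
    apply prod_reflT_mem_Omega Q h2 vs hvs
    · by_contra hodd
      rw [Nat.not_even_iff_odd] at hodd
      rw [hodd.neg_one_pow] at hg1
      exact absurd hg1 (by decide)
    · by_contra hns
      have := (signChar_prod_reflT Q h2 hc vs hvs).2 hns
      rw [hg2] at this
      exact absurd this (by decide)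
  · intro g hg
    exact hom_eq_one_of_mem_Omega (omegaChar Q c) hg

end Finite

theorem omegaChar_surjective [Fintype F] (h2 : (2 : F) ≠ 0)
    (hQ : (QuadraticMap.polarBilin Q).Nondegenerate) (hn : 2 ≤ Module.finrank F (ι → F))
    {c : F} (hc : ¬ IsSquare c) : Function.Surjective (omegaChar Q c) := by
  have hc0 : c ≠ 0 := by
    rintro rfl
    exact hc ⟨0, by simp⟩
  obtain ⟨us, hus⟩ := exists_Q_eq Q h2 hQ hn 1
  obtain ⟨un, hun⟩ := exists_Q_eq Q h2 hQ hn c
  have hus0 : Q us ≠ 0 := by rw [hus]; exact one_ne_zero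
  have hun0 : Q un ≠ 0 := by rw [hun]; exact hc0
  have hs : omegaChar Q c (reflT Q us) = (-1, 1) := by
    rw [omegaChar, MonoidHom.prod_apply, parityChar_reflT Q h2 hc us hus0,
      (signChar_reflT Q h2 hc us hus0).1 (by rw [hus]; exact IsSquare.one)]
  have hn' : omegaChar Q c (reflT Q un) = (-1, -1) := by
    rw [omegaChar, MonoidHom.prod_apply, parityChar_reflT Q h2 hc un hun0,
      (signChar_reflT Q h2 hc un hun0).2 (by rw [hun]; exact hc)]
  intro ⟨a, b⟩
  rcases Int.units_eq_one_or a with rfl | rfl <;> rcases Int.units_eq_one_or b with rfl | rfl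
  · exact ⟨1, map_one _⟩
  · refine ⟨reflT Q us * reflT Q un, ?_⟩
    rw [map_mul, hs, hn']
    rfl
  · exact ⟨reflT Q us, hs⟩
  · exact ⟨reflT Q un, hn'⟩

/-- `|O : Ω| = 4` for a nondegenerate form of dimension at least two over a finite field of odd order. -/
theorem index_Omega_eq_four [Fintype F] (h2 : (2 : F) ≠ 0)
    (hQ : (QuadraticMap.polarBilin Q).Nondegenerate) (hn : 2 ≤ Module.finrank F (ι → F)) :
    (Cfsg.Omega F ⇑Q).index = 4 := by
  obtain ⟨c, hc⟩ := FiniteField.exists_nonsquare (ringChar_ne_two_of_two_ne_zero h2)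
  rw [← ker_omegaChar Q h2 hQ hc, Subgroup.index_ker,
    MonoidHom.range_eq_top.2 (omegaChar_surjective Q h2 hQ hn hc)]
  rw [Nat.card_congr (Subgroup.topEquiv (G := ℤˣ × ℤˣ)).toEquiv, Nat.card_prod]
  simp

end Cfsg.Agent.Helper44
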