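import Mathlib

/-!
# Quotients of images: a bookkeeping lemma

For `f : S →* A`, subgroups `R₁ ≤ R₂` of `S` and a surjective `ψ : R₂ →* C` whose kernel is
`R₁ · ker f ∩ R₂`, the image `f(R₂)` maps onto `C` with kernel `f(R₁)`.
-/

set_option autoImplicit false

namespace Cfsg.Agent.Helper44

theorem exists_hom_of_image {S A C : Type*} [Group S] [Group A] [Group C] (f : S →* A)
    (R₁ R₂ : Subgroup S) (hR : R₁ ≤ R₂) (ψ : ↥R₂ →* C) (hsurj : Function.Surjective ψ)
    (hker : ∀ g : ↥R₂, ψ g = 1 ↔ ∃ r ∈ R₁, ∃ k ∈ f.ker, (g : S) = r * k) :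
    ∃ φ : ↥(R₂.map f) →* C, Function.Surjective φ ∧
      φ.ker = (R₁.map f).subgroupOf (R₂.map f) := by
  classical
  have W : ∀ g g' : ↥R₂, f g = f g' → ψ g = ψ g' := by
    intro g g' h
    have h1 : ψ (g⁻¹ * g') = 1 := by
      rw [hker]
      refine ⟨1, one_mem _, (g⁻¹ * g' : ↥R₂), ?_, ?_⟩
      · rw [MonoidHom.mem_ker]
        show f ((g : S)⁻¹ * (g' : S)) = 1
        rw [map_mul, map_inv, h, inv_mul_cancel]
      · rw [one_mul]
    rw [map_mul, map_inv, inv_mul_eq_one] at h1
    exact h1
  let sec : ↥(R₂.map f) → ↥R₂ := fun β =>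
    ⟨Classical.choose β.2, (Classical.choose_spec β.2).1⟩
  have hsec : ∀ β : ↥(R₂.map f), f (sec β) = β := fun β => (Classical.choose_spec β.2).2
  let φ : ↥(R₂.map f) →* C :=
    { toFun := fun β => ψ (sec β)
      map_one' := by
        rw [← map_one ψ]
        apply W
        rw [hsec]
        simp
      map_mul' := fun a b => by
        rw [← map_mul ψ]
        apply W
        rw [hsec]
        show ((a * b : ↥(R₂.map f)) : A) = f ((sec a : S) * (sec b : S))
        rw [map_mul, hsec, hsec]
        rfl }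
  have hφ : ∀ g : ↥R₂, ∀ h : f g ∈ R₂.map f, φ ⟨f g, h⟩ = ψ g := by
    intro g h
    apply W
    rw [hsec]
  refine ⟨φ, ?_, ?_⟩
  · intro c
    obtain ⟨g, rfl⟩ := hsurj c
    exact ⟨⟨f g, Subgroup.mem_map_of_mem f g.2⟩, hφ g _⟩
  · ext β
    rw [MonoidHom.mem_ker, Subgroup.mem_subgroupOf]
    constructor
    · intro h
      obtain ⟨r, hr, k, hk, e⟩ := (hker (sec β)).1 h
      refine ⟨r, hr, ?_⟩
      rw [← hsec β, e, map_mul, MonoidHom.mem_ker.1 hk, mul_one]
    · rintro ⟨r, hr, e⟩
      have h1 : (β : A) = f ((⟨r, hR hr⟩ : ↥R₂) : S) := e.symm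
      have h2 : φ β = ψ ⟨r, hR hr⟩ := by
        apply W
        rw [hsec, h1]
      rw [h2, hker]
      exact ⟨r, hr, 1, one_mem _, by rw [mul_one]⟩

/-- a hom killing `ker f` descends to the range of `f` -/
theorem exists_hom_range {S A C : Type*} [Group S] [Group A] [Group C] (f : S →* A)
    (ψ : S →* C) (h : f.ker ≤ ψ.ker) :
    ∃ φ : ↥f.range →* C, ∀ g : S, φ (f.rangeRestrict g) = ψ g := by
  classical
  have W : ∀ g g' : S, f g = f g' → ψ g = ψ g' := by
    intro g g' hgg
    have h1 : g⁻¹ * g' ∈ f.ker := by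
      rw [MonoidHom.mem_ker, map_mul, map_inv, hgg, inv_mul_cancel]
    have h2 := MonoidHom.mem_ker.1 (h h1)
    rw [map_mul, map_inv, inv_mul_eq_one] at h2
    exact h2
  let sec : ↥f.range → S := fun β => Classical.choose β.2
  have hsec : ∀ β : ↥f.range, f (sec β) = β := fun β => Classical.choose_spec β.2
  refine ⟨{ toFun := fun β => ψ (sec β)
            map_one' := by
              rw [← map_one ψ]
              apply W
              rw [hsec]
              simp
            map_mul' := fun a b => by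
              rw [← map_mul ψ]
              apply W
              rw [hsec, map_mul, hsec, hsec]
              rfl }, fun g => ?_⟩
  show ψ (sec (f.rangeRestrict g)) = ψ g
  apply W
  rw [hsec]
  rfl

section quot

variable {S A : Type*} [Group S] [Group A] (f : S →* A) (I : Subgroup A) [I.Normal]

/-- `S → f(S) / (I ∩ f(S))` -/
noncomputable def piHom : S →* ↥f.range ⧸ I.subgroupOf f.range :=
  (QuotientGroup.mk' _).comp f.rangeRestrict

theorem piHom_eq_one_iff (g : S) : piHom f I g = 1 ↔ f g ∈ I := by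
  rw [piHom, MonoidHom.comp_apply, QuotientGroup.mk'_apply, QuotientGroup.eq_one_iff,
    Subgroup.mem_subgroupOf]
  rfl

theorem piHom_surjective : Function.Surjective (piHom f I) :=
  (QuotientGroup.mk'_surjective _).comp f.rangeRestrict_surjective

/-- an isomorphism of the quotient `f(S)/(I ∩ f(S))` with `D` gives the hom of the statements -/
theorem exists_hom_of_quot_equiv {D : Type*} [Group D]
    (e : (↥f.range ⧸ I.subgroupOf f.range) ≃* D) :
    ∃ φ : ↥f.range →* D, Function.Surjective φ ∧ φ.ker = I.subgroupOf f.range := by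
  refine ⟨e.toMonoidHom.comp (QuotientGroup.mk' _),
    e.surjective.comp (QuotientGroup.mk'_surjective _), ?_⟩
  ext x
  rw [MonoidHom.mem_ker, MonoidHom.comp_apply]
  show e (QuotientGroup.mk' _ x) = 1 ↔ _
  rw [MulEquiv.map_eq_one_iff, QuotientGroup.mk'_apply, QuotientGroup.eq_one_iff]

end quot

end Cfsg.Agent.Helper44
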