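import Mathlib
import Cfsg.Prelude.Def_LieTypeDatum
import Cfsg.Agent.Helper44.SimChar
import Cfsg.Agent.Helper44.QuotImage
import Cfsg.Agent.Helper44.OmegaIndex
import Cfsg.Agent.Helper45.OrthInvol
import Cfsg.Agent.Helper5.OmegaCard
import Cfsg.Agent.S2624

/-!
# `PGO / PSO ≅ C₂ × C₂` inside `Aut(PΩ(Q))`, `q` odd, even dimension `≥ 8`
-/

set_option autoImplicit false

namespace Cfsg.Agent.Helper44

open Matrix QuadraticMap Module

/-- `ℤˣ ≃* Multiplicative (ZMod 2)` -/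
noncomputable def unitsIntEquiv : ℤˣ ≃* Multiplicative (ZMod 2) where
  toFun u := if u = 1 then 1 else Multiplicative.ofAdd 1
  invFun z := if z = 1 then 1 else -1
  left_inv := by decide
  right_inv := by decide
  map_mul' := by decide

/-- `ℤˣ × ℤˣ ≃* Multiplicative (ZMod 2 × ZMod 2)` -/
noncomputable def unitsIntProdEquiv : ℤˣ × ℤˣ ≃* Multiplicative (ZMod 2 × ZMod 2) :=
  (MulEquiv.prodCongr unitsIntEquiv unitsIntEquiv).trans
    (MulEquiv.prodMultiplicative (ZMod 2) (ZMod 2)).symm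

theorem exists_hom_congr {P C C' : Type*} [Group P] [Group C] [Group C'] (e : C ≃* C')
    (K : Subgroup P) (h : ∃ φ : P →* C, Function.Surjective φ ∧ φ.ker = K) :
    ∃ φ : P →* C', Function.Surjective φ ∧ φ.ker = K := by
  obtain ⟨φ, h1, h2⟩ := h
  refine ⟨e.toMonoidHom.comp φ, e.surjective.comp h1, ?_⟩
  rw [← h2]
  ext x
  simp [MonoidHom.mem_ker]

variable {F : Type*} [Field F] {ι : Type} [Fintype ι] [DecidableEq ι]
variable (Q : QuadraticForm F (ι → F))

/-- every non-zero scalar is the multiplier of a similarity (even dimension, finite field) -/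
theorem exists_similarity_GL [Fintype F] (hQ : (QuadraticMap.polarBilin Q).Nondegenerate)
    (he : Even (Fintype.card ι)) (hn : 2 ≤ Fintype.card ι) (c : F) (hc : c ≠ 0) :
    ∃ g : GL ι F, ∀ v, Q ((g : Matrix ι ι F) *ᵥ v) = c * Q v := by
  set L : (Fin (Fintype.card ι) → F) ≃ₗ[F] (ι → F) :=
    LinearEquiv.funCongrLeft F F (Fintype.equivFin ι) with hL
  have hQ' := Helper5.nondegenerate_comp Q L hQ
  obtain ⟨g', hg'⟩ := Cfsg.Agent.S2624.result hn he (Q.comp (L : _ →ₗ[F] _)) hQ' c hc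
  refine ⟨Helper45.WittQuad.glOfLin ((L.symm.trans g').trans L), fun v => ?_⟩
  rw [Helper45.WittQuad.glOfLin_mulVec]
  have h1 := hg' (L.symm v)
  simp only [QuadraticMap.comp_apply, LinearEquiv.coe_coe, LinearEquiv.apply_symm_apply] at h1
  exact h1

/-- scalar matrices as similarities -/
noncomputable def scalarGO (c : Fˣ) : ↥(Cfsg.Geo.quadSimilarityGroup (F := F) ⇑Q) :=
  ⟨Matrix.GeneralLinearGroup.scalar ι c, ⟨c * c, fun v => by
    have h1 : ((Matrix.GeneralLinearGroup.scalar ι c : GL ι F) : Matrix ι ι F) *ᵥ v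
        = (c : F) • v := by
      rw [Matrix.GeneralLinearGroup.coe_scalar]
      ext i
      simp [Matrix.mulVec_diagonal]
    rw [h1, QuadraticMap.map_smul, Units.val_mul, smul_eq_mul]⟩⟩

theorem scalarGO_mem_scalars (c : Fˣ) : ((scalarGO Q c : ↥(Cfsg.Geo.quadSimilarityGroup (F := F) ⇑Q)) : GL ι F)
    ∈ Cfsg.Geo.scalars ι F := ⟨c, rfl⟩

theorem scalarGO_mulVec (c : Fˣ) (v : ι → F) :
    (((scalarGO Q c : ↥(Cfsg.Geo.quadSimilarityGroup (F := F) ⇑Q)) : GL ι F) : Matrix ι ι F) *ᵥ v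
      = (c : F) • v := by
  show ((Matrix.GeneralLinearGroup.scalar ι c : GL ι F) : Matrix ι ι F) *ᵥ v = _
  rw [Matrix.GeneralLinearGroup.coe_scalar]
  ext i
  simp [Matrix.mulVec_diagonal]

theorem mem_scalars_iff_eq_scalarGO (g : ↥(Cfsg.Geo.quadSimilarityGroup (F := F) ⇑Q)) :
    (g : GL ι F) ∈ Cfsg.Geo.scalars ι F ↔ ∃ c : Fˣ, g = scalarGO Q c := by
  constructor
  · rintro ⟨c, hc⟩
    exact ⟨c, Subtype.ext hc.symm⟩
  · rintro ⟨c, rfl⟩
    exact scalarGO_mem_scalars Q c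

section chars

variable [Fintype F] (h2 : (2 : F) ≠ 0) (hQ : (QuadraticMap.polarBilin Q).Nondegenerate)
  {t : ι → F} (ht : Q t ≠ 0) (m : ℕ) (hm : Fintype.card ι = 2 * m)

open Classical in
/-- the quadratic character on units -/
noncomputable def sqChar (F : Type*) [Field F] [Fintype F] : Fˣ →* ℤˣ :=
  (quadraticChar F).toUnitHom

theorem sqChar_eq_one_iff (x : Fˣ) : sqChar F x = 1 ↔ IsSquare (x : F) := by
  classical
  rw [← quadraticChar_one_iff_isSquare x.ne_zero, ← Units.val_inj]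
  rfl

/-- the pair of characters of the similarity group detecting `SO · F^×` -/
noncomputable def goChar : ↥(Cfsg.Geo.quadSimilarityGroup (F := F) ⇑Q) →* ℤˣ × ℤˣ :=
  ((sqChar F).comp (multHom ⇑Q ht)).prod
    (pmChar (dHom Q ht m) (dHom_eq_one_or Q ht m hm hQ) h2)

theorem goChar_eq_one_iff (g : ↥(Cfsg.Geo.quadSimilarityGroup (F := F) ⇑Q)) :
    goChar Q h2 hQ ht m hm g = 1
      ↔ IsSquare ((multHom ⇑Q ht g : Fˣ) : F) ∧ dHom Q ht m g = 1 := by
  rw [goChar, MonoidHom.prod_apply, Prod.mk_eq_one, MonoidHom.comp_apply, sqChar_eq_one_iff,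
    pmChar_eq_one_iff]

theorem multHom_scalarGO (c : Fˣ) : multHom ⇑Q ht (scalarGO Q c) = c * c :=
  multHom_eq ⇑Q ht _ (c * c) (fun v => by
    rw [scalarGO_mulVec, QuadraticMap.map_smul, Units.val_mul, smul_eq_mul])

include hm in
theorem dHom_scalarGO (c : Fˣ) : dHom Q ht m (scalarGO Q c) = 1 := by
  rw [dHom_apply, multHom_scalarGO]
  show Matrix.GeneralLinearGroup.det (Matrix.GeneralLinearGroup.scalar ι c) * _ = 1
  rw [Matrix.GeneralLinearGroup.det_scalar, hm, inv_pow, ← pow_two, ← pow_mul]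
  exact mul_inv_cancel _

include hm in
theorem goChar_scalarGO (c : Fˣ) : goChar Q h2 hQ ht m hm (scalarGO Q c) = 1 := by
  rw [goChar_eq_one_iff]
  refine ⟨?_, dHom_scalarGO Q ht m hm c⟩
  rw [multHom_scalarGO, Units.val_mul]
  exact ⟨_, rfl⟩

theorem goChar_of_mem_SO (g : ↥(Cfsg.Geo.quadSimilarityGroup (F := F) ⇑Q))
    (hg : g.1 ∈ Cfsg.specialIsometryGL F ⇑Q) : goChar Q h2 hQ ht m hm g = 1 := by
  rw [goChar_eq_one_iff]
  have h1 : multHom ⇑Q ht g = 1 := multHom_of_isometry ⇑Q ht g hg.1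
  refine ⟨?_, ?_⟩
  · rw [h1, Units.val_one]
    exact IsSquare.one
  · rw [dHom_apply, h1, inv_one, one_pow, mul_one]
    exact hg.2

/-- the kernel of `goChar` is `SO · F^×` -/
theorem goChar_eq_one_iff_exists (g : ↥(Cfsg.Geo.quadSimilarityGroup (F := F) ⇑Q)) :
    goChar Q h2 hQ ht m hm g = 1 ↔
      ∃ r ∈ (Cfsg.specialIsometryGL F ⇑Q).subgroupOf (Cfsg.Geo.quadSimilarityGroup (F := F) ⇑Q),
        ∃ c : Fˣ, g = r * scalarGO Q c := by
  constructor
  · intro h
    rw [goChar_eq_one_iff] at h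
    obtain ⟨⟨l, hl⟩, hd⟩ := h
    have hl0 : l ≠ 0 := by
      rintro rfl
      rw [mul_zero] at hl
      exact (multHom ⇑Q ht g).ne_zero hl
    set c : Fˣ := Units.mk0 l hl0 with hc
    have hcc : multHom ⇑Q ht g = c * c := by
      apply Units.ext
      rw [hl, Units.val_mul, hc, Units.val_mk0]
    refine ⟨g * (scalarGO Q c)⁻¹, ?_, c, by group⟩
    rw [Subgroup.mem_subgroupOf]
    have hmu : multHom ⇑Q ht (g * (scalarGO Q c)⁻¹) = 1 := by
      rw [map_mul, map_inv, multHom_scalarGO, hcc, mul_inv_cancel]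
    refine ⟨mem_isometryGroup_of_multHom ⇑Q ht _ hmu, ?_⟩
    have hd2 : dHom Q ht m (g * (scalarGO Q c)⁻¹) = 1 := by
      rw [map_mul, map_inv, dHom_scalarGO Q ht m hm, hd, inv_one, mul_one]
    rw [dHom_apply, hmu, inv_one, one_pow, mul_one] at hd2
    exact hd2
  · rintro ⟨r, hr, c, rfl⟩
    rw [map_mul, goChar_scalarGO, mul_one]
    exact goChar_of_mem_SO Q h2 hQ ht m hm r hr

/-- a reflection as a similarity -/
noncomputable def reflGO : ↥(Cfsg.Geo.quadSimilarityGroup (F := F) ⇑Q) :=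
  ⟨(refl Q t ht).1, isometryGroup_le_quadSimilarityGroup ⇑Q (refl Q t ht).2⟩

theorem goChar_reflGO : goChar Q h2 hQ ht m hm (reflGO Q ht) = (1, -1) := by
  have h1 : multHom ⇑Q ht (reflGO Q ht) = 1 :=
    multHom_of_isometry ⇑Q ht _ (refl Q t ht).2
  have h3 : dHom Q ht m (reflGO Q ht) = -1 := by
    rw [dHom_apply, h1, inv_one, one_pow, mul_one]
    have := detHom_reflT Q t ht
    rw [reflT_of_ne Q t ht] at this
    exact this
  rw [goChar, MonoidHom.prod_apply, MonoidHom.comp_apply, h1, map_one]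
  congr 1
  have h4 : pmChar (dHom Q ht m) (dHom_eq_one_or Q ht m hm hQ) h2 (reflGO Q ht) ≠ 1 := by
    rw [Ne, pmChar_eq_one_iff, h3]
    intro h
    have h5 : ((-1 : Fˣ) : F) = ((1 : Fˣ) : F) := by rw [h]
    rw [Units.val_neg, Units.val_one] at h5
    apply h2
    have : (2 : F) = 1 - (-1) := by ring
    rw [this, h5, sub_self]
  rcases Int.units_eq_one_or (pmChar (dHom Q ht m) (dHom_eq_one_or Q ht m hm hQ) h2 (reflGO Q ht))
    with h | h
  · exact absurd h h4
  · exact h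

include hm in
theorem goChar_surjective : Function.Surjective (goChar Q h2 hQ ht m hm) := by
  obtain ⟨c, hc⟩ := FiniteField.exists_nonsquare (ringChar_ne_two_of_two_ne_zero h2)
  have hc0 : c ≠ 0 := by
    rintro rfl
    exact hc ⟨0, by simp⟩
  obtain ⟨g₁, hg₁⟩ := exists_similarity_GL Q hQ ⟨m, by rw [hm, two_mul]⟩
    (by
      have : 0 < Fintype.card ι := Fintype.card_pos_iff.2 ⟨Classical.choice (by
        by_contra hemp
        rw [not_nonempty_iff] at hemp
        have : t = 0 := Subsingleton.elim _ _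
        rw [this, map_zero] at ht
        exact ht rfl)⟩
      omega) c hc0
  set G₁ : ↥(Cfsg.Geo.quadSimilarityGroup (F := F) ⇑Q) := ⟨g₁, ⟨Units.mk0 c hc0, hg₁⟩⟩ with hG₁
  have hm1 : multHom ⇑Q ht G₁ = Units.mk0 c hc0 := multHom_eq ⇑Q ht G₁ _ hg₁
  have h1 : (goChar Q h2 hQ ht m hm G₁).1 = -1 := by
    rw [goChar, MonoidHom.prod_apply, MonoidHom.comp_apply, hm1]
    rcases Int.units_eq_one_or (sqChar F (Units.mk0 c hc0)) with h | h
    · rw [sqChar_eq_one_iff, Units.val_mk0] at h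
      exact absurd h hc
    · exact h
  have h2' := goChar_reflGO Q h2 hQ ht m hm
  rintro ⟨a, b⟩
  rcases Int.units_eq_one_or a with rfl | rfl
  · rcases Int.units_eq_one_or b with rfl | rfl
    · exact ⟨1, map_one _⟩
    · exact ⟨reflGO Q ht, h2'⟩
  · by_cases hb : (goChar Q h2 hQ ht m hm G₁).2 = b
    · exact ⟨G₁, Prod.ext h1 hb⟩
    · refine ⟨G₁ * reflGO Q ht, ?_⟩
      rw [map_mul, h2']
      apply Prod.ext
      · rw [Prod.fst_mul, h1, mul_one]
      · rw [Prod.snd_mul]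
        rcases Int.units_eq_one_or (goChar Q h2 hQ ht m hm G₁).2 with h | h <;>
          rcases Int.units_eq_one_or b with rfl | rfl <;> simp_all

end chars

/-- **`PGO / PSO ≅ C₂ × C₂`** inside `Aut(PΩ(Q))`: `q` odd, dimension `2m ≥ 8`. -/
theorem pgoAut_mod_psoAut [Fintype F] (h2 : (2 : F) ≠ 0)
    (hQ : (QuadraticMap.polarBilin Q).Nondegenerate) (m : ℕ) (hm : Fintype.card ι = 2 * m)
    (hn : 7 ≤ Fintype.card ι) :
    ∃ φ : ↥(Cfsg.pgoAut F ⇑Q) →* Multiplicative (ZMod 2 × ZMod 2), Function.Surjective φ ∧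
      φ.ker = (Cfsg.psoAut F ⇑Q).subgroupOf (Cfsg.pgoAut F ⇑Q) := by
  obtain ⟨t, _, _, ht⟩ := exists_nonsingular_perp_pair Q hQ
    (by rw [Module.finrank_fintype_fun_eq_card]; omega) 0 0
  rw [pgoAut_eq_map, psoAut_eq_map, MonoidHom.range_eq_map]
  apply exists_hom_congr unitsIntProdEquiv
  apply exists_hom_of_image (conjAut ⇑Q) _ ⊤ le_top
    ((goChar Q h2 hQ ht m hm).comp (⊤ : Subgroup _).subtype)
  · intro c
    obtain ⟨g, hg⟩ := goChar_surjective Q h2 hQ ht m hm c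
    exact ⟨⟨g, Subgroup.mem_top g⟩, hg⟩
  · intro g
    rw [MonoidHom.comp_apply, goChar_eq_one_iff_exists]
    constructor
    · rintro ⟨r, hr, c, e⟩
      refine ⟨r, hr, scalarGO Q c, ?_, e⟩
      rw [ker_conjAut Q hQ hn, Subgroup.mem_subgroupOf]
      exact scalarGO_mem_scalars Q c
    · rintro ⟨r, hr, k, hk, e⟩
      rw [ker_conjAut Q hQ hn, Subgroup.mem_subgroupOf, mem_scalars_iff_eq_scalarGO] at hk
      obtain ⟨c, rfl⟩ := hk
      exact ⟨r, hr, c, e⟩

end Cfsg.Agent.Helper44
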