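import Mathlib
import Cfsg.Prelude.Def_LieTypeDatum
import Cfsg.Agent.Helper44.PgoPso

/-!
# The index of `Inn(PΩ)` in the image of `SO`, `q` odd, even dimension `≥ 8`

It is `2` if `-1 ∈ Ω` and `1` otherwise.
-/

set_option autoImplicit false

namespace Cfsg.Agent.Helper44

open Matrix QuadraticMap Module

variable {F : Type*} [Field F] {ι : Type} [Fintype ι] [DecidableEq ι]
variable (Q : QuadraticForm F (ι → F))

theorem neg_one_units_ne_one (h2 : (2 : F) ≠ 0) : (-1 : Fˣ) ≠ 1 := by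
  intro h
  have h3 : ((-1 : Fˣ) : F) = ((1 : Fˣ) : F) := by rw [h]
  rw [Units.val_neg, Units.val_one] at h3
  apply h2
  have : (2 : F) = 1 - (-1) := by ring
  rw [this, h3, sub_self]

section finite

variable [Fintype F] (h2 : (2 : F) ≠ 0) (hQ : (QuadraticMap.polarBilin Q).Nondegenerate)
  {c : F} (hc : ¬ IsSquare c)

include h2 hQ hc in
/-- the parity character is trivial exactly on the isometries of determinant one -/
theorem parityChar_eq_one_iff_det (x : Cfsg.isometryGroup F ⇑Q) :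
    parityChar Q c x = 1 ↔ detHom ⇑Q x = 1 := by
  obtain ⟨vs, hvs, rfl⟩ := cartan_dieudonne Q h2 hQ x
  rw [parityChar_prod_reflT Q h2 hc vs hvs, detHom_prod_reflT Q vs hvs,
    neg_one_pow_eq_one_iff_even (neg_one_units_ne_one h2),
    neg_one_pow_eq_one_iff_even (by decide : (-1 : ℤˣ) ≠ 1)]

include h2 hQ hc in
/-- an isometry of determinant one lies in `Ω` iff its spinor character is trivial -/
theorem mem_Omega_iff_signChar (x : Cfsg.isometryGroup F ⇑Q) (hx : detHom ⇑Q x = 1) :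
    x ∈ Cfsg.Omega F ⇑Q ↔ signChar ⇑Q c x = 1 := by
  rw [← ker_omegaChar Q h2 hQ hc, MonoidHom.mem_ker, omegaChar, MonoidHom.prod_apply,
    Prod.mk_eq_one, parityChar_eq_one_iff_det Q h2 hQ hc]
  exact ⟨fun h => h.2, fun h => ⟨hx, h⟩⟩

end finite

/-- the inclusion of (the copy inside the similarity group of) `SO` into `O` -/
noncomputable def soToO :
    ↥((Cfsg.specialIsometryGL F ⇑Q).subgroupOf (Cfsg.Geo.quadSimilarityGroup (F := F) ⇑Q))
      →* ↥(Cfsg.isometryGroup F ⇑Q) :=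
  MonoidHom.codRestrict ((Subgroup.subtype _).comp (Subgroup.subtype _)) (Cfsg.isometryGroup F ⇑Q)
    (fun g => (Subgroup.mem_subgroupOf.1 g.2).1)

theorem coe_soToO
    (g : ↥((Cfsg.specialIsometryGL F ⇑Q).subgroupOf (Cfsg.Geo.quadSimilarityGroup (F := F) ⇑Q))) :
    ((soToO Q g : ↥(Cfsg.isometryGroup F ⇑Q)) : GL ι F) = ((g : ↥(Cfsg.Geo.quadSimilarityGroup (F := F) ⇑Q)) : GL ι F) :=
  rfl

theorem detHom_soToO
    (g : ↥((Cfsg.specialIsometryGL F ⇑Q).subgroupOf (Cfsg.Geo.quadSimilarityGroup (F := F) ⇑Q))) :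
    detHom ⇑Q (soToO Q g) = 1 :=
  (Subgroup.mem_subgroupOf.1 g.2).2

theorem mem_OmegaGL_iff (x : Cfsg.isometryGroup F ⇑Q) :
    (x : GL ι F) ∈ OmegaGL ⇑Q ↔ x ∈ Cfsg.Omega F ⇑Q := by
  constructor
  · rintro ⟨y, hy, hyx⟩
    have : y = x := Subtype.ext hyx
    rwa [← this]
  · intro h
    exact ⟨x, h, rfl⟩

theorem OmegaGL_le_SO : OmegaGL ⇑Q ≤ Cfsg.specialIsometryGL F ⇑Q := by
  rintro _ ⟨s, hs, rfl⟩
  exact ⟨s.2, hom_eq_one_of_mem_Omega (detHom ⇑Q) hs⟩

theorem scalarGO_neg_one_coe :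
    ((scalarGO Q (-1) : ↥(Cfsg.Geo.quadSimilarityGroup (F := F) ⇑Q)) : GL ι F) = (negOne Q).1 := by
  apply Units.ext
  show ((Matrix.GeneralLinearGroup.scalar ι (-1 : Fˣ) : GL ι F) : Matrix ι ι F)
    = ((-1 : GL ι F) : Matrix ι ι F)
  rw [Matrix.GeneralLinearGroup.coe_scalar, Units.val_neg, Units.val_one, Units.val_neg,
    Units.val_one, map_neg, map_one]

/-- scalar isometries are `±1` -/
theorem eq_one_or_neg_one_of_scalarGO_isometry (c : Fˣ)
    (h : ((scalarGO Q c : ↥(Cfsg.Geo.quadSimilarityGroup (F := F) ⇑Q)) : GL ι F)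
      ∈ Cfsg.isometryGroup F ⇑Q) {t : ι → F} (ht : Q t ≠ 0) : c = 1 ∨ c = -1 := by
  have h1 := (Helper13.mem_isometryGroup_iff _ _).1 h t
  rw [scalarGO_mulVec, QuadraticMap.map_smul, smul_eq_mul] at h1
  have h3 : (c : F) * c = 1 := by
    apply mul_right_cancel₀ ht
    rw [h1, one_mul]
  rcases mul_self_eq_one_iff.1 h3 with h | h
  · left
    exact Units.ext h
  · right
    apply Units.ext
    rw [h, Units.val_neg, Units.val_one]

theorem detHom_negOne (he : Even (Fintype.card ι)) : detHom ⇑Q (negOne Q) = 1 := by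
  apply Units.ext
  show ((-1 : GL ι F) : Matrix ι ι F).det = 1
  rw [Units.val_neg, Units.val_one, Matrix.det_neg, Matrix.det_one, mul_one, he.neg_one_pow]

section main

variable [Fintype F] (h2 : (2 : F) ≠ 0) (hQ : (QuadraticMap.polarBilin Q).Nondegenerate)
  (hn : 7 ≤ Fintype.card ι) (he : Even (Fintype.card ι))

include h2 hQ in
theorem mem_Omsub_iff {c : F} (hc : ¬ IsSquare c)
    (g : ↥((Cfsg.specialIsometryGL F ⇑Q).subgroupOf (Cfsg.Geo.quadSimilarityGroup (F := F) ⇑Q))) :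
    (g : ↥(Cfsg.Geo.quadSimilarityGroup (F := F) ⇑Q))
        ∈ (OmegaGL ⇑Q).subgroupOf (Cfsg.Geo.quadSimilarityGroup (F := F) ⇑Q)
      ↔ signChar ⇑Q c (soToO Q g) = 1 := by
  rw [← mem_Omega_iff_signChar Q h2 hQ hc _ (detHom_soToO Q g), ← mem_OmegaGL_iff,
    Subgroup.mem_subgroupOf]
  rfl

include h2 hQ hn in
/-- if `-1 ∈ Ω` the image of `SO` in `Aut(PΩ)` contains `Inn(PΩ)` with index two -/
theorem relIndex_Inn_psoAut_of_mem (hneg : negOne Q ∈ Cfsg.Omega F ⇑Q) :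
    (Cfsg.Inn (Cfsg.POmega F ⇑Q)).relIndex (Cfsg.psoAut F ⇑Q) = 2 := by
  obtain ⟨c, hc⟩ := FiniteField.exists_nonsquare (ringChar_ne_two_of_two_ne_zero h2)
  have hc0 : c ≠ 0 := by
    rintro rfl
    exact hc ⟨0, by simp⟩
  have hfr : 2 ≤ Module.finrank F (ι → F) := by
    rw [Module.finrank_fintype_fun_eq_card]; omega
  obtain ⟨us, hus⟩ := exists_Q_eq Q h2 hQ hfr 1
  obtain ⟨un, hun⟩ := exists_Q_eq Q h2 hQ hfr c
  have hus0 : Q us ≠ 0 := by rw [hus]; exact one_ne_zero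
  have hun0 : Q un ≠ 0 := by rw [hun]; exact hc0
  rw [Inn_eq_map, psoAut_eq_map]
  obtain ⟨φ, hφs, hφk⟩ := exists_hom_of_image (conjAut ⇑Q)
    ((OmegaGL ⇑Q).subgroupOf (Cfsg.Geo.quadSimilarityGroup (F := F) ⇑Q))
    ((Cfsg.specialIsometryGL F ⇑Q).subgroupOf (Cfsg.Geo.quadSimilarityGroup (F := F) ⇑Q))
    (fun g hg => by
      rw [Subgroup.mem_subgroupOf] at hg ⊢
      exact OmegaGL_le_SO Q hg)
    ((signChar ⇑Q c).comp (soToO Q))
    (by
      intro z
      rcases Int.units_eq_one_or z with rfl | rfl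
      · exact ⟨1, map_one _⟩
      · have hdet : detHom ⇑Q (reflT Q us * reflT Q un) = 1 := by
          rw [map_mul, detHom_reflT Q us hus0, detHom_reflT Q un hun0]
          simp
        refine ⟨⟨⟨(reflT Q us * reflT Q un).1,
          isometryGroup_le_quadSimilarityGroup ⇑Q (reflT Q us * reflT Q un).2⟩, ?_⟩, ?_⟩
        · rw [Subgroup.mem_subgroupOf]
          exact ⟨(reflT Q us * reflT Q un).2, hdet⟩
        · have e : soToO Q ⟨⟨(reflT Q us * reflT Q un).1,
              isometryGroup_le_quadSimilarityGroup ⇑Q (reflT Q us * reflT Q un).2⟩,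
              by
                rw [Subgroup.mem_subgroupOf]
                exact ⟨(reflT Q us * reflT Q un).2, hdet⟩⟩ = reflT Q us * reflT Q un :=
            Subtype.ext rfl
          rw [MonoidHom.comp_apply, e, map_mul,
            (signChar_reflT Q h2 hc us hus0).1 (by rw [hus]; exact IsSquare.one),
            (signChar_reflT Q h2 hc un hun0).2 (by rw [hun]; exact hc), one_mul])
    (by
      intro g
      rw [MonoidHom.comp_apply, ← mem_Omsub_iff Q h2 hQ hc]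
      constructor
      · intro h
        exact ⟨g.1, h, 1, one_mem _, by rw [mul_one]⟩
      · rintro ⟨r, hr, k, hk, e⟩
        rw [ker_conjAut Q hQ hn, Subgroup.mem_subgroupOf, mem_scalars_iff_eq_scalarGO] at hk
        obtain ⟨c', rfl⟩ := hk
        have hkO : ((scalarGO Q c' : ↥(Cfsg.Geo.quadSimilarityGroup (F := F) ⇑Q)) : GL ι F)
            ∈ Cfsg.isometryGroup F ⇑Q := by
          have h1 : scalarGO Q c' = r⁻¹ * g.1 := by rw [e]; group
          rw [h1]
          show (r.1)⁻¹ * (g.1.1) ∈ Cfsg.isometryGroup F ⇑Q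
          exact mul_mem (inv_mem (OmegaGL_le_isometryGroup ⇑Q (Subgroup.mem_subgroupOf.1 hr)))
            (Subgroup.mem_subgroupOf.1 g.2).1
        rw [e]
        apply mul_mem hr
        rcases eq_one_or_neg_one_of_scalarGO_isometry Q c' hkO hus0 with rfl | rfl
        · have : scalarGO Q (1 : Fˣ) = 1 := by
            apply Subtype.ext
            show Matrix.GeneralLinearGroup.scalar ι (1 : Fˣ) = 1
            exact map_one _
          rw [this]
          exact one_mem _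
        · rw [Subgroup.mem_subgroupOf, scalarGO_neg_one_coe, mem_OmegaGL_iff]
          exact hneg)
  show ((Subgroup.map (conjAut ⇑Q) _).subgroupOf (Subgroup.map (conjAut ⇑Q) _)).index = 2
  rw [← hφk, Subgroup.index_ker, MonoidHom.range_eq_top.2 hφs,
    Nat.card_congr (Subgroup.topEquiv (G := ℤˣ)).toEquiv]
  simp

include h2 hQ hn he in
/-- if `-1 ∉ Ω` the image of `SO` in `Aut(PΩ)` is `Inn(PΩ)` -/
theorem relIndex_Inn_psoAut_of_not_mem (hneg : negOne Q ∉ Cfsg.Omega F ⇑Q) :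
    (Cfsg.Inn (Cfsg.POmega F ⇑Q)).relIndex (Cfsg.psoAut F ⇑Q) = 1 := by
  obtain ⟨c, hc⟩ := FiniteField.exists_nonsquare (ringChar_ne_two_of_two_ne_zero h2)
  rw [Inn_eq_map, psoAut_eq_map, Subgroup.relIndex_eq_one]
  rintro _ ⟨g, hg, rfl⟩
  have hsn : signChar ⇑Q c (negOne Q) = -1 := by
    rcases Int.units_eq_one_or (signChar ⇑Q c (negOne Q)) with h | h
    · exact absurd ((mem_Omega_iff_signChar Q h2 hQ hc _ (detHom_negOne Q he)).2 h) hneg
    · exact h
  by_cases hs : signChar ⇑Q c (soToO Q ⟨g, hg⟩) = 1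
  · exact ⟨g, (mem_Omsub_iff Q h2 hQ hc ⟨g, hg⟩).2 hs, rfl⟩
  · have hs' : signChar ⇑Q c (soToO Q ⟨g, hg⟩) = -1 := by
      rcases Int.units_eq_one_or (signChar ⇑Q c (soToO Q ⟨g, hg⟩)) with h | h
      · exact absurd h hs
      · exact h
    have hmemSO : g * scalarGO Q (-1)
        ∈ (Cfsg.specialIsometryGL F ⇑Q).subgroupOf (Cfsg.Geo.quadSimilarityGroup (F := F) ⇑Q) := by
      apply mul_mem hg
      rw [Subgroup.mem_subgroupOf, scalarGO_neg_one_coe]
      exact ⟨(negOne Q).2, detHom_negOne Q he⟩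
    have e : soToO Q ⟨g * scalarGO Q (-1), hmemSO⟩ = soToO Q ⟨g, hg⟩ * negOne Q := by
      apply Subtype.ext
      show (g.1 : GL ι F) * ((scalarGO Q (-1) : ↥(Cfsg.Geo.quadSimilarityGroup (F := F) ⇑Q)) : GL ι F)
        = (g.1 : GL ι F) * (negOne Q).1
      rw [scalarGO_neg_one_coe]
    refine ⟨g * scalarGO Q (-1), ?_, ?_⟩
    · exact (mem_Omsub_iff Q h2 hQ hc ⟨g * scalarGO Q (-1), hmemSO⟩).2 (by
        rw [e, map_mul, hs', hsn]
        decide)
    · have hk : scalarGO Q (-1) ∈ (conjAut ⇑Q).ker :=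
        mem_ker_of_mem_scalars ⇑Q _ (scalarGO_mem_scalars Q (-1))
      rw [map_mul, MonoidHom.mem_ker.1 hk, mul_one]

end main

end Cfsg.Agent.Helper44
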