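import Mathlib
import Cfsg.Prelude.Def_LieTypeDatum
import Cfsg.Agent.Helper44.PsoInn
import Cfsg.Agent.Helper44.DihedralEight

/-!
# `PGO / Inn(PΩ)` inside `Aut(PΩ(Q))`, `q` odd, even dimension `≥ 8`

It is `C₂ × C₂` if `-1 ∉ Ω` and dihedral of order eight if `-1 ∈ Ω`.
-/

set_option autoImplicit false

namespace Cfsg.Agent.Helper44

open Matrix QuadraticMap Module

variable {F : Type*} [Field F] {ι : Type} [Fintype ι] [DecidableEq ι]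
variable (Q : QuadraticForm F (ι → F))

/-- the inclusion of the isometry group into the similarity group -/
noncomputable def toGO :
    ↥(Cfsg.isometryGroup F ⇑Q) →* ↥(Cfsg.Geo.quadSimilarityGroup (F := F) ⇑Q) :=
  Subgroup.inclusion (isometryGroup_le_quadSimilarityGroup ⇑Q)

theorem coe_toGO (x : ↥(Cfsg.isometryGroup F ⇑Q)) : ((toGO Q x : ↥(Cfsg.Geo.quadSimilarityGroup (F := F) ⇑Q)) : GL ι F) = x.1 := rfl

/-- conjugating a reflection by a similarity -/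
theorem sim_conj_refl (δ : ↥(Cfsg.Geo.quadSimilarityGroup (F := F) ⇑Q)) (t : ι → F) (ht : Q t ≠ 0)
    (ht' : Q ((δ.1 : Matrix ι ι F) *ᵥ t) ≠ 0) :
    δ * toGO Q (refl Q t ht) * δ⁻¹ = toGO Q (refl Q ((δ.1 : Matrix ι ι F) *ᵥ t) ht') := by
  obtain ⟨c, hc⟩ := δ.2
  apply Subtype.ext
  apply Units.ext
  apply Matrix.mulVec_injective
  funext y
  show ((δ.1 * (refl Q t ht).1 * δ.1⁻¹ : GL ι F) : Matrix ι ι F) *ᵥ y
    = ((refl Q ((δ.1 : Matrix ι ι F) *ᵥ t) ht').1 : Matrix ι ι F) *ᵥ y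
  have h1 : ((δ.1 * (refl Q t ht).1 * δ.1⁻¹ : GL ι F) : Matrix ι ι F) *ᵥ y
      = (δ.1 : Matrix ι ι F) *ᵥ (((refl Q t ht).1 : Matrix ι ι F) *ᵥ
          (((δ.1⁻¹ : GL ι F) : Matrix ι ι F) *ᵥ y)) := by
    rw [Matrix.mulVec_mulVec, Matrix.mulVec_mulVec]
    rfl
  have h2 : y = (δ.1 : Matrix ι ι F) *ᵥ (((δ.1⁻¹ : GL ι F) : Matrix ι ι F) *ᵥ y) := by
    rw [Matrix.mulVec_mulVec, ← Units.val_mul, mul_inv_cancel, Units.val_one, Matrix.one_mulVec]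
  set z := ((δ.1⁻¹ : GL ι F) : Matrix ι ι F) *ᵥ y with hz
  have h3 : polar ⇑Q ((δ.1 : Matrix ι ι F) *ᵥ t) y = (c : F) * polar ⇑Q t z := by
    conv_lhs => rw [h2]
    exact polar_mulVec_of_similarity Q _ c hc t z
  rw [h1, refl_mulVec, refl_mulVec, h3, hc, Matrix.mulVec_sub, Matrix.mulVec_smul, ← h2]
  congr 2
  have hc0 : (c : F) ≠ 0 := c.ne_zero
  field_simp

section main

variable [Fintype F] (h2 : (2 : F) ≠ 0) (hQ : (QuadraticMap.polarBilin Q).Nondegenerate)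
  (hn : 7 ≤ Fintype.card ι)

theorem Inn_le_psoAut : Cfsg.Inn (Cfsg.POmega F ⇑Q) ≤ Cfsg.psoAut F ⇑Q := by
  rw [Inn_eq_map, psoAut_eq_map]
  apply Subgroup.map_mono
  intro g hg
  rw [Subgroup.mem_subgroupOf] at hg ⊢
  exact OmegaGL_le_SO Q hg

theorem psoAut_le_pgoAut : Cfsg.psoAut F ⇑Q ≤ Cfsg.pgoAut F ⇑Q := by
  rw [psoAut_eq_map, pgoAut_eq_map]
  exact Subgroup.map_le_range _ _

include h2 hQ hn in
/-- if `-1 ∉ Ω`: `PGO / Inn(PΩ) ≅ C₂ × C₂` -/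
theorem pgoAut_mod_Inn_of_not_mem (m : ℕ) (hm : Fintype.card ι = 2 * m)
    (hneg : negOne Q ∉ Cfsg.Omega F ⇑Q) :
    ∃ φ : ↥(Cfsg.pgoAut F ⇑Q) →* Multiplicative (ZMod 2 × ZMod 2), Function.Surjective φ ∧
      φ.ker = (Cfsg.Inn (Cfsg.POmega F ⇑Q)).subgroupOf (Cfsg.pgoAut F ⇑Q) := by
  have e : Cfsg.Inn (Cfsg.POmega F ⇑Q) = Cfsg.psoAut F ⇑Q :=
    le_antisymm (Inn_le_psoAut Q) (Subgroup.relIndex_eq_one.1
      (relIndex_Inn_psoAut_of_not_mem Q h2 hQ hn ⟨m, by rw [hm, two_mul]⟩ hneg))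
  rw [e]
  exact pgoAut_mod_psoAut Q h2 hQ m hm hn

include hQ hn in
/-- for an isometry `x` (when `-1 ∈ Ω`): the induced automorphism is inner iff `x ∈ Ω` -/
theorem conjAut_toGO_mem_Inn_iff (hneg : negOne Q ∈ Cfsg.Omega F ⇑Q)
    (x : ↥(Cfsg.isometryGroup F ⇑Q)) :
    conjAut ⇑Q (toGO Q x) ∈ Cfsg.Inn (Cfsg.POmega F ⇑Q) ↔ x ∈ Cfsg.Omega F ⇑Q := by
  obtain ⟨t, _, _, ht⟩ := exists_nonsingular_perp_pair Q hQ
    (by rw [Module.finrank_fintype_fun_eq_card]; omega) 0 0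
  rw [Inn_eq_map]
  constructor
  · rintro ⟨r, hr, e⟩
    rw [SetLike.mem_coe, Subgroup.mem_subgroupOf] at hr
    have hk : r⁻¹ * toGO Q x ∈ (conjAut ⇑Q).ker := by
      rw [MonoidHom.mem_ker, map_mul, map_inv, e, inv_mul_cancel]
    rw [ker_conjAut Q hQ hn, Subgroup.mem_subgroupOf, mem_scalars_iff_eq_scalarGO] at hk
    obtain ⟨c, hc⟩ := hk
    have hkO : ((scalarGO Q c : ↥(Cfsg.Geo.quadSimilarityGroup (F := F) ⇑Q)) : GL ι F)
        ∈ Cfsg.isometryGroup F ⇑Q := by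
      rw [← hc]
      show (r.1)⁻¹ * x.1 ∈ Cfsg.isometryGroup F ⇑Q
      exact mul_mem (inv_mem (OmegaGL_le_isometryGroup ⇑Q hr)) x.2
    have hx : toGO Q x = r * scalarGO Q c := by rw [← hc]; group
    rw [← mem_OmegaGL_iff]
    have hx' : (x : GL ι F) = r.1 * ((scalarGO Q c : ↥(Cfsg.Geo.quadSimilarityGroup (F := F) ⇑Q)) : GL ι F) :=
      congrArg Subtype.val hx
    rw [hx']
    apply mul_mem hr
    rcases eq_one_or_neg_one_of_scalarGO_isometry Q c hkO ht with rfl | rfl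
    · have : scalarGO Q (1 : Fˣ) = 1 := by
        apply Subtype.ext
        show Matrix.GeneralLinearGroup.scalar ι (1 : Fˣ) = 1
        exact map_one _
      rw [this]
      exact one_mem _
    · rw [scalarGO_neg_one_coe, mem_OmegaGL_iff]
      exact hneg
  · intro hx
    refine ⟨toGO Q x, ?_, rfl⟩
    rw [SetLike.mem_coe, Subgroup.mem_subgroupOf, coe_toGO, mem_OmegaGL_iff]
    exact hx

include h2 hQ hn in
theorem card_quot_eq_eight (m : ℕ) (hm : Fintype.card ι = 2 * m)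
    (hneg : negOne Q ∈ Cfsg.Omega F ⇑Q) :
    Nat.card (↥(conjAut ⇑Q).range ⧸
      (Cfsg.Inn (Cfsg.POmega F ⇑Q)).subgroupOf (conjAut ⇑Q).range) = 8 := by
  have e1 : (Cfsg.Inn (Cfsg.POmega F ⇑Q)).relIndex (Cfsg.psoAut F ⇑Q) = 2 :=
    relIndex_Inn_psoAut_of_mem Q h2 hQ hn hneg
  have e2 : (Cfsg.psoAut F ⇑Q).relIndex (Cfsg.pgoAut F ⇑Q) = 4 := by
    obtain ⟨φ, hs, hk⟩ := pgoAut_mod_psoAut Q h2 hQ m hm hn
    show ((Cfsg.psoAut F ⇑Q).subgroupOf (Cfsg.pgoAut F ⇑Q)).index = 4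
    rw [← hk, Subgroup.index_ker, MonoidHom.range_eq_top.2 hs,
      Nat.card_congr (Subgroup.topEquiv (G := Multiplicative (ZMod 2 × ZMod 2))).toEquiv,
      Nat.card_eq_fintype_card]
    rfl
  have h3 := Subgroup.relIndex_mul_relIndex _ _ _ (Inn_le_psoAut Q) (psoAut_le_pgoAut Q)
  rw [e1, e2, pgoAut_eq_map] at h3
  rw [← Subgroup.index_eq_card]
  exact h3.symm

end main

end Cfsg.Agent.Helper44
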