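import Mathlib
import Cfsg.Agent.Helper44.SingGeom

/-!
# Orthogonal complements and singular vectors for a quadratic form (finite field, odd order)

`perp Q S` is the orthogonal of `S` for the polar form.  Existence lemmas for singular and
non-singular vectors inside `perp Q S` for `S` of small dimension, and the spanning lemma.
-/

set_option autoImplicit false

namespace Cfsg.Agent.Helper44.QG

open Module QuadraticMap Polynomial

variable {F V : Type*} [Field F] [AddCommGroup V] [Module F V]
variable (Q : QuadraticForm F V)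

/-- orthogonal complement for the polar form -/
def perp (S : Submodule F V) : Submodule F V :=
  LinearMap.BilinForm.orthogonal (QuadraticMap.polarBilin Q) S

variable {Q}

theorem mem_perp {S : Submodule F V} {x : V} :
    x ∈ perp Q S ↔ ∀ s ∈ S, polar ⇑Q x s = 0 := by
  unfold perp
  rw [LinearMap.BilinForm.mem_orthogonal_iff]
  constructor
  · intro h s hs
    rw [polar_comm]
    exact h s hs
  · intro h s hs
    show polar ⇑Q s x = 0
    rw [polar_comm]
    exact h s hs

theorem perp_anti {S T : Submodule F V} (h : S ≤ T) : perp Q T ≤ perp Q S := by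
  intro x hx
  rw [mem_perp] at hx ⊢
  exact fun s hs => hx s (h hs)

theorem mem_perp_span {s : Set V} {x : V} :
    x ∈ perp Q (Submodule.span F s) ↔ ∀ y ∈ s, polar ⇑Q x y = 0 := by
  unfold perp
  rw [mem_orthogonal_span]
  constructor
  · intro h y hy
    rw [polar_comm]
    exact h y hy
  · intro h y hy
    rw [polar_comm]
    exact h y hy

theorem polar_self_eq (x : V) : polar ⇑Q x x = 2 * Q x := by
  rw [QuadraticMap.polar_self]
  simp

section fd

variable [FiniteDimensional F V] (hQ : (QuadraticMap.polarBilin Q).Nondegenerate)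

include hQ

theorem finrank_perp (S : Submodule F V) :
    finrank F (perp Q S) + finrank F S = finrank F V := by
  have h1 : finrank F (perp Q S) = finrank F V - finrank F S :=
    LinearMap.BilinForm.finrank_orthogonal hQ S
  have h2 := Submodule.finrank_le S
  omega

theorem perp_perp (S : Submodule F V) : perp Q (perp Q S) = S :=
  LinearMap.BilinForm.orthogonal_orthogonal hQ (polarBilin_isRefl Q) S

/-- a subspace of small dimension does not contain the perp of another small subspace -/
theorem exists_mem_perp_not_mem (S T : Submodule F V)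
    (h : finrank F S + finrank F T < finrank F V) : ∃ x ∈ perp Q S, x ∉ T := by
  by_contra hcon
  push Not at hcon
  have h1 : perp Q S ≤ T := hcon
  have h2 := Submodule.finrank_mono h1
  have h3 := finrank_perp hQ S
  omega

theorem exists_mem_perp_ne (S : Submodule F V) {w₀ : V} (hw₀ : w₀ ∉ S) :
    ∃ x ∈ perp Q S, polar ⇑Q x w₀ ≠ 0 := by
  by_contra hcon
  push Not at hcon
  apply hw₀
  rw [← perp_perp hQ S, mem_perp]
  intro x hx
  rw [polar_comm]
  exact hcon x hx

/-- Riesz representation for the polar form -/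
theorem exists_riesz (φ : Module.Dual F V) : ∃ w : V, ∀ x, φ x = polar ⇑Q x w := by
  obtain ⟨w, hw⟩ := (LinearMap.BilinForm.toDual (QuadraticMap.polarBilin Q) hQ).surjective φ
  refine ⟨w, fun x => ?_⟩
  rw [← hw, LinearMap.BilinForm.toDual_def, QuadraticMap.polarBilin_apply_apply, polar_comm]

omit hQ in
theorem finrank_sup_span_singleton_le (S : Submodule F V) (x : V) :
    finrank F (S ⊔ Submodule.span F {x} : Submodule F V) ≤ finrank F S + 1 := by
  refine (Submodule.finrank_add_le_finrank_add_finrank _ _).trans ?_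
  have : finrank F (Submodule.span F {x} : Submodule F V) ≤ 1 := by
    have h := finrank_span_le_card (R := F) ({x} : Set V)
    simpa using h
  omega

omit hQ in
theorem finrank_span_singleton_le_one (x : V) :
    finrank F (Submodule.span F {x} : Submodule F V) ≤ 1 := by
  have h := finrank_span_le_card (R := F) ({x} : Set V)
  simpa using h

omit hQ in
theorem finrank_span_pair_le' (x y : V) :
    finrank F (Submodule.span F {x, y} : Submodule F V) ≤ 2 := by
  rw [Submodule.span_insert, sup_comm]
  have h1 := finrank_sup_span_singleton_le (Submodule.span F {y}) x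
  have h2 := finrank_span_singleton_le_one (F := F) y
  omega

omit hQ in
theorem finrank_span_triple_le (x y z : V) :
    finrank F (Submodule.span F {x, y, z} : Submodule F V) ≤ 3 := by
  rw [Submodule.span_insert, sup_comm]
  have h1 := finrank_sup_span_singleton_le (Submodule.span F {y, z}) x
  have h2 := finrank_span_pair_le' (F := F) y z
  omega

/-- a non-singular vector in the perp of a small subspace -/
theorem exists_nonsingular_mem_perp (S : Submodule F V) (hS : 2 * finrank F S < finrank F V) :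
    ∃ z ∈ perp Q S, Q z ≠ 0 := by
  by_contra hcon
  push Not at hcon
  have hiso : perp Q S ≤ perp Q (perp Q S) := by
    intro y hy
    rw [mem_perp]
    intro y' hy'
    unfold polar
    rw [hcon _ ((perp Q S).add_mem hy hy'), hcon _ hy', hcon _ hy]
    ring
  rw [perp_perp hQ] at hiso
  have h1 := Submodule.finrank_mono hiso
  have h2 := finrank_perp hQ S
  omega

/-- a non-singular vector in the perp of a small subspace, not orthogonal to a given vector -/
theorem exists_nonsingular_ne (S : Submodule F V) (hS : 2 * finrank F S + 4 < finrank F V)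
    {w₀ : V} (hw₀ : w₀ ∉ S) : ∃ z ∈ perp Q S, Q z ≠ 0 ∧ polar ⇑Q z w₀ ≠ 0 := by
  obtain ⟨x, hxS, hxw⟩ := exists_mem_perp_ne hQ S hw₀
  by_cases hx : Q x = 0
  swap
  · exact ⟨x, hxS, hx, hxw⟩
  set S₁ : Submodule F V := S ⊔ Submodule.span F {x} ⊔ Submodule.span F {w₀} with hS₁
  have hd1 : finrank F S₁ ≤ finrank F S + 2 := by
    have h1 : finrank F S₁ ≤ finrank F (S ⊔ Submodule.span F {x} : Submodule F V) + 1 :=
      finrank_sup_span_singleton_le (S ⊔ Submodule.span F {x}) w₀
    have h3 := finrank_sup_span_singleton_le S x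
    omega
  obtain ⟨z, hz, hzQ⟩ := exists_nonsingular_mem_perp hQ S₁ (by omega)
  have hzS : z ∈ perp Q S := perp_anti (le_sup_left.trans le_sup_left) hz
  rw [mem_perp] at hz
  have hzx : polar ⇑Q z x = 0 :=
    hz x ((le_sup_right.trans le_sup_left : Submodule.span F {x} ≤ S₁)
      (Submodule.mem_span_singleton_self x))
  have hzw : polar ⇑Q z w₀ = 0 :=
    hz w₀ ((le_sup_right : Submodule.span F {w₀} ≤ S₁) (Submodule.mem_span_singleton_self w₀))
  refine ⟨x + z, (perp Q S).add_mem hxS hzS, ?_, ?_⟩
  · rw [QuadraticMap.map_add ⇑Q, hx, polar_comm, hzx]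
    simpa using hzQ
  · rw [polar_add_left, hzw, add_zero]
    exact hxw

end fd

section finite

variable [Fintype F] [FiniteDimensional F V] (h2 : (2 : F) ≠ 0)
  (hQ : (QuadraticMap.polarBilin Q).Nondegenerate)

include h2 hQ

/-- **key existence lemma**: a singular vector in `S^⊥` not orthogonal to `w₀ ∉ S` -/
theorem exists_singular (S : Submodule F V) (hS : 2 * finrank F S + 6 < finrank F V)
    {w₀ : V} (hw₀ : w₀ ∉ S) : ∃ u ∈ perp Q S, Q u = 0 ∧ polar ⇑Q u w₀ ≠ 0 := by
  obtain ⟨x, hxS, hxw⟩ := exists_mem_perp_ne hQ S hw₀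
  by_cases hx : Q x = 0
  · exact ⟨x, hxS, hx, hxw⟩
  set S₁ : Submodule F V := S ⊔ Submodule.span F {x} ⊔ Submodule.span F {w₀} with hS₁
  have hd1 : finrank F S₁ ≤ finrank F S + 2 := by
    have h1 : finrank F S₁ ≤ finrank F (S ⊔ Submodule.span F {x} : Submodule F V) + 1 :=
      finrank_sup_span_singleton_le (S ⊔ Submodule.span F {x}) w₀
    have h3 := finrank_sup_span_singleton_le S x
    omega
  obtain ⟨z₁, hz₁, hz₁Q⟩ := exists_nonsingular_mem_perp hQ S₁ (by omega)
  set S₂ : Submodule F V := S₁ ⊔ Submodule.span F {z₁} with hS₂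
  have hd2 : finrank F S₂ ≤ finrank F S₁ + 1 := finrank_sup_span_singleton_le S₁ z₁
  obtain ⟨z₂, hz₂, hz₂Q⟩ := exists_nonsingular_mem_perp hQ S₂ (by omega)
  have hz₁S : z₁ ∈ perp Q S := perp_anti (le_sup_left.trans le_sup_left) hz₁
  have hz₂S₁ : z₂ ∈ perp Q S₁ := perp_anti le_sup_left hz₂
  have hz₂S : z₂ ∈ perp Q S := perp_anti (le_sup_left.trans le_sup_left) hz₂S₁
  rw [mem_perp] at hz₁ hz₂ hz₂S₁
  have h1x : polar ⇑Q z₁ x = 0 :=
    hz₁ x ((le_sup_right.trans le_sup_left : Submodule.span F {x} ≤ S₁)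
      (Submodule.mem_span_singleton_self x))
  have h1w : polar ⇑Q z₁ w₀ = 0 :=
    hz₁ w₀ ((le_sup_right : Submodule.span F {w₀} ≤ S₁) (Submodule.mem_span_singleton_self w₀))
  have h2x : polar ⇑Q z₂ x = 0 :=
    hz₂S₁ x ((le_sup_right.trans le_sup_left : Submodule.span F {x} ≤ S₁)
      (Submodule.mem_span_singleton_self x))
  have h2w : polar ⇑Q z₂ w₀ = 0 :=
    hz₂S₁ w₀ ((le_sup_right : Submodule.span F {w₀} ≤ S₁) (Submodule.mem_span_singleton_self w₀))
  have h21 : polar ⇑Q z₂ z₁ = 0 :=
    hz₂ z₁ ((le_sup_right : Submodule.span F {z₁} ≤ S₂) (Submodule.mem_span_singleton_self z₁))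
  -- solve `a² Q z₁ + b² Q z₂ = - Q x`
  have hchar : ringChar F ≠ 2 := by
    intro h
    haveI : CharP F 2 := by rw [← h]; exact ringChar.charP F
    exact h2 CharTwo.two_eq_zero
  have hcard : Fintype.card F % 2 = 1 := FiniteField.odd_card_of_char_ne_two hchar
  have hf : degree (C (Q z₁) * X ^ 2 - C (-(Q x)) : F[X]) = 2 := by
    rw [degree_sub_C, degree_C_mul_X_pow 2 hz₁Q]
    · rfl
    · rw [degree_C_mul_X_pow 2 hz₁Q]
      norm_num
  have hg : degree (C (Q z₂) * X ^ 2 : F[X]) = 2 := by
    rw [degree_C_mul_X_pow 2 hz₂Q]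
    rfl
  obtain ⟨a, b, hab⟩ := FiniteField.exists_root_sum_quadratic hf hg hcard
  simp only [eval_sub, eval_mul, eval_C, eval_pow, eval_X] at hab
  refine ⟨x + a • z₁ + b • z₂,
    (perp Q S).add_mem ((perp Q S).add_mem hxS ((perp Q S).smul_mem a hz₁S))
      ((perp Q S).smul_mem b hz₂S), ?_, ?_⟩
  · rw [QuadraticMap.map_add ⇑Q, QuadraticMap.map_add ⇑Q, QuadraticMap.map_smul,
      QuadraticMap.map_smul, polar_add_left, polar_smul_right, polar_smul_right, polar_smul_left,
      polar_smul_right, polar_comm ⇑Q x z₁, h1x, polar_comm ⇑Q x z₂, h2x,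
      polar_comm ⇑Q z₁ z₂, h21]
    simp only [smul_eq_mul, mul_zero, add_zero]
    linear_combination hab
  · rw [polar_add_left, polar_add_left, polar_smul_left, polar_smul_left, h1w, h2w, smul_zero,
      smul_zero, add_zero, add_zero]
    exact hxw

/-- the same, with the singular vector outside `S` -/
theorem exists_singular' (S : Submodule F V) (hS : 2 * finrank F S + 8 < finrank F V)
    {w₀ : V} (hw₀ : w₀ ∉ S) : ∃ u ∈ perp Q S, Q u = 0 ∧ polar ⇑Q u w₀ ≠ 0 ∧ u ∉ S := by
  obtain ⟨u, huS, huu, huw⟩ := exists_singular h2 hQ S (by omega) hw₀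
  by_cases hu : u ∉ S
  · exact ⟨u, huS, huu, huw, hu⟩
  push Not at hu
  set S₂ : Submodule F V := S ⊔ Submodule.span F {w₀} with hS₂
  have hd : finrank F S₂ ≤ finrank F S + 1 := finrank_sup_span_singleton_le S w₀
  obtain ⟨t, htS, ht2⟩ := exists_mem_perp_not_mem hQ S S₂ (by omega)
  obtain ⟨u', hu'S, hu'u', hu't⟩ := exists_singular h2 hQ S₂ (by omega) ht2
  have hu'S' := hu'S
  rw [mem_perp] at hu'S htS
  have h1 : polar ⇑Q u' u = 0 := hu'S u (le_sup_left (a := S) hu)
  have h3 : polar ⇑Q u' w₀ = 0 :=
    hu'S w₀ ((le_sup_right : Submodule.span F {w₀} ≤ S₂) (Submodule.mem_span_singleton_self w₀))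
  refine ⟨u + u', (perp Q S).add_mem huS (perp_anti le_sup_left hu'S'), ?_, ?_, ?_⟩
  · rw [QuadraticMap.map_add ⇑Q, huu, hu'u', polar_comm, h1]
    ring
  · rw [polar_add_left, h3, add_zero]
    exact huw
  · intro hmem
    have h4 : u' ∈ S := by
      have := S.sub_mem hmem hu
      rwa [add_sub_cancel_left] at this
    apply hu't
    rw [polar_comm]
    exact htS u' h4

/-- **spanning lemma**: a subspace containing all singular vectors of `S^⊥ \ S` contains `S^⊥` -/
theorem perp_le_of_singular (S : Submodule F V) (hS : 2 * finrank F S + 8 < finrank F V)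
    (W : Submodule F V) (h : ∀ y ∈ perp Q S, Q y = 0 → y ∉ S → y ∈ W) : perp Q S ≤ W := by
  have h1 : perp Q W ≤ S := by
    intro z hz
    by_contra hzS
    obtain ⟨u, huS, huu, huz, hu⟩ := exists_singular' h2 hQ S hS hzS
    apply huz
    rw [polar_comm]
    exact (mem_perp.1 hz) u (h u huS huu hu)
  have := perp_anti (Q := Q) h1
  rwa [perp_perp hQ] at this

end finite

end Cfsg.Agent.Helper44.QG
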