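import Mathlib
import Cfsg.Prelude.Def_LieTypeDatum
import Cfsg.Agent.Helper44.PlusParity
import Cfsg.Agent.Helper44.MaxSingTrans
import Cfsg.Agent.Helper44.PgoPso
import Cfsg.Agent.Helper44.PgoInn
import Cfsg.Agent.Helper44.QGeom
import Cfsg.Agent.Helper45.OmegaTrans2

/-!
# Similarities of the plus form and the two classes of maximal totally singular subspaces

For a similarity `g` of `quadFormPlus m F` (`2 ≠ 0`) with multiplier `μ`:
`g` preserves each of the two classes of maximal totally singular subspaces iff `det g = μ ^ m`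
(`dHom g = 1`).
-/

set_option autoImplicit false

namespace Cfsg.Agent.Helper44

open Matrix QuadraticMap Module

variable {F : Type*} [Field F]

section general

variable {V : Type*} [AddCommGroup V] [Module F V] [FiniteDimensional F V] {Q : QuadraticForm F V}

theorem IsTotSing.two_mul_finrank_le (hQ : (QuadraticMap.polarBilin Q).Nondegenerate)
    {U : Submodule F V} (hU : IsTotSing Q U) : 2 * finrank F ↥U ≤ finrank F V := by
  have h1 := QG.finrank_perp hQ U
  have h2 : U ≤ QG.perp Q U := by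
    intro u hu
    rw [QG.mem_perp]
    exact fun s hs => hU.polar_eq_zero hu hs
  have h3 := Submodule.finrank_mono h2
  omega

end general

section plus

variable {m : ℕ}

theorem finrank_plus_space (m : ℕ) : finrank F (Fin m ⊕ Fin m → F) = 2 * m := by
  rw [finrank_sum_fun, Fintype.card_fin]
  ring

theorem isMaxTotallySingular_of_finrank {U : Submodule F (Fin m ⊕ Fin m → F)}
    (hU : IsTotSing (plusForm m F) U) (hUm : finrank F ↥U = m) :
    Cfsg.IsMaxTotallySingular (Cfsg.quadFormPlus m F) U := by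
  refine ⟨hU, fun W hW hUW => ?_⟩
  have hW' : IsTotSing (plusForm m F) W := hW
  have h1 := IsTotSing.two_mul_finrank_le (nondegenerate_plusForm m) hW'
  rw [finrank_plus_space] at h1
  symm
  apply Submodule.eq_of_le_of_finrank_le hUW
  omega

theorem finrank_of_isMaxTotallySingular {U : Submodule F (Fin m ⊕ Fin m → F)}
    (hU : Cfsg.IsMaxTotallySingular (Cfsg.quadFormPlus m F) U) : finrank F ↥U = m := by
  have hts : IsTotSing (plusForm m F) U := hU.1
  have hle : 2 * finrank F ↥U ≤ 2 * m := by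
    have := IsTotSing.two_mul_finrank_le (nondegenerate_plusForm m) hts
    rwa [finrank_plus_space] at this
  by_contra hne
  have hlt : finrank F ↥U < m := by omega
  obtain ⟨f, hf⟩ := exists_linearIndependent_of_le_finrank (R := F) (M := ↥(stdSing m F))
    (n := finrank F ↥U) (by rw [finrank_stdSing]; omega)
  have hli : LinearIndependent F
      (fun i => ((f i : ↥(stdSing m F)) : Fin m ⊕ Fin m → F)) :=
    hf.map' (stdSing m F).subtype (Submodule.ker_subtype _)
  set W' : Submodule F (Fin m ⊕ Fin m → F) :=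
    Submodule.span F (Set.range (fun i => ((f i : ↥(stdSing m F)) : Fin m ⊕ Fin m → F))) with hW'
  have hW'le : W' ≤ stdSing m F :=
    Submodule.span_le.2 (by rintro _ ⟨i, rfl⟩; exact (f i).2)
  have hW'fr : finrank F ↥W' = finrank F ↥U := by
    rw [hW', finrank_span_eq_card hli, Fintype.card_fin]
  let e : ↥U ≃ₗ[F] ↥W' := LinearEquiv.ofFinrankEq _ _ hW'fr.symm
  obtain ⟨g, hg⟩ := Helper45.OmegaParity.exists_isometry_map (plusForm m F)
    (nondegenerate_plusForm m) U W' e (fun u => by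
      rw [hts u u.2, isTotSing_stdSing m _ (hW'le (e u).2)])
  set X : Submodule F (Fin m ⊕ Fin m → F) :=
    (stdSing m F).map (Helper45.OmegaParity.lin (plusForm m F) g⁻¹) with hX
  have hXts : IsTotSing (plusForm m F) X := by
    rintro _ ⟨x, hx, rfl⟩
    rw [Helper45.OmegaParity.lin_isometry]
    exact isTotSing_stdSing m x hx
  have hUX : U ≤ X := by
    intro u hu
    refine ⟨Helper45.OmegaParity.lin (plusForm m F) g u, hW'le ?_, ?_⟩
    swap
    · have h : Helper45.OmegaParity.lin (plusForm m F) (g⁻¹ * g) u = u := by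
        rw [inv_mul_cancel, Helper45.OmegaParity.lin_one]; rfl
      rw [Helper45.OmegaParity.lin_mul] at h
      exact h
    rw [← hg]
    exact Submodule.mem_map_of_mem hu
  have hXU : X = U := hU.2 X hXts hUX
  have hXm : finrank F ↥X = m := by
    rw [hX, Helper45.OmegaParity.finrank_map_lin, finrank_stdSing]
  rw [hXU] at hXm
  exact hne hXm

/-! ### the linear map of a similarity -/

theorem toLin'_injective_of_GL {ι : Type} [Fintype ι] [DecidableEq ι] (g : GL ι F) :
    Function.Injective (Matrix.toLin' (g : Matrix ι ι F)) := by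
  intro x y hxy
  rw [Matrix.toLin'_apply, Matrix.toLin'_apply] at hxy
  have h := congrArg (fun z => ((g⁻¹ : GL ι F) : Matrix ι ι F) *ᵥ z) hxy
  simp only [Matrix.mulVec_mulVec, ← Units.val_mul, inv_mul_cancel, Units.val_one,
    Matrix.one_mulVec] at h
  exact h

theorem isTotSing_map_sim (g : ↥(Cfsg.Geo.quadSimilarityGroup (F := F) ⇑(plusForm m F)))
    {U : Submodule F (Fin m ⊕ Fin m → F)} (hU : IsTotSing (plusForm m F) U) :
    IsTotSing (plusForm m F)
      (U.map (Matrix.toLin' (g.1 : Matrix (Fin m ⊕ Fin m) (Fin m ⊕ Fin m) F))) := by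
  obtain ⟨c, hc⟩ := g.2
  rintro _ ⟨u, hu, rfl⟩
  rw [Matrix.toLin'_apply]
  have := hc u
  rw [hU u hu, mul_zero] at this
  exact this

theorem finrank_map_sim {ι : Type} [Fintype ι] [DecidableEq ι] (g : GL ι F)
    (U : Submodule F (ι → F)) :
    finrank F ↥(U.map (Matrix.toLin' (g : Matrix ι ι F))) = finrank F ↥U :=
  (LinearEquiv.finrank_eq
    (Submodule.equivMapOfInjective _ (toLin'_injective_of_GL g) U)).symm

/-- a similarity stabilising the standard totally singular subspace has `det = μ ^ m` -/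
theorem dHom_eq_one_of_stab {t : Fin m ⊕ Fin m → F} (ht : plusForm m F t ≠ 0)
    (s : ↥(Cfsg.Geo.quadSimilarityGroup (F := F) ⇑(plusForm m F)))
    (hs : ∀ v ∈ stdSing m F,
      (s.1 : Matrix (Fin m ⊕ Fin m) (Fin m ⊕ Fin m) F) *ᵥ v ∈ stdSing m F) :
    dHom (plusForm m F) ht m s = 1 := by
  obtain ⟨c, hc⟩ := s.2
  set S : Matrix (Fin m ⊕ Fin m) (Fin m ⊕ Fin m) F :=
    ((s.1 : GL (Fin m ⊕ Fin m) F) : Matrix (Fin m ⊕ Fin m) (Fin m ⊕ Fin m) F) with hS
  have hSb : S = Matrix.fromBlocks S.toBlocks₁₁ S.toBlocks₁₂ S.toBlocks₂₁ S.toBlocks₂₂ :=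
    (Matrix.fromBlocks_toBlocks S).symm
  have hC : S.toBlocks₂₁ = 0 := by
    ext i j
    have h1 := hs (Pi.single (Sum.inl j) 1) (by
      rw [mem_stdSing]
      intro i
      rw [Pi.single_apply, if_neg (by simp)])
    rw [mem_stdSing] at h1
    have h2 := h1 i
    rw [Matrix.mulVec_single_one] at h2
    exact h2
  have hAD : S.toBlocks₁₁ᵀ * S.toBlocks₂₂ = (c : F) • (1 : Matrix (Fin m) (Fin m) F) := by
    ext i j
    have h1 := polar_mulVec_of_similarity (plusForm m F) S c hc (Pi.single (Sum.inl i) 1)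
      (Pi.single (Sum.inr j) 1)
    rw [Matrix.mulVec_single_one, Matrix.mulVec_single_one, plusForm_coe, polar_quadFormPlus,
      polar_quadFormPlus] at h1
    have e1 : ∀ k : Fin m, S (Sum.inr k) (Sum.inl i) = 0 := fun k => by
      have := congrFun (congrFun hC k) i
      exact this
    have e2 : (∑ x : Fin m, ((Pi.single (Sum.inl i) (1 : F) : Fin m ⊕ Fin m → F) (Sum.inl x) *
        (Pi.single (Sum.inr j) (1 : F) : Fin m ⊕ Fin m → F) (Sum.inr x) +
        (Pi.single (Sum.inr j) (1 : F) : Fin m ⊕ Fin m → F) (Sum.inl x) *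
        (Pi.single (Sum.inl i) (1 : F) : Fin m ⊕ Fin m → F) (Sum.inr x)))
        = if i = j then 1 else 0 := by
      simp only [Pi.single_apply, Sum.inl.injEq, Sum.inr.injEq, reduceCtorEq, if_false, mul_zero,
        add_zero]
      by_cases hij : i = j
      · subst hij
        simp
      · rw [if_neg hij]
        apply Finset.sum_eq_zero
        intro x _
        by_cases hx : x = i
        · subst hx
          rw [if_neg hij, mul_zero]
        · rw [if_neg hx, zero_mul]
    rw [e2] at h1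
    rw [Matrix.mul_apply, Matrix.smul_apply, Matrix.one_apply, smul_eq_mul, ← h1]
    refine Finset.sum_congr rfl fun k _ => ?_
    simp only [Matrix.col_apply, Matrix.transpose_apply, Matrix.toBlocks₁₁, Matrix.toBlocks₂₂,
      Matrix.of_apply, e1 k, mul_zero, add_zero]
  have hdet : S.det = (c : F) ^ m := by
    rw [hSb, hC, Matrix.det_fromBlocks_zero₂₁, ← Matrix.det_transpose S.toBlocks₁₁,
      ← Matrix.det_mul, hAD, Matrix.det_smul, Matrix.det_one, mul_one, Fintype.card_fin]
  rw [dHom_apply, multHom_eq ⇑(plusForm m F) ht s c hc]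
  apply Units.ext
  rw [Units.val_mul, Matrix.GeneralLinearGroup.val_det_apply, Units.val_pow_eq_pow_val,
    Units.val_inv_eq_inv_val, Units.val_one]
  show S.det * _ = 1
  rw [hdet, ← mul_pow, mul_inv_cancel₀ c.ne_zero, one_pow]

theorem dHom_toGO {t : Fin m ⊕ Fin m → F} (ht : plusForm m F t ≠ 0)
    (K : ↥(Cfsg.isometryGroup F ⇑(plusForm m F))) :
    dHom (plusForm m F) ht m (toGO (plusForm m F) K) = detHom ⇑(plusForm m F) K := by
  rw [dHom_apply, multHom_of_isometry ⇑(plusForm m F) ht _ K.2, inv_one, one_pow, mul_one]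
  rfl

theorem neg_one_ne_one_units (h2 : (2 : F) ≠ 0) : (-1 : Fˣ) ≠ 1 := by
  intro h
  have h3 : ((-1 : Fˣ) : F) = ((1 : Fˣ) : F) := by rw [h]
  rw [Units.val_neg, Units.val_one] at h3
  apply h2
  have : (2 : F) = 1 - (-1) := by ring
  rw [this, h3, sub_self]

/-- `dHom g = 1` iff `g U₀` is in the class of `U₀` -/
theorem dHom_eq_one_iff_stdSing (h2 : (2 : F) ≠ 0) {t : Fin m ⊕ Fin m → F}
    (ht : plusForm m F t ≠ 0)
    (g : ↥(Cfsg.Geo.quadSimilarityGroup (F := F) ⇑(plusForm m F))) :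
    dHom (plusForm m F) ht m g = 1 ↔
      Even (m - finrank F ↥(stdSing m F ⊓ (stdSing m F).map
        (Matrix.toLin' ((g.1 : GL (Fin m ⊕ Fin m) F) : Matrix (Fin m ⊕ Fin m) (Fin m ⊕ Fin m) F)))) := by
  set W : Submodule F (Fin m ⊕ Fin m → F) := (stdSing m F).map
    (Matrix.toLin' ((g.1 : GL (Fin m ⊕ Fin m) F) : Matrix (Fin m ⊕ Fin m) (Fin m ⊕ Fin m) F))
    with hW
  have hWts : IsTotSing (plusForm m F) W := isTotSing_map_sim g (isTotSing_stdSing m)
  have hWm : finrank F ↥W = m := by rw [hW, finrank_map_sim, finrank_stdSing]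
  obtain ⟨vs, hvs, hlen, hmap⟩ := exists_list_qRefl_map_eq (plusForm m F)
    (nondegenerate_plusForm m) (isTotSing_stdSing m) (finrank_stdSing m) (finrank_plus_space m)
    _ W hWts hWm rfl
  set K : ↥(Cfsg.isometryGroup F ⇑(plusForm m F)) := (vs.map (reflT (plusForm m F))).prod with hK
  have hKlin : ((K.1 : GL (Fin m ⊕ Fin m) F) : Matrix (Fin m ⊕ Fin m) (Fin m ⊕ Fin m) F).mulVecLin
      = (vs.map (Helper14.qRefl (plusForm m F))).prod :=
    mulVecLin_prod_reflT' (plusForm m F) vs hvs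
  have hs : ∀ v ∈ stdSing m F,
      (((toGO (plusForm m F) K * g : ↥(Cfsg.Geo.quadSimilarityGroup (F := F) ⇑(plusForm m F))).1
        : GL (Fin m ⊕ Fin m) F) : Matrix (Fin m ⊕ Fin m) (Fin m ⊕ Fin m) F) *ᵥ v
        ∈ stdSing m F := by
    intro v hv
    have e1 : (((toGO (plusForm m F) K * g :
        ↥(Cfsg.Geo.quadSimilarityGroup (F := F) ⇑(plusForm m F))).1
        : GL (Fin m ⊕ Fin m) F) : Matrix (Fin m ⊕ Fin m) (Fin m ⊕ Fin m) F) *ᵥ v
        = (vs.map (Helper14.qRefl (plusForm m F))).prod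
          (((g.1 : GL (Fin m ⊕ Fin m) F) : Matrix (Fin m ⊕ Fin m) (Fin m ⊕ Fin m) F) *ᵥ v) := by
      rw [← hKlin, Matrix.mulVecLin_apply, Matrix.mulVec_mulVec]
      rfl
    rw [e1, ← hmap]
    refine Submodule.mem_map_of_mem ⟨v, hv, ?_⟩
    rw [Matrix.toLin'_apply]
  have h1 := dHom_eq_one_of_stab ht _ hs
  rw [map_mul, dHom_toGO, hK, detHom_prod_reflT _ vs hvs, hlen] at h1
  set d := m - finrank F ↥(stdSing m F ⊓ W) with hd
  have h3 : dHom (plusForm m F) ht m g = (-1) ^ d := by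
    have h4 : ((-1 : Fˣ) ^ d) * ((-1) ^ d) = 1 := by
      rw [← mul_pow]; simp
    calc dHom (plusForm m F) ht m g
        = ((-1 : Fˣ) ^ d * (-1) ^ d) * dHom (plusForm m F) ht m g := by rw [h4, one_mul]
      _ = (-1 : Fˣ) ^ d * ((-1) ^ d * dHom (plusForm m F) ht m g) := mul_assoc _ _ _
      _ = (-1) ^ d := by rw [h1, mul_one]
  rw [h3]
  exact neg_one_pow_eq_one_iff_even (neg_one_ne_one_units h2)

theorem toLin'_GL_mul {ι : Type} [Fintype ι] [DecidableEq ι] (a b : GL ι F)
    (U : Submodule F (ι → F)) :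
    U.map (Matrix.toLin' ((a * b : GL ι F) : Matrix ι ι F))
      = (U.map (Matrix.toLin' (b : Matrix ι ι F))).map (Matrix.toLin' (a : Matrix ι ι F)) := by
  rw [Units.val_mul, Matrix.toLin'_mul, Submodule.map_comp]

/-- `dHom g = 1` iff `g U` is in the class of `U`, for every totally singular `U` of dimension `m` -/
theorem dHom_eq_one_iff_even (h2 : (2 : F) ≠ 0) {t : Fin m ⊕ Fin m → F}
    (ht : plusForm m F t ≠ 0)
    (g : ↥(Cfsg.Geo.quadSimilarityGroup (F := F) ⇑(plusForm m F)))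
    {U : Submodule F (Fin m ⊕ Fin m → F)} (hU : IsTotSing (plusForm m F) U)
    (hUm : finrank F ↥U = m) :
    dHom (plusForm m F) ht m g = 1 ↔
      Even (m - finrank F ↥(U ⊓ U.map
        (Matrix.toLin' ((g.1 : GL (Fin m ⊕ Fin m) F) : Matrix (Fin m ⊕ Fin m) (Fin m ⊕ Fin m) F)))) := by
  obtain ⟨vs, hvs, -, hmap⟩ := exists_list_qRefl_map_eq (plusForm m F)
    (nondegenerate_plusForm m) hU hUm (finrank_plus_space m)
    _ (stdSing m F) (isTotSing_stdSing m) (finrank_stdSing m) rfl
  set K : ↥(Cfsg.isometryGroup F ⇑(plusForm m F)) := (vs.map (reflT (plusForm m F))).prod with hK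
  have hKlin : Matrix.toLin' ((K.1 : GL (Fin m ⊕ Fin m) F) : Matrix (Fin m ⊕ Fin m) (Fin m ⊕ Fin m) F)
      = (vs.map (Helper14.qRefl (plusForm m F))).prod := by
    rw [Matrix.toLin'_apply']
    exact mulVecLin_prod_reflT' (plusForm m F) vs hvs
  have hKU : (stdSing m F).map
      (Matrix.toLin' ((K.1 : GL (Fin m ⊕ Fin m) F) : Matrix (Fin m ⊕ Fin m) (Fin m ⊕ Fin m) F)) = U := by
    rw [hKlin, hmap]
  set g' : ↥(Cfsg.Geo.quadSimilarityGroup (F := F) ⇑(plusForm m F)) :=
    (toGO (plusForm m F) K)⁻¹ * g * toGO (plusForm m F) K with hg'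
  have hd : dHom (plusForm m F) ht m g' = dHom (plusForm m F) ht m g := by
    rw [hg', map_mul, map_mul, map_inv, mul_comm, ← mul_assoc, mul_inv_cancel, one_mul]
  rw [← hd, dHom_eq_one_iff_stdSing h2 ht g']
  have hKg : (K.1 : GL (Fin m ⊕ Fin m) F) * g'.1 = g.1 * K.1 := by
    rw [hg']
    show (K.1 : GL (Fin m ⊕ Fin m) F) * ((K.1)⁻¹ * g.1 * K.1) = g.1 * K.1
    group
  have e1 : U ⊓ U.map
      (Matrix.toLin' ((g.1 : GL (Fin m ⊕ Fin m) F) : Matrix (Fin m ⊕ Fin m) (Fin m ⊕ Fin m) F))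
      = (stdSing m F ⊓ (stdSing m F).map (Matrix.toLin'
        ((g'.1 : GL (Fin m ⊕ Fin m) F) : Matrix (Fin m ⊕ Fin m) (Fin m ⊕ Fin m) F))).map
        (Matrix.toLin' ((K.1 : GL (Fin m ⊕ Fin m) F) : Matrix (Fin m ⊕ Fin m) (Fin m ⊕ Fin m) F)) := by
    rw [Submodule.map_inf _ (toLin'_injective_of_GL K.1), hKU, ← toLin'_GL_mul, hKg,
      toLin'_GL_mul, hKU]
  rw [e1, finrank_map_sim]

/-- **class-preserving similarities are those with `det = μ ^ m`** -/
theorem preservesSingularClasses_iff (h2 : (2 : F) ≠ 0) {t : Fin m ⊕ Fin m → F}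
    (ht : plusForm m F t ≠ 0)
    (g : ↥(Cfsg.Geo.quadSimilarityGroup (F := F) ⇑(plusForm m F))) :
    Cfsg.PreservesSingularClasses (Cfsg.quadFormPlus m F)
      ((g.1 : GL (Fin m ⊕ Fin m) F) : Matrix (Fin m ⊕ Fin m) (Fin m ⊕ Fin m) F)
      ↔ dHom (plusForm m F) ht m g = 1 := by
  constructor
  · intro h
    have h1 := h (stdSing m F)
      (isMaxTotallySingular_of_finrank (isTotSing_stdSing m) (finrank_stdSing m))
    unfold Cfsg.SameParityClass Cfsg.imageSubmodule at h1
    rw [finrank_stdSing] at h1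
    exact (dHom_eq_one_iff_stdSing h2 ht g).2 h1
  · intro h U hU
    have hUm := finrank_of_isMaxTotallySingular hU
    unfold Cfsg.SameParityClass Cfsg.imageSubmodule
    rw [hUm]
    exact (dHom_eq_one_iff_even h2 ht g hU.1 hUm).1 h

end plus

end Cfsg.Agent.Helper44
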