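import Mathlib
import Cfsg.Prelude.Def_LieTypeDatum
import Cfsg.Agent.Helper44.PgoInn

/-!
# `PGO / Inn(PΩ)` is dihedral of order eight when `-1 ∈ Ω`
-/

set_option autoImplicit false

namespace Cfsg.Agent.Helper44

open Matrix QuadraticMap Module
open scoped commutatorElement

variable {F : Type*} [Field F] {ι : Type} [Fintype ι] [DecidableEq ι]
variable (Q : QuadraticForm F (ι → F))

section main

variable [Fintype F] (h2 : (2 : F) ≠ 0) (hQ : (QuadraticMap.polarBilin Q).Nondegenerate)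
  (hn : 7 ≤ Fintype.card ι)

/-- the projection `GO → PGO / Inn(PΩ)` -/
noncomputable abbrev piQ : ↥(Cfsg.Geo.quadSimilarityGroup (F := F) ⇑Q) →*
    ↥(conjAut ⇑Q).range ⧸ (Cfsg.Inn (Cfsg.POmega F ⇑Q)).subgroupOf (conjAut ⇑Q).range :=
  piHom (conjAut ⇑Q) (Cfsg.Inn (Cfsg.POmega F ⇑Q))

include hQ hn in
theorem piQ_toGO_eq_one_iff (hneg : negOne Q ∈ Cfsg.Omega F ⇑Q)
    (x : ↥(Cfsg.isometryGroup F ⇑Q)) : piQ Q (toGO Q x) = 1 ↔ x ∈ Cfsg.Omega F ⇑Q := by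
  rw [piQ, piHom_eq_one_iff, conjAut_toGO_mem_Inn_iff Q hQ hn hneg]

include hQ hn in
theorem piQ_toGO_comm (hneg : negOne Q ∈ Cfsg.Omega F ⇑Q)
    (a b : ↥(Cfsg.isometryGroup F ⇑Q)) :
    piQ Q (toGO Q a) * piQ Q (toGO Q b) = piQ Q (toGO Q b) * piQ Q (toGO Q a) := by
  have h1 : piQ Q (toGO Q (a * b * a⁻¹ * b⁻¹)) = 1 := by
    rw [piQ_toGO_eq_one_iff Q hQ hn hneg]
    have : a * b * a⁻¹ * b⁻¹ = ⁅a, b⁆ := rfl
    rw [this]
    exact Subgroup.commutator_mem_commutator (Subgroup.mem_top a) (Subgroup.mem_top b)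
  simp only [map_mul, map_inv] at h1
  rw [← mul_inv_eq_one, ← h1]
  group

theorem piQ_scalarGO (c : Fˣ) : piQ Q (scalarGO Q c) = 1 := by
  rw [piQ, piHom_eq_one_iff]
  have hk : scalarGO Q c ∈ (conjAut ⇑Q).ker :=
    mem_ker_of_mem_scalars ⇑Q _ (scalarGO_mem_scalars Q c)
  rw [MonoidHom.mem_ker.1 hk]
  exact one_mem _

include h2 hQ hn in
/-- `goChar` descends to the quotient `PGO / Inn(PΩ)` -/
theorem exists_gamma {t : ι → F} (ht : Q t ≠ 0) (m : ℕ) (hm : Fintype.card ι = 2 * m) :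
    ∃ γ : (↥(conjAut ⇑Q).range ⧸ (Cfsg.Inn (Cfsg.POmega F ⇑Q)).subgroupOf (conjAut ⇑Q).range)
        →* ℤˣ × ℤˣ, ∀ g, γ (piQ Q g) = goChar Q h2 hQ ht m hm g := by
  obtain ⟨φ₀, hφ₀⟩ := exists_hom_range (conjAut ⇑Q) (goChar Q h2 hQ ht m hm) (by
    intro g hg
    rw [MonoidHom.mem_ker]
    rw [ker_conjAut Q hQ hn, Subgroup.mem_subgroupOf, mem_scalars_iff_eq_scalarGO] at hg
    obtain ⟨c, rfl⟩ := hg
    exact goChar_scalarGO Q h2 hQ ht m hm c)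
  refine ⟨QuotientGroup.lift _ φ₀ ?_, fun g => ?_⟩
  · rintro ⟨α, hα⟩ hmem
    rw [Subgroup.mem_subgroupOf, Inn_eq_map] at hmem
    obtain ⟨r, hr, e⟩ := hmem
    have e' : (⟨α, hα⟩ : ↥(conjAut ⇑Q).range) = (conjAut ⇑Q).rangeRestrict r := Subtype.ext e.symm
    rw [e', MonoidHom.mem_ker, hφ₀]
    rw [SetLike.mem_coe, Subgroup.mem_subgroupOf] at hr
    exact goChar_of_mem_SO Q h2 hQ ht m hm r (OmegaGL_le_SO Q hr)
  · show QuotientGroup.lift _ φ₀ _ (QuotientGroup.mk' _ ((conjAut ⇑Q).rangeRestrict g)) = _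
    rw [QuotientGroup.mk'_apply, QuotientGroup.lift_mk, hφ₀]

include h2 hQ hn in
/-- the image of `SO` in `PGO / Inn(PΩ)` has at most two elements -/
theorem piQ_toGO_of_det_one (hneg : negOne Q ∈ Cfsg.Omega F ⇑Q) {ν : F} (hν : ¬ IsSquare ν)
    (a b : ↥(Cfsg.isometryGroup F ⇑Q)) (ha : detHom ⇑Q a = 1) (hb : detHom ⇑Q b = 1)
    (hsb : signChar ⇑Q ν b = -1) :
    piQ Q (toGO Q a) = 1 ∨ piQ Q (toGO Q a) = piQ Q (toGO Q b) := by
  rcases Int.units_eq_one_or (signChar ⇑Q ν a) with h | h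
  · left
    rw [piQ_toGO_eq_one_iff Q hQ hn hneg, mem_Omega_iff_signChar Q h2 hQ hν _ ha]
    exact h
  · right
    have h1 : piQ Q (toGO Q (a * b⁻¹)) = 1 := by
      rw [piQ_toGO_eq_one_iff Q hQ hn hneg, mem_Omega_iff_signChar Q h2 hQ hν _
        (by rw [map_mul, map_inv, ha, hb, inv_one, one_mul]), map_mul, map_inv, h, hsb]
      decide
    rw [map_mul, map_mul, map_inv, map_inv, mul_inv_eq_one] at h1
    exact h1

include h2 hQ hn in
/-- if `-1 ∈ Ω`: `PGO / Inn(PΩ)` is dihedral of order eight -/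
theorem pgoAut_mod_Inn_of_mem (m : ℕ) (hm : Fintype.card ι = 2 * m)
    (hneg : negOne Q ∈ Cfsg.Omega F ⇑Q) :
    ∃ φ : ↥(Cfsg.pgoAut F ⇑Q) →* DihedralGroup 4, Function.Surjective φ ∧
      φ.ker = (Cfsg.Inn (Cfsg.POmega F ⇑Q)).subgroupOf (Cfsg.pgoAut F ⇑Q) := by
  rw [pgoAut_eq_map]
  obtain ⟨t, _, _, ht⟩ := exists_nonsingular_perp_pair Q hQ
    (by rw [Module.finrank_fintype_fun_eq_card]; omega) 0 0
  obtain ⟨ν, hν⟩ := FiniteField.exists_nonsquare (ringChar_ne_two_of_two_ne_zero h2)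
  have hν0 : ν ≠ 0 := by
    rintro rfl
    exact hν ⟨0, by simp⟩
  obtain ⟨g₁, hg₁⟩ := exists_similarity_GL Q hQ ⟨m, by rw [hm, two_mul]⟩ (by omega) ν hν0
  set c : Fˣ := Units.mk0 ν hν0 with hc
  set δ : ↥(Cfsg.Geo.quadSimilarityGroup (F := F) ⇑Q) := ⟨g₁, ⟨c, hg₁⟩⟩ with hδ
  have hmδ : multHom ⇑Q ht δ = c := multHom_eq ⇑Q ht δ _ hg₁
  have ht' : Q ((δ.1 : Matrix ι ι F) *ᵥ t) ≠ 0 := by
    rw [hg₁]; exact mul_ne_zero hν0 ht
  obtain ⟨γ, hγ⟩ := exists_gamma Q h2 hQ hn ht m hm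
  -- determinant and spinor character of `ρ = r₀ r₁`
  have hdet : detHom ⇑Q (refl Q t ht * refl Q _ ht') = 1 := by
    rw [map_mul, ← reflT_of_ne Q t ht, ← reflT_of_ne Q _ ht', detHom_reflT Q t ht,
      detHom_reflT Q _ ht']
    simp
  have hsign : signChar ⇑Q ν (refl Q t ht * refl Q _ ht') = -1 := by
    rw [map_mul, ← reflT_of_ne Q t ht, ← reflT_of_ne Q _ ht']
    by_cases hs : IsSquare (Q t)
    · rw [(signChar_reflT Q h2 hν t ht).1 hs, (signChar_reflT Q h2 hν _ ht').2 (by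
        rw [hg₁, mul_comm, isSquare_mul_nonsquare_iff ht hν]; exact not_not.2 hs), one_mul]
    · rw [(signChar_reflT Q h2 hν t ht).2 hs, (signChar_reflT Q h2 hν _ ht').1 (by
        rw [hg₁, mul_comm, isSquare_mul_nonsquare_iff ht hν]; exact hs), mul_one]
  apply exists_hom_of_quot_equiv
  apply Classical.choice
  apply nonempty_mulEquiv_dihedral_four (card_quot_eq_eight Q h2 hQ hn m hm hneg)
    (piQ Q (toGO Q (refl Q t ht))) (piQ Q δ) (piQ Q (toGO Q (refl Q t ht * refl Q _ ht'))) γ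
  -- `x * x = 1`
  · rw [← map_mul, ← map_mul, refl_mul_self, map_one, map_one]
  -- `y ≠ 1`
  · rw [Ne, piQ_toGO_eq_one_iff Q hQ hn hneg, mem_Omega_iff_signChar Q h2 hQ hν _ hdet, hsign]
    decide
  -- `y * y = 1`
  · rw [← map_mul, ← map_mul, piQ_toGO_eq_one_iff Q hQ hn hneg, mem_Omega_iff_signChar Q h2 hQ hν _
      (by rw [map_mul, hdet, one_mul]), map_mul, hsign]
    decide
  -- `d * d ∈ {1, y}`
  · set s : ↥(Cfsg.Geo.quadSimilarityGroup (F := F) ⇑Q) := δ * δ * (scalarGO Q c)⁻¹ with hs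
    have hms : multHom ⇑Q ht s = 1 := by
      rw [hs, map_mul, map_mul, map_inv, hmδ, multHom_scalarGO, mul_inv_cancel]
    have hsO : s.1 ∈ Cfsg.isometryGroup F ⇑Q := mem_isometryGroup_of_multHom ⇑Q ht s hms
    have hds : dHom Q ht m s = 1 := by
      rw [hs, map_mul, map_mul, map_inv, dHom_scalarGO Q ht m hm, inv_one, mul_one]
      rcases dHom_eq_one_or Q ht m hm hQ δ with h | h <;> rw [h] <;> simp
    have hdet' : detHom ⇑Q (⟨s.1, hsO⟩ : ↥(Cfsg.isometryGroup F ⇑Q)) = 1 := by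
      rw [dHom_apply, hms, inv_one, one_pow, mul_one] at hds
      exact hds
    have e1 : piQ Q δ * piQ Q δ = piQ Q (toGO Q ⟨s.1, hsO⟩) := by
      have e2 : toGO Q ⟨s.1, hsO⟩ = s := Subtype.ext rfl
      rw [e2, hs, map_mul, map_mul, map_inv, piQ_scalarGO, inv_one, mul_one]
    rw [e1]
    exact piQ_toGO_of_det_one Q h2 hQ hn hneg hν _ _ hdet' hdet hsign
  -- `d * x * d⁻¹ = x * y`
  · rw [← map_inv, ← map_mul, ← map_mul, sim_conj_refl Q δ t ht ht', ← map_mul, ← map_mul,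
      ← mul_assoc, refl_mul_self, one_mul]
  -- `x * y * x⁻¹ = y`
  · rw [mul_inv_eq_iff_eq_mul]
    exact piQ_toGO_comm Q hQ hn hneg _ _
  -- `γ x = (1, -1)`
  · rw [hγ]
    exact goChar_reflGO Q h2 hQ ht m hm
  -- `(γ d).1 = -1`
  · rw [hγ, goChar, MonoidHom.prod_apply, MonoidHom.comp_apply, hmδ]
    rcases Int.units_eq_one_or (sqChar F c) with h | h
    · rw [sqChar_eq_one_iff, hc, Units.val_mk0] at h
      exact absurd h hν
    · exact h
  -- `γ y = 1`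
  · rw [hγ]
    exact goChar_of_mem_SO Q h2 hQ ht m hm _ ⟨(refl Q t ht * refl Q _ ht').2, hdet⟩

end main

end Cfsg.Agent.Helper44
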