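import Mathlib
import Cfsg.Prelude.Def_LieTypeDatum

/-!
# Transport of `PreservesSingularClasses` along an isometry of quadratic spaces
-/

set_option autoImplicit false

namespace Cfsg.Agent.Helper44

open Matrix Module

variable {K : Type*} [Field K] {ι κ : Type} [Fintype ι] [DecidableEq ι] [Fintype κ] [DecidableEq κ]

theorem isMaxTotallySingular_map (Q : (ι → K) → K) (Q' : (κ → K) → K)
    (T : (ι → K) ≃ₗ[K] (κ → K)) (hT : ∀ v, Q' (T v) = Q v) (U : Submodule K (ι → K))
    (hU : Cfsg.IsMaxTotallySingular Q U) :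
    Cfsg.IsMaxTotallySingular Q' (U.map (T : (ι → K) →ₗ[K] (κ → K))) := by
  refine ⟨?_, fun W hW hUW => ?_⟩
  · rintro _ ⟨u, hu, rfl⟩
    show Q' (T u) = 0
    rw [hT]
    exact hU.1 u hu
  · have hW' : Cfsg.Geo.IsTotallySingularQuad Q (W.map (T.symm : (κ → K) →ₗ[K] (ι → K))) := by
      rintro _ ⟨w, hw, rfl⟩
      show Q (T.symm w) = 0
      rw [← hT, LinearEquiv.apply_symm_apply]
      exact hW w hw
    have hle : U ≤ W.map (T.symm : (κ → K) →ₗ[K] (ι → K)) := by
      intro u hu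
      refine ⟨T u, hUW ⟨u, hu, rfl⟩, ?_⟩
      show T.symm (T u) = u
      exact T.symm_apply_apply u
    have h1 := hU.2 _ hW' hle
    rw [← h1, ← Submodule.map_comp]
    have : (T : (ι → K) →ₗ[K] (κ → K)) ∘ₗ (T.symm : (κ → K) →ₗ[K] (ι → K)) = LinearMap.id := by
      exact LinearMap.ext fun w => by simp
    rw [this, Submodule.map_id]

/-- transport of `PreservesSingularClasses` (one direction) -/
theorem preservesSingularClasses_of_transport (Q : (ι → K) → K) (Q' : (κ → K) → K)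
    (T : (ι → K) ≃ₗ[K] (κ → K)) (hT : ∀ v, Q' (T v) = Q v)
    (g : Matrix ι ι K) (g' : Matrix κ κ K) (hg : ∀ v, g' *ᵥ (T v) = T (g *ᵥ v))
    (h : Cfsg.PreservesSingularClasses Q g) : Cfsg.PreservesSingularClasses Q' g' := by
  intro U' hU'
  have hTs : ∀ w, Q (T.symm w) = Q' w := fun w => by
    rw [← hT, LinearEquiv.apply_symm_apply]
  obtain ⟨U, hUdef⟩ : ∃ U : Submodule K (ι → K),
      U = U'.map (T.symm : (κ → K) →ₗ[K] (ι → K)) := ⟨_, rfl⟩
  have hU : Cfsg.IsMaxTotallySingular Q U := by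
    rw [hUdef]
    exact isMaxTotallySingular_map Q' Q T.symm hTs U' hU'
  have hUU' : U.map (T : (ι → K) →ₗ[K] (κ → K)) = U' := by
    rw [hUdef, ← Submodule.map_comp]
    have : (T : (ι → K) →ₗ[K] (κ → K)) ∘ₗ (T.symm : (κ → K) →ₗ[K] (ι → K)) = LinearMap.id :=
      LinearMap.ext fun w => by simp
    rw [this, Submodule.map_id]
  clear hUdef
  subst hUU'
  have h1 := h U hU
  unfold Cfsg.SameParityClass Cfsg.imageSubmodule at h1 ⊢
  have hTinj : Function.Injective (T : (ι → K) →ₗ[K] (κ → K)) := T.injective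
  have e1 : finrank K ↥(U.map (T : (ι → K) →ₗ[K] (κ → K))) = finrank K ↥U :=
    (LinearEquiv.finrank_eq (Submodule.equivMapOfInjective _ hTinj U)).symm
  have hc : (Matrix.toLin' g') ∘ₗ (T : (ι → K) →ₗ[K] (κ → K))
      = (T : (ι → K) →ₗ[K] (κ → K)) ∘ₗ (Matrix.toLin' g) :=
    LinearMap.ext fun v => by
      simp only [LinearMap.comp_apply, Matrix.toLin'_apply, LinearEquiv.coe_coe]
      exact hg v
  have e2 : (U.map (T : (ι → K) →ₗ[K] (κ → K))).map (Matrix.toLin' g')
      = (U.map (Matrix.toLin' g)).map (T : (ι → K) →ₗ[K] (κ → K)) := by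
    rw [← Submodule.map_comp, ← Submodule.map_comp, hc]
  have e3 : finrank K ↥(U.map (T : (ι → K) →ₗ[K] (κ → K)) ⊓
        (U.map (T : (ι → K) →ₗ[K] (κ → K))).map (Matrix.toLin' g'))
      = finrank K ↥(U ⊓ U.map (Matrix.toLin' g)) := by
    rw [e2, ← Submodule.map_inf _ hTinj]
    exact (LinearEquiv.finrank_eq (Submodule.equivMapOfInjective _ hTinj _)).symm
  rw [e1, e3]
  exact h1

/-- transport of `PreservesSingularClasses` along an isometry -/
theorem preservesSingularClasses_transport (Q : (ι → K) → K) (Q' : (κ → K) → K)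
    (T : (ι → K) ≃ₗ[K] (κ → K)) (hT : ∀ v, Q' (T v) = Q v)
    (g : Matrix ι ι K) (g' : Matrix κ κ K) (hg : ∀ v, g' *ᵥ (T v) = T (g *ᵥ v)) :
    Cfsg.PreservesSingularClasses Q g ↔ Cfsg.PreservesSingularClasses Q' g' := by
  refine ⟨preservesSingularClasses_of_transport Q Q' T hT g g' hg, ?_⟩
  apply preservesSingularClasses_of_transport Q' Q T.symm
  · intro w
    rw [← hT, LinearEquiv.apply_symm_apply]
  · intro w
    apply T.injective
    rw [LinearEquiv.apply_symm_apply, ← hg, LinearEquiv.apply_symm_apply]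

end Cfsg.Agent.Helper44
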