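import Mathlib
import Cfsg.Agent.Helper44.StdNondeg
import Cfsg.Agent.Helper44.SimChar

/-!
# Base change of similarities of the minus form
-/

set_option autoImplicit false

namespace Cfsg.Agent.Helper44

open Matrix Module

variable {F K : Type*} [Field F] [Field K]

theorem gramPlus_map (m : ℕ) (φ : F →+* K) : (gramPlus m F).map φ = gramPlus m K := by
  unfold gramPlus
  rw [Matrix.fromBlocks_map]
  simp [Matrix.map_zero, Matrix.map_one]

theorem gramMinus_map (m : ℕ) (φ : F →+* K) (a b : F) :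
    (gramMinus m F a b).map φ = gramMinus m K (φ a) (φ b) := by
  unfold gramMinus
  rw [Matrix.fromBlocks_map, gramPlus_map]
  congr 1
  · simp [Matrix.map_zero]
  · simp [Matrix.map_zero]
  · ext i j
    fin_cases i <;> fin_cases j <;> simp [map_ofNat]

theorem two_mul_quadFormMinus (m : ℕ) (a b : K) (v : (Fin m ⊕ Fin m) ⊕ Fin 2 → K) :
    2 * Cfsg.quadFormMinus m K a b v = v ⬝ᵥ (gramMinus m K a b *ᵥ v) := by
  have h1 := polar_quadFormMinus_eq_toBilin' m a b v v
  rw [Matrix.toBilin'_apply'] at h1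
  rw [← h1]
  have h2 := QuadraticMap.polar_self (minusForm m K a b) v
  rw [minusForm_coe] at h2
  rw [h2, nsmul_eq_mul]
  norm_num

/-- a similarity of the minus form over `F` stays a similarity over any extension -/
theorem quadFormMinus_map_sim (m : ℕ) (h2 : (2 : K) ≠ 0) (φ : F →+* K) (a b : F)
    (A : Matrix ((Fin m ⊕ Fin m) ⊕ Fin 2) ((Fin m ⊕ Fin m) ⊕ Fin 2) F) (μ : F)
    (hA : ∀ u, Cfsg.quadFormMinus m F a b (A *ᵥ u) = μ * Cfsg.quadFormMinus m F a b u)
    (v : (Fin m ⊕ Fin m) ⊕ Fin 2 → K) :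
    Cfsg.quadFormMinus m K (φ a) (φ b) ((A.map φ) *ᵥ v)
      = φ μ * Cfsg.quadFormMinus m K (φ a) (φ b) v := by
  have h1 := transpose_mul_polarMatrix_mul_sim (minusForm m F a b) A μ hA
  rw [polarBilin_minusForm, LinearMap.BilinForm.toMatrix'_toBilin'] at h1
  have h3 : (A.map φ)ᵀ * gramMinus m K (φ a) (φ b) * (A.map φ)
      = φ μ • gramMinus m K (φ a) (φ b) := by
    have := congrArg (fun M : Matrix ((Fin m ⊕ Fin m) ⊕ Fin 2) ((Fin m ⊕ Fin m) ⊕ Fin 2) F =>
      M.map φ) h1
    have e : (μ • gramMinus m F a b).map φ = φ μ • (gramMinus m F a b).map φ := by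
      ext i j
      simp [Matrix.map_apply, Matrix.smul_apply]
    simp only [Matrix.map_mul, Matrix.transpose_map] at this
    rw [e, gramMinus_map] at this
    exact this
  apply mul_left_cancel₀ h2
  rw [two_mul_quadFormMinus, ← mul_assoc, mul_comm 2 (φ μ), mul_assoc, two_mul_quadFormMinus,
    Matrix.mulVec_mulVec, Matrix.dotProduct_mulVec, Matrix.vecMul_mulVec, ← Matrix.dotProduct_mulVec,
    ← Matrix.mul_assoc, h3, Matrix.smul_mulVec, dotProduct_smul, smul_eq_mul]

end Cfsg.Agent.Helper44
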