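import Mathlib
import Cfsg.Prelude.Def_LieTypeDatum

/-!
# The minus form becomes the plus form once the binary part splits

If `ζ + ζ' = -a`, `ζ ζ' = b` and `ζ ≠ ζ'` then
`z₁² + a z₁ z₂ + b z₂² = (z₁ - ζ z₂)(z₁ - ζ' z₂)` and `quadFormMinus m K a b` is carried to
`quadFormPlus (m+1) K` by a linear isomorphism.
-/

set_option autoImplicit false

namespace Cfsg.Agent.Helper44

open Matrix Module

variable {K : Type*} [Field K] (m : ℕ) (ζ ζ' : K)

/-- the map splitting the binary part -/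
def splitFun (v : (Fin m ⊕ Fin m) ⊕ Fin 2 → K) : Fin (m + 1) ⊕ Fin (m + 1) → K :=
  Sum.elim
    (Fin.lastCases (v (Sum.inr 0) - ζ * v (Sum.inr 1)) (fun i => v (Sum.inl (Sum.inl i))))
    (Fin.lastCases (v (Sum.inr 0) - ζ' * v (Sum.inr 1)) (fun i => v (Sum.inl (Sum.inr i))))

@[simp] theorem splitFun_inl_castSucc (v : (Fin m ⊕ Fin m) ⊕ Fin 2 → K) (i : Fin m) :
    splitFun m ζ ζ' v (Sum.inl i.castSucc) = v (Sum.inl (Sum.inl i)) := by
  simp [splitFun]

@[simp] theorem splitFun_inr_castSucc (v : (Fin m ⊕ Fin m) ⊕ Fin 2 → K) (i : Fin m) :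
    splitFun m ζ ζ' v (Sum.inr i.castSucc) = v (Sum.inl (Sum.inr i)) := by
  simp [splitFun]

@[simp] theorem splitFun_inl_last (v : (Fin m ⊕ Fin m) ⊕ Fin 2 → K) :
    splitFun m ζ ζ' v (Sum.inl (Fin.last m)) = v (Sum.inr 0) - ζ * v (Sum.inr 1) := by
  simp [splitFun]

@[simp] theorem splitFun_inr_last (v : (Fin m ⊕ Fin m) ⊕ Fin 2 → K) :
    splitFun m ζ ζ' v (Sum.inr (Fin.last m)) = v (Sum.inr 0) - ζ' * v (Sum.inr 1) := by
  simp [splitFun]

/-- the splitting map as a linear map -/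
def splitLin : ((Fin m ⊕ Fin m) ⊕ Fin 2 → K) →ₗ[K] (Fin (m + 1) ⊕ Fin (m + 1) → K) where
  toFun := splitFun m ζ ζ'
  map_add' u v := by
    funext k
    rcases k with j | j <;> refine Fin.lastCases ?_ (fun i => ?_) j <;>
      simp only [Pi.add_apply, splitFun_inl_castSucc, splitFun_inr_castSucc, splitFun_inl_last,
        splitFun_inr_last] <;> ring
  map_smul' c v := by
    funext k
    rcases k with j | j <;> refine Fin.lastCases ?_ (fun i => ?_) j <;>
      simp only [Pi.smul_apply, smul_eq_mul, RingHom.id_apply, splitFun_inl_castSucc,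
        splitFun_inr_castSucc, splitFun_inl_last, splitFun_inr_last] <;> ring

theorem splitLin_apply (v : (Fin m ⊕ Fin m) ⊕ Fin 2 → K) :
    splitLin m ζ ζ' v = splitFun m ζ ζ' v := rfl

theorem quadFormPlus_splitFun {a b : K} (h1 : ζ + ζ' = -a) (h2 : ζ * ζ' = b)
    (v : (Fin m ⊕ Fin m) ⊕ Fin 2 → K) :
    Cfsg.quadFormPlus (m + 1) K (splitFun m ζ ζ' v) = Cfsg.quadFormMinus m K a b v := by
  unfold Cfsg.quadFormPlus Cfsg.quadFormMinus
  rw [Fin.sum_univ_castSucc]
  simp only [splitFun_inl_castSucc, splitFun_inr_castSucc, splitFun_inl_last, splitFun_inr_last]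
  have ha : a = -(ζ + ζ') := by rw [h1, neg_neg]
  rw [ha, ← h2]
  ring

theorem splitLin_injective (h : ζ ≠ ζ') : Function.Injective (splitLin m ζ ζ') := by
  rw [← LinearMap.ker_eq_bot, LinearMap.ker_eq_bot']
  intro v hv
  rw [splitLin_apply] at hv
  have hl : ∀ k, splitFun m ζ ζ' v k = 0 := fun k => by rw [hv]; rfl
  have e1 := hl (Sum.inl (Fin.last m))
  have e2 := hl (Sum.inr (Fin.last m))
  rw [splitFun_inl_last] at e1
  rw [splitFun_inr_last] at e2
  have h3 : (ζ - ζ') * v (Sum.inr 1) = 0 := by linear_combination e2 - e1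
  have h4 : v (Sum.inr 1) = 0 := by
    rcases mul_eq_zero.1 h3 with h5 | h5
    · exact absurd (sub_eq_zero.1 h5) h
    · exact h5
  have h5 : v (Sum.inr 0) = 0 := by
    rw [h4, mul_zero, sub_zero] at e1
    exact e1
  funext k
  rcases k with (i | i) | i
  · have := hl (Sum.inl i.castSucc)
    rw [splitFun_inl_castSucc] at this
    exact this
  · have := hl (Sum.inr i.castSucc)
    rw [splitFun_inr_castSucc] at this
    exact this
  · fin_cases i
    · exact h5
    · exact h4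

/-- the splitting isomorphism -/
noncomputable def splitEquiv (h : ζ ≠ ζ') :
    ((Fin m ⊕ Fin m) ⊕ Fin 2 → K) ≃ₗ[K] (Fin (m + 1) ⊕ Fin (m + 1) → K) :=
  LinearMap.linearEquivOfInjective (splitLin m ζ ζ') (splitLin_injective m ζ ζ' h) (by
    rw [Module.finrank_fintype_fun_eq_card, Module.finrank_fintype_fun_eq_card]
    simp only [Fintype.card_sum, Fintype.card_fin]
    ring)

theorem splitEquiv_apply (h : ζ ≠ ζ') (v : (Fin m ⊕ Fin m) ⊕ Fin 2 → K) :
    splitEquiv m ζ ζ' h v = splitFun m ζ ζ' v := rfl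

theorem quadFormPlus_splitEquiv (h : ζ ≠ ζ') {a b : K} (h1 : ζ + ζ' = -a) (h2 : ζ * ζ' = b)
    (v : (Fin m ⊕ Fin m) ⊕ Fin 2 → K) :
    Cfsg.quadFormPlus (m + 1) K (splitEquiv m ζ ζ' h v) = Cfsg.quadFormMinus m K a b v := by
  rw [splitEquiv_apply]
  exact quadFormPlus_splitFun m ζ ζ' h1 h2 v

end Cfsg.Agent.Helper44
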