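import Mathlib
import Cfsg.Prelude.Def_LieTypeDatum
import Cfsg.Agent.Helper44.PlusClasses
import Cfsg.Agent.Helper44.ClassTransport
import Cfsg.Agent.Helper44.MinusSplit
import Cfsg.Agent.Helper44.MinusBaseChange
import Cfsg.Agent.Helper45.Isometry

/-!
# Similarities of the minus form and the two classes of maximal totally singular subspaces
over the quadratic extension

For a similarity `g` of `quadFormMinus m F a b` (`2 ≠ 0`, anisotropic binary part):
`g` satisfies `PreservesSingularClassesMinus` iff `det g = μ ^ (m+1)`.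
-/

set_option autoImplicit false

namespace Cfsg.Agent.Helper44

open Matrix QuadraticMap Module

variable {F : Type*} [Field F] {m : ℕ}

section core

variable {K : Type*} [Field K] [Algebra F K]

theorem preservesSingularClasses_minus_iff_aux (h2 : (2 : F) ≠ 0) (hm : 2 ≤ m) (a b : F)
    {t : (Fin m ⊕ Fin m) ⊕ Fin 2 → F} (ht : minusForm m F a b t ≠ 0) (ζ : K)
    (hζ : ζ ^ 2 + algebraMap F K a * ζ + algebraMap F K b = 0)
    (hζ2 : 2 * ζ + algebraMap F K a ≠ 0)
    (g : ↥(Cfsg.Geo.quadSimilarityGroup (F := F) ⇑(minusForm m F a b))) :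
    Cfsg.PreservesSingularClasses
        (Cfsg.quadFormMinus m K (algebraMap F K a) (algebraMap F K b))
        (((g.1 : GL ((Fin m ⊕ Fin m) ⊕ Fin 2) F) :
          Matrix ((Fin m ⊕ Fin m) ⊕ Fin 2) ((Fin m ⊕ Fin m) ⊕ Fin 2) F).map (algebraMap F K))
      ↔ dHom (minusForm m F a b) ht (m + 1) g = 1 := by
  set φ : F →+* K := algebraMap F K with hφ
  have hφinj : Function.Injective φ := (algebraMap F K).injective
  have h2K : (2 : K) ≠ 0 := by
    intro h
    apply h2
    apply hφinj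
    rw [map_ofNat, map_zero]
    exact h
  set ζ' : K := -φ a - ζ with hζ'
  have h1 : ζ + ζ' = -φ a := by rw [hζ']; ring
  have h3 : ζ * ζ' = φ b := by rw [hζ']; linear_combination -hζ
  have hne : ζ ≠ ζ' := by
    intro h
    apply hζ2
    rw [hζ'] at h
    linear_combination h
  set T := splitEquiv m ζ ζ' hne with hT
  have hTQ : ∀ v, Cfsg.quadFormPlus (m + 1) K (T v) = Cfsg.quadFormMinus m K (φ a) (φ b) v :=
    quadFormPlus_splitEquiv m ζ ζ' hne h1 h3
  -- the base-changed similarity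
  set μ : Fˣ := multHom ⇑(minusForm m F a b) ht g with hμ
  have hsimF : ∀ u, Cfsg.quadFormMinus m F a b
      (((g.1 : GL ((Fin m ⊕ Fin m) ⊕ Fin 2) F) :
        Matrix ((Fin m ⊕ Fin m) ⊕ Fin 2) ((Fin m ⊕ Fin m) ⊕ Fin 2) F) *ᵥ u)
      = (μ : F) * Cfsg.quadFormMinus m F a b u := fun u => multFun_spec ⇑(minusForm m F a b) g u
  set gK : GL ((Fin m ⊕ Fin m) ⊕ Fin 2) K := Matrix.GeneralLinearGroup.map φ g.1 with hgK
  have hgKcoe : (gK : Matrix ((Fin m ⊕ Fin m) ⊕ Fin 2) ((Fin m ⊕ Fin m) ⊕ Fin 2) K)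
      = ((g.1 : GL ((Fin m ⊕ Fin m) ⊕ Fin 2) F) :
        Matrix ((Fin m ⊕ Fin m) ⊕ Fin 2) ((Fin m ⊕ Fin m) ⊕ Fin 2) F).map φ := rfl
  have hsimK : ∀ v, Cfsg.quadFormMinus m K (φ a) (φ b)
      ((gK : Matrix ((Fin m ⊕ Fin m) ⊕ Fin 2) ((Fin m ⊕ Fin m) ⊕ Fin 2) K) *ᵥ v)
      = φ μ * Cfsg.quadFormMinus m K (φ a) (φ b) v := fun v => by
    rw [hgKcoe]
    exact quadFormMinus_map_sim m h2K φ a b _ μ hsimF v
  -- the conjugated similarity of the plus form
  set e : (Fin (m + 1) ⊕ Fin (m + 1) → K) ≃ₗ[K] (Fin (m + 1) ⊕ Fin (m + 1) → K) :=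
    (T.symm.trans (Helper45.WittQuad.linOfGL gK)).trans T with he
  set g' : GL (Fin (m + 1) ⊕ Fin (m + 1)) K := Helper45.WittQuad.glOfLin e with hg'
  have hg'T : ∀ v, (g' : Matrix (Fin (m + 1) ⊕ Fin (m + 1)) (Fin (m + 1) ⊕ Fin (m + 1)) K) *ᵥ (T v)
      = T ((gK : Matrix ((Fin m ⊕ Fin m) ⊕ Fin 2) ((Fin m ⊕ Fin m) ⊕ Fin 2) K) *ᵥ v) := by
    intro v
    rw [hg', Helper45.WittQuad.glOfLin_mulVec, he]
    simp only [LinearEquiv.trans_apply, LinearEquiv.symm_apply_apply,
      Helper45.WittQuad.linOfGL_apply]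
  have hsim' : ∀ w, plusForm (m + 1) K
      ((g' : Matrix (Fin (m + 1) ⊕ Fin (m + 1)) (Fin (m + 1) ⊕ Fin (m + 1)) K) *ᵥ w)
      = ((Units.map (φ : F →* K) μ : Kˣ) : K) * plusForm (m + 1) K w := by
    intro w
    obtain ⟨v, rfl⟩ := T.surjective w
    rw [hg'T]
    show Cfsg.quadFormPlus (m + 1) K (T _) = _ * Cfsg.quadFormPlus (m + 1) K (T v)
    rw [hTQ, hTQ, hsimK]
    rfl
  have hmem : g' ∈ Cfsg.Geo.quadSimilarityGroup (F := K) ⇑(plusForm (m + 1) K) :=
    ⟨Units.map (φ : F →* K) μ, hsim'⟩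
  -- a nonsingular vector for the plus form
  obtain ⟨t', -, -, ht'⟩ := exists_nonsingular_perp_pair (plusForm (m + 1) K)
    (nondegenerate_plusForm (m + 1))
    (by rw [finrank_plus_space]; omega) 0 0
  rw [preservesSingularClasses_transport _ (Cfsg.quadFormPlus (m + 1) K) T hTQ _
    (g' : Matrix (Fin (m + 1) ⊕ Fin (m + 1)) (Fin (m + 1) ⊕ Fin (m + 1)) K)
    (fun v => by rw [← hgKcoe]; exact hg'T v)]
  have hp := preservesSingularClasses_iff h2K ht' (⟨g', hmem⟩ :
    ↥(Cfsg.Geo.quadSimilarityGroup (F := K) ⇑(plusForm (m + 1) K)))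
  rw [hp]
  -- compare the two `dHom`s
  have hdet : Matrix.GeneralLinearGroup.det g'
      = Units.map (φ : F →* K) (Matrix.GeneralLinearGroup.det g.1) := by
    apply Units.ext
    rw [Matrix.GeneralLinearGroup.val_det_apply, Units.coe_map,
      Matrix.GeneralLinearGroup.val_det_apply]
    show (LinearMap.toMatrix' e.toLinearMap).det = _
    rw [LinearMap.det_toMatrix']
    have hec : e.toLinearMap = (T : _ →ₗ[K] _) ∘ₗ
        (Matrix.toLin' (gK : Matrix ((Fin m ⊕ Fin m) ⊕ Fin 2) ((Fin m ⊕ Fin m) ⊕ Fin 2) K))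
          ∘ₗ (T.symm : _ →ₗ[K] _) := by
      refine LinearMap.ext fun w => ?_
      rfl
    rw [hec, LinearMap.det_conj, LinearMap.det_toLin', hgKcoe]
    exact (RingHom.map_det φ _).symm
  have hmult : multHom ⇑(plusForm (m + 1) K) ht' ⟨g', hmem⟩ = Units.map (φ : F →* K) μ :=
    multHom_eq ⇑(plusForm (m + 1) K) ht' _ _ hsim'
  rw [dHom_apply, dHom_apply, hmult]
  show Matrix.GeneralLinearGroup.det g' * _ = 1 ↔ _
  rw [hdet, ← map_inv, ← map_pow, ← map_mul]
  constructor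
  · intro h
    apply Units.map_injective hφinj
    exact h.trans (map_one _).symm
  · intro h
    have h' : Matrix.GeneralLinearGroup.det g.1 * μ⁻¹ ^ (m + 1) = 1 := h
    rw [h', map_one]

end core

section main

open Polynomial in
/-- a quadratic extension in the same universe -/
theorem exists_quadratic_extension {F : Type*} [Field F] (a b : F)
    (hab : ∀ z₁ z₂ : F, z₁ ^ 2 + a * z₁ * z₂ + b * z₂ ^ 2 = 0 → z₁ = 0 ∧ z₂ = 0) :
    ∃ f : F[X], ∃ _ : Fact (Irreducible f), Module.finrank F (AdjoinRoot f) = 2 := by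
  let f : F[X] := X ^ 2 + C a * X + C b
  have hf : f = X ^ 2 + C a * X + C b := rfl
  have hdeg : f.natDegree = 2 := by rw [hf]; compute_degree!
  have hmonic : f.Monic := by rw [hf]; monicity!
  have hirr : Irreducible f := by
    rw [Polynomial.Monic.irreducible_iff_roots_eq_zero_of_degree_le_three hmonic (by omega) (by omega)]
    rw [Multiset.eq_zero_iff_forall_notMem]
    intro x hx
    rw [mem_roots hmonic.ne_zero, IsRoot, hf] at hx
    simp only [eval_add, eval_pow, eval_X, eval_mul, eval_C] at hx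
    have := hab x 1 (by rw [← hx]; ring)
    exact one_ne_zero this.2
  refine ⟨f, ⟨hirr⟩, ?_⟩
  rw [(AdjoinRoot.powerBasis hmonic.ne_zero).finrank, AdjoinRoot.powerBasis_dim, hdeg]

variable [Fintype F]

/-- **class-preserving similarities of the minus form are those with `det = μ ^ (m+1)`** -/
theorem preservesSingularClassesMinus_iff (h2 : (2 : F) ≠ 0) (hm : 2 ≤ m) (a b : F)
    (hab : ∀ z₁ z₂ : F, z₁ ^ 2 + a * z₁ * z₂ + b * z₂ ^ 2 = 0 → z₁ = 0 ∧ z₂ = 0)
    {t : (Fin m ⊕ Fin m) ⊕ Fin 2 → F} (ht : minusForm m F a b t ≠ 0)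
    (g : ↥(Cfsg.Geo.quadSimilarityGroup (F := F) ⇑(minusForm m F a b))) :
    Cfsg.PreservesSingularClassesMinus m a b
        ((g.1 : GL ((Fin m ⊕ Fin m) ⊕ Fin 2) F) :
          Matrix ((Fin m ⊕ Fin m) ⊕ Fin 2) ((Fin m ⊕ Fin m) ⊕ Fin 2) F)
      ↔ dHom (minusForm m F a b) ht (m + 1) g = 1 := by
  constructor
  · rintro ⟨K, _, _, hfin, hP⟩
    haveI : Module.Finite F K := Module.finite_of_finrank_pos (by rw [hfin]; norm_num)
    haveI : Finite K := Module.finite_of_finite F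
    haveI : Fintype K := Fintype.ofFinite K
    obtain ⟨ζ, hζ, hζ2⟩ := Helper45.exists_root_of_aniso hfin a b hab
    exact (preservesSingularClasses_minus_iff_aux h2 hm a b ht ζ hζ hζ2 g).1 hP
  · intro h
    obtain ⟨f, hf, hfin⟩ := exists_quadratic_extension a b hab
    haveI : Module.Finite F (AdjoinRoot f) :=
      Module.finite_of_finrank_pos (by rw [hfin]; norm_num)
    haveI : Finite (AdjoinRoot f) := Module.finite_of_finite F
    haveI : Fintype (AdjoinRoot f) := Fintype.ofFinite _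
    obtain ⟨ζ, hζ, hζ2⟩ := Helper45.exists_root_of_aniso hfin a b hab
    exact ⟨AdjoinRoot f, inferInstance, inferInstance, hfin,
      (preservesSingularClasses_minus_iff_aux h2 hm a b ht ζ hζ hζ2 g).2 h⟩

end main

end Cfsg.Agent.Helper44
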