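import Mathlib
import Cfsg.Prelude.Def_LieTypeDatum
import Cfsg.Agent.Helper44.PsoInn
import Cfsg.Agent.Helper44.StdNondeg

/-!
# The index of `Inn(PΩ)` in the image of `SO` for the standard plus and minus forms
-/

set_option autoImplicit false

namespace Cfsg.Agent.Helper44

open Matrix QuadraticMap Module

theorem three_pow_mod_four (m : ℕ) : (Even m → 3 ^ m % 4 = 1) ∧ (Odd m → 3 ^ m % 4 = 3) := by
  constructor
  · rintro ⟨k, rfl⟩
    rw [pow_add, ← mul_pow, Nat.pow_mod]
    simp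
  · rintro ⟨k, rfl⟩
    rw [pow_succ, pow_mul, Nat.mul_mod, Nat.pow_mod]
    simp

theorem pow_mod_four_eq_three_iff (q m : ℕ) (hq : Odd q) :
    q ^ m % 4 = 3 ↔ (Odd m ∧ q % 4 = 3) := by
  have h1 : q % 4 = 1 ∨ q % 4 = 3 := by
    obtain ⟨k, rfl⟩ := hq
    omega
  rw [Nat.pow_mod]
  rcases h1 with h | h
  · rw [h, one_pow]
    constructor
    · intro h'
      omega
    · rintro ⟨_, h'⟩
      omega
  · rw [h]
    rcases Nat.even_or_odd m with hm | hm
    · rw [(three_pow_mod_four m).1 hm]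
      constructor
      · intro h'
        omega
      · rintro ⟨h', _⟩
        exact absurd hm (Nat.not_even_iff_odd.2 h')
    · rw [(three_pow_mod_four m).2 hm]
      exact ⟨fun _ => ⟨hm, rfl⟩, fun _ => rfl⟩

theorem pow_mod_four_eq_one_iff (q m : ℕ) (hq : Odd q) :
    q ^ m % 4 = 1 ↔ ¬ (Odd m ∧ q % 4 = 3) := by
  rw [← pow_mod_four_eq_three_iff q m hq]
  have h1 : Odd (q ^ m) := hq.pow
  obtain ⟨k, hk⟩ := h1
  omega

variable {F : Type*} [Field F] {ι : Type} [Fintype ι] [DecidableEq ι]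

theorem negOne_mem_iff (Q : QuadraticForm F (ι → F)) :
    negOne Q ∈ Cfsg.Omega F ⇑Q ↔
      ∃ g : Cfsg.isometryGroup F ⇑Q, g ∈ Cfsg.Omega F ⇑Q ∧
        ((g : GL ι F) : Matrix ι ι F) = -1 := by
  constructor
  · intro h
    refine ⟨negOne Q, h, ?_⟩
    show ((-1 : GL ι F) : Matrix ι ι F) = -1
    rw [Units.val_neg, Units.val_one]
  · rintro ⟨g, hg, e⟩
    have : g = negOne Q := by
      apply Subtype.ext
      apply Units.ext
      rw [e]
      show (-1 : Matrix ι ι F) = ((-1 : GL ι F) : Matrix ι ι F)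
      rw [Units.val_neg, Units.val_one]
    rwa [← this]

end Cfsg.Agent.Helper44
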