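import Mathlib
import Cfsg.Prelude.Def_ClassicalGeometry
import Cfsg.Agent.Helper44.PlusEmbed

set_option autoImplicit false

namespace Cfsg.Agent.Helper44

open Matrix
open scoped commutatorElement

variable {F : Type*} [Field F]

theorem det_diagAt {ι : Type*} [DecidableEq ι] [Fintype ι] (i : ι) (t : F) (ht : t ≠ 0) :
    ((diagAt i t ht : GL ι F) : Matrix ι ι F).det = t := by
  show (diagonal (fun k => if k = i then t else 1)).det = t
  rw [Matrix.det_diagonal, Finset.prod_ite_eq' Finset.univ i (fun _ => t)]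
  simp

theorem diagAt_mul_transpose {m : ℕ} (i : Fin m) (s : F) (hs : s ≠ 0) :
    diagAt i s hs * transposeGL (diagAt i s hs) = diagAt i (s * s) (mul_ne_zero hs hs) := by
  apply Units.ext
  show diagonal (fun k => if k = i then s else 1) * (diagonal (fun k => if k = i then s else 1))ᵀ
    = diagonal (fun k => if k = i then s * s else 1)
  rw [Matrix.diagonal_transpose, Matrix.diagonal_mul_diagonal]
  congr 1
  funext k
  split_ifs <;> simp

theorem plusEmbed_diagAt_coe {m : ℕ} (i : Fin m) (t : F) (ht : t ≠ 0) :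
    (((plusEmbed (diagAt i t ht) : Cfsg.isometryGroup F (quadFormPlus m F)) :
      GL (Fin m ⊕ Fin m) F) : Matrix _ _ F)
      = Matrix.diagonal (fun k => if k = Sum.inl i then t else if k = Sum.inr i then t⁻¹ else 1) := by
  rw [plusEmbed_coe, plusEmbedMat]
  show Matrix.fromBlocks (diagonal (fun k => if k = i then t else 1)) 0 0
    (diagonal (fun k => if k = i then t⁻¹ else 1))ᵀ = _
  rw [Matrix.diagonal_transpose, Matrix.fromBlocks_diagonal]
  congr 1
  funext k
  rcases k with k | k <;> simp

theorem IsHypPair.Q_sub_smul {ι : Type} [Fintype ι] [DecidableEq ι] {Q : QuadraticForm F (ι → F)}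
    {a b : ι} (h : IsHypPair Q a b) (t : F) : Q (Pi.single a 1 - t • Pi.single b 1) = -t := by
  rw [Helper44.Q_sub, QuadraticMap.map_smul, h.Qa, h.Qb, QuadraticMap.polar_smul_right, h.polar_a,
    Pi.single_eq_same]
  simp

theorem IsHypPair.rotation_eq {ι : Type} [Fintype ι] [DecidableEq ι] {Q : QuadraticForm F (ι → F)}
    {a b : ι} (h : IsHypPair Q a b) (t : F) (ht : t ≠ 0) :
    Cfsg.reflectionMatrix ⇑Q (Pi.single a 1 - Pi.single b 1)
        * Cfsg.reflectionMatrix ⇑Q (Pi.single a 1 - t • Pi.single b 1)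
      = Matrix.diagonal (fun k => if k = a then t else if k = b then t⁻¹ else 1) := by
  apply Matrix.mulVec_injective
  funext x
  rw [← Matrix.mulVec_mulVec, Helper13.reflectionMatrix_mulVec, Helper13.reflectionMatrix_mulVec,
    h.Q_sub, h.Q_sub_smul]
  rw [QuadraticMap.polar_sub_left, QuadraticMap.polar_sub_left, QuadraticMap.polar_smul_left,
    h.polar_a, h.polar_b, h.polar_a, h.polar_b]
  have hab := h.ne
  have hba := h.ne.symm
  funext k
  rw [Matrix.mulVec_diagonal]
  by_cases hka : k = a
  · subst hka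
    simp [hab, hba]
    field_simp
    ring
  · by_cases hkb : k = b
    · subst hkb
      simp [hab, hba]
      field_simp
      ring
    · simp [Pi.single_apply, hka, hkb]

/-- `diag(d_i(t), d_i(t)⁻¹)` lies in `Ω` iff `t` is a square. -/
theorem plusEmbed_diagAt_mem_Omega_iff [Fintype F] {m : ℕ} (i : Fin m) (t : F) (ht : t ≠ 0) :
    plusEmbed (diagAt i t ht) ∈ Cfsg.Omega F (quadFormPlus m F) ↔ IsSquare t := by
  constructor
  · intro hmem
    by_cases h2 : (2 : F) = 0
    · have hchar : ringChar F = 2 := by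
        have : CharP F 2 := by
          apply CharTwo.of_one_ne_zero_of_two_eq_zero one_ne_zero h2
        exact ringChar.eq F 2
      exact FiniteField.isSquare_of_char_two hchar t
    · have hp := isHypPair_plusForm (F := F) m i
      have hvs : ∀ v ∈ [Pi.single (Sum.inl i) 1 - Pi.single (Sum.inr i) (1 : F),
          Pi.single (Sum.inl i) 1 - t • Pi.single (Sum.inr i) (1 : F)], plusForm m F v ≠ 0 := by
        intro v hv
        simp only [List.mem_cons, List.not_mem_nil, or_false] at hv
        rcases hv with rfl | rfl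
        · rw [hp.Q_sub]
          exact neg_ne_zero.2 one_ne_zero
        · rw [hp.Q_sub_smul]
          exact neg_ne_zero.2 ht
      have hg : (((plusEmbed (diagAt i t ht) : Cfsg.isometryGroup F ⇑(plusForm m F)) :
          GL (Fin m ⊕ Fin m) F) : Matrix _ _ F)
          = ([Pi.single (Sum.inl i) 1 - Pi.single (Sum.inr i) (1 : F),
            Pi.single (Sum.inl i) 1 - t • Pi.single (Sum.inr i) (1 : F)].map
              (fun v => Cfsg.reflectionMatrix ⇑(plusForm m F) v)).prod := by
        simp only [List.map_cons, List.map_nil, List.prod_cons, List.prod_nil, mul_one]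
        rw [hp.rotation_eq t ht]
        exact plusEmbed_diagAt_coe i t ht
      have := (mem_Omega_iff_of_prod_reflections (plusForm m F) h2
        (plusEmbed (diagAt i t ht)) _ hvs hg).1 hmem
      obtain ⟨-, hsq⟩ := this
      simp only [List.map_cons, List.map_nil, List.prod_cons, List.prod_nil, mul_one] at hsq
      rw [hp.Q_sub, hp.Q_sub_smul] at hsq
      simpa using hsq
  · rintro ⟨s, rfl⟩
    have hs : s ≠ 0 := fun h => ht (by rw [h, mul_zero])
    have h1 := plusEmbed_mul_transpose_mem_Omega (diagAt i s hs)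
    rw [diagAt_mul_transpose] at h1
    exact h1

/-- `diag(A, A⁻ᵀ)` lies in `Ω⁺` iff `det A` is a square. -/
theorem plusEmbed_mem_Omega_iff [Fintype F] {m : ℕ} (hm : 1 ≤ m)
    (h : Fintype.card F ≠ 2 ∨ m ≠ 2) (A : GL (Fin m) F) :
    plusEmbed A ∈ Cfsg.Omega F (quadFormPlus m F)
      ↔ IsSquare (A : Matrix (Fin m) (Fin m) F).det := by
  have ht : (A : Matrix (Fin m) (Fin m) F).det ≠ 0 := by
    have := (Matrix.GeneralLinearGroup.det A).ne_zero
    exact this
  set t := (A : Matrix (Fin m) (Fin m) F).det with htdef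
  have hA' : (((diagAt ⟨0, hm⟩ t ht)⁻¹ * A : GL (Fin m) F) : Matrix (Fin m) (Fin m) F).det = 1 := by
    have h1 : Matrix.GeneralLinearGroup.det ((diagAt ⟨0, hm⟩ t ht)⁻¹ * A) = 1 := by
      rw [map_mul, map_inv]
      have h2 : Matrix.GeneralLinearGroup.det (diagAt (⟨0, hm⟩ : Fin m) t ht)
          = Matrix.GeneralLinearGroup.det A := by
        apply Units.ext
        exact det_diagAt _ t ht
      rw [h2, inv_mul_cancel]
    exact congrArg Units.val h1
  have hmem := plusEmbed_mem_Omega_of_det_eq_one h _ hA'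
  have hprod : plusEmbed A = plusEmbed (diagAt ⟨0, hm⟩ t ht)
      * plusEmbed ((diagAt ⟨0, hm⟩ t ht)⁻¹ * A) := by
    rw [← map_mul, mul_inv_cancel_left]
  rw [hprod, Subgroup.mul_mem_cancel_right _ hmem]
  exact plusEmbed_diagAt_mem_Omega_iff _ t ht

end Cfsg.Agent.Helper44
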