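import Mathlib

/-!
# Quotients of order four

`N ⊴ G`, a character `χ : G →* ℤˣ` trivial on `N` and onto, with `[ker χ : N] = 2` (witness `y`)
and `d` with `χ d = -1`.  Then `G ⧸ N` has order four; it is cyclic if `d² ∉ N` and a Klein
four-group if `d² ∈ N`.
-/

set_option autoImplicit false

namespace Cfsg.Agent.Helper44.QuotFour

variable {G : Type*} [Group G] (N : Subgroup G) (χ : G →* ℤˣ) (hN : N ≤ χ.ker) (y d : G)
  (hy : χ y = 1) (hyN : y ∉ N) (hd : χ d = -1)
  (hker : ∀ g, χ g = 1 → g ∈ N ∨ g * y⁻¹ ∈ N)

include hN hy hyN hd hker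

theorem index_eq_four : N.index = 4 := by
  have h1 : χ.ker.index = 2 := by
    rw [Subgroup.index_ker]
    have : χ.range = ⊤ := by
      rw [MonoidHom.range_eq_top]
      intro u
      rcases Int.units_eq_one_or u with rfl | rfl
      · exact ⟨1, map_one _⟩
      · exact ⟨d, hd⟩
    rw [this, Nat.card_congr (Subgroup.topEquiv (G := ℤˣ)).toEquiv, Nat.card_eq_fintype_card]
    rfl
  have h2 : N.relIndex χ.ker = 2 := by
    rw [Subgroup.relIndex, Subgroup.index_eq_two_iff]
    refine ⟨⟨y⁻¹, by rw [MonoidHom.mem_ker, map_inv, hy, inv_one]⟩, fun b => ?_⟩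
    rw [Subgroup.mem_subgroupOf, Subgroup.mem_subgroupOf]
    have hb : χ b.1 = 1 := b.2
    show Xor' ((b.1 * y⁻¹) ∈ N) (b.1 ∈ N)
    rcases hker b.1 hb with h | h
    · refine Or.inr ⟨h, fun h' => hyN ?_⟩
      have : y = (b.1 * y⁻¹)⁻¹ * b.1 := by group
      rw [this]
      exact N.mul_mem (N.inv_mem h') h
    · refine Or.inl ⟨h, fun h' => hyN ?_⟩
      have : y = (b.1 * y⁻¹)⁻¹ * b.1 := by group
      rw [this]
      exact N.mul_mem (N.inv_mem h) h'
  rw [← Subgroup.relIndex_mul_index hN, h1, h2]

variable [N.Normal]

theorem card_quot : Nat.card (G ⧸ N) = 4 := by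
  rw [← Subgroup.index_eq_card]
  exact index_eq_four N χ hN y d hy hyN hd hker

theorem mk_d_ne_one : (QuotientGroup.mk d : G ⧸ N) ≠ 1 := by
  intro h
  rw [QuotientGroup.eq_one_iff] at h
  have := MonoidHom.mem_ker.1 (hN h)
  rw [hd] at this
  exact absurd this (by decide)

/-- cyclic case -/
theorem nonempty_equiv_zmod_four (hd2 : d * d ∉ N) :
    Nonempty (G ⧸ N ≃* Multiplicative (ZMod 4)) := by
  have hcard := card_quot N χ hN y d hy hyN hd hker
  haveI : Finite (G ⧸ N) := Nat.finite_of_card_ne_zero (by rw [hcard]; norm_num)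
  set x : G ⧸ N := QuotientGroup.mk d with hx
  have hx1 : x ≠ 1 := mk_d_ne_one N χ hN y d hy hyN hd hker
  have hx2 : x * x ≠ 1 := by
    intro h
    rw [hx, ← QuotientGroup.mk_mul, QuotientGroup.eq_one_iff] at h
    exact hd2 h
  have hdvd : orderOf x ∣ 4 := hcard ▸ orderOf_dvd_natCard x
  have hle : orderOf x ≤ 4 := Nat.le_of_dvd (by norm_num) hdvd
  have hpos : 0 < orderOf x := orderOf_pos x
  have ho : orderOf x = 4 := by
    interval_cases h : orderOf x
    · exact absurd (orderOf_eq_one_iff.1 h) hx1
    · exfalso
      apply hx2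
      rw [← pow_two, ← h]
      exact pow_orderOf_eq_one x
    · norm_num at hdvd
    · rfl
  haveI : IsCyclic (G ⧸ N) := isCyclic_of_orderOf_eq_card x (by rw [ho, hcard])
  refine ⟨mulEquivOfCyclicCardEq ?_⟩
  rw [hcard, Nat.card_eq_fintype_card]
  rfl

/-- Klein case -/
theorem nonempty_equiv_klein (hd2 : d * d ∈ N) :
    Nonempty (G ⧸ N ≃* Multiplicative (ZMod 2 × ZMod 2)) := by
  have hcard := card_quot N χ hN y d hy hyN hd hker
  set a : G ⧸ N := QuotientGroup.mk y with ha
  set b : G ⧸ N := QuotientGroup.mk d with hb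
  have ha1 : a ≠ 1 := by
    intro h
    rw [ha, QuotientGroup.eq_one_iff] at h
    exact hyN h
  have hb1 : b ≠ 1 := mk_d_ne_one N χ hN y d hy hyN hd hker
  have hbb : b * b = 1 := by
    rw [hb, ← QuotientGroup.mk_mul, QuotientGroup.eq_one_iff]
    exact hd2
  have hyy : y * y ∈ N := by
    rcases hker (y * y) (by rw [map_mul, hy, one_mul]) with h | h
    · exact h
    · exfalso
      apply hyN
      have : y = y * y * y⁻¹ := by group
      rw [this]
      exact h
  have haa : a * a = 1 := by
    rw [ha, ← QuotientGroup.mk_mul, QuotientGroup.eq_one_iff]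
    exact hyy
  -- the character on the quotient
  have hχ : ∀ g g' : G, (QuotientGroup.mk g : G ⧸ N) = QuotientGroup.mk g' → χ g = χ g' := by
    intro g g' h
    rw [QuotientGroup.eq] at h
    have := MonoidHom.mem_ker.1 (hN h)
    rw [map_mul, map_inv, inv_mul_eq_one] at this
    exact this
  have hab : a ≠ b := by
    intro h
    have := hχ y d h
    rw [hy, hd] at this
    exact absurd this (by decide)
  -- enumeration
  have hall : ∀ z : G ⧸ N, z = 1 ∨ z = a ∨ z = b ∨ z = a * b := by
    intro z
    induction z using QuotientGroup.induction_on with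
    | H g =>
      have key : ∀ g : G, χ g = 1 → (QuotientGroup.mk g : G ⧸ N) = 1 ∨ (QuotientGroup.mk g : G ⧸ N) = a := by
        intro g hg
        rcases hker g hg with h | h
        · left
          rw [QuotientGroup.eq_one_iff]
          exact h
        · right
          rw [ha, eq_comm, QuotientGroup.eq]
          have : y⁻¹ * g = y⁻¹ * (g * y⁻¹) * y := by group
          rw [this]
          exact (Subgroup.Normal.mem_comm_iff inferInstance).1
            (by
              have h3 : y * (y⁻¹ * (g * y⁻¹)) = g * y⁻¹ := by group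
              rw [h3]
              exact h)
      rcases Int.units_eq_one_or (χ g) with hg | hg
      · rcases key g hg with h | h
        · exact Or.inl h
        · exact Or.inr (Or.inl h)
      · have hgd : χ (g * d⁻¹) = 1 := by
          rw [map_mul, map_inv, hg, hd]
          decide
        have e : (QuotientGroup.mk g : G ⧸ N) = QuotientGroup.mk (g * d⁻¹) * b := by
          rw [hb, ← QuotientGroup.mk_mul]
          congr 1
          group
        rcases key (g * d⁻¹) hgd with h | h
        · right; right; left
          rw [e, h, one_mul]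
        · right; right; right
          rw [e, h]
  have hcomm : b * a = a * b := by
    rcases hall (b * a) with h | h | h | h
    · exfalso
      apply hab
      have : a = b⁻¹ := eq_inv_of_mul_eq_one_right h
      rw [this, inv_eq_of_mul_eq_one_left hbb]
    · exfalso
      exact hb1 (mul_eq_right.1 h)
    · exfalso
      exact ha1 (mul_eq_left.1 h)
    · exact h
  have hsq : ∀ z : G ⧸ N, z * z = 1 := by
    intro z
    rcases hall z with rfl | rfl | rfl | rfl
    · exact one_mul 1
    · exact haa
    · exact hbb
    · calc a * b * (a * b) = a * (b * a) * b := by group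
        _ = a * (a * b) * b := by rw [hcomm]
        _ = (a * a) * (b * b) := by group
        _ = 1 := by rw [haa, hbb, one_mul]
  have : IsKleinFour (G ⧸ N) :=
    { card_four := hcard
      exponent_two := by
        have h1 : Monoid.exponent (G ⧸ N) ∣ 2 :=
          Monoid.exponent_dvd_of_forall_pow_eq_one (fun z => by rw [pow_two]; exact hsq z)
        have h2 : Monoid.exponent (G ⧸ N) ≠ 1 := by
          intro h
          rw [Monoid.exp_eq_one_iff] at h
          exact ha1 (Subsingleton.elim a 1)
        rcases (Nat.dvd_prime Nat.prime_two).1 h1 with h | h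
        · exact absurd h h2
        · exact h }
  exact IsKleinFour.nonempty_mulEquiv

end Cfsg.Agent.Helper44.QuotFour
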