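import Cfsg.Agent.Helper44.PlusClasses
import Cfsg.Agent.Helper44.PgoInnD8
import Cfsg.Agent.Helper44.QuotFour
import Cfsg.Agent.Helper44.PlusRot

set_option autoImplicit false

namespace Cfsg.Agent.Helper44

open Matrix QuadraticMap Module

variable {F : Type*} [Field F] {m : ℕ}

/-- the similarity `diag(ν I, I)` of the plus form -/
def deltaMat (m : ℕ) (ν : F) : Matrix (Fin m ⊕ Fin m) (Fin m ⊕ Fin m) F :=
  Matrix.fromBlocks (ν • (1 : Matrix (Fin m) (Fin m) F)) 0 0 1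

theorem deltaMat_mulVec (ν : F) (v : Fin m ⊕ Fin m → F) :
    deltaMat m ν *ᵥ v = Sum.elim (ν • (v ∘ Sum.inl)) (v ∘ Sum.inr) := by
  unfold deltaMat
  rw [Matrix.fromBlocks_mulVec]
  simp only [Matrix.zero_mulVec, add_zero, zero_add, Matrix.one_mulVec, Matrix.smul_mulVec]

theorem deltaMat_mul (a b : F) : deltaMat m a * deltaMat m b = deltaMat m (a * b) := by
  apply Matrix.mulVec_injective
  funext v
  rw [← Matrix.mulVec_mulVec, deltaMat_mulVec, deltaMat_mulVec, deltaMat_mulVec]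
  ext i
  rcases i with i | i
  · simp [mul_assoc]
  · simp

theorem deltaMat_one : deltaMat m (1 : F) = 1 := by
  apply Matrix.mulVec_injective
  funext v
  rw [deltaMat_mulVec, Matrix.one_mulVec, one_smul]
  ext i
  rcases i with i | i <;> rfl

/-- `diag(ν I, I)` in `GL` -/
def deltaGL (m : ℕ) (ν : Fˣ) : GL (Fin m ⊕ Fin m) F :=
  ⟨deltaMat m (ν : F), deltaMat m ((ν⁻¹ : Fˣ) : F),
    by rw [deltaMat_mul, ← Units.val_mul, mul_inv_cancel, Units.val_one, deltaMat_one],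
    by rw [deltaMat_mul, ← Units.val_mul, inv_mul_cancel, Units.val_one, deltaMat_one]⟩

theorem deltaGL_mulVec (ν : Fˣ) (v : Fin m ⊕ Fin m → F) :
    ((deltaGL m ν : GL (Fin m ⊕ Fin m) F) : Matrix (Fin m ⊕ Fin m) (Fin m ⊕ Fin m) F) *ᵥ v
      = Sum.elim ((ν : F) • (v ∘ Sum.inl)) (v ∘ Sum.inr) :=
  deltaMat_mulVec _ v

theorem deltaGL_sim (ν : Fˣ) (v : Fin m ⊕ Fin m → F) :
    plusForm m F (((deltaGL m ν : GL (Fin m ⊕ Fin m) F) :
      Matrix (Fin m ⊕ Fin m) (Fin m ⊕ Fin m) F) *ᵥ v) = (ν : F) * plusForm m F v := by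
  rw [deltaGL_mulVec]
  show quadFormPlus m F _ = (ν : F) * quadFormPlus m F v
  unfold quadFormPlus
  rw [Finset.mul_sum]
  refine Finset.sum_congr rfl fun i _ => ?_
  simp only [Sum.elim_inl, Sum.elim_inr, Pi.smul_apply, Function.comp_apply, smul_eq_mul]
  ring

/-- `diag(ν I, I)` as a similarity -/
def deltaGO (m : ℕ) (ν : Fˣ) : ↥(Cfsg.Geo.quadSimilarityGroup (F := F) ⇑(plusForm m F)) :=
  ⟨deltaGL m ν, ⟨ν, deltaGL_sim ν⟩⟩

theorem multHom_deltaGO {t : Fin m ⊕ Fin m → F} (ht : plusForm m F t ≠ 0) (ν : Fˣ) :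
    multHom ⇑(plusForm m F) ht (deltaGO m ν) = ν :=
  multHom_eq ⇑(plusForm m F) ht _ ν (deltaGL_sim ν)

theorem dHom_deltaGO {t : Fin m ⊕ Fin m → F} (ht : plusForm m F t ≠ 0) (ν : Fˣ) :
    dHom (plusForm m F) ht m (deltaGO m ν) = 1 := by
  apply dHom_eq_one_of_stab
  intro v hv
  rw [mem_stdSing] at hv ⊢
  intro i
  show (((deltaGL m ν : GL (Fin m ⊕ Fin m) F) : Matrix (Fin m ⊕ Fin m) (Fin m ⊕ Fin m) F) *ᵥ v) (Sum.inr i) = 0
  rw [deltaGL_mulVec]
  exact hv i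

/-- `δ² = ν · diag(ν I, ν⁻¹ I)` -/
theorem deltaGO_mul_self (ν : Fˣ) :
    deltaGO m ν * deltaGO m ν = scalarGO (plusForm m F) ν
      * toGO (plusForm m F) (plusEmbed (Matrix.GeneralLinearGroup.scalar (Fin m) ν)) := by
  apply Subtype.ext
  apply Units.ext
  apply Matrix.mulVec_injective
  funext v
  show ((deltaGL m ν * deltaGL m ν : GL (Fin m ⊕ Fin m) F) : Matrix (Fin m ⊕ Fin m) (Fin m ⊕ Fin m) F) *ᵥ v
    = (((scalarGO (plusForm m F) ν).1 * (plusEmbed (Matrix.GeneralLinearGroup.scalar (Fin m) ν)).1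
      : GL (Fin m ⊕ Fin m) F) : Matrix (Fin m ⊕ Fin m) (Fin m ⊕ Fin m) F) *ᵥ v
  have hinv : (((Matrix.GeneralLinearGroup.scalar (Fin m) ν)⁻¹ : GL (Fin m) F) :
      Matrix (Fin m) (Fin m) F) = Matrix.diagonal (fun _ => ((ν⁻¹ : Fˣ) : F)) := by
    rw [← map_inv, Matrix.GeneralLinearGroup.coe_scalar]
    rfl
  rw [Units.val_mul, Units.val_mul, ← Matrix.mulVec_mulVec, ← Matrix.mulVec_mulVec,
    deltaGL_mulVec, deltaGL_mulVec, scalarGO_mulVec, plusEmbed_coe, plusEmbedMat,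
    Matrix.fromBlocks_mulVec, hinv, Matrix.diagonal_transpose,
    Matrix.GeneralLinearGroup.coe_scalar]
  have hs : (Matrix.scalar (Fin m)) (ν : F) = Matrix.diagonal (fun _ => (ν : F)) := rfl
  rw [hs]
  ext i
  rcases i with i | i
  · simp [Matrix.mulVec_diagonal, mul_assoc]
  · simp [Matrix.mulVec_diagonal]


section inndiag

/-- the inner-diagonal group is the image of the class-preserving similarities -/
theorem inndiag_eq_map (h2 : (2 : F) ≠ 0) {t : Fin m ⊕ Fin m → F} (ht : plusForm m F t ≠ 0) :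
    Cfsg.inndiagPOmegaPlus m F
      = ((dHom (plusForm m F) ht m).ker).map (conjAut ⇑(plusForm m F)) := by
  set R : Subgroup (GL (Fin m ⊕ Fin m) F) :=
    ((dHom (plusForm m F) ht m).ker).map (Subgroup.subtype _) with hR
  have hRle : R ≤ Cfsg.Geo.quadSimilarityGroup (F := F) ⇑(plusForm m F) := by
    rintro _ ⟨g, _, rfl⟩
    exact g.2
  have hsub : R.subgroupOf (Cfsg.Geo.quadSimilarityGroup (F := F) ⇑(plusForm m F))
      = (dHom (plusForm m F) ht m).ker := by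
    ext g
    rw [Subgroup.mem_subgroupOf]
    constructor
    · rintro ⟨g', hg', e⟩
      have : g' = g := Subtype.ext e
      rw [← this]
      exact hg'
    · intro hg
      exact ⟨g, hg, rfl⟩
  rw [← hsub, ← closure_induced_eq_map ⇑(plusForm m F) R hRle]
  unfold Cfsg.inndiagPOmegaPlus Cfsg.autSubgroupOf Cfsg.IsInnerDiagonalAutPOmegaPlus
  congr 1
  ext β
  constructor
  · rintro ⟨g, hg, hp, hβ⟩
    refine ⟨g, ⟨⟨g, hg⟩, ?_, rfl⟩, hβ⟩
    rw [SetLike.mem_coe, MonoidHom.mem_ker]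
    exact (preservesSingularClasses_iff h2 ht ⟨g, hg⟩).1 hp
  · rintro ⟨g, ⟨g', hg', rfl⟩, hβ⟩
    refine ⟨g'.1, g'.2, ?_, hβ⟩
    exact (preservesSingularClasses_iff h2 ht g').2 (MonoidHom.mem_ker.1 hg')

/-- `Ω ≤` class-preserving similarities -/
theorem OmegaGL_subgroupOf_le_ker {t : Fin m ⊕ Fin m → F} (ht : plusForm m F t ≠ 0) :
    (OmegaGL ⇑(plusForm m F)).subgroupOf (Cfsg.Geo.quadSimilarityGroup (F := F) ⇑(plusForm m F))
      ≤ (dHom (plusForm m F) ht m).ker := by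
  intro g hg
  rw [Subgroup.mem_subgroupOf] at hg
  have hg' := OmegaGL_le_SO (plusForm m F) hg
  rw [MonoidHom.mem_ker, dHom_apply, multHom_of_isometry ⇑(plusForm m F) ht g hg'.1, inv_one,
    one_pow, mul_one]
  exact hg'.2

/-- assembly: a surjection from the class-preserving similarities whose kernel is the
preimage of `Inn` gives the hom of the statement -/
theorem exists_hom_inndiag (h2 : (2 : F) ≠ 0) {t : Fin m ⊕ Fin m → F}
    (ht : plusForm m F t ≠ 0) {C : Type*} [Group C]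
    (ψ : ↥((dHom (plusForm m F) ht m).ker) →* C) (hs : Function.Surjective ψ)
    (hker : ∀ g : ↥((dHom (plusForm m F) ht m).ker), ψ g = 1 ↔
      conjAut ⇑(plusForm m F) g.1 ∈ Cfsg.Inn (Cfsg.POmega F ⇑(plusForm m F))) :
    ∃ φ : ↥(Cfsg.inndiagPOmegaPlus m F) →* C, Function.Surjective φ ∧
      φ.ker = (Cfsg.Inn (Cfsg.POmega F (Cfsg.quadFormPlus m F))).subgroupOf
        (Cfsg.inndiagPOmegaPlus m F) := by
  have hInn := Inn_eq_map ⇑(plusForm m F)
  rw [inndiag_eq_map h2 ht,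
    show Cfsg.Inn (Cfsg.POmega F (Cfsg.quadFormPlus m F)) = _ from hInn]
  apply exists_hom_of_image (conjAut ⇑(plusForm m F)) _ _ (OmegaGL_subgroupOf_le_ker ht) ψ hs
  intro g
  rw [hker, hInn]
  constructor
  · rintro ⟨r, hr, e⟩
    refine ⟨r, hr, r⁻¹ * g.1, ?_, by group⟩
    rw [MonoidHom.mem_ker, map_mul, map_inv, e, inv_mul_cancel]
  · rintro ⟨r, hr, k, hk, e⟩
    refine ⟨r, hr, ?_⟩
    rw [e, map_mul, MonoidHom.mem_ker.1 hk, mul_one]

end inndiag


section general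

variable {ι : Type} [Fintype ι] [DecidableEq ι] (Q : QuadraticForm F (ι → F))
variable [Fintype F] (h2 : (2 : F) ≠ 0) (hQ : (QuadraticMap.polarBilin Q).Nondegenerate)
  (hn : 7 ≤ Fintype.card ι)

include hn in
theorem goChar_eq_one_of_conjAut_mem_Inn {t : ι → F} (ht : Q t ≠ 0) (m : ℕ)
    (hm : Fintype.card ι = 2 * m) (g : ↥(Cfsg.Geo.quadSimilarityGroup (F := F) ⇑Q))
    (h : conjAut ⇑Q g ∈ Cfsg.Inn (Cfsg.POmega F ⇑Q)) : goChar Q h2 hQ ht m hm g = 1 := by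
  obtain ⟨γ, hγ⟩ := exists_gamma Q h2 hQ hn ht m hm
  rw [← hγ, piQ, (piHom_eq_one_iff (conjAut ⇑Q) (Cfsg.Inn (Cfsg.POmega F ⇑Q)) g).2 h, map_one]

theorem conjAut_mem_psoAut_of_goChar {t : ι → F} (ht : Q t ≠ 0) (m : ℕ)
    (hm : Fintype.card ι = 2 * m) (g : ↥(Cfsg.Geo.quadSimilarityGroup (F := F) ⇑Q))
    (h : goChar Q h2 hQ ht m hm g = 1) : conjAut ⇑Q g ∈ Cfsg.psoAut F ⇑Q := by
  rw [goChar_eq_one_iff_exists] at h
  obtain ⟨r, hr, c, rfl⟩ := h
  rw [map_mul, MonoidHom.mem_ker.1 (mem_ker_of_mem_scalars ⇑Q _ (scalarGO_mem_scalars Q c)),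
    mul_one, psoAut_eq_map]
  exact ⟨r, hr, rfl⟩

end general

section plusmain

variable [Fintype F] (h2 : (2 : F) ≠ 0)

include h2 in
/-- case `-1 ∉ Ω`: `Inndiag / Inn` has order two -/
theorem inndiag_mod_Inn_of_not_mem (hm : 4 ≤ m)
    (hneg : negOne (plusForm m F) ∉ Cfsg.Omega F ⇑(plusForm m F)) :
    ∃ φ : ↥(Cfsg.inndiagPOmegaPlus m F) →* Multiplicative (ZMod 2), Function.Surjective φ ∧
      φ.ker = (Cfsg.Inn (Cfsg.POmega F (Cfsg.quadFormPlus m F))).subgroupOf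
        (Cfsg.inndiagPOmegaPlus m F) := by
  have hQ := nondegenerate_plusForm (F := F) m
  have hcard : Fintype.card (Fin m ⊕ Fin m) = 2 * m := by
    rw [Fintype.card_sum, Fintype.card_fin]; omega
  have hn : 7 ≤ Fintype.card (Fin m ⊕ Fin m) := by rw [hcard]; omega
  obtain ⟨t, _, _, ht⟩ := exists_nonsingular_perp_pair (plusForm m F) hQ
    (by rw [Module.finrank_fintype_fun_eq_card]; omega) 0 0
  obtain ⟨ν, hν⟩ := FiniteField.exists_nonsquare (ringChar_ne_two_of_two_ne_zero h2)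
  have hν0 : ν ≠ 0 := by
    rintro rfl
    exact hν ⟨0, by simp⟩
  set c : Fˣ := Units.mk0 ν hν0 with hc
  have e : Cfsg.Inn (Cfsg.POmega F ⇑(plusForm m F)) = Cfsg.psoAut F ⇑(plusForm m F) :=
    le_antisymm (Inn_le_psoAut _) (Subgroup.relIndex_eq_one.1
      (relIndex_Inn_psoAut_of_not_mem _ h2 hQ hn ⟨m, by rw [hcard, two_mul]⟩ hneg))
  set χ : ↥((dHom (plusForm m F) ht m).ker) →* ℤˣ :=
    (sqChar F).comp ((multHom ⇑(plusForm m F) ht).comp (Subgroup.subtype _)) with hχ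
  apply exists_hom_inndiag h2 ht (unitsIntEquiv.toMonoidHom.comp χ)
  · apply unitsIntEquiv.surjective.comp
    intro u
    rcases Int.units_eq_one_or u with rfl | rfl
    · exact ⟨1, map_one _⟩
    · refine ⟨⟨deltaGO m c, dHom_deltaGO ht c⟩, ?_⟩
      show sqChar F (multHom ⇑(plusForm m F) ht (deltaGO m c)) = -1
      rw [multHom_deltaGO]
      rcases Int.units_eq_one_or (sqChar F c) with h | h
      · rw [sqChar_eq_one_iff, hc, Units.val_mk0] at h
        exact absurd h hν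
      · exact h
  · intro g
    rw [MonoidHom.comp_apply]
    show unitsIntEquiv (χ g) = 1 ↔ _
    rw [MulEquiv.map_eq_one_iff]
    constructor
    · intro h
      rw [e]
      apply conjAut_mem_psoAut_of_goChar (plusForm m F) h2 hQ ht m hcard
      rw [goChar_eq_one_iff]
      exact ⟨(sqChar_eq_one_iff _).1 h, MonoidHom.mem_ker.1 g.2⟩
    · intro h
      have := goChar_eq_one_of_conjAut_mem_Inn (plusForm m F) h2 hQ hn ht m hcard g.1 h
      rw [goChar_eq_one_iff] at this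
      exact (sqChar_eq_one_iff _).2 this.1


theorem isSquare_nonsquare_pow_iff {ν : F} (hν : ¬ IsSquare ν) (k : ℕ) :
    IsSquare (ν ^ k) ↔ Even k := by
  have hν0 : ν ≠ 0 := by
    rintro rfl
    exact hν ⟨0, by simp⟩
  constructor
  · intro h
    by_contra hk
    rw [Nat.not_even_iff_odd] at hk
    obtain ⟨j, rfl⟩ := hk
    have e : ν ^ (2 * j + 1) = (ν ^ j * ν ^ j) * ν := by ring
    rw [e, isSquare_mul_nonsquare_iff (mul_ne_zero (pow_ne_zero _ hν0) (pow_ne_zero _ hν0)) hν] at h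
    exact h ⟨ν ^ j, rfl⟩
  · rintro ⟨j, rfl⟩
    exact ⟨ν ^ j, by ring⟩

end plusmain

end Cfsg.Agent.Helper44
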