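import Cfsg.Agent.Helper44.InndiagGen

/-!
# General tools for `Inndiag / Inn` of even-dimensional orthogonal groups

`Q` is a nondegenerate quadratic form of dimension `2m ≥ 8` over a finite field of odd order.
-/

set_option autoImplicit false

namespace Cfsg.Agent.Helper44

open Matrix QuadraticMap Module

variable {F : Type*} [Field F]

section general

variable {ι : Type} [Fintype ι] [DecidableEq ι] (Q : QuadraticForm F (ι → F))

/-- if the class-preserving condition `P` on similarities is `dHom = 1`, the group generated by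
the automorphisms induced by class-preserving similarities is the image of `ker dHom` -/
theorem closure_eq_map_ker_dHom {t : ι → F} (ht : Q t ≠ 0) (m : ℕ)
    (P : Matrix ι ι F → Prop)
    (hP : ∀ g : ↥(Cfsg.Geo.quadSimilarityGroup (F := F) ⇑Q),
      P ((g.1 : GL ι F) : Matrix ι ι F) ↔ dHom Q ht m g = 1) :
    Subgroup.closure {β : MulAut (Cfsg.POmega F ⇑Q) | ∃ g : GL ι F,
      g ∈ Cfsg.Geo.quadSimilarityGroup (F := F) ⇑Q ∧ P (g : Matrix ι ι F) ∧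
      Cfsg.IsInducedBySemilinearPOmega ⇑Q g (RingEquiv.refl F) β}
      = ((dHom Q ht m).ker).map (conjAut ⇑Q) := by
  set R : Subgroup (GL ι F) := ((dHom Q ht m).ker).map (Subgroup.subtype _) with hR
  have hRle : R ≤ Cfsg.Geo.quadSimilarityGroup (F := F) ⇑Q := by
    rintro _ ⟨g, _, rfl⟩
    exact g.2
  have hsub : R.subgroupOf (Cfsg.Geo.quadSimilarityGroup (F := F) ⇑Q) = (dHom Q ht m).ker := by
    ext g
    rw [Subgroup.mem_subgroupOf]
    constructor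
    · rintro ⟨g', hg', e⟩
      have : g' = g := Subtype.ext e
      rw [← this]
      exact hg'
    · intro hg
      exact ⟨g, hg, rfl⟩
  rw [← hsub, ← closure_induced_eq_map ⇑Q R hRle]
  congr 1
  ext β
  constructor
  · rintro ⟨g, hg, hp, hβ⟩
    refine ⟨g, ⟨⟨g, hg⟩, ?_, rfl⟩, hβ⟩
    rw [SetLike.mem_coe, MonoidHom.mem_ker]
    exact (hP ⟨g, hg⟩).1 hp
  · rintro ⟨g, ⟨g', hg', rfl⟩, hβ⟩
    refine ⟨g'.1, g'.2, ?_, hβ⟩
    exact (hP g').2 (MonoidHom.mem_ker.1 hg')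

/-- `Ω ≤ ker dHom` -/
theorem OmegaGL_subgroupOf_le_ker_dHom {t : ι → F} (ht : Q t ≠ 0) (m : ℕ) :
    (OmegaGL ⇑Q).subgroupOf (Cfsg.Geo.quadSimilarityGroup (F := F) ⇑Q)
      ≤ (dHom Q ht m).ker := by
  intro g hg
  rw [Subgroup.mem_subgroupOf] at hg
  have hg' := OmegaGL_le_SO Q hg
  rw [MonoidHom.mem_ker, dHom_apply, multHom_of_isometry ⇑Q ht g hg'.1, inv_one,
    one_pow, mul_one]
  exact hg'.2

/-- assembly: a surjection from `ker dHom` whose kernel is the preimage of `Inn` descends to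
the image of `ker dHom` in `Aut(PΩ)` -/
theorem exists_hom_of_ker_dHom {t : ι → F} (ht : Q t ≠ 0) (m : ℕ) {C : Type*} [Group C]
    (ψ : ↥((dHom Q ht m).ker) →* C) (hs : Function.Surjective ψ)
    (hker : ∀ g : ↥((dHom Q ht m).ker), ψ g = 1 ↔
      conjAut ⇑Q g.1 ∈ Cfsg.Inn (Cfsg.POmega F ⇑Q)) :
    ∃ φ : ↥(((dHom Q ht m).ker).map (conjAut ⇑Q)) →* C, Function.Surjective φ ∧
      φ.ker = (Cfsg.Inn (Cfsg.POmega F ⇑Q)).subgroupOf
        (((dHom Q ht m).ker).map (conjAut ⇑Q)) := by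
  have hInn := Inn_eq_map ⇑Q
  rw [hInn]
  apply exists_hom_of_image (conjAut ⇑Q) _ _ (OmegaGL_subgroupOf_le_ker_dHom Q ht m) ψ hs
  intro g
  rw [hker, hInn]
  constructor
  · rintro ⟨r, hr, e⟩
    refine ⟨r, hr, r⁻¹ * g.1, ?_, by group⟩
    rw [MonoidHom.mem_ker, map_mul, map_inv, e, inv_mul_cancel]
  · rintro ⟨r, hr, k, hk, e⟩
    refine ⟨r, hr, ?_⟩
    rw [e, map_mul, MonoidHom.mem_ker.1 hk, mul_one]

/-- `dHom` of an isometry is its determinant -/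
theorem dHom_toGO_gen {t : ι → F} (ht : Q t ≠ 0) (m : ℕ)
    (K : ↥(Cfsg.isometryGroup F ⇑Q)) :
    dHom Q ht m (toGO Q K) = detHom ⇑Q K := by
  rw [dHom_apply, multHom_of_isometry ⇑Q ht _ K.2, inv_one, one_pow, mul_one]
  rfl

theorem dHom_toGO_refl {t : ι → F} (ht : Q t ≠ 0) (m : ℕ) (u : ι → F) (hu : Q u ≠ 0) :
    dHom Q ht m (toGO Q (refl Q u hu)) = -1 := by
  rw [dHom_toGO_gen, ← reflT_of_ne Q u hu, detHom_reflT Q u hu]

theorem multHom_toGO {t : ι → F} (ht : Q t ≠ 0) (K : ↥(Cfsg.isometryGroup F ⇑Q)) :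
    multHom ⇑Q ht (toGO Q K) = 1 :=
  multHom_of_isometry ⇑Q ht _ K.2

theorem multHom_mul_toGO {t : ι → F} (ht : Q t ≠ 0)
    (γ : ↥(Cfsg.Geo.quadSimilarityGroup (F := F) ⇑Q)) (K : ↥(Cfsg.isometryGroup F ⇑Q)) :
    multHom ⇑Q ht (γ * toGO Q K) = multHom ⇑Q ht γ := by
  rw [map_mul, multHom_toGO, mul_one]

theorem dHom_mul_toGO_refl {t : ι → F} (ht : Q t ≠ 0) (m : ℕ)
    (γ : ↥(Cfsg.Geo.quadSimilarityGroup (F := F) ⇑Q)) (u : ι → F) (hu : Q u ≠ 0) :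
    dHom Q ht m (γ * toGO Q (refl Q u hu)) = -dHom Q ht m γ := by
  rw [map_mul, dHom_toGO_refl, mul_neg, mul_one]

section fin

variable [Fintype F] (h2 : (2 : F) ≠ 0) (hQ : (QuadraticMap.polarBilin Q).Nondegenerate)
  (hn : 7 ≤ Fintype.card ι)

include h2 hQ hn in
/-- if `-1 ∉ Ω`: `ker dHom` modulo the preimage of `Inn(PΩ)` has order two -/
theorem exists_psi_of_not_mem {t : ι → F} (ht : Q t ≠ 0) (m : ℕ) (hm : Fintype.card ι = 2 * m)
    (hneg : negOne Q ∉ Cfsg.Omega F ⇑Q)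
    (δ : ↥(Cfsg.Geo.quadSimilarityGroup (F := F) ⇑Q))
    (hδm : ¬ IsSquare ((multHom ⇑Q ht δ : Fˣ) : F)) (hδd : dHom Q ht m δ = 1) :
    ∃ ψ : ↥((dHom Q ht m).ker) →* Multiplicative (ZMod 2), Function.Surjective ψ ∧
      ∀ g : ↥((dHom Q ht m).ker), ψ g = 1 ↔
        conjAut ⇑Q g.1 ∈ Cfsg.Inn (Cfsg.POmega F ⇑Q) := by
  have e : Cfsg.Inn (Cfsg.POmega F ⇑Q) = Cfsg.psoAut F ⇑Q :=
    le_antisymm (Inn_le_psoAut _) (Subgroup.relIndex_eq_one.1
      (relIndex_Inn_psoAut_of_not_mem _ h2 hQ hn ⟨m, by rw [hm, two_mul]⟩ hneg))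
  set χ : ↥((dHom Q ht m).ker) →* ℤˣ :=
    (sqChar F).comp ((multHom ⇑Q ht).comp (Subgroup.subtype _)) with hχ
  refine ⟨unitsIntEquiv.toMonoidHom.comp χ, ?_, ?_⟩
  · apply unitsIntEquiv.surjective.comp
    intro u
    rcases Int.units_eq_one_or u with rfl | rfl
    · exact ⟨1, map_one _⟩
    · refine ⟨⟨δ, hδd⟩, ?_⟩
      show sqChar F (multHom ⇑Q ht δ) = -1
      rcases Int.units_eq_one_or (sqChar F (multHom ⇑Q ht δ)) with h | h
      · rw [sqChar_eq_one_iff] at h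
        exact absurd h hδm
      · exact h
  · intro g
    rw [MonoidHom.comp_apply]
    show unitsIntEquiv (χ g) = 1 ↔ _
    rw [MulEquiv.map_eq_one_iff]
    constructor
    · intro h
      rw [e]
      apply conjAut_mem_psoAut_of_goChar Q h2 hQ ht m hm
      rw [goChar_eq_one_iff]
      exact ⟨(sqChar_eq_one_iff _).1 h, MonoidHom.mem_ker.1 g.2⟩
    · intro h
      have := goChar_eq_one_of_conjAut_mem_Inn Q h2 hQ hn ht m hm g.1 h
      rw [goChar_eq_one_iff] at this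
      exact (sqChar_eq_one_iff _).2 this.1

include h2 hQ hn in
/-- if `γ² ` is a scalar and `γ` has a non-square multiplier then `(γ r_t)²` does not induce an
inner automorphism (when `-1 ∈ Ω`) -/
theorem conjAut_mul_refl_sq_not_mem (hneg : negOne Q ∈ Cfsg.Omega F ⇑Q) {t : ι → F}
    (ht : Q t ≠ 0) (γ : ↥(Cfsg.Geo.quadSimilarityGroup (F := F) ⇑Q)) (c : Fˣ)
    (hγ2 : γ * γ = scalarGO Q c) (hγm : ¬ IsSquare ((multHom ⇑Q ht γ : Fˣ) : F)) :
    conjAut ⇑Q ((γ * toGO Q (refl Q t ht)) * (γ * toGO Q (refl Q t ht)))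
      ∉ Cfsg.Inn (Cfsg.POmega F ⇑Q) := by
  set ν : F := ((multHom ⇑Q ht γ : Fˣ) : F) with hνdef
  have hν : ¬ IsSquare ν := hγm
  have hν0 : ν ≠ 0 := by
    rintro h0
    exact hν ⟨0, by rw [h0, mul_zero]⟩
  have hg₁ : Q ((γ.1 : Matrix ι ι F) *ᵥ t) = ν * Q t := multFun_spec ⇑Q γ t
  have ht' : Q ((γ.1 : Matrix ι ι F) *ᵥ t) ≠ 0 := by
    rw [hg₁]
    exact mul_ne_zero hν0 ht
  have hdet : detHom ⇑Q (refl Q _ ht' * refl Q t ht) = 1 := by
    rw [map_mul, ← reflT_of_ne Q t ht, ← reflT_of_ne Q _ ht', detHom_reflT Q t ht,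
      detHom_reflT Q _ ht']
    simp
  have hsign : signChar ⇑Q ν (refl Q _ ht' * refl Q t ht) = -1 := by
    rw [map_mul, ← reflT_of_ne Q t ht, ← reflT_of_ne Q _ ht']
    by_cases hs : IsSquare (Q t)
    · rw [(signChar_reflT Q h2 hν t ht).1 hs, (signChar_reflT Q h2 hν _ ht').2 (by
        rw [hg₁, mul_comm, isSquare_mul_nonsquare_iff ht hν]; exact not_not.2 hs), mul_one]
    · rw [(signChar_reflT Q h2 hν t ht).2 hs, (signChar_reflT Q h2 hν _ ht').1 (by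
        rw [hg₁, mul_comm, isSquare_mul_nonsquare_iff ht hν]; exact hs), one_mul]
  -- `γ r = r' γ`
  have hconj := sim_conj_refl Q γ t ht ht'
  have e1 : (γ * toGO Q (refl Q t ht)) * (γ * toGO Q (refl Q t ht))
      = toGO Q (refl Q _ ht') * (γ * γ) * toGO Q (refl Q t ht) := by
    rw [← hconj]
    group
  rw [e1, hγ2, map_mul, map_mul,
    MonoidHom.mem_ker.1 (mem_ker_of_mem_scalars ⇑Q _ (scalarGO_mem_scalars Q c)), mul_one,
    ← map_mul, ← map_mul, conjAut_toGO_mem_Inn_iff Q hQ hn hneg,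
    mem_Omega_iff_signChar Q h2 hQ hν _ hdet, hsign]
  decide

include hQ in
/-- from a similarity with non-square multiplier to one with moreover `dHom = 1` -/
theorem exists_delta_of_gamma {t : ι → F} (ht : Q t ≠ 0) (m : ℕ) (hm : Fintype.card ι = 2 * m)
    (γ : ↥(Cfsg.Geo.quadSimilarityGroup (F := F) ⇑Q))
    (hγm : ¬ IsSquare ((multHom ⇑Q ht γ : Fˣ) : F)) :
    ∃ δ : ↥(Cfsg.Geo.quadSimilarityGroup (F := F) ⇑Q),
      ¬ IsSquare ((multHom ⇑Q ht δ : Fˣ) : F) ∧ dHom Q ht m δ = 1 := by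
  rcases dHom_eq_one_or Q ht m hm hQ γ with h | h
  · exact ⟨γ, hγm, h⟩
  · refine ⟨γ * toGO Q (refl Q t ht), ?_, ?_⟩
    · rw [multHom_mul_toGO]
      exact hγm
    · rw [dHom_mul_toGO_refl, h, neg_neg]

include h2 hQ hn in
/-- if `-1 ∈ Ω` and there is a similarity `γ` with `γ²` scalar, non-square multiplier and
`dHom γ = -1`, then `ker dHom` modulo the preimage of `Inn` is cyclic of order four -/
theorem exists_psi_four_of_gamma {t : ι → F} (ht : Q t ≠ 0) (m : ℕ)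
    (hm : Fintype.card ι = 2 * m) (hneg : negOne Q ∈ Cfsg.Omega F ⇑Q)
    (γ : ↥(Cfsg.Geo.quadSimilarityGroup (F := F) ⇑Q)) (c : Fˣ)
    (hγ2 : γ * γ = scalarGO Q c) (hγm : ¬ IsSquare ((multHom ⇑Q ht γ : Fˣ) : F))
    (hγd : dHom Q ht m γ = -1) :
    ∃ ψ : ↥((dHom Q ht m).ker) →* Multiplicative (ZMod 4), Function.Surjective ψ ∧
      ∀ g : ↥((dHom Q ht m).ker), ψ g = 1 ↔
        conjAut ⇑Q g.1 ∈ Cfsg.Inn (Cfsg.POmega F ⇑Q) := by
  have hnot := conjAut_mul_refl_sq_not_mem Q h2 hQ hn hneg ht γ c hγ2 hγm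
  have hδm : ¬ IsSquare ((multHom ⇑Q ht (γ * toGO Q (refl Q t ht)) : Fˣ) : F) := by
    rw [multHom_mul_toGO]
    exact hγm
  have hδd : dHom Q ht m (γ * toGO Q (refl Q t ht)) = 1 := by
    rw [dHom_mul_toGO_refl, hγd, neg_neg]
  exact (exists_psi_of_mem Q h2 hQ hn ht m hm hneg _ hδm hδd).1 hnot

end fin

end general

end Cfsg.Agent.Helper44
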