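import Mathlib
import Cfsg.Prelude.Def_LieTypeDatum
import Cfsg.Agent.Helper44.Gram
import Cfsg.Agent.Helper44.StdForms

/-!
# An explicit similarity `γ` of the minus form with `γ² = ν`

For `ν = w₁² + a w₁ w₂ + b w₂² ≠ 0` the matrix
`γ = diag( [[0, ν],[1, 0]] , [[w₁, a w₁ + b w₂],[w₂, -w₁]] )`
is a similarity of `quadFormMinus m F a b` with multiplier `ν`, `γ² = ν` and
`det γ = (-1)^(m+1) ν^(m+1)`.
-/

set_option autoImplicit false

namespace Cfsg.Agent.Helper44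

open Matrix Module

variable {F : Type*} [Field F] (m : ℕ) (a b w₁ w₂ : F)

/-- the binary block -/
def binGamma : Matrix (Fin 2) (Fin 2) F := !![w₁, a * w₁ + b * w₂; w₂, -w₁]

/-- the hyperbolic block `(x, y) ↦ (ν y, x)` -/
def hypGamma (ν : F) : Matrix (Fin m ⊕ Fin m) (Fin m ⊕ Fin m) F :=
  Matrix.fromBlocks 0 (ν • (1 : Matrix (Fin m) (Fin m) F)) 1 0

/-- the similarity `γ` -/
def gammaMat : Matrix ((Fin m ⊕ Fin m) ⊕ Fin 2) ((Fin m ⊕ Fin m) ⊕ Fin 2) F :=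
  Matrix.fromBlocks (hypGamma m (w₁ ^ 2 + a * w₁ * w₂ + b * w₂ ^ 2)) 0 0 (binGamma a b w₁ w₂)

theorem binGamma_mul_self :
    binGamma a b w₁ w₂ * binGamma a b w₁ w₂
      = (w₁ ^ 2 + a * w₁ * w₂ + b * w₂ ^ 2) • (1 : Matrix (Fin 2) (Fin 2) F) := by
  ext i j
  fin_cases i <;> fin_cases j <;>
    simp [binGamma, Matrix.mul_apply, Fin.sum_univ_two] <;> ring

theorem det_binGamma :
    (binGamma a b w₁ w₂).det = -(w₁ ^ 2 + a * w₁ * w₂ + b * w₂ ^ 2) := by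
  rw [binGamma, Matrix.det_fin_two_of]
  ring

theorem hypGamma_mul_self (ν : F) :
    hypGamma m ν * hypGamma m ν = ν • (1 : Matrix (Fin m ⊕ Fin m) (Fin m ⊕ Fin m) F) := by
  unfold hypGamma
  rw [Matrix.fromBlocks_multiply, ← Matrix.fromBlocks_one, Matrix.fromBlocks_smul]
  simp

theorem det_hypGamma (ν : F) : (hypGamma m ν).det = (-1) ^ m * ν ^ m := by
  have h1 : hypGamma m ν
      = Matrix.fromBlocks (0 : Matrix (Fin m) (Fin m) F) 1 1 0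
        * Matrix.fromBlocks (1 : Matrix (Fin m) (Fin m) F) 0 0 (ν • (1 : Matrix (Fin m) (Fin m) F)) := by
    unfold hypGamma
    rw [Matrix.fromBlocks_multiply]
    simp
  rw [h1, Matrix.det_mul, det_antidiag_one, Matrix.det_fromBlocks_zero₁₂, Matrix.det_one, one_mul,
    Matrix.det_smul, Matrix.det_one, mul_one, Fintype.card_fin]

theorem gammaMat_mul_self :
    gammaMat m a b w₁ w₂ * gammaMat m a b w₁ w₂
      = (w₁ ^ 2 + a * w₁ * w₂ + b * w₂ ^ 2) •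
        (1 : Matrix ((Fin m ⊕ Fin m) ⊕ Fin 2) ((Fin m ⊕ Fin m) ⊕ Fin 2) F) := by
  unfold gammaMat
  rw [Matrix.fromBlocks_multiply, ← Matrix.fromBlocks_one, Matrix.fromBlocks_smul]
  simp [hypGamma_mul_self, binGamma_mul_self]

theorem det_gammaMat :
    (gammaMat m a b w₁ w₂).det
      = (-1) ^ (m + 1) * (w₁ ^ 2 + a * w₁ * w₂ + b * w₂ ^ 2) ^ (m + 1) := by
  unfold gammaMat
  rw [Matrix.det_fromBlocks_zero₁₂, det_hypGamma, det_binGamma]
  ring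

theorem hypGamma_mulVec (ν : F) (u : Fin m ⊕ Fin m → F) :
    hypGamma m ν *ᵥ u = Sum.elim (ν • (u ∘ Sum.inr)) (u ∘ Sum.inl) := by
  unfold hypGamma
  rw [Matrix.fromBlocks_mulVec]
  simp only [Matrix.zero_mulVec, add_zero, zero_add, Matrix.one_mulVec, Matrix.smul_mulVec]

theorem gammaMat_mulVec (v : (Fin m ⊕ Fin m) ⊕ Fin 2 → F) :
    gammaMat m a b w₁ w₂ *ᵥ v
      = Sum.elim (hypGamma m (w₁ ^ 2 + a * w₁ * w₂ + b * w₂ ^ 2) *ᵥ (v ∘ Sum.inl))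
          (binGamma a b w₁ w₂ *ᵥ (v ∘ Sum.inr)) := by
  unfold gammaMat
  rw [Matrix.fromBlocks_mulVec]
  simp only [Matrix.zero_mulVec, add_zero, zero_add]

theorem quadFormMinus_gammaMat (v : (Fin m ⊕ Fin m) ⊕ Fin 2 → F) :
    Cfsg.quadFormMinus m F a b (gammaMat m a b w₁ w₂ *ᵥ v)
      = (w₁ ^ 2 + a * w₁ * w₂ + b * w₂ ^ 2) * Cfsg.quadFormMinus m F a b v := by
  rw [gammaMat_mulVec, hypGamma_mulVec]
  unfold Cfsg.quadFormMinus
  simp only [Sum.elim_inl, Sum.elim_inr, Pi.smul_apply, Function.comp_apply, smul_eq_mul]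
  have e0 : (binGamma a b w₁ w₂ *ᵥ (v ∘ Sum.inr)) 0
      = w₁ * v (Sum.inr 0) + (a * w₁ + b * w₂) * v (Sum.inr 1) := by
    simp [binGamma, Matrix.mulVec, dotProduct, Fin.sum_univ_two]
  have e1 : (binGamma a b w₁ w₂ *ᵥ (v ∘ Sum.inr)) 1
      = w₂ * v (Sum.inr 0) + (-w₁) * v (Sum.inr 1) := by
    simp [binGamma, Matrix.mulVec, dotProduct, Fin.sum_univ_two]
  rw [e0, e1]
  have hsum : ∑ i : Fin m, (w₁ ^ 2 + a * w₁ * w₂ + b * w₂ ^ 2) * v (Sum.inl (Sum.inr i))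
        * v (Sum.inl (Sum.inl i))
      = (w₁ ^ 2 + a * w₁ * w₂ + b * w₂ ^ 2)
        * ∑ i : Fin m, v (Sum.inl (Sum.inl i)) * v (Sum.inl (Sum.inr i)) := by
    rw [Finset.mul_sum]
    refine Finset.sum_congr rfl fun i _ => ?_
    ring
  rw [hsum]
  ring

end Cfsg.Agent.Helper44
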