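import Cfsg.Agent.Helper44.InndiagGen2
import Cfsg.Agent.Helper44.MinusClasses
import Cfsg.Agent.Helper44.MinusGamma

/-!
# `Inndiag(PΩ⁻_{2m+2}(q)) / Inn`
-/

set_option autoImplicit false

namespace Cfsg.Agent.Helper44

open Matrix QuadraticMap Module

variable {F : Type*} [Field F] {m : ℕ}

section gamma

variable (m) (a b w₁ w₂ : F)

/-- `γ` in `GL` -/
def gammaGL (hν : w₁ ^ 2 + a * w₁ * w₂ + b * w₂ ^ 2 ≠ 0) : GL ((Fin m ⊕ Fin m) ⊕ Fin 2) F :=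
  ⟨gammaMat m a b w₁ w₂, (w₁ ^ 2 + a * w₁ * w₂ + b * w₂ ^ 2)⁻¹ • gammaMat m a b w₁ w₂,
    by rw [Matrix.mul_smul, gammaMat_mul_self, smul_smul, inv_mul_cancel₀ hν, one_smul],
    by rw [Matrix.smul_mul, gammaMat_mul_self, smul_smul, inv_mul_cancel₀ hν, one_smul]⟩

/-- `γ` as a similarity of the minus form -/
def gammaGO (hν : w₁ ^ 2 + a * w₁ * w₂ + b * w₂ ^ 2 ≠ 0) :
    ↥(Cfsg.Geo.quadSimilarityGroup (F := F) ⇑(minusForm m F a b)) :=
  ⟨gammaGL m a b w₁ w₂ hν, ⟨Units.mk0 _ hν, fun v => quadFormMinus_gammaMat m a b w₁ w₂ v⟩⟩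

theorem multHom_gammaGO (hν : w₁ ^ 2 + a * w₁ * w₂ + b * w₂ ^ 2 ≠ 0)
    {t : (Fin m ⊕ Fin m) ⊕ Fin 2 → F} (ht : minusForm m F a b t ≠ 0) :
    multHom ⇑(minusForm m F a b) ht (gammaGO m a b w₁ w₂ hν) = Units.mk0 _ hν :=
  multHom_eq ⇑(minusForm m F a b) ht _ _ (fun v => quadFormMinus_gammaMat m a b w₁ w₂ v)

theorem gammaGO_mul_self (hν : w₁ ^ 2 + a * w₁ * w₂ + b * w₂ ^ 2 ≠ 0) :
    gammaGO m a b w₁ w₂ hν * gammaGO m a b w₁ w₂ hν
      = scalarGO (minusForm m F a b) (Units.mk0 _ hν) := by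
  apply Subtype.ext
  apply Units.ext
  show gammaMat m a b w₁ w₂ * gammaMat m a b w₁ w₂
    = ((Matrix.GeneralLinearGroup.scalar ((Fin m ⊕ Fin m) ⊕ Fin 2) (Units.mk0 _ hν) :
      GL ((Fin m ⊕ Fin m) ⊕ Fin 2) F) :
      Matrix ((Fin m ⊕ Fin m) ⊕ Fin 2) ((Fin m ⊕ Fin m) ⊕ Fin 2) F)
  rw [gammaMat_mul_self, Matrix.GeneralLinearGroup.coe_scalar, Units.val_mk0]
  ext i j
  simp [Matrix.smul_apply, Matrix.one_apply, Matrix.scalar_apply, Matrix.diagonal_apply]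

theorem dHom_gammaGO (hν : w₁ ^ 2 + a * w₁ * w₂ + b * w₂ ^ 2 ≠ 0)
    {t : (Fin m ⊕ Fin m) ⊕ Fin 2 → F} (ht : minusForm m F a b t ≠ 0) :
    dHom (minusForm m F a b) ht (m + 1) (gammaGO m a b w₁ w₂ hν) = (-1) ^ (m + 1) := by
  rw [dHom_apply, multHom_gammaGO]
  apply Units.ext
  rw [Units.val_mul, Matrix.GeneralLinearGroup.val_det_apply, Units.val_pow_eq_pow_val,
    Units.val_inv_eq_inv_val, Units.val_mk0, Units.val_pow_eq_pow_val, Units.val_neg,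
    Units.val_one]
  show (gammaMat m a b w₁ w₂).det * _ = _
  rw [det_gammaMat, mul_assoc, ← mul_pow, mul_inv_cancel₀ hν, one_pow, mul_one]

end gamma

section main

variable [Fintype F]

/-- an anisotropic (indeed any non-degenerate) binary form represents a non-square -/
theorem exists_binary_nonsquare (h2 : (2 : F) ≠ 0) (a b : F) (hD : a ^ 2 - 4 * b ≠ 0) :
    ∃ w₁ w₂ : F, ¬ IsSquare (w₁ ^ 2 + a * w₁ * w₂ + b * w₂ ^ 2) := by
  obtain ⟨ν, hν⟩ := FiniteField.exists_nonsquare (ringChar_ne_two_of_two_ne_zero h2)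
  have hcard : Fintype.card F % 2 = 1 :=
    FiniteField.odd_card_of_char_ne_two (ringChar_ne_two_of_two_ne_zero h2)
  have h4 : (4 : F) ≠ 0 := by
    have : (4 : F) = 2 * 2 := by norm_num
    rw [this]
    exact mul_ne_zero h2 h2
  have hc : b - a ^ 2 / 4 ≠ 0 := by
    intro h
    apply hD
    field_simp at h
    linear_combination -h
  open Polynomial in
  have hf : degree (X ^ 2 - C ν : F[X]) = 2 := by
    rw [degree_sub_C, degree_X_pow]
    · rfl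
    · rw [degree_X_pow]
      norm_num
  open Polynomial in
  have hg : degree (C (b - a ^ 2 / 4) * X ^ 2 : F[X]) = 2 := by
    rw [degree_C_mul_X_pow 2 hc]
    rfl
  obtain ⟨x, y, hxy⟩ := FiniteField.exists_root_sum_quadratic hf hg hcard
  simp only [Polynomial.eval_sub, Polynomial.eval_mul, Polynomial.eval_C, Polynomial.eval_pow,
    Polynomial.eval_X] at hxy
  refine ⟨x - a / 2 * y, y, ?_⟩
  have e : (x - a / 2 * y) ^ 2 + a * (x - a / 2 * y) * y + b * y ^ 2 = ν := by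
    field_simp
    field_simp at hxy
    linear_combination hxy
  rw [e]
  exact hν

/-- the inner-diagonal group of the minus form is the image of `ker dHom` -/
theorem inndiagMinus_eq_map (h2 : (2 : F) ≠ 0) (hm : 2 ≤ m) (a b : F)
    (hab : ∀ z₁ z₂ : F, z₁ ^ 2 + a * z₁ * z₂ + b * z₂ ^ 2 = 0 → z₁ = 0 ∧ z₂ = 0)
    {t : (Fin m ⊕ Fin m) ⊕ Fin 2 → F} (ht : minusForm m F a b t ≠ 0) :
    Cfsg.inndiagPOmegaMinus m F a b
      = ((dHom (minusForm m F a b) ht (m + 1)).ker).map (conjAut ⇑(minusForm m F a b)) := by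
  rw [← closure_eq_map_ker_dHom (minusForm m F a b) ht (m + 1)
    (Cfsg.PreservesSingularClassesMinus m a b)
    (fun g => preservesSingularClassesMinus_iff h2 hm a b hab ht g)]
  rfl

/-- assembly for the minus form -/
theorem exists_hom_inndiagMinus (h2 : (2 : F) ≠ 0) (hm : 2 ≤ m) (a b : F)
    (hab : ∀ z₁ z₂ : F, z₁ ^ 2 + a * z₁ * z₂ + b * z₂ ^ 2 = 0 → z₁ = 0 ∧ z₂ = 0)
    {t : (Fin m ⊕ Fin m) ⊕ Fin 2 → F} (ht : minusForm m F a b t ≠ 0) {C : Type*} [Group C]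
    (ψ : ↥((dHom (minusForm m F a b) ht (m + 1)).ker) →* C) (hs : Function.Surjective ψ)
    (hker : ∀ g : ↥((dHom (minusForm m F a b) ht (m + 1)).ker), ψ g = 1 ↔
      conjAut ⇑(minusForm m F a b) g.1 ∈ Cfsg.Inn (Cfsg.POmega F ⇑(minusForm m F a b))) :
    ∃ φ : ↥(Cfsg.inndiagPOmegaMinus m F a b) →* C, Function.Surjective φ ∧
      φ.ker = (Cfsg.Inn (Cfsg.POmega F (Cfsg.quadFormMinus m F a b))).subgroupOf
        (Cfsg.inndiagPOmegaMinus m F a b) := by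
  rw [inndiagMinus_eq_map h2 hm a b hab ht]
  exact exists_hom_of_ker_dHom (minusForm m F a b) ht (m + 1) ψ hs hker

/-- case `-1 ∉ Ω`: `Inndiag / Inn` has order two -/
theorem inndiagMinus_mod_Inn_of_not_mem (h2 : (2 : F) ≠ 0) (hm : 3 ≤ m) (a b : F)
    (hab : ∀ z₁ z₂ : F, z₁ ^ 2 + a * z₁ * z₂ + b * z₂ ^ 2 = 0 → z₁ = 0 ∧ z₂ = 0)
    (hneg : negOne (minusForm m F a b) ∉ Cfsg.Omega F ⇑(minusForm m F a b)) :
    ∃ φ : ↥(Cfsg.inndiagPOmegaMinus m F a b) →* Multiplicative (ZMod 2), Function.Surjective φ ∧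
      φ.ker = (Cfsg.Inn (Cfsg.POmega F (Cfsg.quadFormMinus m F a b))).subgroupOf
        (Cfsg.inndiagPOmegaMinus m F a b) := by
  have hD : ¬ IsSquare (a ^ 2 - 4 * b) := not_isSquare_disc_of_anisotropic h2 a b hab
  have hD0 : a ^ 2 - 4 * b ≠ 0 := by
    intro h0
    exact hD ⟨0, by rw [h0, mul_zero]⟩
  have hQ := nondegenerate_minusForm (F := F) m a b hD0
  have hcard : Fintype.card ((Fin m ⊕ Fin m) ⊕ Fin 2) = 2 * (m + 1) := by
    rw [Fintype.card_sum, Fintype.card_sum, Fintype.card_fin, Fintype.card_fin]; omega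
  have hn : 7 ≤ Fintype.card ((Fin m ⊕ Fin m) ⊕ Fin 2) := by rw [hcard]; omega
  obtain ⟨t, _, _, ht⟩ := exists_nonsingular_perp_pair (minusForm m F a b) hQ
    (by rw [Module.finrank_fintype_fun_eq_card]; omega) 0 0
  obtain ⟨w₁, w₂, hw⟩ := exists_binary_nonsquare h2 a b hD0
  have hν : w₁ ^ 2 + a * w₁ * w₂ + b * w₂ ^ 2 ≠ 0 := by
    intro h0
    exact hw ⟨0, by rw [h0, mul_zero]⟩
  have hmγ := multHom_gammaGO m a b w₁ w₂ hν ht
  have hγm : ¬ IsSquare ((multHom ⇑(minusForm m F a b) ht (gammaGO m a b w₁ w₂ hν) : Fˣ) : F) := by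
    rw [hmγ, Units.val_mk0]
    exact hw
  obtain ⟨δ, hδm, hδd⟩ := exists_delta_of_gamma (minusForm m F a b) hQ ht (m + 1) hcard _ hγm
  obtain ⟨ψ, hs, hk⟩ := exists_psi_of_not_mem (minusForm m F a b) h2 hQ hn ht (m + 1) hcard hneg
    δ hδm hδd
  exact exists_hom_inndiagMinus h2 (by omega) a b hab ht ψ hs hk

/-- case `-1 ∈ Ω` (then `m` is even): `Inndiag / Inn` is cyclic of order four -/
theorem inndiagMinus_mod_Inn_of_mem (h2 : (2 : F) ≠ 0) (hm : 3 ≤ m) (hme : Even m) (a b : F)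
    (hab : ∀ z₁ z₂ : F, z₁ ^ 2 + a * z₁ * z₂ + b * z₂ ^ 2 = 0 → z₁ = 0 ∧ z₂ = 0)
    (hneg : negOne (minusForm m F a b) ∈ Cfsg.Omega F ⇑(minusForm m F a b)) :
    ∃ φ : ↥(Cfsg.inndiagPOmegaMinus m F a b) →* Multiplicative (ZMod 4), Function.Surjective φ ∧
      φ.ker = (Cfsg.Inn (Cfsg.POmega F (Cfsg.quadFormMinus m F a b))).subgroupOf
        (Cfsg.inndiagPOmegaMinus m F a b) := by
  have hD : ¬ IsSquare (a ^ 2 - 4 * b) := not_isSquare_disc_of_anisotropic h2 a b hab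
  have hD0 : a ^ 2 - 4 * b ≠ 0 := by
    intro h0
    exact hD ⟨0, by rw [h0, mul_zero]⟩
  have hQ := nondegenerate_minusForm (F := F) m a b hD0
  have hcard : Fintype.card ((Fin m ⊕ Fin m) ⊕ Fin 2) = 2 * (m + 1) := by
    rw [Fintype.card_sum, Fintype.card_sum, Fintype.card_fin, Fintype.card_fin]; omega
  have hn : 7 ≤ Fintype.card ((Fin m ⊕ Fin m) ⊕ Fin 2) := by rw [hcard]; omega
  obtain ⟨t, _, _, ht⟩ := exists_nonsingular_perp_pair (minusForm m F a b) hQ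
    (by rw [Module.finrank_fintype_fun_eq_card]; omega) 0 0
  obtain ⟨w₁, w₂, hw⟩ := exists_binary_nonsquare h2 a b hD0
  have hν : w₁ ^ 2 + a * w₁ * w₂ + b * w₂ ^ 2 ≠ 0 := by
    intro h0
    exact hw ⟨0, by rw [h0, mul_zero]⟩
  have hmγ := multHom_gammaGO m a b w₁ w₂ hν ht
  have hγm : ¬ IsSquare ((multHom ⇑(minusForm m F a b) ht (gammaGO m a b w₁ w₂ hν) : Fˣ) : F) := by
    rw [hmγ, Units.val_mk0]
    exact hw
  have hγd : dHom (minusForm m F a b) ht (m + 1) (gammaGO m a b w₁ w₂ hν) = -1 := by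
    rw [dHom_gammaGO, Odd.neg_one_pow (Even.add_one hme)]
  obtain ⟨ψ, hs, hk⟩ := exists_psi_four_of_gamma (minusForm m F a b) h2 hQ hn ht (m + 1) hcard
    hneg (gammaGO m a b w₁ w₂ hν) _ (gammaGO_mul_self m a b w₁ w₂ hν) hγm hγd
  exact exists_hom_inndiagMinus h2 (by omega) a b hab ht ψ hs hk

end main

end Cfsg.Agent.Helper44
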