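import Cfsg.Agent.Helper44.InndiagGen

/-!
# `Inndiag(PΩ⁺_{2m}(q)) / Inn` when `-1 ∈ Ω`
-/

set_option autoImplicit false

namespace Cfsg.Agent.Helper44

open Matrix QuadraticMap Module

variable {F : Type*} [Field F] {m : ℕ}

section plusmain

variable [Fintype F] (h2 : (2 : F) ≠ 0)

/-- `δ²` induces an inner automorphism iff `m` is even -/
theorem conjAut_deltaGO_sq_mem_Inn_iff (hm : 4 ≤ m)
    (hneg : negOne (plusForm m F) ∈ Cfsg.Omega F ⇑(plusForm m F)) {ν : F} (hν : ¬ IsSquare ν)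
    (hν0 : ν ≠ 0) :
    conjAut ⇑(plusForm m F) (deltaGO m (Units.mk0 ν hν0) * deltaGO m (Units.mk0 ν hν0))
      ∈ Cfsg.Inn (Cfsg.POmega F ⇑(plusForm m F)) ↔ Even m := by
  have hQ := nondegenerate_plusForm (F := F) m
  have hcard : Fintype.card (Fin m ⊕ Fin m) = 2 * m := by
    rw [Fintype.card_sum, Fintype.card_fin]; omega
  have hn : 7 ≤ Fintype.card (Fin m ⊕ Fin m) := by rw [hcard]; omega
  rw [deltaGO_mul_self, map_mul,
    MonoidHom.mem_ker.1 (mem_ker_of_mem_scalars ⇑(plusForm m F) _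
      (scalarGO_mem_scalars (plusForm m F) _)), one_mul]
  refine Iff.trans (conjAut_toGO_mem_Inn_iff (plusForm m F) hQ hn hneg
    (plusEmbed (Matrix.GeneralLinearGroup.scalar (Fin m) (Units.mk0 ν hν0)))) ?_
  have h1 := plusEmbed_mem_Omega_iff (F := F) (m := m) (by omega) (Or.inr (by omega))
    (Matrix.GeneralLinearGroup.scalar (Fin m) (Units.mk0 ν hν0))
  refine Iff.trans h1 ?_
  rw [Matrix.GeneralLinearGroup.coe_scalar]
  have hs : (Matrix.scalar (Fin m)) ((Units.mk0 ν hν0 : Fˣ) : F)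
      = Matrix.diagonal (fun _ => ν) := rfl
  rw [hs, Matrix.det_diagonal, Finset.prod_const, Finset.card_univ, Fintype.card_fin]
  exact isSquare_nonsquare_pow_iff hν m

include h2 in
/-- case `-1 ∈ Ω`: `Inndiag / Inn` has order four, cyclic iff `m` is odd -/
theorem inndiag_mod_Inn_of_mem (hm : 4 ≤ m)
    (hneg : negOne (plusForm m F) ∈ Cfsg.Omega F ⇑(plusForm m F)) :
    (Odd m → ∃ φ : ↥(Cfsg.inndiagPOmegaPlus m F) →* Multiplicative (ZMod 4),
      Function.Surjective φ ∧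
      φ.ker = (Cfsg.Inn (Cfsg.POmega F (Cfsg.quadFormPlus m F))).subgroupOf
        (Cfsg.inndiagPOmegaPlus m F)) ∧
    (Even m → ∃ φ : ↥(Cfsg.inndiagPOmegaPlus m F) →* Multiplicative (ZMod 2 × ZMod 2),
      Function.Surjective φ ∧
      φ.ker = (Cfsg.Inn (Cfsg.POmega F (Cfsg.quadFormPlus m F))).subgroupOf
        (Cfsg.inndiagPOmegaPlus m F)) := by
  have hQ := nondegenerate_plusForm (F := F) m
  have hcard : Fintype.card (Fin m ⊕ Fin m) = 2 * m := by
    rw [Fintype.card_sum, Fintype.card_fin]; omega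
  have hn : 7 ≤ Fintype.card (Fin m ⊕ Fin m) := by rw [hcard]; omega
  obtain ⟨t, _, _, ht⟩ := exists_nonsingular_perp_pair (plusForm m F) hQ
    (by rw [Module.finrank_fintype_fun_eq_card]; omega) 0 0
  obtain ⟨ν, hν⟩ := FiniteField.exists_nonsquare (ringChar_ne_two_of_two_ne_zero h2)
  have hν0 : ν ≠ 0 := by
    rintro rfl
    exact hν ⟨0, by simp⟩
  have hδm : ¬ IsSquare ((multHom ⇑(plusForm m F) ht (deltaGO m (Units.mk0 ν hν0)) : Fˣ) : F) := by
    rw [multHom_deltaGO, Units.val_mk0]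
    exact hν
  obtain ⟨hA, hB⟩ := exists_psi_of_mem (plusForm m F) h2 hQ hn ht m hcard hneg
    (deltaGO m (Units.mk0 ν hν0)) hδm (dHom_deltaGO ht _)
  rw [conjAut_deltaGO_sq_mem_Inn_iff hm hneg hν hν0] at hA hB
  constructor
  · intro hodd
    obtain ⟨ψ, hs, hk⟩ := hA (Nat.not_even_iff_odd.2 hodd)
    exact exists_hom_inndiag h2 ht ψ hs hk
  · intro heven
    obtain ⟨ψ, hs, hk⟩ := hB heven
    exact exists_hom_inndiag h2 ht ψ hs hk

end plusmain

end Cfsg.Agent.Helper44
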