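import Mathlib
import Cfsg.Prelude.Def_ClassicalGeometry
import Cfsg.Agent.Helper44.PlusRot

set_option autoImplicit false

namespace Cfsg.Agent.Helper44

open Matrix

variable {F : Type*} [Field F] {m : ℕ}

theorem IsHypPair.reflection_sub_mulVec {ι : Type} [Fintype ι] [DecidableEq ι]
    {Q : QuadraticForm F (ι → F)} {a b : ι} (h : IsHypPair Q a b) (x : ι → F) :
    Cfsg.reflectionMatrix ⇑Q (Pi.single a 1 - Pi.single b 1) *ᵥ x
      = fun c => x (Equiv.swap a b c) := by
  rw [Helper13.reflectionMatrix_mulVec, h.Q_sub, QuadraticMap.polar_sub_left, h.polar_a, h.polar_b]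
  have hab := h.ne
  have hba := h.ne.symm
  funext k
  by_cases hka : k = a
  · subst hka
    simp [hab, hba]
  · by_cases hkb : k = b
    · subst hkb
      simp [hab, hba]
    · simp [Pi.single_apply, hka, hkb, Equiv.swap_apply_of_ne_of_ne hka hkb]

/-- permutation matrices in `GL` -/
noncomputable def permGL (m : ℕ) (F : Type*) [Field F] : Equiv.Perm (Fin m) →* GL (Fin m) F :=
  (Matrix.permMatrixHom (n := Fin m) (R := F)).toHomUnits

theorem permGL_coe (π : Equiv.Perm (Fin m)) :
    ((permGL m F π : GL (Fin m) F) : Matrix (Fin m) (Fin m) F) = (π⁻¹).permMatrix F := rfl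

theorem plusEmbed_permGL_mulVec (π : Equiv.Perm (Fin m)) (v : Fin m ⊕ Fin m → F) :
    (((plusEmbed (permGL m F π) : Cfsg.isometryGroup F (quadFormPlus m F)) :
      GL (Fin m ⊕ Fin m) F) : Matrix _ _ F) *ᵥ v
      = Sum.elim (fun a => v (Sum.inl (π⁻¹ a))) (fun a => v (Sum.inr (π⁻¹ a))) := by
  rw [plusEmbed_coe, plusEmbedMat, ← map_inv, permGL_coe, permGL_coe, inv_inv,
    Matrix.transpose_permMatrix, Matrix.fromBlocks_mulVec]
  simp only [Matrix.zero_mulVec, add_zero, zero_add, Matrix.permMatrix_mulVec]
  rfl

/-- the vectors `e_i - f_i` -/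
def uVec (m : ℕ) (F : Type*) [Field F] (i : Fin m) : Fin m ⊕ Fin m → F :=
  Pi.single (Sum.inl i) 1 - Pi.single (Sum.inr i) 1

theorem plusForm_uVec (i : Fin m) : plusForm m F (uVec m F i) = -1 :=
  (isHypPair_plusForm m i).Q_sub

theorem plusForm_uVec_ne_zero (i : Fin m) : plusForm m F (uVec m F i) ≠ 0 := by
  rw [plusForm_uVec]
  exact neg_ne_zero.2 one_ne_zero

theorem plusEmbed_permGL_uVec (π : Equiv.Perm (Fin m)) (i : Fin m) :
    (((plusEmbed (permGL m F π) : Cfsg.isometryGroup F (quadFormPlus m F)) :
      GL (Fin m ⊕ Fin m) F) : Matrix _ _ F) *ᵥ uVec m F i = uVec m F (π i) := by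
  rw [plusEmbed_permGL_mulVec]
  funext k
  rcases k with k | k
  · simp only [Sum.elim_inl, uVec, Pi.sub_apply, Pi.single_apply, Sum.inl.injEq, reduceCtorEq,
      if_false, sub_zero]
    by_cases h : k = π i
    · rw [if_pos h, if_pos (by rw [h]; simp)]
    · rw [if_neg h, if_neg (fun h' => h (by rw [← h']; simp))]
  · simp only [Sum.elim_inr, uVec, Pi.sub_apply, Pi.single_apply, Sum.inr.injEq, reduceCtorEq,
      if_false, zero_sub]
    by_cases h : k = π i
    · rw [if_pos h, if_pos (by rw [h]; simp)]
    · rw [if_neg h, if_neg (fun h' => h (by rw [← h']; simp))]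

theorem rho_uVec_eq (i j : Fin m) :
    rho (plusForm m F) (uVec m F i) = rho (plusForm m F) (uVec m F j) := by
  have h := refl_mul_refl_map_mem_Omega (plusForm m F)
    (plusEmbed (permGL m F (Equiv.swap i j))) (uVec m F i) (plusForm_uVec_ne_zero i)
    (by
      have := plusEmbed_permGL_uVec (F := F) (Equiv.swap i j) i
      rw [Equiv.swap_apply_left] at this
      rw [this]
      exact plusForm_uVec_ne_zero j)
  have h3 : rho (plusForm m F) (uVec m F i) * rho (plusForm m F) (uVec m F j) = 1 := by
    rw [rho, rho, ← map_mul, reflT_of_ne _ _ (plusForm_uVec_ne_zero i),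
      reflT_of_ne _ _ (plusForm_uVec_ne_zero j), ← MonoidHom.mem_ker, Abelianization.ker_of]
    convert h using 3
    have := plusEmbed_permGL_uVec (F := F) (Equiv.swap i j) i
    rw [Equiv.swap_apply_left] at this
    exact this.symm
  calc rho (plusForm m F) (uVec m F i)
      = rho (plusForm m F) (uVec m F i) * (rho (plusForm m F) (uVec m F j)
          * rho (plusForm m F) (uVec m F j)) := by rw [rho_mul_self, mul_one]
    _ = rho (plusForm m F) (uVec m F j) := by rw [← mul_assoc, h3, one_mul]

/-- the partial swap of the first `k` hyperbolic pairs, acting on vectors -/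
def partialSwapVec (k : ℕ) (x : Fin m ⊕ Fin m → F) : Fin m ⊕ Fin m → F :=
  Sum.elim (fun i => if (i : ℕ) < k then x (Sum.inr i) else x (Sum.inl i))
    (fun i => if (i : ℕ) < k then x (Sum.inl i) else x (Sum.inr i))

theorem exists_list_partialSwap : ∀ k, k ≤ m → ∃ vs : List (Fin m ⊕ Fin m → F),
    (∀ v ∈ vs, ∃ i, v = uVec m F i) ∧ vs.length = k ∧
    ∀ x, (vs.map (fun v => Cfsg.reflectionMatrix ⇑(plusForm m F) v)).prod *ᵥ x
      = partialSwapVec k x := by
  intro k
  induction k with
  | zero =>
    intro _
    refine ⟨[], by simp, rfl, ?_⟩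
    intro x
    simp only [List.map_nil, List.prod_nil, Matrix.one_mulVec]
    funext c
    rcases c with c | c <;> simp [partialSwapVec]
  | succ k ih =>
    intro hk
    obtain ⟨vs, h1, h2, h3⟩ := ih (Nat.le_of_succ_le hk)
    refine ⟨vs ++ [uVec m F ⟨k, hk⟩], ?_, ?_, ?_⟩
    · intro v hv
      rcases List.mem_append.1 hv with hv | hv
      · exact h1 v hv
      · simp only [List.mem_cons, List.not_mem_nil, or_false] at hv
        exact ⟨_, hv⟩
    · rw [List.length_append, h2]
      rfl
    · intro x
      rw [List.map_append, List.prod_append, ← Matrix.mulVec_mulVec, h3]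
      simp only [List.map_cons, List.map_nil, List.prod_cons, List.prod_nil, mul_one]
      rw [uVec, (isHypPair_plusForm m ⟨k, hk⟩).reflection_sub_mulVec]
      funext c
      rcases c with c | c
      · simp only [partialSwapVec, Sum.elim_inl]
        by_cases hc : (c : ℕ) < k
        · have hne : c ≠ ⟨k, hk⟩ := fun h => by rw [h] at hc; simp at hc
          rw [if_pos hc, if_pos (by omega), Equiv.swap_apply_of_ne_of_ne (by simp) (by simpa using hne)]
        · by_cases hck : c = ⟨k, hk⟩
          · subst hck
            rw [if_neg hc, if_pos (by simp), Equiv.swap_apply_left]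
          · have : ¬ (c : ℕ) < k + 1 := by
              intro h
              apply hck
              apply Fin.ext
              simp only
              omega
            rw [if_neg hc, if_neg this, Equiv.swap_apply_of_ne_of_ne (by simpa using hck) (by simp)]
      · simp only [partialSwapVec, Sum.elim_inr]
        by_cases hc : (c : ℕ) < k
        · have hne : c ≠ ⟨k, hk⟩ := fun h => by rw [h] at hc; simp at hc
          rw [if_pos hc, if_pos (by omega), Equiv.swap_apply_of_ne_of_ne (by simpa using hne) (by simp)]
        · by_cases hck : c = ⟨k, hk⟩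
          · subst hck
            rw [if_neg hc, if_pos (by simp), Equiv.swap_apply_right]
          · have : ¬ (c : ℕ) < k + 1 := by
              intro h
              apply hck
              apply Fin.ext
              simp only
              omega
            rw [if_neg hc, if_neg this, Equiv.swap_apply_of_ne_of_ne (by simp) (by simpa using hck)]

theorem swapMat_mulVec (x : Fin m ⊕ Fin m → F) :
    swapMat m F *ᵥ x = Sum.elim (fun i => x (Sum.inr i)) (fun i => x (Sum.inl i)) := by
  rw [swapMat, Matrix.fromBlocks_mulVec]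
  simp only [Matrix.zero_mulVec, Matrix.one_mulVec, zero_add, add_zero]
  rfl

/-- for even `m` the swap of the two standard maximal totally singular subspaces lies in `Ω` -/
theorem swapIso_mem_Omega (hm : Even m) : swapIso m F ∈ Cfsg.Omega F (quadFormPlus m F) := by
  rcases Nat.eq_zero_or_pos m with h0 | hpos
  · subst h0
    have : swapIso 0 F = 1 := by
      apply isometryGroup_ext
      intro x
      funext c
      rcases c with c | c <;> exact c.elim0
    rw [this]
    exact one_mem _
  obtain ⟨vs, h1, h2, h3⟩ := exists_list_partialSwap (F := F) m le_rfl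
  have hvs : ∀ v ∈ vs, plusForm m F v ≠ 0 := by
    intro v hv
    obtain ⟨i, rfl⟩ := h1 v hv
    exact plusForm_uVec_ne_zero i
  have hsw : swapIso m F = (vs.map (reflT (plusForm m F))).prod := by
    apply isometryGroup_ext
    intro x
    rw [coe_prod_reflT (plusForm m F) vs hvs, h3]
    show swapMat m F *ᵥ x = _
    rw [swapMat_mulVec]
    funext c
    rcases c with c | c <;> simp [partialSwapVec]
  have key : (vs.map (reflT (plusForm m F))).prod ∈ Cfsg.Omega F ⇑(plusForm m F) := by
    show _ ∈ commutator (Cfsg.isometryGroup F ⇑(plusForm m F))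
    rw [← Abelianization.ker_of, MonoidHom.mem_ker, map_list_prod, List.map_map]
    have h4 : ∀ y ∈ vs.map (⇑Abelianization.of ∘ reflT (plusForm m F)),
        y = rho (plusForm m F) (uVec m F ⟨0, hpos⟩) := by
      intro y hy
      obtain ⟨v, hv, rfl⟩ := List.mem_map.1 hy
      obtain ⟨i, rfl⟩ := h1 v hv
      exact rho_uVec_eq i _
    rw [List.prod_eq_pow_card _ _ h4, List.length_map, h2]
    obtain ⟨k, rfl⟩ := hm
    rw [pow_add, ← mul_pow, rho_mul_self, one_pow]
  rw [hsw]
  exact key

end Cfsg.Agent.Helper44
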