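import Mathlib
import Cfsg.Prelude.Def_GeometricClasses
import Cfsg.Agent.Helper44.QTypeCount
import Cfsg.Agent.Helper43.SSConj
import Cfsg.Agent.S2569

set_option autoImplicit false

/-!
# Similarities of quadratic forms on `F^n`: vocabulary for the coset action of `PSL_n(q)` on the
orthogonal-type subgroups (statement S5981)

* `SimWith Q M c`: the matrix `M` multiplies the quadratic form `Q` by `c`;
* `IsPrimeElt r x`: `x` is a matrix of determinant one, not scalar, with `x ^ r` scalar;
* `NoSim x`, `NoSimT m ε x`: `x` is a similarity of no non-degenerate quadratic form (of type `ε`);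
* `not_conj_mem_of_noSimT`, `not_conj_mem_of_noSim`: such an element has no conjugate in the
  similarity group of `Q`;
* `exists_conj_of_charpoly`: a semisimple element of `SL_n` with the characteristic polynomial of
  a semisimple similarity of `Q` is conjugate under `SL_n` into the similarity group of `Q`.
-/

namespace Cfsg.Agent.Helper44.QSim

open Matrix Cfsg.Geo QuadraticMap Cfsg.Agent.Helper44.QType

universe u

variable {F : Type u} [Field F] {n : ℕ}

/-- `M` multiplies the quadratic form `Q` by the scalar `c`. -/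
def SimWith (Q : (Fin n → F) → F) (M : Matrix (Fin n) (Fin n) F) (c : F) : Prop :=
  ∀ v, Q (M *ᵥ v) = c * Q v

theorem mem_quadSimilarityGroup_iff (Q : (Fin n → F) → F) (g : GL (Fin n) F) :
    g ∈ quadSimilarityGroup Q ↔ ∃ c : Fˣ, SimWith Q (g : Matrix (Fin n) (Fin n) F) (c : F) :=
  Iff.rfl

/-- `x` is a matrix of determinant one which is not scalar and whose `r`-th power is scalar (an
element of order `r` of `PSL_n`). -/
def IsPrimeElt (r : ℕ) (x : GL (Fin n) F) : Prop :=
  x ∈ specialLinear (Fin n) F ∧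
    (∃ z : F, ((x ^ r : GL (Fin n) F) : Matrix (Fin n) (Fin n) F)
      = z • (1 : Matrix (Fin n) (Fin n) F)) ∧
    ∀ z : F, (x : Matrix (Fin n) (Fin n) F) ≠ z • (1 : Matrix (Fin n) (Fin n) F)

/-- `x` is a similarity of no non-degenerate quadratic form. -/
def NoSim (x : Matrix (Fin n) (Fin n) F) : Prop :=
  ∀ Q' : QuadraticForm F (Fin n → F), (polarBilin Q').Nondegenerate →
    ∀ c : F, c ≠ 0 → ¬ SimWith (⇑Q') x c

/-- `x` is a similarity of no non-degenerate quadratic form of `m`-type `ε`. -/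
def NoSimT (m : ℕ) (ε : ℤ) (x : Matrix (Fin n) (Fin n) F) : Prop :=
  ∀ Q' : QuadraticForm F (Fin n → F), (polarBilin Q').Nondegenerate → HasType (⇑Q') m ε →
    ∀ c : F, c ≠ 0 → ¬ SimWith (⇑Q') x c

theorem NoSim.noSimT {x : Matrix (Fin n) (Fin n) F} (h : NoSim x) (m : ℕ) (ε : ℤ) :
    NoSimT m ε x := fun Q' hQ' _ c hc => h Q' hQ' c hc

theorem coe_inv_mul (g : GL (Fin n) F) :
    ((g⁻¹ : GL (Fin n) F) : Matrix (Fin n) (Fin n) F) * (g : Matrix (Fin n) (Fin n) F) = 1 := by
  rw [← Units.val_mul, inv_mul_cancel]; rfl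

theorem coe_mul_inv (g : GL (Fin n) F) :
    (g : Matrix (Fin n) (Fin n) F) * ((g⁻¹ : GL (Fin n) F) : Matrix (Fin n) (Fin n) F) = 1 := by
  rw [← Units.val_mul, mul_inv_cancel]; rfl

/-- the transported form `v ↦ Q (g⁻¹ v)` -/
noncomputable def pullForm (Q : QuadraticForm F (Fin n → F)) (g : GL (Fin n) F) :
    QuadraticForm F (Fin n → F) :=
  Q.comp (Matrix.toLin' ((g⁻¹ : GL (Fin n) F) : Matrix (Fin n) (Fin n) F))

theorem pullForm_apply (Q : QuadraticForm F (Fin n → F)) (g : GL (Fin n) F) (v : Fin n → F) :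
    pullForm Q g v = Q (((g⁻¹ : GL (Fin n) F) : Matrix (Fin n) (Fin n) F) *ᵥ v) := rfl

theorem pullForm_mulVec (Q : QuadraticForm F (Fin n → F)) (g : GL (Fin n) F) (v : Fin n → F) :
    pullForm Q g ((g : Matrix (Fin n) (Fin n) F) *ᵥ v) = Q v := by
  rw [pullForm_apply, Matrix.mulVec_mulVec, coe_inv_mul, Matrix.one_mulVec]

theorem polar_pullForm (Q : QuadraticForm F (Fin n → F)) (g : GL (Fin n) F) (u v : Fin n → F) :
    polar (⇑(pullForm Q g)) u v
      = polar (⇑Q) (((g⁻¹ : GL (Fin n) F) : Matrix (Fin n) (Fin n) F) *ᵥ u)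
          (((g⁻¹ : GL (Fin n) F) : Matrix (Fin n) (Fin n) F) *ᵥ v) := by
  unfold polar
  rw [pullForm_apply, pullForm_apply, pullForm_apply, Matrix.mulVec_add]

theorem pullForm_nondegenerate (Q : QuadraticForm F (Fin n → F))
    (hQ : (polarBilin Q).Nondegenerate) (g : GL (Fin n) F) :
    (polarBilin (pullForm Q g)).Nondegenerate := by
  have key : ∀ x : Fin n → F, (∀ y, polar (⇑(pullForm Q g)) x y = 0) → x = 0 := by
    intro x hx
    have h1 : ((g⁻¹ : GL (Fin n) F) : Matrix (Fin n) (Fin n) F) *ᵥ x = 0 := by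
      apply hQ.1
      intro y
      have := hx ((g : Matrix (Fin n) (Fin n) F) *ᵥ y)
      rw [polar_pullForm, Matrix.mulVec_mulVec, coe_inv_mul, Matrix.one_mulVec] at this
      rw [polarBilin_apply_apply]
      exact this
    have h2 := congrArg (fun w => (g : Matrix (Fin n) (Fin n) F) *ᵥ w) h1
    simpa [Matrix.mulVec_mulVec, coe_mul_inv] using h2
  refine ⟨fun x hx => key x fun y => ?_, fun y hy => key y fun x => ?_⟩
  · have := hx y
    rwa [polarBilin_apply_apply] at this
  · have := hy x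
    rw [polarBilin_apply_apply] at this
    rw [polar_comm]
    exact this

theorem hasType_pullForm (Q : QuadraticForm F (Fin n → F)) (g : GL (Fin n) F) {m : ℕ} {ε : ℤ}
    (hT : HasType (⇑Q) m ε) : HasType (⇑(pullForm Q g)) m ε := by
  let φ : (Fin n → F) ≃ (Fin n → F) :=
    { toFun := fun v => (g : Matrix (Fin n) (Fin n) F) *ᵥ v
      invFun := fun v => ((g⁻¹ : GL (Fin n) F) : Matrix (Fin n) (Fin n) F) *ᵥ v
      left_inv := fun v => by
        show ((g⁻¹ : GL (Fin n) F) : Matrix (Fin n) (Fin n) F) *ᵥ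
          ((g : Matrix (Fin n) (Fin n) F) *ᵥ v) = v
        rw [Matrix.mulVec_mulVec, coe_inv_mul, Matrix.one_mulVec]
      right_inv := fun v => by
        show (g : Matrix (Fin n) (Fin n) F) *ᵥ
          (((g⁻¹ : GL (Fin n) F) : Matrix (Fin n) (Fin n) F) *ᵥ v) = v
        rw [Matrix.mulVec_mulVec, coe_mul_inv, Matrix.one_mulVec] }
  exact hT.congr φ (fun v => pullForm_mulVec Q g v)

/-- if `g⁻¹ x g` is a similarity of `Q` then `x` is a similarity of the transported form -/
theorem simWith_pullForm (Q : QuadraticForm F (Fin n → F)) (x g : GL (Fin n) F) (c : F)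
    (h : SimWith (⇑Q) ((g⁻¹ * x * g : GL (Fin n) F) : Matrix (Fin n) (Fin n) F) c) :
    SimWith (⇑(pullForm Q g)) (x : Matrix (Fin n) (Fin n) F) c := by
  intro v
  rw [pullForm_apply, pullForm_apply]
  have := h (((g⁻¹ : GL (Fin n) F) : Matrix (Fin n) (Fin n) F) *ᵥ v)
  rw [Units.val_mul, Units.val_mul, Matrix.mulVec_mulVec, Matrix.mul_assoc, coe_mul_inv,
    Matrix.mul_one, ← Matrix.mulVec_mulVec] at this
  exact this

/-- An element which is a similarity of no non-degenerate form of the type of `Q` has no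
conjugate in the similarity group of `Q`. -/
theorem not_conj_mem_of_noSimT (Q : QuadraticForm F (Fin n → F))
    (hQ : (polarBilin Q).Nondegenerate) {m : ℕ} {ε : ℤ} (hT : HasType (⇑Q) m ε)
    (x : GL (Fin n) F) (hx : NoSimT m ε (x : Matrix (Fin n) (Fin n) F)) (g : GL (Fin n) F) :
    g⁻¹ * x * g ∉ quadSimilarityGroup (⇑Q) := by
  intro hmem
  obtain ⟨c, hc⟩ := (mem_quadSimilarityGroup_iff _ _).mp hmem
  exact hx (pullForm Q g) (pullForm_nondegenerate Q hQ g) (hasType_pullForm Q g hT) c c.ne_zero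
    (simWith_pullForm Q x g c hc)

/-- An element which is a similarity of no non-degenerate form has no conjugate in the similarity
group of `Q`. -/
theorem not_conj_mem_of_noSim (Q : QuadraticForm F (Fin n → F))
    (hQ : (polarBilin Q).Nondegenerate)
    (x : GL (Fin n) F) (hx : NoSim (x : Matrix (Fin n) (Fin n) F)) (g : GL (Fin n) F) :
    g⁻¹ * x * g ∉ quadSimilarityGroup (⇑Q) := by
  intro hmem
  obtain ⟨c, hc⟩ := (mem_quadSimilarityGroup_iff _ _).mp hmem
  exact hx (pullForm Q g) (pullForm_nondegenerate Q hQ g) c c.ne_zero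
    (simWith_pullForm Q x g c hc)

theorem mem_specialLinear_iff (g : GL (Fin n) F) :
    g ∈ specialLinear (Fin n) F ↔ (g : Matrix (Fin n) (Fin n) F).det = 1 := by
  unfold specialLinear
  rw [MonoidHom.mem_ker]
  constructor
  · intro h
    have := congrArg (fun u : Fˣ => (u : F)) h
    simpa using this
  · intro h
    apply Units.ext
    simpa using h

/-- A semisimple element of `SL_n` with the same characteristic polynomial as a semisimple
element of the similarity group of `Q` is conjugate into it under `SL_n`. -/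
theorem exists_conj_of_charpoly [Fintype F] (p : ℕ) [Fact p.Prime] [CharP F p]
    (Q : (Fin n → F) → F) (x y : GL (Fin n) F) (k l : ℕ) (hk : k.Coprime p)
    (hl : (l : F) ≠ 0) (hxk : x ^ k = 1) (hyl : y ^ l = 1)
    (hy : y ∈ quadSimilarityGroup Q)
    (hch : (x : Matrix (Fin n) (Fin n) F).charpoly = (y : Matrix (Fin n) (Fin n) F).charpoly) :
    ∃ g ∈ specialLinear (Fin n) F, g⁻¹ * x * g ∈ quadSimilarityGroup Q := by
  have hp : p.Prime := Fact.out
  have hkF : (k : F) ≠ 0 := by
    intro h0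
    rw [CharP.cast_eq_zero_iff F p k] at h0
    have : p ∣ Nat.gcd k p := Nat.dvd_gcd h0 dvd_rfl
    rw [hk] at this
    exact hp.one_lt.ne' (Nat.dvd_one.mp this)
  have hconj := Cfsg.Agent.Helper43.SS.isConj_GL_of_charpoly_eq x y k l hkF hl hxk hyl hch
  obtain ⟨c, hc⟩ := isConj_iff.mp hconj
  have hcop : (orderOf x).Coprime p :=
    Nat.Coprime.coprime_dvd_left (orderOf_dvd_of_pow_eq_one hxk) hk
  obtain ⟨h, hdet, hh⟩ := Cfsg.Agent.S2569.result (p := p) x c hcop
  refine ⟨h⁻¹, ?_, ?_⟩
  · apply Subgroup.inv_mem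
    exact (mem_specialLinear_iff h).mpr hdet
  · rw [inv_inv, hh, hc]
    exact hy

end Cfsg.Agent.Helper44.QSim
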