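import Mathlib
import Cfsg.Agent.Helper44.QSimDefs
import Cfsg.Agent.Helper44.OrthBasis

set_option autoImplicit false

/-!
# Similarities of quadratic forms on `F^n`: diagonal forms and diagonal similarities

* `exists_diag_form`: in odd characteristic a non-degenerate quadratic form on `F^n` is a
  weighted sum of squares in suitable coordinates;
* `card_filter_eq_of_simWith_diagonal`: if a diagonal matrix with entries `μ` multiplies a
  non-degenerate quadratic form by `c ≠ 0`, then `a` and `c / a` occur equally often among the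
  entries.
-/

namespace Cfsg.Agent.Helper44.QSim

open Matrix Cfsg.Geo QuadraticMap

universe u

variable {F : Type u} [Field F] {n : ℕ}

/-- the value of a quadratic form on a combination of pairwise orthogonal vectors -/
theorem map_sum_of_orthogonal {V : Type*} [AddCommGroup V] [Module F V] (Q : QuadraticForm F V)
    {ι : Type*} (s : Finset ι) (v : ι → V) (w : ι → F)
    (hv : ∀ i j, i ≠ j → polar (⇑Q) (v i) (v j) = 0) :
    Q (∑ i ∈ s, w i • v i) = ∑ i ∈ s, w i ^ 2 * Q (v i) := by
  classical
  induction s using Finset.induction_on with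
  | empty => simp
  | insert a s ha ih =>
    rw [Finset.sum_insert ha, Finset.sum_insert ha]
    have hpol : polar (⇑Q) (w a • v a) (∑ i ∈ s, w i • v i) = 0 := by
      have h1 : polar (⇑Q) (w a • v a) (∑ i ∈ s, w i • v i)
          = ∑ i ∈ s, polar (⇑Q) (w a • v a) (w i • v i) := by
        have := map_sum (polarBilin Q (w a • v a)) (fun i => w i • v i) s
        simp only [polarBilin_apply_apply] at this
        exact this
      rw [h1]
      apply Finset.sum_eq_zero
      intro i hi
      have hne : a ≠ i := fun h => ha (h ▸ hi)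
      rw [polar_smul_left, polar_smul_right, hv a i hne, smul_zero, smul_zero]
    have hadd : Q (w a • v a + ∑ i ∈ s, w i • v i)
        = Q (w a • v a) + Q (∑ i ∈ s, w i • v i) := by
      have := hpol
      unfold polar at this
      linear_combination this
    rw [hadd, ih, QuadraticMap.map_smul, smul_eq_mul, pow_two]

/-- In odd characteristic a non-degenerate quadratic form on `F^n` is a weighted sum of squares
in suitable coordinates. -/
theorem exists_diag_form (h2 : (2 : F) ≠ 0) (Q : QuadraticForm F (Fin n → F))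
    (hQ : (polarBilin Q).Nondegenerate) :
    ∃ (P R : Matrix (Fin n) (Fin n) F) (d : Fin n → F), P * R = 1 ∧ R * P = 1 ∧
      (∀ i, d i ≠ 0) ∧ ∀ v, Q (P *ᵥ v) = ∑ i, d i * v i ^ 2 := by
  classical
  obtain ⟨v₀, hv₀, hv₀0⟩ := Cfsg.Agent.Helper44.exists_orthogonal_basis_nonsingular Q h2 hQ
  have hfr : Module.finrank F (Fin n → F) = n := by
    rw [Module.finrank_fintype_fun_eq_card, Fintype.card_fin]
  let e : Fin (Module.finrank F (Fin n → F)) ≃ Fin n := finCongr hfr
  let v : Module.Basis (Fin n) F (Fin n → F) := v₀.reindex e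
  have hv : ∀ i j, i ≠ j → polar (⇑Q) (v i) (v j) = 0 := by
    intro i j hij
    rw [Module.Basis.reindex_apply, Module.Basis.reindex_apply]
    exact hv₀ _ _ (fun h => hij (e.symm.injective h))
  have hv0 : ∀ i, Q (v i) ≠ 0 := by
    intro i
    rw [Module.Basis.reindex_apply]
    exact hv₀0 _
  let P : Matrix (Fin n) (Fin n) F := (Pi.basisFun F (Fin n)).toMatrix v
  let R : Matrix (Fin n) (Fin n) F := v.toMatrix (Pi.basisFun F (Fin n))
  have hPR : P * R = 1 := Module.Basis.toMatrix_mul_toMatrix_flip _ _
  have hRP : R * P = 1 := Module.Basis.toMatrix_mul_toMatrix_flip _ _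
  have hPv : ∀ w : Fin n → F, P *ᵥ w = ∑ i, w i • v i := by
    intro w
    ext k
    rw [Matrix.mulVec, dotProduct, Finset.sum_apply]
    apply Finset.sum_congr rfl
    intro i _
    show (Pi.basisFun F (Fin n)).toMatrix v k i * w i = (w i • v i) k
    rw [Module.Basis.toMatrix_apply, Pi.basisFun_repr, Pi.smul_apply, smul_eq_mul, mul_comm]
  refine ⟨P, R, fun i => Q (v i), hPR, hRP, hv0, fun w => ?_⟩
  rw [hPv, map_sum_of_orthogonal Q Finset.univ v w hv]
  apply Finset.sum_congr rfl
  intro i _
  rw [mul_comm]

/-- the polar form of a quadratic form multiplied by `c` under `M` -/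
theorem SimWith.polar {Q : (Fin n → F) → F} {M : Matrix (Fin n) (Fin n) F} {c : F}
    (h : SimWith Q M c) (u v : Fin n → F) :
    polar Q (M *ᵥ u) (M *ᵥ v) = c * polar Q u v := by
  unfold QuadraticMap.polar
  rw [← Matrix.mulVec_add, h, h, h]
  ring

/-- If a diagonal matrix with entries `μ` multiplies a non-degenerate quadratic form by `c ≠ 0`,
some permutation pairs up the entries. -/
theorem exists_perm_of_simWith_diagonal (Q' : QuadraticForm F (Fin n → F))
    (hQ' : (polarBilin Q').Nondegenerate) (μ : Fin n → F) (c : F)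
    (h : SimWith (⇑Q') (Matrix.diagonal μ) c) :
    ∃ σ : Equiv.Perm (Fin n), ∀ i, μ (σ i) * μ i = c := by
  classical
  set G : Matrix (Fin n) (Fin n) F := LinearMap.BilinForm.toMatrix' (polarBilin Q') with hG
  have hdet : G.det ≠ 0 := by
    rw [← Matrix.nondegenerate_iff_det_ne_zero, hG,
      LinearMap.BilinForm.nondegenerate_toMatrix'_iff]
    exact hQ'
  have hGij : ∀ i j, G i j ≠ 0 → μ i * μ j = c := by
    intro i j hij
    rw [hG, LinearMap.BilinForm.toMatrix'_apply, polarBilin_apply_apply] at hij
    have h1 := h.polar (Pi.single i 1) (Pi.single j 1)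
    rw [Matrix.diagonal_mulVec_single, Matrix.diagonal_mulVec_single, mul_one, mul_one] at h1
    have e1 : (Pi.single i (μ i) : Fin n → F) = μ i • Pi.single i 1 := by
      rw [← Pi.single_smul, smul_eq_mul, mul_one]
    have e2 : (Pi.single j (μ j) : Fin n → F) = μ j • Pi.single j 1 := by
      rw [← Pi.single_smul, smul_eq_mul, mul_one]
    rw [e1, e2, polar_smul_left, polar_smul_right, smul_eq_mul, smul_eq_mul] at h1
    have h2 : (μ i * μ j - c) * polar (⇑Q') (Pi.single i 1) (Pi.single j 1) = 0 := by
      rw [sub_mul, mul_assoc, h1, sub_self]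
    rcases mul_eq_zero.mp h2 with h3 | h3
    · exact sub_eq_zero.mp h3
    · exact absurd h3 hij
  rw [Matrix.det_apply] at hdet
  obtain ⟨σ, -, hσ⟩ := Finset.exists_ne_zero_of_sum_ne_zero hdet
  have hprod : ∏ i, G (σ i) i ≠ 0 := by
    intro h0
    apply hσ
    rw [h0, smul_zero]
  rw [Finset.prod_ne_zero_iff] at hprod
  exact ⟨σ, fun i => hGij (σ i) i (hprod i (Finset.mem_univ i))⟩

/-- If a diagonal matrix with entries `μ` multiplies a non-degenerate quadratic form by `c ≠ 0`,
then `a` and `c / a` occur equally often among the entries. -/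
theorem card_filter_eq_of_simWith_diagonal (Q' : QuadraticForm F (Fin n → F))
    (hQ' : (polarBilin Q').Nondegenerate) (μ : Fin n → F) (c : F) (hc : c ≠ 0)
    (h : SimWith (⇑Q') (Matrix.diagonal μ) c) (a : F)
    [DecidablePred fun i => μ i = a] [DecidablePred fun i => μ i * a = c] :
    (Finset.univ.filter (fun i => μ i = a)).card
      = (Finset.univ.filter (fun i => μ i * a = c)).card := by
  obtain ⟨σ, hσ⟩ := exists_perm_of_simWith_diagonal Q' hQ' μ c h
  have hμ0 : ∀ i, μ i ≠ 0 := by
    intro i h0
    have := hσ i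
    rw [h0, mul_zero] at this
    exact hc this.symm
  apply Finset.card_bij (fun i _ => σ i)
  · intro i hi
    rw [Finset.mem_filter] at hi ⊢
    refine ⟨Finset.mem_univ _, ?_⟩
    rw [← hi.2]
    exact hσ i
  · intro i _ j _ hij
    exact σ.injective hij
  · intro j hj
    rw [Finset.mem_filter] at hj
    refine ⟨σ.symm j, ?_, σ.apply_symm_apply j⟩
    rw [Finset.mem_filter]
    refine ⟨Finset.mem_univ _, ?_⟩
    have h1 := hσ (σ.symm j)
    rw [σ.apply_symm_apply] at h1
    have h2 : μ j * μ (σ.symm j) = μ j * a := by rw [h1, hj.2]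
    exact mul_left_cancel₀ (hμ0 j) h2

end Cfsg.Agent.Helper44.QSim
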