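import Mathlib
import Cfsg.Agent.Helper44.QSimDefs
import Cfsg.Agent.Helper44.QSimDiag
import Cfsg.Agent.Helper43.PGLInvRep
import Cfsg.Agent.Helper43.InvConj

set_option autoImplicit false

/-!
# Involutions of `PSL_n(q)`, `q` odd, are conjugate into the orthogonal similarity groups:
the case of a square scalar (piece (R2a) of S5981)
-/

namespace Cfsg.Agent.Helper44.QSim

open Matrix Cfsg.Geo QuadraticMap Cfsg.Agent.Helper43.PGLInv

universe u

variable {F : Type u} [Field F] [Fintype F] {n : ℕ}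

omit [Fintype F] in
theorem two_ne_zero_of_char (p : ℕ) [Fact p.Prime] [CharP F p] (hp2 : p ≠ 2) : (2 : F) ≠ 0 := by
  have hp : p.Prime := Fact.out
  intro h
  have h' : ((2 : ℕ) : F) = 0 := by exact_mod_cast h
  rw [CharP.cast_eq_zero_iff F p 2] at h'
  exact hp2 ((Nat.prime_dvd_prime_iff_eq hp Nat.prime_two).mp h')

/-- an element of `GL_n` whose square is a scalar has order prime to the odd characteristic -/
theorem orderOf_coprime_of_sq_scalar (p : ℕ) [Fact p.Prime] [CharP F p] (hp2 : p ≠ 2)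
    (x : GL (Fin n) F) (z : F) (hz0 : z ≠ 0)
    (hxx : (x : Matrix (Fin n) (Fin n) F) * (x : Matrix (Fin n) (Fin n) F)
      = z • (1 : Matrix (Fin n) (Fin n) F)) : (orderOf x).Coprime p := by
  have hp : p.Prime := Fact.out
  have hpow : x ^ (2 * (Fintype.card F - 1)) = 1 := by
    apply Units.ext
    rw [Units.val_pow_eq_pow_val, pow_mul, pow_two, hxx, smul_pow, one_pow,
      FiniteField.pow_card_sub_one_eq_one z hz0, one_smul]
    rfl
  have hdvd := orderOf_dvd_of_pow_eq_one hpow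
  apply Nat.Coprime.coprime_dvd_left hdvd
  rw [Nat.coprime_comm, Nat.Prime.coprime_iff_not_dvd hp]
  intro hd
  rcases (Nat.Prime.dvd_mul hp).mp hd with h1 | h1
  · exact hp2 ((Nat.prime_dvd_prime_iff_eq hp Nat.prime_two).mp h1)
  · obtain ⟨k, -, hk⟩ := FiniteField.card F p
    have h2 : p ∣ Fintype.card F := by
      rw [hk]
      exact dvd_pow_self p k.ne_zero
    have h3 : 1 ≤ Fintype.card F := Fintype.card_pos
    have h4 : p ∣ 1 := by
      have := (Nat.dvd_sub h2 h1)
      rwa [Nat.sub_sub_self h3] at this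
    exact hp.one_lt.ne' (Nat.dvd_one.mp h4)

/-- an element of `SL_n` of order prime to `p` which is conjugate in `GL_n` to an element of the
similarity group of `Q` is conjugate to it under `SL_n` -/
theorem exists_conj_of_isConj (p : ℕ) [Fact p.Prime] [CharP F p]
    (Q : (Fin n → F) → F) (x y : GL (Fin n) F) (hcop : (orderOf x).Coprime p)
    (hy : y ∈ quadSimilarityGroup Q) (hconj : IsConj x y) :
    ∃ g ∈ specialLinear (Fin n) F, g⁻¹ * x * g ∈ quadSimilarityGroup Q := by
  obtain ⟨c, hc⟩ := isConj_iff.mp hconj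
  obtain ⟨h, hdet, hh⟩ := Cfsg.Agent.S2569.result (p := p) x c hcop
  refine ⟨h⁻¹, ?_, ?_⟩
  · apply Subgroup.inv_mem
    exact (mem_specialLinear_iff h).mpr hdet
  · rw [inv_inv, hh, hc]
    exact hy

omit [Fintype F] in
/-- conjugating by an invertible matrix does not change the rank -/
theorem rank_conj (P R A : Matrix (Fin n) (Fin n) F) (hPR : P * R = 1) :
    (P * A * R).rank = A.rank := by
  have hRP : R * P = 1 := mul_eq_one_comm.mp hPR
  have hP : IsUnit P.det := (Matrix.isUnit_iff_isUnit_det P).mp ⟨⟨P, R, hPR, hRP⟩, rfl⟩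
  have hR : IsUnit R.det := (Matrix.isUnit_iff_isUnit_det R).mp ⟨⟨R, P, hRP, hPR⟩, rfl⟩
  rw [Matrix.rank_mul_eq_left_of_isUnit_det R _ hR, Matrix.rank_mul_eq_right_of_isUnit_det P _ hP]

/-- (R2a) The case of a square scalar. -/
theorem good_square (p : ℕ) [Fact p.Prime] [CharP F p] (hp2 : p ≠ 2)
    (Q : QuadraticForm F (Fin n → F)) (hQ : (polarBilin Q).Nondegenerate)
    (x : GL (Fin n) F) (hx : x ∈ specialLinear (Fin n) F) (w : F) (hw : w ≠ 0)
    (hxx : (x : Matrix (Fin n) (Fin n) F) * (x : Matrix (Fin n) (Fin n) F)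
      = (w * w) • (1 : Matrix (Fin n) (Fin n) F)) :
    ∃ g ∈ specialLinear (Fin n) F, g⁻¹ * x * g ∈ quadSimilarityGroup (⇑Q) := by
  classical
  have h2 : (2 : F) ≠ 0 := two_ne_zero_of_char p hp2
  set u : Matrix (Fin n) (Fin n) F := w⁻¹ • (x : Matrix (Fin n) (Fin n) F) with hu
  have huu : u * u = 1 := by
    rw [hu, Matrix.smul_mul, Matrix.mul_smul, hxx, smul_smul, smul_smul]
    have : w⁻¹ * w⁻¹ * (w * w) = 1 := by field_simp
    rw [this, one_smul]
  have hxu : (x : Matrix (Fin n) (Fin n) F) = w • u := by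
    rw [hu, smul_smul, mul_inv_cancel₀ hw, one_smul]
  set k := (u - 1).rank with hk
  have hkn : k ≤ n := by
    have := Matrix.rank_le_card_width (u - 1)
    rwa [Fintype.card_fin] at this
  obtain ⟨P, R, d, hPR, hRP, hd, hQP⟩ := exists_diag_form h2 Q hQ
  set D₀ : Matrix (Fin n) (Fin n) F := P * dmat n k F * R with hD₀
  have hD₀D₀ : D₀ * D₀ = 1 := by
    rw [hD₀]
    calc P * dmat n k F * R * (P * dmat n k F * R)
        = P * (dmat n k F * (R * P) * dmat n k F) * R := by simp only [Matrix.mul_assoc]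
      _ = 1 := by rw [hRP, Matrix.mul_one, dmat_mul_self, Matrix.mul_one, hPR]
  have hD₀rank : (D₀ - 1).rank = k := by
    have h1 : D₀ - 1 = P * (dmat n k F - 1) * R := by
      rw [hD₀, Matrix.mul_sub, Matrix.sub_mul, Matrix.mul_one, hPR]
    rw [h1, rank_conj P R _ hPR, rank_dmat_sub_one h2 k hkn]
  -- `D₀` is an isometry of `Q`
  have hQd : ∀ v, Q (P *ᵥ (dmat n k F *ᵥ v)) = Q (P *ᵥ v) := by
    intro v
    rw [hQP, hQP]
    apply Finset.sum_congr rfl
    intro i _
    unfold dmat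
    rw [Matrix.mulVec_diagonal]
    split_ifs <;> ring
  have hD₀iso : ∀ v, Q (D₀ *ᵥ v) = Q v := by
    intro v
    rw [hD₀, ← Matrix.mulVec_mulVec, ← Matrix.mulVec_mulVec, hQd, Matrix.mulVec_mulVec, hPR,
      Matrix.one_mulVec]
  set uGL : GL (Fin n) F := ⟨u, u, huu, huu⟩ with huGL
  set dGL₀ : GL (Fin n) F := ⟨D₀, D₀, hD₀D₀, hD₀D₀⟩ with hdGL₀
  have hconj := Cfsg.Agent.Helper43.Inv.isConj_of_invol h2 uGL dGL₀ huu hD₀D₀ (by
    show (u - 1).rank = (D₀ - 1).rank
    rw [hD₀rank])
  obtain ⟨g, hg⟩ := isConj_iff.mp hconj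
  have hww : w * w ≠ 0 := mul_ne_zero hw hw
  set wu : Fˣ := Units.mk0 w hw with hwu
  set y : GL (Fin n) F := Matrix.GeneralLinearGroup.scalar (Fin n) wu * dGL₀ with hy
  have hyc : (y : Matrix (Fin n) (Fin n) F) = w • D₀ := by
    rw [hy, Units.val_mul, Matrix.GeneralLinearGroup.coe_scalar]
    show Matrix.scalar (Fin n) w * D₀ = w • D₀
    rw [Matrix.scalar_apply, ← Matrix.smul_one_eq_diagonal, Matrix.smul_mul, Matrix.one_mul]
  have hxc : x = Matrix.GeneralLinearGroup.scalar (Fin n) wu * uGL := by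
    apply Units.ext
    rw [Units.val_mul, Matrix.GeneralLinearGroup.coe_scalar]
    show (x : Matrix (Fin n) (Fin n) F) = Matrix.scalar (Fin n) w * u
    rw [Matrix.scalar_apply, ← Matrix.smul_one_eq_diagonal, Matrix.smul_mul, Matrix.one_mul, hxu]
  have hconj' : IsConj x y := by
    rw [isConj_iff]
    refine ⟨g, ?_⟩
    rw [hxc, hy, ← hg]
    have hcomm : g * Matrix.GeneralLinearGroup.scalar (Fin n) wu
        = Matrix.GeneralLinearGroup.scalar (Fin n) wu * g := by
      apply Units.ext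
      rw [Units.val_mul, Units.val_mul, Matrix.GeneralLinearGroup.coe_scalar]
      exact ((Matrix.scalar_commute w (fun r' => mul_comm _ _)) _).symm.eq
    calc g * (Matrix.GeneralLinearGroup.scalar (Fin n) wu * uGL) * g⁻¹
        = (g * Matrix.GeneralLinearGroup.scalar (Fin n) wu) * uGL * g⁻¹ := by group
      _ = Matrix.GeneralLinearGroup.scalar (Fin n) wu * (g * uGL * g⁻¹) := by
          rw [hcomm]; group
  have hymem : y ∈ quadSimilarityGroup (⇑Q) := by
    rw [mem_quadSimilarityGroup_iff]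
    refine ⟨Units.mk0 (w * w) hww, ?_⟩
    intro v
    rw [hyc, Matrix.smul_mulVec, QuadraticMap.map_smul, hD₀iso]
    rfl
  have hcop := orderOf_coprime_of_sq_scalar p hp2 x (w * w) hww hxx
  exact exists_conj_of_isConj p (⇑Q) x y hcop hymem hconj'

end Cfsg.Agent.Helper44.QSim
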