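import Mathlib
import Cfsg.Prelude.Def_GeometricClasses
import Cfsg.Agent.Helper44.QSimDefs
import Cfsg.Agent.Helper44.QSimTwoA
import Cfsg.Agent.S2569

set_option autoImplicit false

/-!
# Kronecker products `GL_a ⊗ GL_b`: vocabulary for the coset action of `PSL_n(q)` on the stabiliser of
a tensor decomposition (statement S5979)

* `KronInv a b M`: the ranks of `M ^ k - c` and the characteristic polynomials of the powers `M ^ k`
  are those of the powers of some Kronecker product `A ⊗ₖ B` of invertible matrices;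
* `kronGL A B`, `tensElt e P A B`: the Kronecker product as an element of `GL`, and its transport
  to `tensorProductSubgroup a b e P`;
* `kronInv_of_conj_mem`: an element with a conjugate in `tensorProductSubgroup a b e P` has the
  invariants of a Kronecker product;
* `exists_conj_of_isConj_mem`: a semisimple element conjugate in `GL_n` to an element of a subgroup
  is conjugate into it under `SL_n`.
-/

namespace Cfsg.Agent.Helper44.Tens

open Matrix Cfsg.Geo Cfsg.Agent.Helper44.QSim
open scoped Kronecker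

universe u

variable {F : Type u} [Field F] {n a b : ℕ}

/-- the ranks of `M ^ k - c` and the characteristic polynomials of `M ^ k` are those of the powers
of a Kronecker product of an invertible `a × a` and an invertible `b × b` matrix -/
def KronInv (a b : ℕ) (M : Matrix (Fin n) (Fin n) F) : Prop :=
  ∃ (A : GL (Fin a) F) (B : GL (Fin b) F), ∀ k : ℕ,
    (∀ c : F, (M ^ k - c • (1 : Matrix (Fin n) (Fin n) F)).rank
      = (((A : Matrix (Fin a) (Fin a) F) ^ k) ⊗ₖ ((B : Matrix (Fin b) (Fin b) F) ^ k)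
          - c • (1 : Matrix (Fin a × Fin b) (Fin a × Fin b) F)).rank) ∧
    (M ^ k).charpoly
      = (((A : Matrix (Fin a) (Fin a) F) ^ k) ⊗ₖ ((B : Matrix (Fin b) (Fin b) F) ^ k)).charpoly

theorem kronecker_pow' (A : Matrix (Fin a) (Fin a) F) (B : Matrix (Fin b) (Fin b) F) (k : ℕ) :
    (A ⊗ₖ B) ^ k = (A ^ k) ⊗ₖ (B ^ k) := by
  induction k with
  | zero => simp
  | succ k ih => rw [pow_succ, ih, pow_succ, pow_succ, Matrix.mul_kronecker_mul]

/-- the Kronecker product of two invertible matrices, as an invertible matrix -/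
def kronGL (A : GL (Fin a) F) (B : GL (Fin b) F) : GL (Fin a × Fin b) F :=
  ⟨(A : Matrix (Fin a) (Fin a) F) ⊗ₖ (B : Matrix (Fin b) (Fin b) F),
    ((A⁻¹ : GL (Fin a) F) : Matrix (Fin a) (Fin a) F) ⊗ₖ ((B⁻¹ : GL (Fin b) F) : Matrix (Fin b) (Fin b) F),
    by rw [← Matrix.mul_kronecker_mul, ← Units.val_mul, ← Units.val_mul, mul_inv_cancel,
        mul_inv_cancel, Units.val_one, Units.val_one, Matrix.one_kronecker_one],
    by rw [← Matrix.mul_kronecker_mul, ← Units.val_mul, ← Units.val_mul, inv_mul_cancel,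
        inv_mul_cancel, Units.val_one, Units.val_one, Matrix.one_kronecker_one]⟩

@[simp] theorem coe_kronGL (A : GL (Fin a) F) (B : GL (Fin b) F) :
    (kronGL A B : Matrix (Fin a × Fin b) (Fin a × Fin b) F)
      = (A : Matrix (Fin a) (Fin a) F) ⊗ₖ (B : Matrix (Fin b) (Fin b) F) := rfl

theorem kronGL_mem (A : GL (Fin a) F) (B : GL (Fin b) F) :
    kronGL A B ∈ kroneckerSubgroup a b F := ⟨A, B, rfl⟩

/-- the transport of `A ⊗ₖ B` to `GL (Fin n) F` along `e` and `P` -/
def tensElt (e : Fin n ≃ Fin a × Fin b) (P : GL (Fin n) F) (A : GL (Fin a) F) (B : GL (Fin b) F) :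
    GL (Fin n) F :=
  P * glReindex e.symm (kronGL A B) * P⁻¹

theorem tensElt_mem (e : Fin n ≃ Fin a × Fin b) (P : GL (Fin n) F) (A : GL (Fin a) F)
    (B : GL (Fin b) F) : tensElt e P A B ∈ tensorProductSubgroup a b e P := by
  unfold tensorProductSubgroup
  refine Subgroup.mem_map.mpr ⟨glReindex e.symm (kronGL A B), ?_, ?_⟩
  · exact Subgroup.mem_map.mpr ⟨kronGL A B, kronGL_mem A B, rfl⟩
  · rfl

theorem coe_glReindex (e : Fin n ≃ Fin a × Fin b) (k : GL (Fin a × Fin b) F) :
    ((glReindex e.symm k : GL (Fin n) F) : Matrix (Fin n) (Fin n) F)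
      = Matrix.reindex e.symm e.symm (k : Matrix (Fin a × Fin b) (Fin a × Fin b) F) := rfl

theorem coe_tensElt (e : Fin n ≃ Fin a × Fin b) (P : GL (Fin n) F) (A : GL (Fin a) F)
    (B : GL (Fin b) F) :
    (tensElt e P A B : Matrix (Fin n) (Fin n) F)
      = (P : Matrix (Fin n) (Fin n) F)
        * Matrix.reindex e.symm e.symm
            ((A : Matrix (Fin a) (Fin a) F) ⊗ₖ (B : Matrix (Fin b) (Fin b) F))
        * ((P⁻¹ : GL (Fin n) F) : Matrix (Fin n) (Fin n) F) := rfl

/-- every element of the tensor product subgroup is a `tensElt` -/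
theorem exists_eq_tensElt (e : Fin n ≃ Fin a × Fin b) (P : GL (Fin n) F) (y : GL (Fin n) F)
    (hy : y ∈ tensorProductSubgroup a b e P) :
    ∃ (A : GL (Fin a) F) (B : GL (Fin b) F), y = tensElt e P A B := by
  unfold tensorProductSubgroup at hy
  obtain ⟨y', hy', rfl⟩ := Subgroup.mem_map.mp hy
  obtain ⟨k, hk, rfl⟩ := Subgroup.mem_map.mp hy'
  obtain ⟨A, B, hAB⟩ := hk
  refine ⟨A, B, ?_⟩
  have : k = kronGL A B := Units.ext hAB
  rw [this]
  rfl

/-- the invariants of a conjugate of a transported Kronecker product -/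
theorem kronInv_of_conj (e : Fin n ≃ Fin a × Fin b) (S : GL (Fin n) F) (A : GL (Fin a) F)
    (B : GL (Fin b) F) (x : GL (Fin n) F) (hx : x = S * glReindex e.symm (kronGL A B) * S⁻¹) :
    KronInv a b (x : Matrix (Fin n) (Fin n) F) := by
  refine ⟨A, B, fun k => ?_⟩
  set R : Matrix (Fin n) (Fin n) F := Matrix.reindex e.symm e.symm
    (((A : Matrix (Fin a) (Fin a) F) ^ k) ⊗ₖ ((B : Matrix (Fin b) (Fin b) F) ^ k)) with hR
  have hpow : (x : Matrix (Fin n) (Fin n) F) ^ k
      = (S : Matrix (Fin n) (Fin n) F) * R * ((S⁻¹ : GL (Fin n) F) : Matrix (Fin n) (Fin n) F) := by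
    have h1 : x ^ k = S * (glReindex e.symm (kronGL A B)) ^ k * S⁻¹ := by
      rw [hx, conj_pow]
    have h2 : (((glReindex e.symm (kronGL A B)) ^ k : GL (Fin n) F) : Matrix (Fin n) (Fin n) F)
        = R := by
      rw [← map_pow, coe_glReindex, Units.val_pow_eq_pow_val, coe_kronGL, kronecker_pow']
    rw [← Units.val_pow_eq_pow_val, h1, Units.val_mul, Units.val_mul, h2]
  have hSS : (S : Matrix (Fin n) (Fin n) F) * ((S⁻¹ : GL (Fin n) F) : Matrix (Fin n) (Fin n) F)
      = 1 := coe_mul_inv S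
  constructor
  · intro c
    have h1 : (x : Matrix (Fin n) (Fin n) F) ^ k - c • (1 : Matrix (Fin n) (Fin n) F)
        = (S : Matrix (Fin n) (Fin n) F) * (R - c • (1 : Matrix (Fin n) (Fin n) F))
          * ((S⁻¹ : GL (Fin n) F) : Matrix (Fin n) (Fin n) F) := by
      rw [hpow, Matrix.mul_sub, Matrix.sub_mul, Matrix.mul_smul, Matrix.mul_one, Matrix.smul_mul,
        hSS]
    have h2 : R - c • (1 : Matrix (Fin n) (Fin n) F)
        = Matrix.reindex e.symm e.symm
          (((A : Matrix (Fin a) (Fin a) F) ^ k) ⊗ₖ ((B : Matrix (Fin b) (Fin b) F) ^ k)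
            - c • (1 : Matrix (Fin a × Fin b) (Fin a × Fin b) F)) := by
      rw [hR]
      ext i j
      simp [Matrix.one_apply]
    rw [h1, rank_conj _ _ _ hSS, h2, Matrix.rank_reindex]
  · rw [hpow, Matrix.coe_units_inv, Matrix.charpoly_units_conj, hR, Matrix.charpoly_reindex]

/-- **(R)** an element with a conjugate in the tensor product subgroup has the invariants of a
Kronecker product -/
theorem kronInv_of_conj_mem (e : Fin n ≃ Fin a × Fin b) (P : GL (Fin n) F) (x g : GL (Fin n) F)
    (h : g⁻¹ * x * g ∈ tensorProductSubgroup a b e P) :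
    KronInv a b (x : Matrix (Fin n) (Fin n) F) := by
  obtain ⟨A, B, hAB⟩ := exists_eq_tensElt e P _ h
  apply kronInv_of_conj e (g * P) A B x
  have : x = g * (g⁻¹ * x * g) * g⁻¹ := by group
  rw [this, hAB, tensElt]
  group

/-- a semisimple element of `GL_n(F)` which is conjugate to an element of the subgroup `H` is
conjugate into `H` under `SL_n(F)` -/
theorem exists_conj_of_isConj_mem [Fintype F] (p : ℕ) [Fact p.Prime] [CharP F p]
    (H : Subgroup (GL (Fin n) F)) (x y : GL (Fin n) F) (hcop : (orderOf x).Coprime p)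
    (hy : y ∈ H) (hconj : IsConj x y) :
    ∃ g ∈ specialLinear (Fin n) F, g⁻¹ * x * g ∈ H := by
  obtain ⟨c, hc⟩ := isConj_iff.mp hconj
  obtain ⟨h, hdet, hh⟩ := Cfsg.Agent.S2569.result (p := p) x c hcop
  refine ⟨h⁻¹, ?_, ?_⟩
  · apply Subgroup.inv_mem
    exact (mem_specialLinear_iff h).mpr hdet
  · rw [inv_inv, hh, hc]
    exact hy

end Cfsg.Agent.Helper44.Tens
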