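import Mathlib
import Cfsg.Agent.Helper44.TensDefs

set_option autoImplicit false

/-!
# Piece (T) of S5979: a Kronecker product `A ⊗ B` with `rank (A ⊗ B - c) < b` has `A` scalar
-/

namespace Cfsg.Agent.Helper44.Tens

open Matrix
open scoped Kronecker

universe u

variable {F : Type u} [Field F] {a b : ℕ}

/-- the pure tensor `u ⊗ w` -/
def pureT (u : Fin a → F) (w : Fin b → F) : Fin a × Fin b → F := fun p => u p.1 * w p.2

theorem kronecker_mulVec_pureT (A : Matrix (Fin a) (Fin a) F) (B : Matrix (Fin b) (Fin b) F)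
    (u : Fin a → F) (w : Fin b → F) :
    (A ⊗ₖ B) *ᵥ pureT u w = pureT (A *ᵥ u) (B *ᵥ w) := by
  funext ⟨i, j⟩
  simp only [Matrix.mulVec, dotProduct, pureT, Matrix.kroneckerMap_apply]
  rw [Fintype.sum_prod_type, Finset.sum_mul_sum]
  apply Finset.sum_congr rfl
  intro i' _
  apply Finset.sum_congr rfl
  intro j' _
  ring

/-- `w ↦ u ⊗ w` as a linear map -/
def pureTLin (u : Fin a → F) : (Fin b → F) →ₗ[F] (Fin a × Fin b → F) where
  toFun w := pureT u w
  map_add' w w' := by
    funext p
    simp only [pureT, Pi.add_apply]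
    ring
  map_smul' t w := by
    funext p
    simp only [pureT, Pi.smul_apply, smul_eq_mul, RingHom.id_apply]
    ring

/-- a matrix for which every vector is an eigenvector is scalar -/
theorem scalar_of_forall_eigen (A : Matrix (Fin a) (Fin a) F)
    (h : ∀ u : Fin a → F, ∃ μ : F, A *ᵥ u = μ • u) :
    ∃ α : F, A = α • (1 : Matrix (Fin a) (Fin a) F) := by
  classical
  rcases Nat.eq_zero_or_pos a with ha | ha
  · subst ha
    exact ⟨0, by ext i; exact i.elim0⟩
  choose! lam hlam using fun i : Fin a => h (Pi.single i 1)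
  have hcol : ∀ i k : Fin a, A k i = if k = i then lam i else 0 := by
    intro i k
    have h1 := congrFun (hlam i) k
    rw [Matrix.mulVec_single_one] at h1
    simp only [Matrix.col_apply, Pi.smul_apply, smul_eq_mul, Pi.single_apply] at h1
    rw [h1]
    split_ifs <;> simp
  have heq : ∀ i j : Fin a, lam i = lam j := by
    intro i j
    by_cases hij : i = j
    · rw [hij]
    obtain ⟨μ, hμ⟩ := h (Pi.single i 1 + Pi.single j 1)
    rw [Matrix.mulVec_add, Matrix.mulVec_single_one, Matrix.mulVec_single_one] at hμ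
    have h1 := congrFun hμ i
    have h2 := congrFun hμ j
    simp only [Pi.add_apply, Matrix.col_apply, Pi.smul_apply, smul_eq_mul, Pi.single_apply,
      hcol] at h1 h2
    have hji : j ≠ i := fun h => hij h.symm
    simp only [hij, hji, if_true, if_false, add_zero, zero_add, mul_one] at h1 h2
    rw [h1, h2]
  refine ⟨lam ⟨0, ha⟩, ?_⟩
  ext k i
  rw [hcol i k, Matrix.smul_apply, Matrix.one_apply, smul_eq_mul, heq i ⟨0, ha⟩]
  split_ifs <;> simp

/-- **(T)** a Kronecker product `A ⊗ B` with `rank (A ⊗ B - c) < b` has `A` scalar -/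
theorem scalar_of_rank_kron_lt (A : GL (Fin a) F) (B : GL (Fin b) F) (c : F)
    (h : ((A : Matrix (Fin a) (Fin a) F) ⊗ₖ (B : Matrix (Fin b) (Fin b) F)
      - c • (1 : Matrix (Fin a × Fin b) (Fin a × Fin b) F)).rank < b) :
    ∃ α : F, (A : Matrix (Fin a) (Fin a) F) = α • (1 : Matrix (Fin a) (Fin a) F) := by
  classical
  apply scalar_of_forall_eigen
  intro u
  set Y : Matrix (Fin a × Fin b) (Fin a × Fin b) F :=
    (A : Matrix (Fin a) (Fin a) F) ⊗ₖ (B : Matrix (Fin b) (Fin b) F)
      - c • (1 : Matrix (Fin a × Fin b) (Fin a × Fin b) F) with hY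
  set φ : (Fin b → F) →ₗ[F] (Fin a × Fin b → F) := Y.mulVecLin ∘ₗ pureTLin u with hφ
  -- the kernel of `φ` is not zero
  have hrange : Module.finrank F (LinearMap.range φ) ≤ Y.rank := by
    rw [Matrix.rank]
    apply Submodule.finrank_mono
    rw [hφ, LinearMap.range_comp]
    exact LinearMap.map_le_range
  have hsum := LinearMap.finrank_range_add_finrank_ker φ
  rw [Module.finrank_fin_fun] at hsum
  have hker : 0 < Module.finrank F (LinearMap.ker φ) := by omega
  obtain ⟨⟨w, hwker⟩, hw0⟩ := Module.finrank_pos_iff_exists_ne_zero.mp hker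
  have hw : w ≠ 0 := fun h0 => hw0 (Subtype.ext h0)
  rw [LinearMap.mem_ker] at hwker
  have heq : ∀ i j, ((A : Matrix (Fin a) (Fin a) F) *ᵥ u) i
      * ((B : Matrix (Fin b) (Fin b) F) *ᵥ w) j = c * (u i * w j) := by
    intro i j
    have h1 : Y *ᵥ pureT u w = 0 := hwker
    rw [hY, Matrix.sub_mulVec, kronecker_mulVec_pureT, Matrix.smul_mulVec, Matrix.one_mulVec]
      at h1
    have h2 := congrFun h1 (i, j)
    simp only [Pi.sub_apply, pureT, Pi.smul_apply, smul_eq_mul, Pi.zero_apply] at h2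
    exact sub_eq_zero.mp h2
  -- `B w ≠ 0`
  have hBw : (B : Matrix (Fin b) (Fin b) F) *ᵥ w ≠ 0 := by
    intro h0
    apply hw
    have := congrArg (fun v => ((B⁻¹ : GL (Fin b) F) : Matrix (Fin b) (Fin b) F) *ᵥ v) h0
    simp only [Matrix.mulVec_mulVec, Matrix.mulVec_zero] at this
    rwa [← Units.val_mul, inv_mul_cancel, Units.val_one, Matrix.one_mulVec] at this
  obtain ⟨j₀, hj₀⟩ := Function.ne_iff.mp hBw
  rw [Pi.zero_apply] at hj₀
  refine ⟨c * w j₀ / ((B : Matrix (Fin b) (Fin b) F) *ᵥ w) j₀, ?_⟩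
  funext i
  rw [Pi.smul_apply, smul_eq_mul]
  have := heq i j₀
  field_simp
  linear_combination this

end Cfsg.Agent.Helper44.Tens
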