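import Mathlib

set_option autoImplicit false

namespace Cfsg.Agent.Helper44

open Polynomial

variable {F : Type*} [Field F] [Fintype F]

/-- If `π` is irreducible over a finite field `F` of order `q`, divides `∑_{i<r} X^i` with `r` prime, `r ≠ 0` in `F`,
then the multiplicative order of `q` mod `r` divides `deg π`. -/
theorem orderOf_dvd_natDegree_of_dvd_geom_sum {q r : ℕ} (hF : Fintype.card F = q) (hr : r.Prime)
    (hrF : (r : F) ≠ 0) (π : F[X]) (hπ : Irreducible π)
    (hdvd : π ∣ ∑ i ∈ Finset.range r, (X : F[X]) ^ i) :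
    orderOf (q : ZMod r) ∣ π.natDegree := by
  classical
  have : Fact (Irreducible π) := ⟨hπ⟩
  have hπ0 : π ≠ 0 := hπ.ne_zero
  let K := AdjoinRoot π
  have : Module.Finite F K := (AdjoinRoot.powerBasis hπ0).finite
  have : Finite K := Module.finite_of_finite F
  have : Fintype K := Fintype.ofFinite K
  set ζ : K := AdjoinRoot.root π with hζ
  have hgeom : ∑ i ∈ Finset.range r, ζ ^ i = 0 := by
    obtain ⟨c, hc⟩ := hdvd
    have h1 : aeval ζ (∑ i ∈ Finset.range r, (X : F[X]) ^ i) = 0 := by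
      rw [hc, map_mul, AdjoinRoot.aeval_eq, AdjoinRoot.mk_self, zero_mul]
    simpa using h1
  have hpow : ζ ^ r = 1 := by
    have h1 := mul_geom_sum ζ r
    rw [hgeom, mul_zero] at h1
    exact (sub_eq_zero.1 h1.symm)
  have hne1 : ζ ≠ 1 := by
    intro h1
    rw [h1] at hgeom
    simp only [one_pow, Finset.sum_const, Finset.card_range, nsmul_eq_mul, mul_one] at hgeom
    have : ((r : F) : K) = 0 := by
      rw [← hgeom]
      simp
    have h2 : (algebraMap F K) (r : F) = 0 := by
      rw [← this]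
      rfl
    rw [map_eq_zero] at h2
    exact hrF h2
  have hord : orderOf ζ = r := by
    have : Fact r.Prime := ⟨hr⟩
    exact orderOf_eq_prime hpow hne1
  have hζ0 : ζ ≠ 0 := by
    intro h0
    rw [h0, zero_pow hr.ne_zero] at hpow
    exact zero_ne_one hpow
  have hcardK : Fintype.card K = q ^ π.natDegree := by
    have h1 := Module.card_eq_pow_finrank (K := F) (V := K)
    rw [hF, (AdjoinRoot.powerBasis hπ0).finrank, AdjoinRoot.powerBasis_dim] at h1
    exact h1
  have hdvd2 : r ∣ q ^ π.natDegree - 1 := by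
    have h1 : orderOf (Units.mk0 ζ hζ0) = r := by
      rw [← hord]
      exact (orderOf_injective (Units.coeHom K) Units.val_injective (Units.mk0 ζ hζ0)).symm
    rw [← h1, ← hcardK, ← Fintype.card_units]
    exact orderOf_dvd_card
  have hq1 : 1 ≤ q ^ π.natDegree := Nat.one_le_pow _ _ (by rw [← hF]; exact Fintype.card_pos)
  rw [orderOf_dvd_iff_pow_eq_one]
  have h3 : ((q ^ π.natDegree - 1 : ℕ) : ZMod r) = 0 := (ZMod.natCast_eq_zero_iff _ _).2 hdvd2
  rw [Nat.cast_sub hq1, Nat.cast_pow, Nat.cast_one, sub_eq_zero] at h3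
  exact h3

end Cfsg.Agent.Helper44

namespace Cfsg.Agent.Helper44

open Polynomial

variable {F : Type*} [Field F] [Fintype F]

theorem minpoly_irreducible_of_order {p q r n : ℕ} [Fact p.Prime] [CharP F p]
    (hF : Fintype.card F = q) (hr : r.Prime) (hrp : r ≠ p)
    (hi : orderOf (q : ZMod r) = n) (A : Matrix (Fin n) (Fin n) F) (hAr : A ^ r = 1)
    (hA1 : A ≠ 1) : Irreducible (minpoly F A) ∧ (minpoly F A).natDegree = n := by
  have hrF : (r : F) ≠ 0 := by
    rw [Ne, CharP.cast_eq_zero_iff F p r]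
    intro hpr
    rcases (Nat.dvd_prime hr).1 hpr with h | h
    · exact (Fact.out : p.Prime).one_lt.ne' h
    · exact hrp h.symm
  have hint : IsIntegral F A := Algebra.IsIntegral.isIntegral A
  set μ := minpoly F A with hμ
  have hμ0 : μ ≠ 0 := minpoly.ne_zero hint
  have hμA : aeval A μ = 0 := minpoly.aeval F A
  set g : F[X] := ∑ i ∈ Finset.range r, (X : F[X]) ^ i with hg
  have hfac : (X - 1 : F[X]) * g = X ^ r - 1 := mul_geom_sum X r
  have hμdvd : μ ∣ (X - 1 : F[X]) * g := by
    rw [hfac]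
    apply minpoly.dvd
    simp [hAr]
  have hnd : ¬ μ ∣ (X - 1 : F[X]) := by
    rintro ⟨c, hc⟩
    have h1 : aeval A (X - 1 : F[X]) = 0 := by rw [hc, map_mul, hμA, zero_mul]
    simp only [map_sub, aeval_X, map_one] at h1
    exact hA1 (sub_eq_zero.1 h1)
  have hncop : ¬ IsCoprime μ g := by
    intro hcop
    exact hnd (hcop.dvd_of_dvd_mul_right hμdvd)
  have hex : ∃ z : F[X], Irreducible z ∧ z ∣ μ ∧ z ∣ g := by
    by_contra hcon
    push Not at hcon
    exact hncop (isCoprime_of_irreducible_dvd (fun h => hμ0 h.1) hcon)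
  obtain ⟨π, hπ, hπμ, hπg⟩ := hex
  have hn_dvd : n ∣ π.natDegree := by
    rw [← hi]
    exact orderOf_dvd_natDegree_of_dvd_geom_sum hF hr hrF π hπ hπg
  have hπpos : 0 < π.natDegree := hπ.natDegree_pos
  have h1 : π.natDegree ≤ μ.natDegree := natDegree_le_of_dvd hπμ hμ0
  have h2 : μ.natDegree ≤ n := by
    have h3 := natDegree_le_of_dvd (Matrix.minpoly_dvd_charpoly A) (Matrix.charpoly_monic A).ne_zero
    rw [Matrix.charpoly_natDegree_eq_dim, Fintype.card_fin] at h3
    exact h3
  have h4 : n ≤ π.natDegree := Nat.le_of_dvd hπpos hn_dvd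
  have h5 : μ.natDegree = π.natDegree := by omega
  refine ⟨?_, by omega⟩
  obtain ⟨c, hc⟩ := hπμ
  have hc0 : c ≠ 0 := by
    rintro rfl
    rw [mul_zero] at hc
    exact hμ0 hc
  have h6 : c.natDegree = 0 := by
    have := natDegree_mul hπ.ne_zero hc0
    rw [← hc] at this
    omega
  have hcu : IsUnit c := by
    rw [natDegree_eq_zero] at h6
    obtain ⟨a, rfl⟩ := h6
    have ha : a ≠ 0 := by
      rintro rfl
      exact hc0 (map_zero C)
    exact isUnit_C.2 (isUnit_iff_ne_zero.2 ha)
  rw [hc]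
  exact (irreducible_mul_isUnit hcu).2 hπ

end Cfsg.Agent.Helper44
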