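/-
helper44: arithmetic for the class counts of elements of odd prime order in `O^±_{2m}(q)`.
-/
import Mathlib

set_option autoImplicit false

namespace Cfsg.Agent.Helper44.QType

section zmod

variable {r : ℕ} [Fact r.Prime]

theorem zmod_one_ne_neg_one (hr2 : r ≠ 2) : (1 : ZMod r) ≠ -1 := by
  intro h
  have h2 : ((2 : ℕ) : ZMod r) = 0 := by
    have : (1 : ZMod r) - -1 = 0 := sub_eq_zero.mpr h
    have h3 : (1 : ZMod r) - -1 = 2 := by ring
    rw [h3] at this
    exact_mod_cast this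
  rw [ZMod.natCast_eq_zero_iff] at h2
  exact hr2 ((Nat.prime_dvd_prime_iff_eq Fact.out Nat.prime_two).mp h2)

theorem pow_eq_one_iff_dvd (a : ZMod r) (m : ℕ) : a ^ m = 1 ↔ orderOf a ∣ m :=
  (orderOf_dvd_iff_pow_eq_one).symm

theorem pow_half_eq_neg_one (a : ZMod r) (j : ℕ) (hj : 0 < j) (hi : orderOf a = 2 * j) :
    a ^ j = -1 := by
  have h1 : (a ^ j) * (a ^ j) = 1 := by
    rw [← pow_add, ← two_mul, ← hi, pow_orderOf_eq_one]
  have h2 : a ^ j ≠ 1 := by
    intro h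
    have := orderOf_dvd_of_pow_eq_one h
    rw [hi] at this
    have := Nat.le_of_dvd hj this
    omega
  have h3 : (a ^ j - 1) * (a ^ j + 1) = 0 := by
    calc (a ^ j - 1) * (a ^ j + 1) = a ^ j * a ^ j - 1 := by ring
      _ = 0 := by rw [h1, sub_self]
  rcases mul_eq_zero.mp h3 with h | h
  · exact absurd (sub_eq_zero.mp h) h2
  · exact eq_neg_of_add_eq_zero_left h

theorem pow_eq_neg_one_iff (hr2 : r ≠ 2) (a : ZMod r) (ha : a ≠ 0) (m : ℕ) :
    a ^ m = -1 ↔ Even (orderOf a) ∧ orderOf a ∣ 2 * m ∧ Odd (2 * m / orderOf a) := by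
  have hne := zmod_one_ne_neg_one (r := r) hr2
  have hipos : 0 < orderOf a := by
    apply orderOf_pos_iff.mpr
    exact isOfFinOrder_iff_pow_eq_one.mpr ⟨r - 1, by
      have := (Fact.out : r.Prime).two_le
      omega, ZMod.pow_card_sub_one_eq_one ha⟩
  constructor
  · intro h
    have h2m : a ^ (2 * m) = 1 := by
      rw [mul_comm, pow_mul, h, neg_one_sq]
    have hdvd : orderOf a ∣ 2 * m := orderOf_dvd_of_pow_eq_one h2m
    have hndvd : ¬ orderOf a ∣ m := by
      intro hd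
      rw [← pow_eq_one_iff_dvd] at hd
      rw [hd] at h
      exact hne h
    obtain ⟨A, hA⟩ := hdvd
    have hAodd : Odd A := by
      by_contra hA'
      rw [Nat.not_odd_iff_even] at hA'
      obtain ⟨B, hB⟩ := hA'
      apply hndvd
      refine ⟨B, ?_⟩
      rw [hB] at hA
      have : 2 * m = 2 * (orderOf a * B) := by rw [hA]; ring
      omega
    have hieven : Even (orderOf a) := by
      by_contra hi'
      rw [Nat.not_even_iff_odd] at hi'
      have hpar : Odd (orderOf a * A) := hi'.mul hAodd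
      rw [← hA] at hpar
      exact absurd (even_two_mul m) (Nat.not_even_iff_odd.mpr hpar)
    refine ⟨hieven, ⟨A, hA⟩, ?_⟩
    rw [hA, Nat.mul_div_cancel_left _ hipos]
    exact hAodd
  · rintro ⟨⟨j, hj⟩, hdvd, hodd⟩
    have hj' : orderOf a = 2 * j := by rw [hj]; ring
    have hjpos : 0 < j := by omega
    obtain ⟨A, hA⟩ := hdvd
    rw [hA, Nat.mul_div_cancel_left _ hipos] at hodd
    have hm : m = j * A := by
      rw [hj'] at hA
      have : 2 * m = 2 * (j * A) := by rw [hA]; ring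
      omega
    rw [hm, pow_mul, pow_half_eq_neg_one a j hjpos hj', hodd.neg_one_pow]

end zmod

section nat

theorem pred_div_of_not_dvd {m i : ℕ} (hm : 1 ≤ m) (h : ¬ i ∣ m) : (m - 1) / i = m / i := by
  obtain ⟨n, rfl⟩ : ∃ n, m = n + 1 := ⟨m - 1, by omega⟩
  rw [Nat.succ_div, if_neg h]
  simp

theorem pred_div_of_dvd {m i : ℕ} (hm : 1 ≤ m) (h : i ∣ m) : (m - 1) / i + 1 = m / i := by
  obtain ⟨n, rfl⟩ : ∃ n, m = n + 1 := ⟨m - 1, by omega⟩
  rw [Nat.succ_div, if_pos h]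
  simp

theorem sub_two_div_of_not_dvd {m i : ℕ} (hm : 1 ≤ m) (hi : Even i) (h : ¬ i ∣ 2 * m) :
    (2 * (m - 1)) / i = 2 * m / i := by
  obtain ⟨n, rfl⟩ : ∃ n, m = n + 1 := ⟨m - 1, by omega⟩
  have e1 : 2 * (n + 1) = (2 * n + 1) + 1 := by ring
  have e2 : 2 * (n + 1 - 1) = 2 * n := by simp
  rw [e2, e1, Nat.succ_div, if_neg (by rwa [← e1]), Nat.succ_div, add_zero]
  have : ¬ i ∣ 2 * n + 1 := by
    intro hd
    have h2 : 2 ∣ 2 * n + 1 := (even_iff_two_dvd.mp hi).trans hd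
    omega
  rw [if_neg this, add_zero]

theorem sub_two_div_of_dvd {m i : ℕ} (hm : 1 ≤ m) (hi : Even i) (h : i ∣ 2 * m) :
    (2 * (m - 1)) / i + 1 = 2 * m / i := by
  obtain ⟨n, rfl⟩ : ∃ n, m = n + 1 := ⟨m - 1, by omega⟩
  have e1 : 2 * (n + 1) = (2 * n + 1) + 1 := by ring
  have e2 : 2 * (n + 1 - 1) = 2 * n := by simp
  rw [e2, e1, Nat.succ_div, if_pos (by rwa [← e1]), Nat.succ_div]
  have : ¬ i ∣ 2 * n + 1 := by
    intro hd
    have h2 : 2 ∣ 2 * n + 1 := (even_iff_two_dvd.mp hi).trans hd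
    omega
  rw [if_neg this, add_zero]

/-- Pascal's rule in the shape used here -/
theorem choose_pascal (A t : ℕ) (hA : 1 ≤ A) (ht : 1 ≤ t) :
    Nat.choose (A + t) t - 1 - Nat.choose (A + t - 1) (t - 1) = Nat.choose (A - 1 + t) t - 1 := by
  obtain ⟨B, rfl⟩ : ∃ B, A = B + 1 := ⟨A - 1, by omega⟩
  obtain ⟨s, rfl⟩ : ∃ s, t = s + 1 := ⟨t - 1, by omega⟩
  have e1 : B + 1 + (s + 1) = (B + (s + 1)) + 1 := by ring
  have e2 : B + 1 + (s + 1) - 1 = B + (s + 1) := by omega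
  have e3 : B + 1 - 1 + (s + 1) = B + (s + 1) := by omega
  have e4 : s + 1 - 1 = s := by omega
  rw [e2, e3, e4, e1, Nat.choose_succ_succ']
  have hpos : 0 < Nat.choose (B + (s + 1)) (s + 1) := Nat.choose_pos (by omega)
  omega

end nat

end Cfsg.Agent.Helper44.QType
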