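import Mathlib

/-!
# The `n`-qubit Pauli group over `ZMod 3` (Schroedinger model) : definitions

`X n = (ZMod 2)^n`, `U0 n = X n × X n` with the hyperbolic quadratic form `q0 (a,b) = a ⬝ᵥ b`.
`T (a,b)` is the operator `φ ↦ (x ↦ (-1)^(a ⬝ᵥ x) φ (x + b))` on functions `X n → ZMod 3`, as a
matrix; `T u * T v = sg (bet u v) • T (u + v)`.  `Q0 n = {± T u}` is extraspecial `2^{1+2n}_+`.
-/

set_option autoImplicit false
open scoped MatrixGroups

namespace Cfsg.Agent.Helper44.Cliff

open Matrix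

abbrev X (n : ℕ) : Type := Fin n → ZMod 2
abbrev U0 (n : ℕ) : Type := X n × X n

/-- the sign `(-1)^t` in `ZMod 3` -/
def sg (t : ZMod 2) : ZMod 3 := if t = 0 then 1 else -1

variable {n : ℕ}

/-- the hyperbolic quadratic form -/
def q0 (u : U0 n) : ZMod 2 := u.1 ⬝ᵥ u.2
/-- the product cocycle -/
def bet (u v : U0 n) : ZMod 2 := v.1 ⬝ᵥ u.2
/-- the commutator pairing (polar form of `q0`) -/
def bil (u v : U0 n) : ZMod 2 := u.1 ⬝ᵥ v.2 + v.1 ⬝ᵥ u.2

/-- the Pauli operator -/
def T (u : U0 n) : Matrix (X n) (X n) (ZMod 3) :=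
  Matrix.of fun x y => if y = x + u.2 then sg (u.1 ⬝ᵥ x) else 0

theorem T_apply (u : U0 n) (x y : X n) : T u x y = if y = x + u.2 then sg (u.1 ⬝ᵥ x) else 0 := rfl

theorem zmod2_cases (x : ZMod 2) : x = 0 ∨ x = 1 := by revert x; decide

theorem sg_zero : sg 0 = 1 := by simp [sg]
theorem sg_one : sg 1 = -1 := by
  have : (1 : ZMod 2) ≠ 0 := by decide
  simp [sg, this]

theorem sg_add (x y : ZMod 2) : sg (x + y) = sg x * sg y := by
  rcases zmod2_cases x with rfl | rfl <;> rcases zmod2_cases y with rfl | rfl <;>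
    simp [sg_zero, sg_one, show (1 : ZMod 2) + 1 = 0 by decide]

theorem sg_mul_self (x : ZMod 2) : sg x * sg x = 1 := by
  rcases zmod2_cases x with rfl | rfl <;> simp [sg_zero, sg_one]

theorem sg_ne_zero (x : ZMod 2) : sg x ≠ 0 := by
  rcases zmod2_cases x with rfl | rfl
  · rw [sg_zero]; decide
  · rw [sg_one]; decide

theorem sg_injective : Function.Injective sg := by
  intro x y h
  rcases zmod2_cases x with rfl | rfl <;> rcases zmod2_cases y with rfl | rfl <;>
    first
      | rfl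
      | (exfalso; rw [sg_zero, sg_one] at h; revert h; decide)
      | (exfalso; rw [sg_zero, sg_one] at h; revert h; decide)

theorem add_self_X (x : X n) : x + x = 0 := by
  funext i
  have : ∀ t : ZMod 2, t + t = 0 := by decide
  simp [this]

theorem add_self_U0 (u : U0 n) : u + u = 0 := by
  have h1 := add_self_X u.1
  have h2 := add_self_X u.2
  exact Prod.ext h1 h2

/-- (T1) product rule -/
theorem T_mul (u v : U0 n) : T u * T v = sg (bet u v) • T (u + v) := by
  ext x z
  rw [Matrix.mul_apply, Matrix.smul_apply, T_apply]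
  rw [Finset.sum_eq_single (x + u.2)]
  · rw [T_apply, if_pos rfl, T_apply]
    by_cases hz : z = x + u.2 + v.2
    · rw [if_pos hz, if_pos (by rw [hz, Prod.snd_add, add_assoc])]
      rw [Prod.fst_add, add_dotProduct, dotProduct_add, sg_add, sg_add, smul_eq_mul]
      unfold bet
      ring
    · rw [if_neg hz, if_neg (by rw [Prod.snd_add, ← add_assoc]; exact hz)]
      simp
  · intro y _ hy
    rw [T_apply, if_neg hy, zero_mul]
  · intro h; exact absurd (Finset.mem_univ _) h

theorem T_zero : T (0 : U0 n) = 1 := by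
  ext x y
  rw [T_apply, Matrix.one_apply]
  by_cases h : x = y
  · subst h; simp [sg_zero]
  · rw [if_neg h, if_neg]
    intro h'; apply h; simp at h'; exact h'.symm

theorem bet_self (u : U0 n) : bet u u = q0 u := rfl

theorem T_sq (u : U0 n) : T u * T u = sg (q0 u) • (1 : Matrix (X n) (X n) (ZMod 3)) := by
  rw [T_mul, add_self_U0, T_zero, bet_self]

theorem T_mul_inv (u : U0 n) : T u * (sg (q0 u) • T u) = 1 := by
  rw [Matrix.mul_smul, T_sq, smul_smul, sg_mul_self, one_smul]

theorem T_inv_mul (u : U0 n) : (sg (q0 u) • T u) * T u = 1 := by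
  rw [Matrix.smul_mul, T_sq, smul_smul, sg_mul_self, one_smul]

/-- the Pauli operators as elements of `GL` -/
def TG (u : U0 n) : GL (X n) (ZMod 3) := ⟨T u, sg (q0 u) • T u, T_mul_inv u, T_inv_mul u⟩

@[simp] theorem TG_val (u : U0 n) : ((TG u : GL (X n) (ZMod 3)) : Matrix (X n) (X n) (ZMod 3)) = T u := rfl

theorem TG_inv_val (u : U0 n) :
    (((TG u)⁻¹ : GL (X n) (ZMod 3)) : Matrix (X n) (X n) (ZMod 3)) = sg (q0 u) • T u := rfl

theorem bet_add_left (u u' v : U0 n) : bet (u + u') v = bet u v + bet u' v := by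
  unfold bet; rw [Prod.snd_add, dotProduct_add]
theorem bet_add_right (u v v' : U0 n) : bet u (v + v') = bet u v + bet u v' := by
  unfold bet; rw [Prod.fst_add, add_dotProduct]

theorem bet_add_bet (u v : U0 n) : bet u v + bet v u = bil u v := by
  unfold bet bil; ring

theorem bil_comm (u v : U0 n) : bil u v = bil v u := by
  unfold bil; ring

theorem q0_add (u v : U0 n) : q0 (u + v) = q0 u + q0 v + bil u v := by
  unfold q0 bil
  rw [Prod.fst_add, Prod.snd_add, add_dotProduct, dotProduct_add, dotProduct_add]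
  ring

/-- (T3) commutation rule -/
theorem T_comm (u v : U0 n) : T u * T v = sg (bil u v) • (T v * T u) := by
  rw [T_mul, T_mul v u, smul_smul, ← bet_add_bet, sg_add, mul_assoc, sg_mul_self, mul_one,
    add_comm v u]

/-- the extraspecial group `{± T u}` -/
def Q0 (n : ℕ) : Subgroup (GL (X n) (ZMod 3)) where
  carrier := {g | ∃ (ε : ZMod 2) (u : U0 n), (g : Matrix (X n) (X n) (ZMod 3)) = sg ε • T u}
  one_mem' := ⟨0, 0, by simp [T_zero, sg_zero]⟩
  mul_mem' := by
    rintro a b ⟨ε, u, ha⟩ ⟨δ, v, hb⟩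
    refine ⟨ε + δ + bet u v, u + v, ?_⟩
    rw [Units.val_mul, ha, hb, Matrix.smul_mul, Matrix.mul_smul, T_mul, smul_smul, smul_smul,
      sg_add, sg_add]
  inv_mem' := by
    rintro a ⟨ε, u, ha⟩
    refine ⟨ε + q0 u, u, ?_⟩
    have h1 : (a : Matrix (X n) (X n) (ZMod 3)) * (sg (ε + q0 u) • T u) = 1 := by
      rw [ha, Matrix.smul_mul, Matrix.mul_smul, T_sq, smul_smul, smul_smul, sg_add]
      have : sg ε * (sg ε * sg (q0 u)) * sg (q0 u) = 1 := by
        rw [mul_assoc, mul_assoc, sg_mul_self, mul_one, sg_mul_self]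
      rw [this, one_smul]
    have h2 : ((a⁻¹ : GL (X n) (ZMod 3)) : Matrix (X n) (X n) (ZMod 3)) =
        ((a⁻¹ : GL (X n) (ZMod 3)) : Matrix (X n) (X n) (ZMod 3)) *
          ((a : Matrix (X n) (X n) (ZMod 3)) * (sg (ε + q0 u) • T u)) := by
      rw [h1, Matrix.mul_one]
    rw [h2, ← Matrix.mul_assoc, ← Units.val_mul, inv_mul_cancel, Units.val_one, Matrix.one_mul]

theorem mem_Q0_iff (g : GL (X n) (ZMod 3)) :
    g ∈ Q0 n ↔ ∃ (ε : ZMod 2) (u : U0 n), (g : Matrix (X n) (X n) (ZMod 3)) = sg ε • T u := Iff.rfl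

theorem TG_mem_Q0 (u : U0 n) : TG u ∈ Q0 n := ⟨0, u, by simp [sg_zero]⟩

end Cfsg.Agent.Helper44.Cliff
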