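/-
helper44: the characteristic polynomial and determinant of a matrix whose square is a scalar.
-/
import Mathlib

set_option autoImplicit false

namespace Cfsg.Agent.Helper44

open Matrix Polynomial

variable {F : Type*} [Field F] {ι : Type*} [Fintype ι] [DecidableEq ι]

theorem charpoly_mul_charpoly_neg (D : Matrix ι ι F) (w : F) (hD : D * D = w • (1 : Matrix ι ι F)) :
    D.charpoly * (-D).charpoly = (X ^ 2 - C w) ^ Fintype.card ι := by
  unfold Matrix.charpoly
  rw [← Matrix.det_mul]
  have h1 : D.charmatrix * (-D).charmatrix = (X ^ 2 - C w) • (1 : Matrix ι ι F[X]) := by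
    have hs : (Matrix.scalar ι (X : F[X])) = (X : F[X]) • (1 : Matrix ι ι F[X]) := by
      rw [Matrix.scalar_apply, Matrix.smul_one_eq_diagonal]
    have hDD : (C : F →+* F[X]).mapMatrix D * (C : F →+* F[X]).mapMatrix D
        = C w • (1 : Matrix ι ι F[X]) := by
      rw [← map_mul, hD]
      ext i j
      simp [Matrix.one_apply]
      split_ifs <;> simp
    unfold Matrix.charmatrix
    rw [map_neg, sub_neg_eq_add, hs, sub_mul, mul_add, mul_add, hDD, smul_mul_assoc, one_mul,
      smul_mul_assoc, one_mul, mul_smul_comm, mul_one, smul_smul, sub_smul, pow_two]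
    abel
  rw [h1, Matrix.det_smul, Matrix.det_one, mul_one]

theorem det_of_charpoly_eq (D : Matrix ι ι F) (w : F) (n : ℕ) (hcard : Fintype.card ι = 2 * n)
    (h : D.charpoly = (X ^ 2 - C w) ^ n) : D.det = (-w) ^ n := by
  rw [Matrix.det_eq_sign_charpoly_coeff, hcard, pow_mul, neg_one_sq, one_pow, one_mul, h,
    Polynomial.coeff_zero_eq_eval_zero, Polynomial.eval_pow, Polynomial.eval_sub,
    Polynomial.eval_pow, Polynomial.eval_X, Polynomial.eval_C]
  congr 1
  ring

/-- `D² = w` with `w` a non-square: `det D = (-w)^n` in dimension `2n` -/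
theorem det_of_sq_of_nonsquare (D : Matrix ι ι F) (w : F) (n : ℕ)
    (hcard : Fintype.card ι = 2 * n) (hD : D * D = w • (1 : Matrix ι ι F)) (hw : ¬ IsSquare w) :
    D.det = (-w) ^ n := by
  apply det_of_charpoly_eq D w n hcard
  have hirr : Irreducible (X ^ 2 - C w : F[X]) := by
    apply Polynomial.irreducible_of_degree_le_three_of_not_isRoot
    · rw [Polynomial.natDegree_X_pow_sub_C]
      simp
    · intro x hx
      apply hw
      rw [Polynomial.IsRoot, Polynomial.eval_sub, Polynomial.eval_pow, Polynomial.eval_X,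
        Polynomial.eval_C, sub_eq_zero] at hx
      exact ⟨x, by rw [← hx, pow_two]⟩
  have hdvd : D.charpoly ∣ (X ^ 2 - C w) ^ Fintype.card ι :=
    ⟨_, (charpoly_mul_charpoly_neg D w hD).symm⟩
  obtain ⟨i, _, hi⟩ := (dvd_prime_pow hirr.prime _).1 hdvd
  have hmon : ((X ^ 2 - C w : F[X]) ^ i).Monic := (Polynomial.monic_X_pow_sub_C w (by norm_num)).pow i
  have heq := Polynomial.eq_of_monic_of_associated (Matrix.charpoly_monic D) hmon hi
  have hdeg := congrArg Polynomial.natDegree heq
  rw [Matrix.charpoly_natDegree_eq_dim, Polynomial.natDegree_pow,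
    Polynomial.natDegree_X_pow_sub_C, hcard] at hdeg
  have : i = n := by omega
  rw [heq, this]

/-- `D² = w` with `-D` having the same characteristic polynomial as `D`: `det D = (-w)^n` in
dimension `2n` -/
theorem det_of_sq_of_charpoly_neg (h2 : (2 : F) ≠ 0) (D : Matrix ι ι F) (w : F) (n : ℕ)
    (hcard : Fintype.card ι = 2 * n) (hD : D * D = w • (1 : Matrix ι ι F))
    (hneg : (-D).charpoly = D.charpoly) : D.det = (-w) ^ n := by
  apply det_of_charpoly_eq D w n hcard
  have h1 := charpoly_mul_charpoly_neg D w hD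
  rw [hneg, hcard, ← pow_two, mul_comm 2 n, pow_mul] at h1
  rcases sq_eq_sq_iff_eq_or_eq_neg.1 h1 with h | h
  · exact h
  · exfalso
    have hmon : ((X ^ 2 - C w : F[X]) ^ n).Monic :=
      (Polynomial.monic_X_pow_sub_C w (by norm_num)).pow n
    have h3 := congrArg Polynomial.leadingCoeff h
    rw [Polynomial.leadingCoeff_neg, (Matrix.charpoly_monic D).leadingCoeff, hmon.leadingCoeff]
      at h3
    apply h2
    have : (2 : F) = 1 - (-1) := by ring
    rw [this, ← h3, sub_self]

end Cfsg.Agent.Helper44
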