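/-
helper44: products of two commuting reflections centralised by a similarity.
-/
import Mathlib
import Cfsg.Agent.Helper44.PgoInnD8

set_option autoImplicit false

namespace Cfsg.Agent.Helper44

open Matrix QuadraticMap Module

variable {F : Type*} [Field F] {ι : Type} [Fintype ι] [DecidableEq ι]
variable (Q : QuadraticForm F (ι → F))

/-- reflections in orthogonal vectors commute -/
theorem refl_comm_of_polar_eq_zero (u w : ι → F) (hu : Q u ≠ 0) (hw : Q w ≠ 0)
    (h : polar ⇑Q u w = 0) : refl Q u hu * refl Q w hw = refl Q w hw * refl Q u hu := by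
  have h' : polar ⇑Q w u = 0 := by rw [polar_comm]; exact h
  apply isometryGroup_ext
  intro x
  rw [isometryGroup_mul_mulVec, isometryGroup_mul_mulVec, refl_mulVec Q w hw x,
    refl_mulVec Q u hu x, Matrix.mulVec_sub, Matrix.mulVec_sub, Matrix.mulVec_smul,
    Matrix.mulVec_smul, refl_mulVec Q u hu x, refl_mulVec Q w hw x, refl_mulVec Q u hu w,
    refl_mulVec Q w hw u, h, h']
  simp only [mul_zero, zero_smul, sub_zero]
  abel

section fin

variable [Finite F]

/-- determinant and spinor character of a product of two reflections -/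
theorem det_sign_refl_mul_refl (h2 : (2 : F) ≠ 0) {ν : F} (hν : ¬ IsSquare ν) (u w : ι → F)
    (hu : Q u ≠ 0) (hw : Q w ≠ 0) (h : ¬ IsSquare (Q u * Q w)) :
    detHom ⇑Q (refl Q u hu * refl Q w hw) = 1 ∧ signChar ⇑Q ν (refl Q u hu * refl Q w hw) = -1 := by
  constructor
  · rw [map_mul, ← reflT_of_ne Q u hu, ← reflT_of_ne Q w hw, detHom_reflT Q u hu,
      detHom_reflT Q w hw]
    simp
  · have h1 := (signChar_prod_reflT Q h2 hν [u, w] (by
      intro v hv
      simp only [List.mem_cons, List.not_mem_nil, or_false] at hv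
      rcases hv with rfl | rfl
      · exact hu
      · exact hw)).2 (by simpa using h)
    simpa [reflT_of_ne Q u hu, reflT_of_ne Q w hw] using h1

end fin

/-- a similarity `δ` with `δ² v = z v` and `v ⊥ δ v` commutes with `r_v r_{δ v}` -/
theorem sim_comm_refl_pair (δ : ↥(Cfsg.Geo.quadSimilarityGroup (F := F) ⇑Q)) (v : ι → F)
    (hv : Q v ≠ 0) (hv' : Q ((δ.1 : Matrix ι ι F) *ᵥ v) ≠ 0) (z : F)
    (hz : (δ.1 : Matrix ι ι F) *ᵥ ((δ.1 : Matrix ι ι F) *ᵥ v) = z • v)
    (hperp : polar ⇑Q v ((δ.1 : Matrix ι ι F) *ᵥ v) = 0) :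
    δ * toGO Q (refl Q v hv * refl Q _ hv') = toGO Q (refl Q v hv * refl Q _ hv') * δ := by
  have hv'' : Q ((δ.1 : Matrix ι ι F) *ᵥ ((δ.1 : Matrix ι ι F) *ᵥ v)) ≠ 0 := by
    obtain ⟨c, hc⟩ := δ.2
    rw [hc]
    exact mul_ne_zero c.ne_zero hv'
  have hzv : Q (z • v) ≠ 0 := by rw [← hz]; exact hv''
  have e1 := sim_conj_refl Q δ v hv hv'
  have e2 := sim_conj_refl Q δ _ hv' hv''
  have e3 : refl Q ((δ.1 : Matrix ι ι F) *ᵥ ((δ.1 : Matrix ι ι F) *ᵥ v)) hv'' = refl Q v hv := by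
    have : refl Q ((δ.1 : Matrix ι ι F) *ᵥ ((δ.1 : Matrix ι ι F) *ᵥ v)) hv''
        = refl Q (z • v) hzv := by
      congr 1
    rw [this, refl_smul Q v hv z hzv]
  rw [e3] at e2
  have e4 : δ * toGO Q (refl Q v hv * refl Q _ hv') * δ⁻¹
      = toGO Q (refl Q v hv * refl Q _ hv') := by
    rw [map_mul]
    calc δ * (toGO Q (refl Q v hv) * toGO Q (refl Q _ hv')) * δ⁻¹
        = (δ * toGO Q (refl Q v hv) * δ⁻¹) * (δ * toGO Q (refl Q _ hv') * δ⁻¹) := by group
      _ = toGO Q (refl Q _ hv') * toGO Q (refl Q v hv) := by rw [e1, e2]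
      _ = toGO Q (refl Q v hv) * toGO Q (refl Q _ hv') := by
          rw [← map_mul, ← map_mul, refl_comm_of_polar_eq_zero Q v _ hv hv' hperp]
  exact mul_inv_eq_iff_eq_mul.mp e4

/-- a similarity fixing the line of `a` commutes with the reflection in `a` -/
theorem sim_comm_refl_eigen (δ : ↥(Cfsg.Geo.quadSimilarityGroup (F := F) ⇑Q)) (a : ι → F)
    (ha : Q a ≠ 0) (z : F) (hz : (δ.1 : Matrix ι ι F) *ᵥ a = z • a) :
    δ * toGO Q (refl Q a ha) = toGO Q (refl Q a ha) * δ := by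
  have ha' : Q ((δ.1 : Matrix ι ι F) *ᵥ a) ≠ 0 := by
    obtain ⟨c, hc⟩ := δ.2
    rw [hc]
    exact mul_ne_zero c.ne_zero ha
  have hza : Q (z • a) ≠ 0 := by rw [← hz]; exact ha'
  have e1 := sim_conj_refl Q δ a ha ha'
  have e3 : refl Q ((δ.1 : Matrix ι ι F) *ᵥ a) ha' = refl Q a ha := by
    have : refl Q ((δ.1 : Matrix ι ι F) *ᵥ a) ha' = refl Q (z • a) hza := by
      congr 1
    rw [this, refl_smul Q a ha z hza]
  rw [e3] at e1
  exact mul_inv_eq_iff_eq_mul.mp e1

end Cfsg.Agent.Helper44
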