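/-
helper44: a quadratic form is universal on every non-degenerate subspace of dimension at least two
(finite field of odd order).
-/
import Mathlib
import Cfsg.Agent.Helper44.OmegaIndex
import Cfsg.Agent.Helper44.OrthRealizeC

set_option autoImplicit false

namespace Cfsg.Agent.Helper44

open QuadraticMap Module

variable {F : Type*} [Field F] [Fintype F] {V : Type*} [AddCommGroup V] [Module F V]
  [FiniteDimensional F V]

theorem exists_Q_eq_submodule (h2 : (2 : F) ≠ 0) (Q : QuadraticForm F V) (E : Submodule F V)
    (hE : ∀ x ∈ E, (∀ y ∈ E, polar Q x y = 0) → x = 0) (hd : 2 ≤ finrank F E) (c : F) :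
    ∃ u ∈ E, Q u = c := by
  classical
  set n := finrank F E with hn
  let b : Basis (Fin n) F E := Module.finBasis F E
  let L : (Fin n → F) ≃ₗ[F] E := b.equivFun.symm
  let Q' : QuadraticForm F (Fin n → F) := Q.comp (E.subtype ∘ₗ L.toLinearMap)
  have hQ'v : ∀ x, Q' x = Q ((L x : E) : V) := fun x => rfl
  have hpol : ∀ x y, polar Q' x y = polar Q ((L x : E) : V) ((L y : E) : V) := by
    intro x y
    simp only [polar, hQ'v, map_add, Submodule.coe_add]
  have hnd : (polarBilin Q').Nondegenerate := by
    rw [QType.nondeg_iff]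
    intro x hx
    have h1 : (L x : E) = 0 := by
      apply Subtype.ext
      apply hE _ (L x).2
      intro y hy
      have := hx (L.symm ⟨y, hy⟩)
      rw [hpol, LinearEquiv.apply_symm_apply] at this
      exact this
    exact L.map_eq_zero_iff.mp h1
  obtain ⟨u, hu⟩ := exists_Q_eq Q' h2 hnd (by rw [Module.finrank_fin_fun]; exact hd) c
  exact ⟨(L u : E), (L u).2, by rw [← hQ'v, hu]⟩

end Cfsg.Agent.Helper44
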