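/-
helper44: isometries `g` with `g² = -1` have determinant one; involutions of determinant `-1` are
centralised by an element of `SO ∖ Ω`.
-/
import Mathlib
import Cfsg.Agent.Helper44.GraphCentA
import Cfsg.Agent.Helper44.QuadUniv

set_option autoImplicit false

namespace Cfsg.Agent.Helper44

open Matrix QuadraticMap Module

variable {F : Type*} [Field F] {ι : Type} [Fintype ι] [DecidableEq ι]
variable (Q : QuadraticForm F (ι → F))

/-- an isometry with square `-1` has determinant one -/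
theorem det_eq_one_of_mul_self_eq_neg_one (h2 : (2 : F) ≠ 0)
    (hQ : (QuadraticMap.polarBilin Q).Nondegenerate) (M : Matrix ι ι F)
    (hM : ∀ u, Q (M *ᵥ u) = Q u) (hM2 : M * M = -1) : M.det = 1 := by
  set G := LinearMap.BilinForm.toMatrix' (QuadraticMap.polarBilin Q) with hG
  have hGdet : G.det ≠ 0 := by
    rw [← Matrix.nondegenerate_iff_det_ne_zero, LinearMap.BilinForm.nondegenerate_toMatrix'_iff]
    exact hQ
  have hrel : Mᵀ * G * M = G := by
    have := transpose_mul_polarMatrix_mul_sim Q M 1 (fun u => by rw [one_mul, hM])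
    rwa [one_smul] at this
  have h1 : Mᵀ * G = -(G * M) := by
    have : Mᵀ * G * M * (-M) = G * (-M) := by rw [hrel]
    rw [Matrix.mul_assoc (Mᵀ * G), Matrix.mul_neg M M, hM2, neg_neg, Matrix.mul_one,
      Matrix.mul_neg] at this
    exact this
  have h3 : (1 + M)ᵀ * G = G * (1 - M) := by
    rw [Matrix.transpose_add, Matrix.transpose_one, Matrix.add_mul, Matrix.one_mul, h1,
      Matrix.mul_sub, Matrix.mul_one, sub_eq_add_neg]
  have h4 : (1 + M).det = (1 - M).det := by
    have := congrArg Matrix.det h3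
    rw [Matrix.det_mul, Matrix.det_mul, Matrix.det_transpose, mul_comm] at this
    exact mul_left_cancel₀ hGdet this
  have h5 : M * (1 - M) = 1 + M := by
    rw [Matrix.mul_sub, Matrix.mul_one, hM2, sub_neg_eq_add, add_comm]
  have h6 : (1 - M) * (1 + M) = (2 : F) • (1 : Matrix ι ι F) := by
    rw [Matrix.sub_mul, Matrix.one_mul, Matrix.mul_add, Matrix.mul_one, hM2, two_smul]
    abel
  have h7 : (1 - M).det ≠ 0 := by
    intro h0
    have := congrArg Matrix.det h6
    rw [Matrix.det_mul, h0, zero_mul, Matrix.det_smul, Matrix.det_one, mul_one] at this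
    exact pow_ne_zero _ h2 this.symm
  have h8 := congrArg Matrix.det h5
  rw [Matrix.det_mul, h4] at h8
  have h9 : (M.det - 1) * (1 - M).det = 0 := by linear_combination h8
  rcases mul_eq_zero.mp h9 with h | h
  · exact sub_eq_zero.mp h
  · exact absurd h h7

section invol

variable [Fintype F]

/-- an involution in `O(Q)`, `dim ≥ 3`, is centralised by some `r_a r_b` with `Q a Q b` a
prescribed non-zero value, `a, b` eigenvectors for the same eigenvalue -/
theorem exists_eigen_pair (h2 : (2 : F) ≠ 0) (hQ : (QuadraticMap.polarBilin Q).Nondegenerate)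
    (hdim : 3 ≤ Fintype.card ι) (M : Matrix ι ι F) (hM : ∀ u, Q (M *ᵥ u) = Q u)
    (hM2 : M * M = 1) (ν : F) :
    ∃ (s : F) (a b : ι → F), (s = 1 ∨ s = -1) ∧ M *ᵥ a = s • a ∧ M *ᵥ b = s • b ∧ Q a = 1 ∧
      Q b = ν := by
  have hnd : ∀ x, (∀ y, polar ⇑Q x y = 0) → x = 0 := (QType.nondeg_iff Q).mp hQ
  have hpol : ∀ x y, polar ⇑Q (M *ᵥ x) (M *ᵥ y) = polar ⇑Q x y := by
    intro x y
    have := polar_mulVec_of_similarity Q M 1 (fun u => by rw [one_mul, hM]) x y
    rwa [one_mul] at this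
  have hMM : ∀ x, M *ᵥ (M *ᵥ x) = x := by
    intro x
    rw [Matrix.mulVec_mulVec, hM2, Matrix.one_mulVec]
  -- eigenspaces
  let E : F → Submodule F (ι → F) := fun s => LinearMap.ker (Matrix.toLin' M - s • LinearMap.id)
  have hE : ∀ s x, x ∈ E s ↔ M *ᵥ x = s • x := by
    intro s x
    show x ∈ LinearMap.ker (Matrix.toLin' M - s • LinearMap.id) ↔ _
    rw [LinearMap.mem_ker, LinearMap.sub_apply, Matrix.toLin'_apply, LinearMap.smul_apply,
      LinearMap.id_apply, sub_eq_zero]
  have hproj : ∀ (s : F), s * s = 1 → ∀ v, v + s • (M *ᵥ v) ∈ E s := by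
    intro s hs v
    rw [hE, Matrix.mulVec_add, Matrix.mulVec_smul, hMM, smul_add, smul_smul, hs, one_smul, add_comm]
  have hperp : ∀ x ∈ E 1, ∀ y ∈ E (-1), polar ⇑Q x y = 0 := by
    intro x hx y hy
    rw [hE] at hx hy
    have := hpol x y
    rw [hx, hy, one_smul, neg_smul, one_smul, polar_neg_right] at this
    have h3 : (2 : F) * polar ⇑Q x y = 0 := by linear_combination -this
    exact (mul_eq_zero.mp h3).resolve_left h2
  have two_inv : (2 : F) * 2⁻¹ = 1 := mul_inv_cancel₀ h2
  have hdecomp : ∀ v : ι → F, v = (2⁻¹ : F) • (v + (1 : F) • (M *ᵥ v))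
      + (2⁻¹ : F) • (v + (-1 : F) • (M *ᵥ v)) := by
    intro v
    rw [one_smul, neg_smul, one_smul, ← smul_add]
    have : v + M *ᵥ v + (v + -(M *ᵥ v)) = (2 : F) • v := by rw [two_smul]; abel
    rw [this, smul_smul, mul_comm, two_inv, one_smul]
  have hsup : E 1 ⊔ E (-1) = ⊤ := by
    rw [eq_top_iff]
    intro v _
    rw [hdecomp v]
    apply Submodule.add_mem
    · exact Submodule.mem_sup_left (Submodule.smul_mem _ _ (hproj 1 (by ring) v))
    · exact Submodule.mem_sup_right (Submodule.smul_mem _ _ (hproj (-1) (by ring) v))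
  have hndE : ∀ s : F, (s = 1 ∨ s = -1) → ∀ x ∈ E s, (∀ y ∈ E s, polar ⇑Q x y = 0) → x = 0 := by
    intro s hs x hx hxy
    apply hnd
    intro v
    rw [hdecomp v, polar_add_right, polar_smul_right, polar_smul_right]
    rcases hs with rfl | rfl
    · rw [hxy _ (hproj 1 (by ring) v), hperp x hx _ (hproj (-1) (by ring) v)]
      simp
    · rw [hxy _ (hproj (-1) (by ring) v), polar_comm ⇑Q x,
        hperp _ (hproj 1 (by ring) v) x hx]
      simp
  have hfin : finrank F ↥(E 1) + finrank F ↥(E (-1)) ≥ Fintype.card ι := by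
    have h1 := Submodule.finrank_add_le_finrank_add_finrank (E 1) (E (-1))
    rw [hsup, finrank_top, Module.finrank_fintype_fun_eq_card] at h1
    exact h1
  have hex : ∃ s : F, (s = 1 ∨ s = -1) ∧ 2 ≤ finrank F ↥(E s) := by
    by_cases h1 : 2 ≤ finrank F ↥(E 1)
    · exact ⟨1, Or.inl rfl, h1⟩
    · exact ⟨-1, Or.inr rfl, by omega⟩
  obtain ⟨s, hs, hsdim⟩ := hex
  obtain ⟨a, haE, ha⟩ := exists_Q_eq_submodule h2 Q (E s) (hndE s hs) hsdim 1
  obtain ⟨b, hbE, hb⟩ := exists_Q_eq_submodule h2 Q (E s) (hndE s hs) hsdim ν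
  exact ⟨s, a, b, hs, (hE s a).mp haE, (hE s b).mp hbE, ha, hb⟩

end invol

end Cfsg.Agent.Helper44
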