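/-
helper44: if every singular vector of a non-degenerate quadratic form `Q'` (dimension at least five,
finite field of odd order) is singular for `Q`, then `Q` is a multiple of `Q'`.
-/
import Mathlib
import Cfsg.Agent.Helper44.QuadUniv
import Cfsg.Agent.Helper44.Witt

set_option autoImplicit false

namespace Cfsg.Agent.Helper44

open QuadraticMap Module

variable {F : Type*} [Field F] {V : Type*} [AddCommGroup V] [Module F V]

section hyp

variable (Q Q' : QuadraticForm F V)

theorem Q_comb (a b u : V) (x y : F) :
    Q (x • a + y • b + u) = x * x * Q a + y * y * Q b + Q u + x * y * polar Q a b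
      + x * polar Q a u + y * polar Q b u := by
  rw [QuadraticMap.map_add Q, QuadraticMap.map_add Q, QuadraticMap.map_smul,
    QuadraticMap.map_smul, polar_add_left, polar_smul_left, polar_smul_left, polar_smul_left,
    polar_smul_right]
  simp only [smul_eq_mul]
  ring

/-- the relations coming from the singular vectors `e - c f ± u` -/
theorem rel_of_hyp (h2 : (2 : F) ≠ 0) (h : ∀ v, Q' v = 0 → Q v = 0) (e f : V) (he : Q' e = 0)
    (hf : Q' f = 0) (hef : polar Q' e f = 1) (u : V) (hu₁ : polar Q' e u = 0)
    (hu₂ : polar Q' f u = 0) :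
    Q u = polar Q e f * Q' u ∧ polar Q e u = Q' u * polar Q f u := by
  have hQe : Q e = 0 := h e he
  have hQf : Q f = 0 := h f hf
  set c := Q' u with hc
  have hp : ∀ s : F, s * s = 1 → Q' ((1 : F) • e + (-c) • f + s • u) = 0 := by
    intro s hs
    rw [Q_comb, QuadraticMap.map_smul, polar_smul_right, polar_smul_right, he, hf, hef, hu₁, hu₂,
      smul_eq_mul, ← hc]
    linear_combination c * hs
  have hq : ∀ s : F, s * s = 1 → Q ((1 : F) • e + (-c) • f + s • u) = 0 :=
    fun s hs => h _ (hp s hs)
  have h1 := hq 1 (by ring)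
  have h3 := hq (-1) (by ring)
  rw [Q_comb, QuadraticMap.map_smul, polar_smul_right, polar_smul_right, hQe, hQf] at h1 h3
  simp only [smul_eq_mul] at h1 h3
  have two_inv : (2 : F) * 2⁻¹ = 1 := mul_inv_cancel₀ h2
  constructor
  · linear_combination (2⁻¹ : F) * h1 + (2⁻¹ : F) * h3 - (Q u - polar Q e f * c) * two_inv
  · linear_combination (2⁻¹ : F) * h1 - (2⁻¹ : F) * h3
      - (polar Q e u - c * polar Q f u) * two_inv

end hyp

section main

variable [Fintype F] [FiniteDimensional F V]

theorem exists_proportional_of_singular_imp (h2 : (2 : F) ≠ 0) (Q Q' : QuadraticForm F V)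
    (hnd : ∀ x, (∀ y, polar Q' x y = 0) → x = 0) (hdim : 5 ≤ finrank F V)
    (h : ∀ v, Q' v = 0 → Q v = 0) : ∃ κ : F, ∀ v, Q v = κ * Q' v := by
  classical
  obtain ⟨e, he0, he⟩ := exists_singular Q' (by omega)
  obtain ⟨f, hf, hef⟩ := exists_hyperbolic_partner Q' hnd e he0 he
  have hfe : polar Q' f e = 1 := by rw [polar_comm]; exact hef
  have hee : polar Q' e e = 0 := by rw [polar_self, he, smul_zero]
  have hff : polar Q' f f = 0 := by rw [polar_self, hf, smul_zero]
  have hQe : Q e = 0 := h e he
  have hQf : Q f = 0 := h f hf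
  set κ := polar Q e f with hκ
  have hκ' : polar Q f e = κ := by rw [polar_comm]
  -- relations on the complement of the hyperbolic plane
  have hA : ∀ u, polar Q' e u = 0 → polar Q' f u = 0 →
      Q u = κ * Q' u ∧ polar Q e u = Q' u * polar Q f u ∧ polar Q f u = Q' u * polar Q e u := by
    intro u hu₁ hu₂
    obtain ⟨a1, a2⟩ := rel_of_hyp Q Q' h2 h e f he hf hef u hu₁ hu₂
    obtain ⟨-, b2⟩ := rel_of_hyp Q Q' h2 h f e hf he hfe u hu₂ hu₁
    exact ⟨a1, a2, b2⟩
  have hB : ∀ u, polar Q' e u = 0 → polar Q' f u = 0 → polar Q e u = 0 ∧ polar Q f u = 0 := by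
    intro u hu₁ hu₂
    obtain ⟨-, a2, a3⟩ := hA u hu₁ hu₂
    by_cases hc : Q' u = 0
    · rw [hc, zero_mul] at a2 a3
      exact ⟨a2, a3⟩
    · -- a vector `y` orthogonal to `e, f, u` with `Q' y = - Q' u`
      set c := Q' u with hcdef
      let Φ : V →ₗ[F] (Fin 3 → F) :=
        LinearMap.pi ![polarBilin Q' e, polarBilin Q' f, polarBilin Q' u]
      have hΦ : ∀ x, x ∈ LinearMap.ker Φ ↔
          polar Q' e x = 0 ∧ polar Q' f x = 0 ∧ polar Q' u x = 0 := by
        intro x
        rw [LinearMap.mem_ker]
        constructor
        · intro hx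
          have h0 := congrFun hx 0
          have h1 := congrFun hx 1
          have h2' := congrFun hx 2
          exact ⟨h0, h1, h2'⟩
        · rintro ⟨h0, h1, h2'⟩
          funext i
          fin_cases i
          · exact h0
          · exact h1
          · exact h2'
      have hdimE : 2 ≤ finrank F (LinearMap.ker Φ) := by
        have h1 := LinearMap.finrank_range_add_finrank_ker Φ
        have h3 : finrank F (LinearMap.range Φ) ≤ 3 := by
          have := Submodule.finrank_le (LinearMap.range Φ)
          rwa [Module.finrank_fin_fun] at this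
        omega
      have huu : polar Q' u u = 2 * c := by
        rw [polar_self, ← hcdef, two_mul, two_smul]
      have h2c : (2 : F) * c ≠ 0 := mul_ne_zero h2 hc
      have hndE : ∀ x ∈ LinearMap.ker Φ, (∀ y ∈ LinearMap.ker Φ, polar Q' x y = 0) → x = 0 := by
        intro x hx hxy
        obtain ⟨hx1, hx2, hx3⟩ := (hΦ x).mp hx
        apply hnd
        intro v
        set v₁ := v - (polar Q' f v) • e - (polar Q' e v) • f - ((2 * c)⁻¹ * polar Q' u v) • u
          with hv₁
        have hv₁mem : v₁ ∈ LinearMap.ker Φ := by
          rw [hΦ]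
          refine ⟨?_, ?_, ?_⟩
          · rw [hv₁, polar_sub_right, polar_sub_right, polar_sub_right, polar_smul_right,
              polar_smul_right, polar_smul_right, hee, hef, hu₁]
            simp
          · rw [hv₁, polar_sub_right, polar_sub_right, polar_sub_right, polar_smul_right,
              polar_smul_right, polar_smul_right, hfe, hff, hu₂]
            simp
          · rw [hv₁, polar_sub_right, polar_sub_right, polar_sub_right, polar_smul_right,
              polar_smul_right, polar_smul_right, polar_comm Q' u e, polar_comm Q' u f, hu₁, hu₂,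
              huu]
            simp only [smul_eq_mul, mul_zero, sub_zero]
            field_simp
            ring
        have hv : v = v₁ + (polar Q' f v) • e + (polar Q' e v) • f
            + ((2 * c)⁻¹ * polar Q' u v) • u := by
          rw [hv₁]; abel
        rw [hv, polar_add_right, polar_add_right, polar_add_right, polar_smul_right,
          polar_smul_right, polar_smul_right, hxy v₁ hv₁mem, polar_comm Q' x e, polar_comm Q' x f,
          polar_comm Q' x u, hx1, hx2, hx3]
        simp
      obtain ⟨y, hyE, hy⟩ := exists_Q_eq_submodule h2 Q' (LinearMap.ker Φ) hndE hdimE (-c)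
      obtain ⟨hy1, hy2, hy3⟩ := (hΦ y).mp hyE
      -- `w = u + y` is singular and orthogonal to `e, f`
      have hw : Q' (u + y) = 0 := by
        rw [QuadraticMap.map_add Q', hy, hy3, ← hcdef]
        ring
      have hw1 : polar Q' e (u + y) = 0 := by rw [polar_add_right, hu₁, hy1, add_zero]
      have hw2 : polar Q' f (u + y) = 0 := by rw [polar_add_right, hu₂, hy2, add_zero]
      obtain ⟨-, w2, w3⟩ := hA (u + y) hw1 hw2
      rw [hw, zero_mul] at w2 w3
      -- `u' = u + (u + y)`
      have hu'1 : polar Q' e (u + (u + y)) = 0 := by rw [polar_add_right, hu₁, hw1, add_zero]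
      have hu'2 : polar Q' f (u + (u + y)) = 0 := by rw [polar_add_right, hu₂, hw2, add_zero]
      obtain ⟨-, c2, -⟩ := hA (u + (u + y)) hu'1 hu'2
      have hc' : Q' (u + (u + y)) = 3 * c := by
        rw [QuadraticMap.map_add Q', hw, polar_add_right, huu, hy3, ← hcdef]
        ring
      rw [hc', polar_add_right, polar_add_right (Q := Q) f, w2, w3, add_zero, add_zero] at c2
      have hPf : polar Q f u = 0 := by
        have : (2 * c) * polar Q f u = 0 := by linear_combination a2 - c2
        exact (mul_eq_zero.mp this).resolve_left h2c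
      rw [hPf, mul_zero] at a2
      exact ⟨a2, hPf⟩
  refine ⟨κ, ?_⟩
  intro v
  set x := polar Q' f v with hx
  set y := polar Q' e v with hy
  set u := v - x • e - y • f with hu
  have hu₁ : polar Q' e u = 0 := by
    rw [hu, polar_sub_right, polar_sub_right, polar_smul_right, polar_smul_right, hee, hef]
    simp [hy]
  have hu₂ : polar Q' f u = 0 := by
    rw [hu, polar_sub_right, polar_sub_right, polar_smul_right, polar_smul_right, hfe, hff]
    simp [hx]
  obtain ⟨a1, -, -⟩ := hA u hu₁ hu₂
  obtain ⟨b1, b2⟩ := hB u hu₁ hu₂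
  have hv : v = x • e + y • f + u := by rw [hu]; abel
  rw [hv, Q_comb, Q_comb, hQe, hQf, he, hf, hef, hu₁, hu₂, b1, b2, a1, ← hκ]
  ring

end main

end Cfsg.Agent.Helper44
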