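/-
helper44: a similarity `δ` with `δ²` scalar and non-square multiplier has a non-singular vector
`v` with `v ⊥ δ v`.
-/
import Mathlib
import Cfsg.Agent.Helper44.GraphCentB
import Cfsg.Agent.Helper44.QuadProp

set_option autoImplicit false

namespace Cfsg.Agent.Helper44

open Matrix QuadraticMap Module

variable {F : Type*} [Field F] {ι : Type} [Fintype ι] [DecidableEq ι]
variable (Q : QuadraticForm F (ι → F))

section caseA

variable [Fintype F]

theorem exists_perp_nonsingular (h2 : (2 : F) ≠ 0)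
    (hQ : (QuadraticMap.polarBilin Q).Nondegenerate) (hdim : 5 ≤ Fintype.card ι)
    (D : Matrix ι ι F) (μ z : F) (hμ : ¬ IsSquare μ) (hD : ∀ u, Q (D *ᵥ u) = μ * Q u)
    (hDD : ∀ v, D *ᵥ (D *ᵥ v) = z • v) : ∃ v, Q v ≠ 0 ∧ polar ⇑Q v (D *ᵥ v) = 0 := by
  have hnd : ∀ x, (∀ y, polar ⇑Q x y = 0) → x = 0 := (QType.nondeg_iff Q).mp hQ
  have hfin : 5 ≤ finrank F (ι → F) := by rw [Module.finrank_fintype_fun_eq_card]; exact hdim
  obtain ⟨t, -, -, ht⟩ := exists_nonsingular_perp_pair Q hQ hfin 0 0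
  have ht0 : t ≠ 0 := by
    rintro rfl
    exact ht (map_zero Q)
  have hμ0 : μ ≠ 0 := by
    rintro rfl
    exact hμ ⟨0, by simp⟩
  have hzz : z * z = μ * μ := by
    have h1 : Q (D *ᵥ (D *ᵥ t)) = μ * (μ * Q t) := by rw [hD, hD]
    rw [hDD, QuadraticMap.map_smul, smul_eq_mul] at h1
    have h3 : (z * z - μ * μ) * Q t = 0 := by linear_combination h1
    exact sub_eq_zero.mp ((mul_eq_zero.mp h3).resolve_right ht)
  have hz0 : z ≠ 0 := by
    rintro rfl
    rw [zero_mul] at hzz
    exact hμ0 (mul_self_eq_zero.mp hzz.symm)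
  have hpol : ∀ x y, polar ⇑Q (D *ᵥ x) (D *ᵥ y) = μ * polar ⇑Q x y :=
    polar_mulVec_of_similarity Q D μ hD
  have hadj : ∀ u v, polar ⇑Q (D *ᵥ u) v = μ * z⁻¹ * polar ⇑Q u (D *ᵥ v) := by
    intro u v
    have h1 : D *ᵥ (z⁻¹ • (D *ᵥ v)) = v := by
      rw [Matrix.mulVec_smul, hDD, smul_smul, inv_mul_cancel₀ hz0, one_smul]
    have h3 := hpol u (z⁻¹ • (D *ᵥ v))
    rw [h1, polar_smul_right, smul_eq_mul] at h3
    rw [h3]
    ring
  have hcases : μ = z ∨ μ = -z := by
    have : (μ - z) * (μ + z) = 0 := by linear_combination -hzz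
    rcases mul_eq_zero.mp this with h | h
    · exact Or.inl (sub_eq_zero.mp h)
    · exact Or.inr (eq_neg_of_add_eq_zero_left h)
  rcases hcases with hμz | hμz
  · -- self-adjoint case
    have hself : ∀ u v, polar ⇑Q (D *ᵥ u) v = polar ⇑Q u (D *ᵥ v) := by
      intro u v
      rw [hadj, hμz, mul_inv_cancel₀ hz0, one_mul]
    by_contra hcon
    push Not at hcon
    let B' : LinearMap.BilinForm F (ι → F) :=
      (QuadraticMap.polarBilin Q).compl₂ (Matrix.toLin' D)
    have hB' : ∀ x y, B' x y = polar ⇑Q x (D *ᵥ y) := by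
      intro x y
      show (QuadraticMap.polarBilin Q) x (Matrix.toLin' D y) = _
      rw [Matrix.toLin'_apply, QuadraticMap.polarBilin_apply_apply]
    let Q' : QuadraticForm F (ι → F) := LinearMap.BilinMap.toQuadraticMap B'
    have hQ' : ∀ x, Q' x = polar ⇑Q x (D *ᵥ x) := by
      intro x
      show LinearMap.BilinMap.toQuadraticMap B' x = _
      rw [LinearMap.BilinMap.toQuadraticMap_apply, hB']
    have hpolQ' : ∀ x y, polar ⇑Q' x y = 2 * polar ⇑Q x (D *ᵥ y) := by
      intro x y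
      show polar ⇑(LinearMap.BilinMap.toQuadraticMap B') x y = _
      rw [LinearMap.BilinMap.polar_toQuadraticMap, hB', hB', polar_comm ⇑Q y, hself]
      ring
    have hDsurj : ∀ w, ∃ y, D *ᵥ y = w := by
      intro w
      refine ⟨z⁻¹ • (D *ᵥ w), ?_⟩
      rw [Matrix.mulVec_smul, hDD, smul_smul, inv_mul_cancel₀ hz0, one_smul]
    have hndQ' : ∀ x, (∀ y, polar ⇑Q' x y = 0) → x = 0 := by
      intro x hx
      apply hnd
      intro w
      obtain ⟨y, rfl⟩ := hDsurj w
      have := hx y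
      rw [hpolQ'] at this
      exact (mul_eq_zero.mp this).resolve_left h2
    obtain ⟨κ, hκ⟩ := exists_proportional_of_singular_imp h2 Q Q' hndQ' hfin (by
      intro v hv
      by_contra hne
      exact hcon v hne (by rw [← hQ']; exact hv))
    have hpolκ : ∀ x y, polar ⇑Q x y = κ * (2 * polar ⇑Q x (D *ᵥ y)) := by
      intro x y
      rw [← hpolQ']
      simp only [polar, hκ]
      ring
    have hfix : ∀ y, y = (2 * κ) • (D *ᵥ y) := by
      intro y
      rw [← sub_eq_zero]
      apply hnd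
      intro x
      rw [polar_comm, polar_sub_right, polar_smul_right, hpolκ x y, smul_eq_mul]
      ring
    have h1 := hfix t
    have h3 := hfix (D *ᵥ t)
    rw [hDD] at h3
    rw [h3, smul_smul, smul_smul] at h1
    have h4 : (2 * κ * (2 * κ) * z - 1) • t = 0 := by
      rw [sub_smul, one_smul, ← h1, sub_self]
    rcases smul_eq_zero.mp h4 with h5 | h5
    · apply hμ
      rw [hμz]
      have hκ0 : 2 * κ ≠ 0 := by
        rintro h0
        rw [h0] at h5
        simp at h5
      refine ⟨(2 * κ)⁻¹, ?_⟩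
      rw [← mul_inv]
      exact eq_inv_of_mul_eq_one_left (by linear_combination h5)
    · exact ht0 h5
  · -- skew-adjoint case
    refine ⟨t, ht, ?_⟩
    have h1 := hadj t t
    rw [hμz, neg_mul, mul_inv_cancel₀ hz0, polar_comm] at h1
    have h3 : (2 : F) * polar ⇑Q t (D *ᵥ t) = 0 := by linear_combination h1
    exact (mul_eq_zero.mp h3).resolve_left h2

end caseA

end Cfsg.Agent.Helper44
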