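/-
helper44: a similarity `δ` of an even-dimensional quadratic space (odd `q`) with `δ²` scalar and
`det δ / μ(δ)^m = -1` is centralised by an element of `SO ∖ Ω`.
-/
import Mathlib
import Cfsg.Agent.Helper44.GraphCentC

set_option autoImplicit false

namespace Cfsg.Agent.Helper44

open Matrix QuadraticMap Module

variable {F : Type*} [Field F] {ι : Type} [Fintype ι] [DecidableEq ι]
variable (Q : QuadraticForm F (ι → F))

section main

variable [Fintype F]

theorem exists_centralizing (h2 : (2 : F) ≠ 0)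
    (hQ : (QuadraticMap.polarBilin Q).Nondegenerate) {t : ι → F} (ht : Q t ≠ 0) (m : ℕ)
    (hm : Fintype.card ι = 2 * m) (hdim : 5 ≤ Fintype.card ι) {ν : F} (hν : ¬ IsSquare ν)
    (δ : ↥(Cfsg.Geo.quadSimilarityGroup (F := F) ⇑Q)) (z : Fˣ) (hδ : δ * δ = scalarGO Q z)
    (hd : dHom Q ht m δ = -1) :
    ∃ σ : ↥(Cfsg.isometryGroup F ⇑Q), detHom ⇑Q σ = 1 ∧ signChar ⇑Q ν σ = -1 ∧
      δ * toGO Q σ = toGO Q σ * δ := by
  set D : Matrix ι ι F := (δ.1 : Matrix ι ι F) with hDdef
  set μ : F := (multFun ⇑Q δ : F) with hμdef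
  have hμ0 : μ ≠ 0 := (multFun ⇑Q δ).ne_zero
  have hD : ∀ u, Q (D *ᵥ u) = μ * Q u := multFun_spec ⇑Q δ
  have hDD : ∀ v, D *ᵥ (D *ᵥ v) = (z : F) • v := by
    intro v
    rw [Matrix.mulVec_mulVec, ← scalarGO_mulVec Q z v, ← hδ]
    rfl
  have hzz : (z : F) * z = μ * μ := by
    have h1 : Q (D *ᵥ (D *ᵥ t)) = μ * (μ * Q t) := by rw [hD, hD]
    rw [hDD, QuadraticMap.map_smul, smul_eq_mul] at h1
    have h3 : ((z : F) * z - μ * μ) * Q t = 0 := by linear_combination h1
    exact sub_eq_zero.mp ((mul_eq_zero.mp h3).resolve_right ht)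
  by_cases hμsq : IsSquare μ
  · -- square multiplier: rescale to an isometry
    obtain ⟨r, hr⟩ := hμsq
    have hr0 : r ≠ 0 := by
      rintro rfl
      rw [mul_zero] at hr
      exact hμ0 hr
    set rU : Fˣ := Units.mk0 r hr0 with hrU
    set δ' : ↥(Cfsg.Geo.quadSimilarityGroup (F := F) ⇑Q) := δ * scalarGO Q rU⁻¹ with hδ'
    have hmult : multHom ⇑Q ht δ' = 1 := by
      rw [hδ', map_mul, multHom_scalarGO, multHom_apply]
      apply Units.ext
      rw [Units.val_mul, Units.val_mul, Units.val_one, ← hμdef, hr, Units.val_inv_eq_inv_val, hrU,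
        Units.val_mk0]
      field_simp
    have hiso : δ'.1 ∈ Cfsg.isometryGroup F ⇑Q := mem_isometryGroup_of_multHom ⇑Q ht δ' hmult
    set M : Matrix ι ι F := (δ'.1 : Matrix ι ι F) with hMdef
    have hM : ∀ u, Q (M *ᵥ u) = Q u := (Helper13.mem_isometryGroup_iff ⇑Q δ'.1).1 hiso
    have hMv : ∀ v, M *ᵥ v = r⁻¹ • (D *ᵥ v) := by
      intro v
      have h1 : M *ᵥ v = D *ᵥ ((((scalarGO Q rU⁻¹ :
          ↥(Cfsg.Geo.quadSimilarityGroup (F := F) ⇑Q)) : GL ι F) : Matrix ι ι F) *ᵥ v) := by
        rw [Matrix.mulVec_mulVec]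
        rfl
      rw [h1, scalarGO_mulVec, Matrix.mulVec_smul, Units.val_inv_eq_inv_val, hrU, Units.val_mk0]
    have hdet : M.det = -1 := by
      have h1 : dHom Q ht m δ' = -1 := by
        rw [hδ', map_mul, dHom_scalarGO Q ht m hm, hd, mul_one]
      rw [dHom_apply, hmult, inv_one, one_pow, mul_one] at h1
      have h3 := congrArg (fun u : Fˣ => (u : F)) h1
      simp only [Matrix.GeneralLinearGroup.val_det_apply, Units.val_neg, Units.val_one] at h3
      exact h3
    have hMM : ∀ v, M *ᵥ (M *ᵥ v) = ((z : F) * μ⁻¹) • v := by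
      intro v
      rw [hMv (M *ᵥ v), hMv v, Matrix.mulVec_smul, hDD, smul_smul, smul_smul, hr]
      congr 1
      field_simp
    have hcases : (z : F) = μ ∨ (z : F) = -μ := by
      have : ((z : F) - μ) * ((z : F) + μ) = 0 := by linear_combination hzz
      rcases mul_eq_zero.mp this with h | h
      · exact Or.inl (sub_eq_zero.mp h)
      · exact Or.inr (eq_neg_of_add_eq_zero_left h)
    rcases hcases with hz | hz
    · -- `M` is an involution
      have hM2 : M * M = 1 := by
        apply Matrix.mulVec_injective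
        funext v
        rw [← Matrix.mulVec_mulVec, hMM, hz, mul_inv_cancel₀ hμ0, one_smul, Matrix.one_mulVec]
      obtain ⟨s, a, b, hs, hMa, hMb, hQa, hQb⟩ :=
        exists_eigen_pair Q h2 hQ (by omega) M hM hM2 ν
      have ha : Q a ≠ 0 := by rw [hQa]; exact one_ne_zero
      have hb : Q b ≠ 0 := by
        rw [hQb]
        rintro rfl
        exact hν ⟨0, by simp⟩
      have hDa : D *ᵥ a = (r * s) • a := by
        have := hMv a
        rw [hMa] at this
        rw [mul_smul, this, smul_smul, mul_inv_cancel₀ hr0, one_smul]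
      have hDb : D *ᵥ b = (r * s) • b := by
        have := hMv b
        rw [hMb] at this
        rw [mul_smul, this, smul_smul, mul_inv_cancel₀ hr0, one_smul]
      refine ⟨refl Q a ha * refl Q b hb, ?_, ?_, ?_⟩
      · exact (det_sign_refl_mul_refl Q h2 hν a b ha hb (by rw [hQa, hQb, one_mul]; exact hν)).1
      · exact (det_sign_refl_mul_refl Q h2 hν a b ha hb (by rw [hQa, hQb, one_mul]; exact hν)).2
      · rw [map_mul, ← mul_assoc, sim_comm_refl_eigen Q δ a ha (r * s) hDa, mul_assoc,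
          sim_comm_refl_eigen Q δ b hb (r * s) hDb, mul_assoc]
    · -- `M² = -1` is impossible
      exfalso
      have hM2 : M * M = -1 := by
        apply Matrix.mulVec_injective
        funext v
        rw [← Matrix.mulVec_mulVec, hMM, hz, neg_mul, mul_inv_cancel₀ hμ0, Matrix.neg_mulVec,
          Matrix.one_mulVec, neg_smul, one_smul]
      have h1 := det_eq_one_of_mul_self_eq_neg_one Q h2 hQ M hM hM2
      rw [hdet] at h1
      apply h2
      have : (2 : F) = 1 - (-1) := by ring
      rw [this, h1, sub_self]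
  · -- non-square multiplier
    obtain ⟨v, hv, hperp⟩ := exists_perp_nonsingular Q h2 hQ hdim D μ z hμsq hD hDD
    have hv' : Q (D *ᵥ v) ≠ 0 := by
      rw [hD]
      exact mul_ne_zero hμ0 hv
    have hns : ¬ IsSquare (Q v * Q (D *ᵥ v)) := by
      rintro ⟨s, hs⟩
      apply hμsq
      refine ⟨s * (Q v)⁻¹, ?_⟩
      rw [hD] at hs
      field_simp
      linear_combination hs
    refine ⟨refl Q v hv * refl Q (D *ᵥ v) hv', ?_, ?_, ?_⟩
    · exact (det_sign_refl_mul_refl Q h2 hν v _ hv hv' hns).1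
    · exact (det_sign_refl_mul_refl Q h2 hν v _ hv hv' hns).2
    · exact sim_comm_refl_pair Q δ v hv hv' z (hDD v) hperp

end main

end Cfsg.Agent.Helper44
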