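/-
helper44: in dimension `2n` with `n` even (odd `q`): a similarity `δ` with `δ²` scalar and
`det δ / μ(δ)^n = -1` has square multiplier, and every similarity commuting with it modulo
scalars has square multiplier.
-/
import Mathlib
import Cfsg.Agent.Helper44.GraphCentD
import Cfsg.Agent.Helper44.CharpolySq

set_option autoImplicit false

namespace Cfsg.Agent.Helper44

open Matrix QuadraticMap Module

variable {F : Type*} [Field F] {ι : Type} [Fintype ι] [DecidableEq ι]
variable (Q : QuadraticForm F (ι → F))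

/-- a matrix conjugate (by an invertible matrix) to its negative has the same characteristic
polynomial as its negative -/
theorem charpoly_neg_eq_of_conj (D A : Matrix ι ι F) (hA : A.det ≠ 0) (h : A * D = -(D * A)) :
    (-D).charpoly = D.charpoly := by
  have hu : IsUnit A.det := isUnit_iff_ne_zero.2 hA
  have h1 : -D = A * D * A⁻¹ := by
    rw [h, Matrix.neg_mul, Matrix.mul_assoc, Matrix.mul_nonsing_inv A hu, Matrix.mul_one]
  rw [h1, Matrix.mul_assoc, Matrix.charpoly_mul_comm, Matrix.mul_assoc,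
    Matrix.nonsing_inv_mul A hu, Matrix.mul_one]

/-- a matrix skew-adjoint for an invertible Gram matrix has the same characteristic polynomial as
its negative -/
theorem charpoly_neg_eq_of_skew (D G : Matrix ι ι F) (hG : G.det ≠ 0)
    (h : Dᵀ * G = -(G * D)) : (-D).charpoly = D.charpoly := by
  have hu : IsUnit G.det := isUnit_iff_ne_zero.2 hG
  have h1 : Dᵀ = G * (-D) * G⁻¹ := by
    rw [Matrix.mul_neg, ← h, Matrix.mul_assoc, Matrix.mul_nonsing_inv G hu, Matrix.mul_one]
  rw [← Matrix.charpoly_transpose D, h1, Matrix.mul_assoc, Matrix.charpoly_mul_comm,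
    Matrix.mul_assoc, Matrix.nonsing_inv_mul G hu, Matrix.mul_one]

theorem polarMatrix_det_ne_zero (hQ : (QuadraticMap.polarBilin Q).Nondegenerate) :
    (LinearMap.BilinForm.toMatrix' (QuadraticMap.polarBilin Q)).det ≠ 0 := by
  rw [← Matrix.nondegenerate_iff_det_ne_zero, LinearMap.BilinForm.nondegenerate_toMatrix'_iff]
  exact hQ

theorem mul_self_eq_smul_one_of_scalarGO (δ : ↥(Cfsg.Geo.quadSimilarityGroup (F := F) ⇑Q))
    (z : Fˣ) (hδ : δ * δ = scalarGO Q z) :
    (δ.1 : Matrix ι ι F) * (δ.1 : Matrix ι ι F) = (z : F) • (1 : Matrix ι ι F) := by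
  apply Matrix.mulVec_injective
  funext v
  rw [Matrix.smul_mulVec, Matrix.one_mulVec, ← scalarGO_mulVec Q z v, ← hδ]
  rfl

section step1

/-- Step 1: in dimension `2n`, `n` even, a similarity with scalar square and `dHom = -1` has
square multiplier -/
theorem isSquare_mult_of_graph_even (h2 : (2 : F) ≠ 0)
    (hQ : (QuadraticMap.polarBilin Q).Nondegenerate) {t : ι → F} (ht : Q t ≠ 0) (n : ℕ)
    (hcard : Fintype.card ι = 2 * n) (hn : Even n)
    (δ : ↥(Cfsg.Geo.quadSimilarityGroup (F := F) ⇑Q)) (z : Fˣ) (hδ : δ * δ = scalarGO Q z)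
    (hd : dHom Q ht n δ = -1) : IsSquare (multFun ⇑Q δ : F) := by
  set D : Matrix ι ι F := (δ.1 : Matrix ι ι F) with hDdef
  set μ : F := (multFun ⇑Q δ : F) with hμdef
  have hμ0 : μ ≠ 0 := (multFun ⇑Q δ).ne_zero
  have hD : ∀ u, Q (D *ᵥ u) = μ * Q u := multFun_spec ⇑Q δ
  have hDD : D * D = (z : F) • (1 : Matrix ι ι F) := mul_self_eq_smul_one_of_scalarGO Q δ z hδ
  have hzz : (z : F) * z = μ * μ := by
    have h1 : Q (D *ᵥ (D *ᵥ t)) = μ * (μ * Q t) := by rw [hD, hD]
    rw [Matrix.mulVec_mulVec, hDD, Matrix.smul_mulVec, Matrix.one_mulVec, QuadraticMap.map_smul,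
      smul_eq_mul] at h1
    have h3 : ((z : F) * z - μ * μ) * Q t = 0 := by linear_combination h1
    exact sub_eq_zero.mp ((mul_eq_zero.mp h3).resolve_right ht)
  by_contra hns
  -- in both cases `det D = μ^n`
  have hdet : D.det = μ ^ n := by
    have hcases : (z : F) = μ ∨ (z : F) = -μ := by
      have : ((z : F) - μ) * ((z : F) + μ) = 0 := by linear_combination hzz
      rcases mul_eq_zero.mp this with h | h
      · exact Or.inl (sub_eq_zero.mp h)
      · exact Or.inr (eq_neg_of_add_eq_zero_left h)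
    rcases hcases with hz | hz
    · rw [det_of_sq_of_nonsquare D (z : F) n hcard hDD (by rw [hz]; exact hns), hz,
        Even.neg_pow hn]
    · set G := LinearMap.BilinForm.toMatrix' (QuadraticMap.polarBilin Q) with hG
      have hGdet : G.det ≠ 0 := polarMatrix_det_ne_zero Q hQ
      have hrel : Dᵀ * G * D = μ • G := transpose_mul_polarMatrix_mul_sim Q D μ hD
      have hskew : Dᵀ * G = -(G * D) := by
        have h1 : Dᵀ * G * D * D = μ • G * D := by rw [hrel]
        rw [Matrix.mul_assoc (Dᵀ * G), hDD, Matrix.mul_smul, Matrix.mul_one, hz] at h1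
        have h3 : μ • (Dᵀ * G + G * D) = 0 := by
          rw [Matrix.smul_mul] at h1
          rw [smul_add, ← h1, neg_smul, add_neg_cancel]
        rcases smul_eq_zero.mp h3 with h | h
        · exact absurd h hμ0
        · exact eq_neg_of_add_eq_zero_left h
      rw [det_of_sq_of_charpoly_neg h2 D (z : F) n hcard hDD
        (charpoly_neg_eq_of_skew D G hGdet hskew), hz, neg_neg]
  have h1 : dHom Q ht n δ = 1 := by
    apply Units.ext
    rw [dHom_apply, multHom_apply, Units.val_mul, Units.val_pow_eq_pow_val,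
      Units.val_inv_eq_inv_val, Matrix.GeneralLinearGroup.val_det_apply, Units.val_one]
    show D.det * (μ⁻¹) ^ n = 1
    rw [hdet, ← mul_pow, mul_inv_cancel₀ hμ0, one_pow]
  rw [hd] at h1
  exact neg_one_units_ne_one h2 h1

end step1

section step2

variable [Fintype F]

/-- Step 2 (`c = 1`): a similarity commuting with an isometric involution of determinant `-1`
has square multiplier -/
theorem isSquare_of_commute_invol (h2 : (2 : F) ≠ 0)
    (hQ : (QuadraticMap.polarBilin Q).Nondegenerate)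
    (M A : Matrix ι ι F) (hM : ∀ u, Q (M *ᵥ u) = Q u) (hM2 : M * M = 1) (hdet : M.det = -1)
    (μ : F) (hμ0 : μ ≠ 0) (hA : ∀ u, Q (A *ᵥ u) = μ * Q u) (hAM : A * M = M * A) :
    IsSquare μ := by
  set G := LinearMap.BilinForm.toMatrix' (QuadraticMap.polarBilin Q) with hG
  have hGdet : G.det ≠ 0 := polarMatrix_det_ne_zero Q hQ
  have hrelM : Mᵀ * G * M = G := by
    have := transpose_mul_polarMatrix_mul_sim Q M 1 (fun u => by rw [one_mul, hM])
    rwa [one_smul] at this
  have hrelA : Aᵀ * G * A = μ • G := transpose_mul_polarMatrix_mul_sim Q A μ hA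
  have hself : Mᵀ * G = G * M := by
    have h1 : Mᵀ * G * M * M = G * M := by rw [hrelM]
    rwa [Matrix.mul_assoc (Mᵀ * G), hM2, Matrix.mul_one] at h1
  have two_inv : (2 : F) * 2⁻¹ = 1 := mul_inv_cancel₀ h2
  -- the one-parameter family `E x = P₊ + x P₋`
  let E : F → Matrix ι ι F := fun x =>
    ((1 + x) * 2⁻¹) • (1 : Matrix ι ι F) + ((1 - x) * 2⁻¹) • M
  have hEmul : ∀ x y, E x * E y = E (x * y) := by
    intro x y
    show (((1 + x) * 2⁻¹) • (1 : Matrix ι ι F) + ((1 - x) * 2⁻¹) • M)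
      * (((1 + y) * 2⁻¹) • (1 : Matrix ι ι F) + ((1 - y) * 2⁻¹) • M)
      = ((1 + x * y) * 2⁻¹) • (1 : Matrix ι ι F) + ((1 - x * y) * 2⁻¹) • M
    rw [add_mul, mul_add, mul_add]
    simp only [smul_mul_assoc, mul_smul_comm, one_mul, mul_one, hM2, smul_smul]
    have e1 : (1 + x) * 2⁻¹ * ((1 + y) * 2⁻¹) + (1 - x) * 2⁻¹ * ((1 - y) * 2⁻¹)
        = (1 + x * y) * 2⁻¹ := by
      have : (2 : F)⁻¹ * 2⁻¹ * 2 = 2⁻¹ := by rw [mul_assoc, inv_mul_cancel₀ h2, mul_one]
      linear_combination (1 + x * y) * this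
    have e2 : (1 + x) * 2⁻¹ * ((1 - y) * 2⁻¹) + (1 - x) * 2⁻¹ * ((1 + y) * 2⁻¹)
        = (1 - x * y) * 2⁻¹ := by
      have : (2 : F)⁻¹ * 2⁻¹ * 2 = 2⁻¹ := by rw [mul_assoc, inv_mul_cancel₀ h2, mul_one]
      linear_combination (1 - x * y) * this
    rw [← e1, ← e2]
    module
  have hE1 : E 1 = 1 := by
    show ((1 + 1) * 2⁻¹ : F) • (1 : Matrix ι ι F) + ((1 - 1) * 2⁻¹ : F) • M = 1
    rw [sub_self, zero_mul, zero_smul, add_zero, one_add_one_eq_two, two_inv, one_smul]
  have hEneg : E (-1) = M := by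
    show ((1 + -1) * 2⁻¹ : F) • (1 : Matrix ι ι F) + ((1 - -1) * 2⁻¹ : F) • M = M
    rw [add_neg_cancel, zero_mul, zero_smul, zero_add, sub_neg_eq_add, one_add_one_eq_two, two_inv,
      one_smul]
  -- `x ↦ det (E x)` is a power map
  let φ : Fˣ →* F :=
    { toFun := fun x => (E (x : F)).det
      map_one' := by rw [Units.val_one, hE1, Matrix.det_one]
      map_mul' := fun x y => by rw [Units.val_mul, ← hEmul, Matrix.det_mul] }
  obtain ⟨k, hk⟩ := MonoidHom.map_cyclic φ.toHomUnits
  have hk' : ∀ x : Fˣ, (E (x : F)).det = ((x ^ k : Fˣ) : F) := by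
    intro x
    rw [← hk x, MonoidHom.coe_toHomUnits]
    rfl
  have hkodd : Odd k := by
    rw [← Int.not_even_iff_odd]
    intro hev
    have h1 := hk' (-1)
    rw [Units.val_neg, Units.val_one, hEneg, hdet, Even.neg_one_zpow hev, Units.val_one] at h1
    apply h2
    have : (2 : F) = 1 - (-1) := by ring
    rw [this, h1, sub_self]
  -- the Gram identity
  obtain ⟨P, hP⟩ : ∃ P : Matrix ι ι F, P = (2⁻¹ : F) • (1 - M) := ⟨_, rfl⟩
  obtain ⟨P', hP'⟩ : ∃ P' : Matrix ι ι F, P' = (2⁻¹ : F) • (1 + M) := ⟨_, rfl⟩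
  have hEμ : E μ = P' + μ • P := by
    show ((1 + μ) * 2⁻¹) • (1 : Matrix ι ι F) + ((1 - μ) * 2⁻¹) • M = _
    rw [hP, hP']
    module
  have f1 : Pᵀ * G = G * P := by
    rw [hP, Matrix.transpose_smul, Matrix.transpose_sub, Matrix.transpose_one, Matrix.smul_mul,
      Matrix.mul_smul, Matrix.sub_mul, Matrix.mul_sub, Matrix.one_mul, Matrix.mul_one, hself]
  have f1' : P'ᵀ * G = G * P' := by
    rw [hP', Matrix.transpose_smul, Matrix.transpose_add, Matrix.transpose_one, Matrix.smul_mul,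
      Matrix.mul_smul, Matrix.add_mul, Matrix.mul_add, Matrix.one_mul, Matrix.mul_one, hself]
  have hquarter : (2 : F)⁻¹ * 2⁻¹ * 2 = 2⁻¹ := by rw [mul_assoc, inv_mul_cancel₀ h2, mul_one]
  have e1 : (1 - M) * (1 + M) = 0 := by
    have : (1 - M) * (1 + M) = 1 - M * M := by noncomm_ring
    rw [this, hM2, sub_self]
  have e2 : (1 + M) * (1 - M) = 0 := by
    have : (1 + M) * (1 - M) = 1 - M * M := by noncomm_ring
    rw [this, hM2, sub_self]
  have e3 : (1 - M) * (1 - M) = (2 : F) • (1 - M) := by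
    have : (1 - M) * (1 - M) = 1 - M - M + M * M := by noncomm_ring
    rw [this, hM2, two_smul]
    abel
  have e4 : (1 + M) * (1 + M) = (2 : F) • (1 + M) := by
    have : (1 + M) * (1 + M) = 1 + M + M + M * M := by noncomm_ring
    rw [this, hM2, two_smul]
    abel
  have f2 : P * P = P := by
    rw [hP, Matrix.smul_mul, Matrix.mul_smul, smul_smul, e3, smul_smul, hquarter]
  have f2' : P' * P' = P' := by
    rw [hP', Matrix.smul_mul, Matrix.mul_smul, smul_smul, e4, smul_smul, hquarter]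
  have f3 : P * P' = 0 := by
    rw [hP, hP', Matrix.smul_mul, Matrix.mul_smul, e1, smul_zero, smul_zero]
  have f3' : P' * P = 0 := by
    rw [hP, hP', Matrix.smul_mul, Matrix.mul_smul, e2, smul_zero, smul_zero]
  have f4 : A * P = P * A := by
    rw [hP, Matrix.mul_smul, Matrix.smul_mul, Matrix.mul_sub, Matrix.sub_mul, Matrix.mul_one,
      Matrix.one_mul, hAM]
  have f4' : A * P' = P' * A := by
    rw [hP', Matrix.mul_smul, Matrix.smul_mul, Matrix.mul_add, Matrix.add_mul, Matrix.mul_one,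
      Matrix.one_mul, hAM]
  obtain ⟨N, hN⟩ : ∃ N : Matrix ι ι F, N = A * P + P' := ⟨_, rfl⟩
  have hgram : Nᵀ * G * N = G * E μ := by
    have t1 : (A * P)ᵀ * G * (A * P) = μ • (G * P) := by
      calc (A * P)ᵀ * G * (A * P) = Pᵀ * (Aᵀ * G * A) * P := by
            rw [Matrix.transpose_mul]
            simp only [Matrix.mul_assoc]
        _ = μ • (Pᵀ * G * P) := by rw [hrelA, Matrix.mul_smul, Matrix.smul_mul]
        _ = μ • (G * P) := by rw [f1, Matrix.mul_assoc, f2]
    have t2 : (A * P)ᵀ * G * P' = 0 := by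
      calc (A * P)ᵀ * G * P' = Aᵀ * (Pᵀ * G) * P' := by
            rw [f4, Matrix.transpose_mul]
            simp only [Matrix.mul_assoc]
        _ = Aᵀ * G * (P * P') := by
            rw [f1]
            simp only [Matrix.mul_assoc]
        _ = 0 := by rw [f3, Matrix.mul_zero]
    have t3 : P'ᵀ * G * (A * P) = 0 := by
      calc P'ᵀ * G * (A * P) = G * (P' * A) * P := by
            rw [f1']
            simp only [Matrix.mul_assoc]
        _ = G * A * (P' * P) := by
            rw [← f4']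
            simp only [Matrix.mul_assoc]
        _ = 0 := by rw [f3', Matrix.mul_zero]
    have t4 : P'ᵀ * G * P' = G * P' := by
      rw [f1', Matrix.mul_assoc, f2']
    rw [hN, Matrix.transpose_add, Matrix.add_mul, Matrix.add_mul, Matrix.mul_add, Matrix.mul_add,
      t1, t2, t3, t4, hEμ, Matrix.mul_add, Matrix.mul_smul]
    abel
  have hdetE : (E μ).det = N.det * N.det := by
    have h1 := congrArg Matrix.det hgram
    rw [Matrix.det_mul, Matrix.det_mul, Matrix.det_transpose, Matrix.det_mul] at h1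
    have h3 : G.det * ((E μ).det - N.det * N.det) = 0 := by linear_combination -h1
    exact sub_eq_zero.mp ((mul_eq_zero.mp h3).resolve_left hGdet)
  -- conclusion
  obtain ⟨l, hl⟩ := hkodd
  have h5 := hk' (Units.mk0 μ hμ0)
  have h6 : (Units.mk0 μ hμ0 ^ k : Fˣ)
      = (Units.mk0 μ hμ0 ^ l) * (Units.mk0 μ hμ0 ^ l) * Units.mk0 μ hμ0 := by
    rw [hl, _root_.zpow_add, zpow_one, two_mul, _root_.zpow_add]
  rw [h6, Units.val_mul, Units.val_mul, Units.val_mk0, hdetE] at h5
  have hy0 : ((Units.mk0 μ hμ0 ^ l : Fˣ) : F) ≠ 0 := Units.ne_zero _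
  set y : F := ((Units.mk0 μ hμ0 ^ l : Fˣ) : F) with hy
  refine ⟨N.det * y⁻¹, ?_⟩
  field_simp
  linear_combination -h5

end step2

end Cfsg.Agent.Helper44
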