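/-
helper44: in dimension `2n`, `n` even (odd `q`): every similarity commuting modulo scalars with a
similarity `δ` (`δ²` scalar, `det δ / μ(δ)^n = -1`) has square multiplier.
-/
import Mathlib
import Cfsg.Agent.Helper44.GraphCentE

set_option autoImplicit false

namespace Cfsg.Agent.Helper44

open Matrix QuadraticMap Module

variable {F : Type*} [Field F] {ι : Type} [Fintype ι] [DecidableEq ι]
variable (Q : QuadraticForm F (ι → F))

section main

variable [Fintype F]

theorem isSquare_mult_of_commute_graph (h2 : (2 : F) ≠ 0)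
    (hQ : (QuadraticMap.polarBilin Q).Nondegenerate) {t : ι → F} (ht : Q t ≠ 0) (n : ℕ)
    (hcard : Fintype.card ι = 2 * n) (hn : Even n)
    (δ g : ↥(Cfsg.Geo.quadSimilarityGroup (F := F) ⇑Q)) (z c : Fˣ)
    (hδ : δ * δ = scalarGO Q z) (hd : dHom Q ht n δ = -1)
    (hg : g * δ = scalarGO Q c * δ * g) : IsSquare (multFun ⇑Q g : F) := by
  set D : Matrix ι ι F := (δ.1 : Matrix ι ι F) with hDdef
  set A : Matrix ι ι F := (g.1 : Matrix ι ι F) with hAdef
  set μ : F := (multFun ⇑Q δ : F) with hμdef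
  have hμ0 : μ ≠ 0 := (multFun ⇑Q δ).ne_zero
  have hD : ∀ u, Q (D *ᵥ u) = μ * Q u := multFun_spec ⇑Q δ
  have hA : ∀ u, Q (A *ᵥ u) = (multFun ⇑Q g : F) * Q u := multFun_spec ⇑Q g
  have hDD : D * D = (z : F) • (1 : Matrix ι ι F) := mul_self_eq_smul_one_of_scalarGO Q δ z hδ
  have hAdet : A.det ≠ 0 := (Matrix.isUnits_det_units g.1).ne_zero
  have hzz : (z : F) * z = μ * μ := by
    have h1 : Q (D *ᵥ (D *ᵥ t)) = μ * (μ * Q t) := by rw [hD, hD]
    rw [Matrix.mulVec_mulVec, hDD, Matrix.smul_mulVec, Matrix.one_mulVec, QuadraticMap.map_smul,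
      smul_eq_mul] at h1
    have h3 : ((z : F) * z - μ * μ) * Q t = 0 := by linear_combination h1
    exact sub_eq_zero.mp ((mul_eq_zero.mp h3).resolve_right ht)
  have hAD : A * D = (c : F) • (D * A) := by
    apply Matrix.mulVec_injective
    funext v
    have h1 := congrArg (fun x : ↥(Cfsg.Geo.quadSimilarityGroup (F := F) ⇑Q) =>
      ((x.1 : GL ι F) : Matrix ι ι F) *ᵥ v) hg
    have h3 : ((((scalarGO Q c * δ * g : ↥(Cfsg.Geo.quadSimilarityGroup (F := F) ⇑Q)) : GL ι F)) :
        Matrix ι ι F) *ᵥ v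
        = (((scalarGO Q c : ↥(Cfsg.Geo.quadSimilarityGroup (F := F) ⇑Q)) : GL ι F) :
          Matrix ι ι F) *ᵥ (D *ᵥ (A *ᵥ v)) := by
      rw [Matrix.mulVec_mulVec, Matrix.mulVec_mulVec]
      rfl
    have h4 : (((g * δ : ↥(Cfsg.Geo.quadSimilarityGroup (F := F) ⇑Q)) : GL ι F) :
        Matrix ι ι F) *ᵥ v = (A * D) *ᵥ v := rfl
    beta_reduce at h1
    rw [h3, h4, scalarGO_mulVec] at h1
    rw [h1, Matrix.smul_mulVec, Matrix.mulVec_mulVec]
  obtain ⟨r, hr'⟩ := isSquare_mult_of_graph_even Q h2 hQ ht n hcard hn δ z hδ hd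
  have hr : μ = r * r := hr'
  have hr0 : r ≠ 0 := by
    rintro rfl
    rw [mul_zero] at hr
    exact hμ0 hr
  obtain ⟨M, hMdef⟩ : ∃ M : Matrix ι ι F, M = r⁻¹ • D := ⟨_, rfl⟩
  have hM : ∀ u, Q (M *ᵥ u) = Q u := by
    intro u
    rw [hMdef, Matrix.smul_mulVec, QuadraticMap.map_smul, hD, smul_eq_mul, hr]
    field_simp
  have hdetM : M.det = -1 := by
    have h1 := congrArg (fun u : Fˣ => (u : F)) hd
    simp only [dHom_apply, multHom_apply, Units.val_mul, Units.val_pow_eq_pow_val,
      Units.val_inv_eq_inv_val, Matrix.GeneralLinearGroup.val_det_apply, Units.val_neg,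
      Units.val_one] at h1
    rw [hMdef, Matrix.det_smul, hcard, ← h1]
    show (r⁻¹) ^ (2 * n) * D.det = D.det * (μ⁻¹) ^ n
    rw [hr, pow_mul, mul_comm, ← pow_two, inv_pow]
  have hMM : M * M = ((z : F) * μ⁻¹) • (1 : Matrix ι ι F) := by
    rw [hMdef, Matrix.smul_mul, Matrix.mul_smul, hDD, smul_smul, smul_smul, hr]
    congr 1
    field_simp
  have hcases : (z : F) = μ ∨ (z : F) = -μ := by
    have : ((z : F) - μ) * ((z : F) + μ) = 0 := by linear_combination hzz
    rcases mul_eq_zero.mp this with h | h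
    · exact Or.inl (sub_eq_zero.mp h)
    · exact Or.inr (eq_neg_of_add_eq_zero_left h)
  have hM2 : M * M = 1 := by
    rcases hcases with hz | hz
    · rw [hMM, hz, mul_inv_cancel₀ hμ0, one_smul]
    · exfalso
      have hM2' : M * M = -1 := by
        rw [hMM, hz, neg_mul, mul_inv_cancel₀ hμ0, neg_smul, one_smul]
      have h1 := det_eq_one_of_mul_self_eq_neg_one Q h2 hQ M hM hM2'
      rw [hdetM] at h1
      apply h2
      have : (2 : F) = 1 - (-1) := by ring
      rw [this, h1, sub_self]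
  have hAM : A * M = (c : F) • (M * A) := by
    rw [hMdef, Matrix.mul_smul, Matrix.smul_mul, hAD, smul_comm]
  have hcc : (c : F) * c = 1 := by
    have h1 : A = ((c : F) * c) • A := by
      calc A = A * M * M := by rw [Matrix.mul_assoc, hM2, Matrix.mul_one]
        _ = (c : F) • (M * (A * M)) := by
            conv_lhs => rw [hAM]
            rw [Matrix.smul_mul, Matrix.mul_assoc]
        _ = ((c : F) * c) • (M * M * A) := by
            rw [hAM, Matrix.mul_smul, smul_smul, Matrix.mul_assoc]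
        _ = ((c : F) * c) • A := by rw [hM2, Matrix.one_mul]
    have h3 : (1 - (c : F) * c) • A = 0 := by
      rw [sub_smul, one_smul, ← h1, sub_self]
    rcases smul_eq_zero.mp h3 with h | h
    · exact (sub_eq_zero.mp h).symm
    · exfalso
      have hne : Nonempty ι := by
        by_contra hemp
        rw [not_nonempty_iff] at hemp
        exact ht (by rw [Subsingleton.elim t 0, map_zero])
      rw [h, Matrix.det_zero] at hAdet
      exact hAdet rfl
  have hc : (c : F) = 1 ∨ (c : F) = -1 := by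
    have : ((c : F) - 1) * ((c : F) + 1) = 0 := by linear_combination hcc
    rcases mul_eq_zero.mp this with h | h
    · exact Or.inl (sub_eq_zero.mp h)
    · exact Or.inr (eq_neg_of_add_eq_zero_left h)
  rcases hc with hc1 | hc1
  · rw [hc1, one_smul] at hAM
    exact isSquare_of_commute_invol Q h2 hQ M A hM hM2 hdetM _ (multFun ⇑Q g).ne_zero hA hAM
  · exfalso
    rw [hc1, neg_smul, one_smul] at hAM
    have h1 := det_of_sq_of_charpoly_neg h2 M 1 n hcard (by rw [hM2, one_smul])
      (charpoly_neg_eq_of_conj M A hAdet hAM)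
    rw [hdetM, Even.neg_pow hn, one_pow] at h1
    apply h2
    have : (2 : F) = 1 - (-1) := by ring
    rw [this, h1, sub_self]

end main

end Cfsg.Agent.Helper44
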