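/-
helper44: the number of `T`-classes in a `G`-class, through a surjection `G → Z` with kernel `T`.
-/
import Mathlib
import Cfsg.Prelude.Def_LieTypeDatum
import Cfsg.Agent.Helper14.SplitAbs

set_option autoImplicit false

namespace Cfsg.Agent.Helper44.Split

open Cfsg.Agent.Helper14.SplitAbs

variable {A Z : Type*} [Group A] [Group Z]

/-- the number of `T`-classes in the `G`-class of `γ` is the index of the image of `C_G(γ)` -/
theorem splitClassCount_eq_index (G T : Subgroup A) (hTG : T ≤ G) (γ : A)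
    (φ : ↥G →* Z) (hφ : Function.Surjective φ) (hker : φ.ker = T.subgroupOf G) :
    Cfsg.splitClassCount G T γ
      = (((Subgroup.centralizer {γ}).subgroupOf G).map φ).index := by
  haveI hN : (T.subgroupOf G).Normal := by
    rw [← hker]
    exact MonoidHom.normal_ker φ
  have h1 := splitClassCount_abs G.subtype (T.subgroupOf G)
    ((Subgroup.centralizer {γ}).subgroupOf G) (by
      intro x hx
      rw [MonoidHom.mem_ker] at hx
      have : x = 1 := Subtype.ext hx
      rw [this]
      exact one_mem _) γ (by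
      rw [Subgroup.subgroupOf_map_subtype, Subgroup.range_subtype, inf_comm])
  rw [Subgroup.range_subtype, Subgroup.subgroupOf_map_subtype, inf_eq_left.mpr hTG] at h1
  rw [h1, index_sup_map φ hφ _ _ (le_of_eq hker)]
  have h2 : (T.subgroupOf G).map φ = ⊥ := by
    rw [← hker]
    exact (Subgroup.map_eq_bot_iff _).mpr le_rfl
  rw [h2, bot_sup_eq]

/-- quotient of order two -/
theorem splitClassCount_of_card_two (G T : Subgroup A) (hTG : T ≤ G) (γ : A)
    (φ : ↥G →* Z) (hφ : Function.Surjective φ) (hker : φ.ker = T.subgroupOf G)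
    (hZ : Nat.card Z = 2) :
    Cfsg.splitClassCount G T γ = 1 ∨ Cfsg.splitClassCount G T γ = 2 := by
  rw [splitClassCount_eq_index G T hTG γ φ hφ hker]
  have hd := Subgroup.index_dvd_card (((Subgroup.centralizer {γ}).subgroupOf G).map φ)
  rw [hZ] at hd
  have := (Nat.dvd_prime Nat.prime_two).mp hd
  exact this

/-- quotient of order four: the count is two as soon as some element of `G` outside `T` commutes
with `γ` and not every coset of `T` in `G` contains such an element -/
theorem splitClassCount_of_card_four (G T : Subgroup A) (hTG : T ≤ G) (γ : A)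
    (φ : ↥G →* Z) (hφ : Function.Surjective φ) (hker : φ.ker = T.subgroupOf G)
    (hZ : Nat.card Z = 4)
    (hex : ∃ s ∈ G, s * γ = γ * s ∧ s ∉ T)
    (hne : ¬ ∀ g ∈ G, ∃ c ∈ G, c * γ = γ * c ∧ g * c⁻¹ ∈ T) :
    Cfsg.splitClassCount G T γ = 2 := by
  rw [splitClassCount_eq_index G T hTG γ φ hφ hker]
  set H := ((Subgroup.centralizer {γ}).subgroupOf G).map φ with hH
  haveI : Finite Z := Nat.finite_of_card_ne_zero (by rw [hZ]; norm_num)
  have hmem : ∀ c : ↥G, c ∈ (Subgroup.centralizer {γ}).subgroupOf G ↔ (c : A) * γ = γ * c := by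
    intro c
    rw [Subgroup.mem_subgroupOf, Subgroup.mem_centralizer_iff]
    constructor
    · intro h
      exact (h γ (Set.mem_singleton _)).symm
    · intro h y hy
      rw [Set.mem_singleton_iff] at hy
      rw [hy, h]
  have hbot : H ≠ ⊥ := by
    obtain ⟨s, hsG, hsc, hsT⟩ := hex
    intro hb
    have h1 : φ ⟨s, hsG⟩ ∈ H := Subgroup.mem_map_of_mem _ ((hmem ⟨s, hsG⟩).mpr hsc)
    rw [hb, Subgroup.mem_bot, ← MonoidHom.mem_ker, hker, Subgroup.mem_subgroupOf] at h1
    exact hsT h1
  have htop : H ≠ ⊤ := by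
    intro ht
    apply hne
    intro g hg
    have h1 : φ ⟨g, hg⟩ ∈ H := by rw [ht]; exact Subgroup.mem_top _
    obtain ⟨c, hc, hcg⟩ := h1
    refine ⟨c.1, c.2, (hmem c).mp hc, ?_⟩
    have h2 : (⟨g, hg⟩ : ↥G) * c⁻¹ ∈ φ.ker := by
      rw [MonoidHom.mem_ker, map_mul, map_inv, hcg, mul_inv_cancel]
    rw [hker, Subgroup.mem_subgroupOf] at h2
    exact h2
  have hcard := Subgroup.card_mul_index H
  rw [hZ] at hcard
  have hc1 : Nat.card H ≠ 1 := fun h => hbot (Subgroup.card_eq_one.mp h)
  have hc4 : H.index ≠ 1 := fun h => htop (Subgroup.index_eq_one.mp h)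
  have hdvd : H.index ∣ 4 := ⟨Nat.card H, by rw [← hcard, mul_comm]⟩
  have hle : H.index ≤ 4 := Nat.le_of_dvd (by norm_num) hdvd
  have hcpos : 0 < Nat.card H := Nat.card_pos
  interval_cases hi : H.index
  · omega
  · exact absurd rfl hc4
  · rfl
  · omega
  · exfalso
    apply hc1
    omega

/-- if `γ` centralises `G` modulo `T`, `G / T` is abelian and `P = G ∪ γ G`, then `P / T` is
abelian -/
theorem not_forall_of_nonabelian {D : Type*} [Group D] (P G T : Subgroup A) [T.Normal]
    (γ : A) (hP : ∀ a ∈ P, a ∈ G ∨ γ⁻¹ * a ∈ G) (hGP : G ≤ P) (hγP : γ ∈ P)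
    (hab : ∀ g ∈ G, ∀ g' ∈ G, g * g' * g⁻¹ * g'⁻¹ ∈ T)
    (Φ : ↥P →* D) (hΦ : Function.Surjective Φ) (hker : Φ.ker = T.subgroupOf P)
    (hD : ∃ x y : D, x * y ≠ y * x) :
    ¬ ∀ g ∈ G, ∃ c ∈ G, c * γ = γ * c ∧ g * c⁻¹ ∈ T := by
  intro hall
  obtain ⟨x, y, hxy⟩ := hD
  obtain ⟨a, rfl⟩ := hΦ x
  obtain ⟨b, rfl⟩ := hΦ y
  apply hxy
  -- work in the quotient `A ⧸ T`
  let π : A →* A ⧸ T := QuotientGroup.mk' T
  have hπ : ∀ u : A, π u = 1 ↔ u ∈ T := fun u => QuotientGroup.eq_one_iff u
  have hGG : ∀ g ∈ G, ∀ g' ∈ G, π g * π g' = π g' * π g := by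
    intro g hg g' hg'
    have := (hπ _).mpr (hab g hg g' hg')
    simp only [map_mul, map_inv] at this
    rw [← mul_inv_eq_one, ← this]
    group
  have hGγ : ∀ g ∈ G, π g * π γ = π γ * π g := by
    intro g hg
    obtain ⟨c, hcG, hcγ, hgc⟩ := hall g hg
    have h1 : π g = π c := by
      have := (hπ _).mpr hgc
      rw [map_mul, map_inv, mul_inv_eq_one] at this
      exact this
    rw [h1, ← map_mul, ← map_mul, hcγ]
  have hPP : ∀ a ∈ P, ∀ b ∈ P, π a * π b = π b * π a := by
    have key : ∀ a ∈ P, ∃ g ∈ G, π a = π g ∨ π a = π γ * π g := by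
      intro a ha
      rcases hP a ha with h | h
      · exact ⟨a, h, Or.inl rfl⟩
      · refine ⟨γ⁻¹ * a, h, Or.inr ?_⟩
        rw [← map_mul]
        congr 1
        group
    intro a ha b hb
    obtain ⟨g, hg, hag⟩ := key a ha
    obtain ⟨g', hg', hbg⟩ := key b hb
    have c1 := hGG g hg g' hg'
    have c2 := hGγ g hg
    have c3 := hGγ g' hg'
    rcases hag with h | h <;> rcases hbg with h' | h' <;> rw [h, h']
    · exact c1
    · calc π g * (π γ * π g') = (π g * π γ) * π g' := by group
        _ = π γ * (π g * π g') := by rw [c2]; group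
        _ = π γ * π g' * π g := by rw [c1]; group
    · calc π γ * π g * π g' = π γ * (π g * π g') := by group
        _ = π γ * (π g' * π g) := by rw [c1]
        _ = (π γ * π g') * π g := by group
        _ = π g' * (π γ * π g) := by rw [← c3]; group
    · calc π γ * π g * (π γ * π g') = π γ * (π g * π γ) * π g' := by group
        _ = π γ * π γ * (π g * π g') := by rw [c2]; group
        _ = π γ * π γ * (π g' * π g) := by rw [c1]
        _ = π γ * (π γ * π g') * π g := by group
        _ = π γ * (π g' * π γ) * π g := by rw [c3]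
        _ = π γ * π g' * (π γ * π g) := by group
  have h1 : (a * b * a⁻¹ * b⁻¹ : ↥P) ∈ Φ.ker := by
    rw [hker, Subgroup.mem_subgroupOf, ← hπ]
    have := hPP a.1 a.2 b.1 b.2
    push_cast
    simp only [map_mul, map_inv]
    rw [this]
    group
  rw [MonoidHom.mem_ker] at h1
  simp only [map_mul, map_inv] at h1
  rw [← mul_inv_eq_one, ← h1]
  group

end Cfsg.Agent.Helper44.Split
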