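/-
helper44: splitting of the `Inndiag`-class of an involutory similarity graph automorphism of
`PΩ⁺_{2m}(q)`, `q` odd, into `Inn`-classes.
-/
import Mathlib
import Cfsg.Agent.Helper44.GraphCentD
import Cfsg.Agent.Helper44.SplitIndex
import Cfsg.Agent.Helper44.InndiagPlus2
import Cfsg.Agent.Helper44.InndiagGen2
import Cfsg.Agent.Helper44.PsoInnStd

set_option autoImplicit false

namespace Cfsg.Agent.Helper44

open Matrix QuadraticMap Module

variable {F : Type*} [Field F]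

section graphsplitgen

variable {ι : Type} [Fintype ι] [DecidableEq ι] (Q : QuadraticForm F (ι → F))
variable [Fintype F]

/-- general form: `G` is the image of the kernel of `dHom`, `γ` is induced by a similarity `δ`
with `dHom δ = -1` and `γ² = 1` -/
theorem graph_split_gen (h2 : (2 : F) ≠ 0) (hQ : (QuadraticMap.polarBilin Q).Nondegenerate)
    (hn : 7 ≤ Fintype.card ι) {t : ι → F} (ht : Q t ≠ 0) (m : ℕ)
    (hcard : Fintype.card ι = 2 * m)
    (γ : MulAut (Cfsg.POmega F ⇑Q)) (δ : ↥(Cfsg.Geo.quadSimilarityGroup (F := F) ⇑Q))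
    (hγδ : γ = conjAut ⇑Q δ) (hd : dHom Q ht m δ = -1) (hγ2 : γ * γ = 1)
    (G : Subgroup (MulAut (Cfsg.POmega F ⇑Q)))
    (hG : G = ((dHom Q ht m).ker).map (conjAut ⇑Q))
    (hmem : negOne Q ∈ Cfsg.Omega F ⇑Q →
      (Odd m → ∃ φ : ↥G →* Multiplicative (ZMod 4), Function.Surjective φ ∧
        φ.ker = (Cfsg.Inn (Cfsg.POmega F ⇑Q)).subgroupOf G) ∧
      (Even m → ∃ φ : ↥G →* Multiplicative (ZMod 2 × ZMod 2), Function.Surjective φ ∧
        φ.ker = (Cfsg.Inn (Cfsg.POmega F ⇑Q)).subgroupOf G))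
    (hnmem : negOne Q ∉ Cfsg.Omega F ⇑Q →
      ∃ φ : ↥G →* Multiplicative (ZMod 2), Function.Surjective φ ∧
        φ.ker = (Cfsg.Inn (Cfsg.POmega F ⇑Q)).subgroupOf G) :
    (Cfsg.splitClassCount G (Cfsg.Inn (Cfsg.POmega F ⇑Q)) γ = 1 ∨
      Cfsg.splitClassCount G (Cfsg.Inn (Cfsg.POmega F ⇑Q)) γ = 2) ∧
    (negOne Q ∈ Cfsg.Omega F ⇑Q →
      Cfsg.splitClassCount G (Cfsg.Inn (Cfsg.POmega F ⇑Q)) γ = 2) := by
  obtain ⟨ν, hν⟩ := FiniteField.exists_nonsquare (ringChar_ne_two_of_two_ne_zero h2)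
  have hker : δ * δ ∈ (conjAut ⇑Q).ker := by
    rw [MonoidHom.mem_ker, map_mul, ← hγδ, hγ2]
  rw [ker_conjAut Q hQ hn, Subgroup.mem_subgroupOf, mem_scalars_iff_eq_scalarGO] at hker
  obtain ⟨z, hz⟩ := hker
  obtain ⟨σ, hσdet, hσsign, hσcomm⟩ :=
    exists_centralizing Q h2 hQ ht m hcard (by omega) hν δ z hz hd
  have hInnle : Cfsg.Inn (Cfsg.POmega F ⇑Q) ≤ G := by
    rw [hG, Inn_eq_map]
    exact Subgroup.map_mono (OmegaGL_subgroupOf_le_ker_dHom Q ht m)
  by_cases hneg : negOne Q ∈ Cfsg.Omega F ⇑Q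
  · have key : ∀ (Z : Type) [Group Z], Nat.card Z = 4 → (∀ x y : Z, x * y = y * x) →
        (∃ φ : ↥G →* Z, Function.Surjective φ ∧
          φ.ker = (Cfsg.Inn (Cfsg.POmega F ⇑Q)).subgroupOf G) →
        Cfsg.splitClassCount G (Cfsg.Inn (Cfsg.POmega F ⇑Q)) γ = 2 := by
      intro Z _ hZ hcomm hφ
      obtain ⟨φ, hφs, hφk⟩ := hφ
      apply Split.splitClassCount_of_card_four _ _ hInnle γ φ hφs hφk hZ
      · refine ⟨conjAut ⇑Q (toGO Q σ), ?_, ?_, ?_⟩
        · rw [hG]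
          refine ⟨toGO Q σ, ?_, rfl⟩
          rw [SetLike.mem_coe, MonoidHom.mem_ker, dHom_apply,
            multHom_of_isometry ⇑Q ht _ σ.2, inv_one, one_pow, mul_one]
          exact hσdet
        · rw [hγδ, ← map_mul, ← map_mul, hσcomm]
        · intro hmem'
          have h1 := (conjAut_toGO_mem_Inn_iff Q hQ hn hneg σ).1 hmem'
          rw [mem_Omega_iff_signChar Q h2 hQ hν σ hσdet, hσsign] at h1
          exact absurd h1 (by decide)
      · obtain ⟨Φ, hΦs, hΦk⟩ := pgoAut_mod_Inn_of_mem Q h2 hQ hn m hcard hneg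
        refine Split.not_forall_of_nonabelian (Cfsg.pgoAut F ⇑Q) G
          (Cfsg.Inn (Cfsg.POmega F ⇑Q)) γ
          ?_ ?_ ?_ ?_ Φ hΦs hΦk ⟨DihedralGroup.r 1, DihedralGroup.sr 0, by decide⟩
        · intro a ha
          rw [pgoAut_eq_map] at ha
          obtain ⟨x, rfl⟩ := ha
          rw [hG]
          rcases dHom_eq_one_or Q ht m hcard hQ x with h | h
          · exact Or.inl ⟨x, MonoidHom.mem_ker.2 h, rfl⟩
          · refine Or.inr ⟨δ⁻¹ * x, ?_, ?_⟩
            · rw [SetLike.mem_coe, MonoidHom.mem_ker, map_mul, map_inv, hd, h]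
              simp
            · rw [map_mul, map_inv, ← hγδ]
        · rw [hG, pgoAut_eq_map]
          exact Subgroup.map_le_range _ _
        · rw [pgoAut_eq_map]
          exact ⟨δ, hγδ.symm⟩
        · intro a ha b hb
          have h1 : (⟨a, ha⟩ * ⟨b, hb⟩ * ⟨a, ha⟩⁻¹ * ⟨b, hb⟩⁻¹ : ↥G) ∈ φ.ker := by
            rw [MonoidHom.mem_ker, map_mul, map_mul, map_mul, map_inv, map_inv,
              hcomm (φ ⟨a, ha⟩)]
            group
          rw [hφk, Subgroup.mem_subgroupOf] at h1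
          exact h1
    have hcount : Cfsg.splitClassCount G (Cfsg.Inn (Cfsg.POmega F ⇑Q)) γ = 2 := by
      rcases Nat.even_or_odd m with he | ho
      · exact key (Multiplicative (ZMod 2 × ZMod 2)) (by
          rw [Nat.card_eq_fintype_card]; rfl) (fun x y => mul_comm x y)
          ((hmem hneg).2 he)
      · exact key (Multiplicative (ZMod 4)) (by
          rw [Nat.card_eq_fintype_card]; rfl) (fun x y => mul_comm x y)
          ((hmem hneg).1 ho)
    exact ⟨Or.inr hcount, fun _ => hcount⟩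
  · obtain ⟨φ, hφs, hφk⟩ := hnmem hneg
    refine ⟨Split.splitClassCount_of_card_two _ _ hInnle γ φ hφs hφk (by
      rw [Nat.card_eq_fintype_card]; rfl), fun h => absurd h hneg⟩

end graphsplitgen

section graphsplit

variable [Fintype F] {m : ℕ}

theorem graph_split (h2 : (2 : F) ≠ 0) (hm : 4 ≤ m)
    (γ : MulAut (Cfsg.POmega F (Cfsg.quadFormPlus m F)))
    (hγ : Cfsg.IsSimilarityGraphAutPOmegaPlus m γ) (hγ2 : γ * γ = 1) :
    (Cfsg.splitClassCount (Cfsg.inndiagPOmegaPlus m F)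
        (Cfsg.Inn (Cfsg.POmega F (Cfsg.quadFormPlus m F))) γ = 1 ∨
      Cfsg.splitClassCount (Cfsg.inndiagPOmegaPlus m F)
        (Cfsg.Inn (Cfsg.POmega F (Cfsg.quadFormPlus m F))) γ = 2) ∧
    (negOne (plusForm m F) ∈ Cfsg.Omega F ⇑(plusForm m F) →
      Cfsg.splitClassCount (Cfsg.inndiagPOmegaPlus m F)
        (Cfsg.Inn (Cfsg.POmega F (Cfsg.quadFormPlus m F))) γ = 2) := by
  have hQ := nondegenerate_plusForm (F := F) m
  have hcard : Fintype.card (Fin m ⊕ Fin m) = 2 * m := by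
    rw [Fintype.card_sum, Fintype.card_fin]; omega
  have hn : 7 ≤ Fintype.card (Fin m ⊕ Fin m) := by rw [hcard]; omega
  obtain ⟨t, _, _, ht⟩ := exists_nonsingular_perp_pair (plusForm m F) hQ
    (by rw [Module.finrank_fintype_fun_eq_card]; omega) 0 0
  obtain ⟨g, hg, hnp, hind⟩ := hγ
  have hγδ : γ = conjAut ⇑(plusForm m F) ⟨g, hg⟩ :=
    (isInduced_iff ⇑(plusForm m F) g hg γ).1 hind
  have hd : dHom (plusForm m F) ht m ⟨g, hg⟩ = -1 := by
    rcases dHom_eq_one_or (plusForm m F) ht m hcard hQ ⟨g, hg⟩ with h | h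
    · exact absurd ((preservesSingularClasses_iff h2 ht ⟨g, hg⟩).2 h) hnp
    · exact h
  exact graph_split_gen (plusForm m F) h2 hQ hn ht m hcard γ ⟨g, hg⟩ hγδ hd hγ2
    (Cfsg.inndiagPOmegaPlus m F) (inndiag_eq_map h2 ht)
    (inndiag_mod_Inn_of_mem h2 hm) (inndiag_mod_Inn_of_not_mem h2 hm)

end graphsplit

end Cfsg.Agent.Helper44
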