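/-
helper44: splitting of the `Inndiag`-class of an involutory graph automorphism of
`PΩ⁻_{2m+2}(q)`, `q` odd, into `Inn`-classes; the case of dimension `≡ 0 (mod 4)` with `-1 ∉ Ω`.
-/
import Mathlib
import Cfsg.Agent.Helper44.GraphSplit
import Cfsg.Agent.Helper44.GraphCentF
import Cfsg.Agent.Helper44.MinusInndiag
import Cfsg.Agent.Helper12.GammaOR

set_option autoImplicit false

namespace Cfsg.Agent.Helper44

open Matrix QuadraticMap Module

namespace Split

/-- if the centraliser of `γ` in `G` lies in `T`, the `G`-class of `γ` splits into `|G : T|`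
classes under `T` -/
theorem splitClassCount_of_centralizer_le {A Z : Type*} [Group A] [Group Z] (G T : Subgroup A)
    (hTG : T ≤ G) (γ : A) (φ : ↥G →* Z) (hφ : Function.Surjective φ)
    (hker : φ.ker = T.subgroupOf G) (hc : ∀ c ∈ G, c * γ = γ * c → c ∈ T) :
    Cfsg.splitClassCount G T γ = Nat.card Z := by
  rw [splitClassCount_eq_index G T hTG γ φ hφ hker]
  have h1 : ((Subgroup.centralizer {γ}).subgroupOf G).map φ = ⊥ := by
    rw [Subgroup.map_eq_bot_iff, hker]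
    intro c hc'
    rw [Subgroup.mem_subgroupOf] at hc' ⊢
    apply hc c.1 c.2
    exact ((Subgroup.mem_centralizer_iff.1 hc') γ (Set.mem_singleton _)).symm
  rw [h1, Subgroup.index_bot]

end Split

variable {F : Type*} [Field F]

section graphsplitgen

variable {ι : Type} [Fintype ι] [DecidableEq ι] (Q : QuadraticForm F (ι → F))
variable [Fintype F]

/-- dimension `2m`, `m` even, `-1 ∉ Ω`: the centraliser of `γ` in `G` lies in `Inn`, so the class
splits into two -/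
theorem graph_split_even (h2 : (2 : F) ≠ 0) (hQ : (QuadraticMap.polarBilin Q).Nondegenerate)
    (hn : 7 ≤ Fintype.card ι) {t : ι → F} (ht : Q t ≠ 0) (m : ℕ)
    (hcard : Fintype.card ι = 2 * m) (hme : Even m)
    (γ : MulAut (Cfsg.POmega F ⇑Q)) (δ : ↥(Cfsg.Geo.quadSimilarityGroup (F := F) ⇑Q))
    (hγδ : γ = conjAut ⇑Q δ) (hd : dHom Q ht m δ = -1) (hγ2 : γ * γ = 1)
    (G : Subgroup (MulAut (Cfsg.POmega F ⇑Q)))
    (hG : G = ((dHom Q ht m).ker).map (conjAut ⇑Q))
    (hneg : negOne Q ∉ Cfsg.Omega F ⇑Q)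
    (hnmem : ∃ φ : ↥G →* Multiplicative (ZMod 2), Function.Surjective φ ∧
        φ.ker = (Cfsg.Inn (Cfsg.POmega F ⇑Q)).subgroupOf G) :
    Cfsg.splitClassCount G (Cfsg.Inn (Cfsg.POmega F ⇑Q)) γ = 2 := by
  have hker : δ * δ ∈ (conjAut ⇑Q).ker := by
    rw [MonoidHom.mem_ker, map_mul, ← hγδ, hγ2]
  rw [ker_conjAut Q hQ hn, Subgroup.mem_subgroupOf, mem_scalars_iff_eq_scalarGO] at hker
  obtain ⟨z, hz⟩ := hker
  have hInnle : Cfsg.Inn (Cfsg.POmega F ⇑Q) ≤ G := by
    rw [hG, Inn_eq_map]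
    exact Subgroup.map_mono (OmegaGL_subgroupOf_le_ker_dHom Q ht m)
  have e : Cfsg.Inn (Cfsg.POmega F ⇑Q) = Cfsg.psoAut F ⇑Q :=
    le_antisymm (Inn_le_psoAut Q) (Subgroup.relIndex_eq_one.1
      (relIndex_Inn_psoAut_of_not_mem Q h2 hQ hn ⟨m, by rw [hcard, two_mul]⟩ hneg))
  obtain ⟨φ, hφs, hφk⟩ := hnmem
  have hcount := Split.splitClassCount_of_centralizer_le G (Cfsg.Inn (Cfsg.POmega F ⇑Q)) hInnle γ
    φ hφs hφk (by
      intro c hcG hcγ
      rw [hG] at hcG
      obtain ⟨g, hgk, rfl⟩ := hcG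
      have hgd : dHom Q ht m g = 1 := MonoidHom.mem_ker.1 hgk
      have hk : g * δ * g⁻¹ * δ⁻¹ ∈ (conjAut ⇑Q).ker := by
        rw [MonoidHom.mem_ker, map_mul, map_mul, map_mul, map_inv, map_inv, ← hγδ, hcγ]
        group
      rw [ker_conjAut Q hQ hn, Subgroup.mem_subgroupOf, mem_scalars_iff_eq_scalarGO] at hk
      obtain ⟨c', hc'⟩ := hk
      have hg : g * δ = scalarGO Q c' * δ * g := by
        rw [← hc']
        group
      have hsq := isSquare_mult_of_commute_graph Q h2 hQ ht m hcard hme δ g z c' hz hd hg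
      rw [e]
      apply conjAut_mem_psoAut_of_goChar Q h2 hQ ht m hcard
      rw [goChar_eq_one_iff]
      exact ⟨hsq, hgd⟩)
  rw [hcount, Nat.card_eq_fintype_card]
  rfl

end graphsplitgen

section minus

variable [Fintype F] {m : ℕ}

theorem graph_split_minus (hodd : Odd (Fintype.card F)) (hm : 3 ≤ m) (a b : F)
    (hab : ∀ z₁ z₂ : F, z₁ ^ 2 + a * z₁ * z₂ + b * z₂ ^ 2 = 0 → z₁ = 0 ∧ z₂ = 0)
    (γ : MulAut (Cfsg.POmega F (Cfsg.quadFormMinus m F a b)))
    (hγ : Cfsg.IsGraphAutClassPOmegaMinus m a b γ) (hγ2 : γ * γ = 1) :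
    (Cfsg.splitClassCount (Cfsg.inndiagPOmegaMinus m F a b)
        (Cfsg.Inn (Cfsg.POmega F (Cfsg.quadFormMinus m F a b))) γ = 1 ∨
      Cfsg.splitClassCount (Cfsg.inndiagPOmegaMinus m F a b)
        (Cfsg.Inn (Cfsg.POmega F (Cfsg.quadFormMinus m F a b))) γ = 2) ∧
    (¬ (Even m ∧ Fintype.card F % 4 = 1) →
      Cfsg.splitClassCount (Cfsg.inndiagPOmegaMinus m F a b)
        (Cfsg.Inn (Cfsg.POmega F (Cfsg.quadFormMinus m F a b))) γ = 2) := by
  have h2 : (2 : F) ≠ 0 := two_ne_zero_of_odd_card rfl hodd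
  have hcrit := exists_neg_one_mem_Omega_minus_iff (F := F) rfl hodd (m + 1) (by omega) a b hab
  have hiff : negOne (minusForm m F a b) ∈ Cfsg.Omega F ⇑(minusForm m F a b)
      ↔ (Even m ∧ Fintype.card F % 4 = 3) := by
    have h3 : (Even m ∧ Fintype.card F % 4 = 3) ↔ (Odd (m + 1) ∧ Fintype.card F % 4 = 3) := by
      rw [Nat.odd_add_one, Nat.not_odd_iff_even]
    rw [h3, ← pow_mod_four_eq_three_iff _ _ hodd, ← hcrit]
    exact negOne_mem_iff (minusForm m F a b)
  have hD : ¬ IsSquare (a ^ 2 - 4 * b) := not_isSquare_disc_of_anisotropic h2 a b hab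
  have hD0 : a ^ 2 - 4 * b ≠ 0 := by
    intro h0
    exact hD ⟨0, by rw [h0, mul_zero]⟩
  have hQ := nondegenerate_minusForm (F := F) m a b hD0
  have hcard : Fintype.card ((Fin m ⊕ Fin m) ⊕ Fin 2) = 2 * (m + 1) := by
    rw [Fintype.card_sum, Fintype.card_sum, Fintype.card_fin, Fintype.card_fin]; omega
  have hn : 7 ≤ Fintype.card ((Fin m ⊕ Fin m) ⊕ Fin 2) := by rw [hcard]; omega
  obtain ⟨t, _, _, ht⟩ := exists_nonsingular_perp_pair (minusForm m F a b) hQ
    (by rw [Module.finrank_fintype_fun_eq_card]; omega) 0 0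
  obtain ⟨hγΓ, hγnot, _⟩ := hγ
  have hpgo : γ ∈ Cfsg.pgoAut F ⇑(minusForm m F a b) :=
    Cfsg.Agent.Helper12.GammaO.involution_mem_pgoAut_minus hodd hm a b hab γ hγΓ hγ2
  rw [pgoAut_eq_map] at hpgo
  obtain ⟨δ, hδ⟩ := hpgo
  have hGeq := inndiagMinus_eq_map h2 (by omega : 2 ≤ m) a b hab ht
  have hd : dHom (minusForm m F a b) ht (m + 1) δ = -1 := by
    rcases dHom_eq_one_or (minusForm m F a b) ht (m + 1) hcard hQ δ with h | h
    · exfalso
      apply hγnot
      rw [hGeq]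
      exact ⟨δ, MonoidHom.mem_ker.2 h, hδ⟩
    · exact h
  have hres := graph_split_gen (minusForm m F a b) h2 hQ hn ht (m + 1) hcard γ δ hδ.symm hd hγ2
    (Cfsg.inndiagPOmegaMinus m F a b) hGeq
    (fun hneg => ⟨fun _ => inndiagMinus_mod_Inn_of_mem h2 hm (hiff.1 hneg).1 a b hab hneg,
      fun he => absurd (hiff.1 hneg).1 (by
        rw [Nat.not_even_iff_odd]
        rcases he with ⟨k, hk⟩
        exact ⟨k - 1, by omega⟩)⟩)
    (inndiagMinus_mod_Inn_of_not_mem h2 hm a b hab)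
  refine ⟨hres.1, fun hcond => ?_⟩
  by_cases hneg : negOne (minusForm m F a b) ∈ Cfsg.Omega F ⇑(minusForm m F a b)
  · exact hres.2 hneg
  · rcases Nat.even_or_odd (m + 1) with he | ho
    · exact graph_split_even (minusForm m F a b) h2 hQ hn ht (m + 1) hcard he γ δ hδ.symm hd hγ2
        (Cfsg.inndiagPOmegaMinus m F a b) hGeq hneg
        (inndiagMinus_mod_Inn_of_not_mem h2 hm a b hab hneg)
    · exfalso
      have hme : Even m := by
        rcases ho with ⟨k, hk⟩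
        exact ⟨k, by omega⟩
      apply hcond
      refine ⟨hme, ?_⟩
      have h3 : Fintype.card F % 4 ≠ 3 := fun h => hneg (hiff.2 ⟨hme, h⟩)
      rcases hodd with ⟨k, hk⟩
      omega

end minus

end Cfsg.Agent.Helper44
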