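import Mathlib
import Cfsg.Agent.Helper44.AltSylDefs
import Cfsg.Agent.Helper93.AltSylD1
import Cfsg.Agent.Helper93.AltSylD2
import Cfsg.Agent.Helper88.AltSylD3

set_option autoImplicit false
set_option linter.unusedSectionVars false

/-!
# Piece (P4) of S2221: the kernel of the product character of a product of groups with at least two
good factors is not a direct product of two non-trivial subgroups
-/

namespace Cfsg.Agent.Helper44.AltSyl

section P4

variable {J : Type*} [Fintype J] [DecidableEq J] {Wf : J → Type*} [∀ j, Group (Wf j)]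
  (s : ∀ j, Wf j →* ℤˣ)

theorem piSign_mulSingle (j : J) (v : Wf j) : piSign s (Pi.mulSingle j v) = s j v := by
  rw [piSign_apply, Finset.prod_eq_single j]
  · rw [Pi.mulSingle_eq_same]
  · intro k _ hk
    rw [Pi.mulSingle_eq_of_ne hk, map_one]
  · intro h
    exact absurd (Finset.mem_univ _) h

theorem units_int_cases (x : ℤˣ) : x = 1 ∨ x = -1 := Int.units_eq_one_or x

/-- conjugating a one-coordinate element -/
theorem conj_mulSingle (g : ∀ j, Wf j) (j : J) (v : Wf j) :
    g * Pi.mulSingle j v * g⁻¹ = Pi.mulSingle j (g j * v * (g j)⁻¹) := by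
  funext k
  by_cases hk : k = j
  · subst hk
    simp
  · simp [Pi.mulSingle_eq_of_ne hk]

/-- the commutator with a one-coordinate element -/
theorem comm_mulSingle (x : ∀ j, Wf j) (j : J) (v : Wf j) :
    x * (Pi.mulSingle j v * x⁻¹ * (Pi.mulSingle j v)⁻¹)
      = Pi.mulSingle j (x j * v * (x j)⁻¹ * v⁻¹) := by
  funext k
  by_cases hk : k = j
  · subst hk
    simp [mul_assoc]
  · simp [Pi.mulSingle_eq_of_ne hk]

/-- an element of the kernel with prescribed `j`-th coordinate, supported on `j` and `l` -/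
theorem exists_ker_coord (j l : J) (hjl : l ≠ j) (u : Wf l) (hu : s l u = -1) (w : Wf j) :
    ∃ g : ∀ j, Wf j, piSign s g = 1 ∧ g j = w ∧ (g l = 1 ∨ g l = u) ∧
      ∀ k, k ≠ j → k ≠ l → g k = 1 := by
  rcases units_int_cases (s j w) with hw | hw
  · refine ⟨Pi.mulSingle j w, ?_, ?_, ?_, ?_⟩
    · rw [piSign_mulSingle, hw]
    · rw [Pi.mulSingle_eq_same]
    · left
      rw [Pi.mulSingle_eq_of_ne hjl]
    · intro k hk _
      rw [Pi.mulSingle_eq_of_ne hk]
  · refine ⟨Pi.mulSingle j w * Pi.mulSingle l u, ?_, ?_, ?_, ?_⟩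
    · rw [map_mul, piSign_mulSingle, piSign_mulSingle, hw, hu]
      norm_num
    · rw [Pi.mul_apply, Pi.mulSingle_eq_same, Pi.mulSingle_eq_of_ne hjl.symm, mul_one]
    · right
      rw [Pi.mul_apply, Pi.mulSingle_eq_same, Pi.mulSingle_eq_of_ne hjl, one_mul]
    · intro k hk hkl
      rw [Pi.mul_apply, Pi.mulSingle_eq_of_ne hk, Pi.mulSingle_eq_of_ne hkl, one_mul]

/-- the subgroup of the `j`-th factor cut out by a subgroup of the product -/
def coordSub (X : Subgroup (∀ j, Wf j)) (j : J) : Subgroup (Wf j) where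
  carrier := {v | s j v = 1 ∧ Pi.mulSingle j v ∈ X}
  one_mem' := ⟨map_one _, by rw [Pi.mulSingle_one]; exact X.one_mem⟩
  mul_mem' {a b} ha hb := ⟨by rw [map_mul, ha.1, hb.1, one_mul], by
    rw [Pi.mulSingle_mul]; exact X.mul_mem ha.2 hb.2⟩
  inv_mem' {a} ha := ⟨by rw [map_inv, ha.1, inv_one], by
    rw [Pi.mulSingle_inv]; exact X.inv_mem ha.2⟩

theorem mem_coordSub (X : Subgroup (∀ j, Wf j)) (j : J) (v : Wf j) :
    v ∈ coordSub s X j ↔ s j v = 1 ∧ Pi.mulSingle j v ∈ X := Iff.rfl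

/-- the data of a decomposition of the kernel, seen in the product -/
structure DecData (A B : Subgroup (∀ j, Wf j)) : Prop where
  le_A : A ≤ (piSign s).ker
  le_B : B ≤ (piSign s).ker
  comm : ∀ a ∈ A, ∀ b ∈ B, a * b = b * a
  inf : A ⊓ B = ⊥
  sup : A ⊔ B = (piSign s).ker

variable {s}

theorem DecData.symm {A B : Subgroup (∀ j, Wf j)} (h : DecData s A B) : DecData s B A where
  le_A := h.le_B
  le_B := h.le_A
  comm := fun b hb a ha => (h.comm a ha b hb).symm
  inf := by rw [inf_comm]; exact h.inf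
  sup := by rw [sup_comm]; exact h.sup

theorem DecData.exists_mul {A B : Subgroup (∀ j, Wf j)} (h : DecData s A B)
    (g : ∀ j, Wf j) (hg : piSign s g = 1) : ∃ a ∈ A, ∃ b ∈ B, g = a * b := by
  apply Cfsg.Agent.Helper93.AltSyl.exists_mul_of_mem_sup A B h.comm
  rw [h.sup]
  exact hg

/-- `A` is normalised by the kernel -/
theorem DecData.conj_mem {A B : Subgroup (∀ j, Wf j)} (h : DecData s A B)
    (g : ∀ j, Wf j) (hg : piSign s g = 1) (a : ∀ j, Wf j) (ha : a ∈ A) : g * a * g⁻¹ ∈ A := by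
  obtain ⟨a', ha', b', hb', rfl⟩ := h.exists_mul g hg
  have h1 : b' * a * b'⁻¹ = a := by
    rw [← h.comm a ha b' hb', mul_assoc, mul_inv_cancel, mul_one]
  have h2 : a' * b' * a * (a' * b')⁻¹ = a' * (b' * a * b'⁻¹) * a'⁻¹ := by group
  rw [h2, h1]
  exact A.mul_mem (A.mul_mem ha' ha) (A.inv_mem ha')

/-- the coordinate subgroups are normal -/
theorem DecData.coordSub_normal {A B : Subgroup (∀ j, Wf j)} (h : DecData s A B) (j l : J)
    (hjl : l ≠ j) (u : Wf l) (hu : s l u = -1) : (coordSub s A j).Normal := by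
  constructor
  intro v hv w
  rw [mem_coordSub] at hv ⊢
  refine ⟨by rw [map_mul, map_mul, map_inv, hv.1, mul_one, mul_inv_cancel], ?_⟩
  obtain ⟨g, hg1, hgj, -, -⟩ := exists_ker_coord s j l hjl u hu w
  have := h.conj_mem g hg1 _ hv.2
  rw [conj_mulSingle, hgj] at this
  exact this

theorem DecData.coordSub_inf {A B : Subgroup (∀ j, Wf j)} (h : DecData s A B) (j : J) :
    coordSub s A j ⊓ coordSub s B j = ⊥ := by
  rw [eq_bot_iff]
  intro v hv
  rw [Subgroup.mem_inf, mem_coordSub, mem_coordSub] at hv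
  have h1 : Pi.mulSingle j v ∈ A ⊓ B := ⟨hv.1.2, hv.2.2⟩
  rw [h.inf, Subgroup.mem_bot] at h1
  rw [Subgroup.mem_bot]
  have := congrFun h1 j
  rwa [Pi.mulSingle_eq_same] at this

/-- if the coordinate subgroup is trivial, the coordinates centralise the kernel of the character -/
theorem DecData.commute_of_coordSub_eq_bot {A B : Subgroup (∀ j, Wf j)} (h : DecData s A B)
    (j : J) (hj : coordSub s A j = ⊥) (a : ∀ j, Wf j) (ha : a ∈ A) (v : Wf j) (hv : s j v = 1) :
    Commute (a j) v := by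
  have hvK : piSign s (Pi.mulSingle j v) = 1 := by rw [piSign_mulSingle, hv]
  have h1 : Pi.mulSingle j v * a⁻¹ * (Pi.mulSingle j v)⁻¹ ∈ A :=
    h.conj_mem _ hvK _ (A.inv_mem ha)
  have h2 : a * (Pi.mulSingle j v * a⁻¹ * (Pi.mulSingle j v)⁻¹) ∈ A := A.mul_mem ha h1
  rw [comm_mulSingle] at h2
  have h3 : a j * v * (a j)⁻¹ * v⁻¹ ∈ coordSub s A j := by
    rw [mem_coordSub]
    refine ⟨?_, h2⟩
    rw [map_mul, map_mul, map_mul, map_inv, map_inv, hv]
    simp
  rw [hj, Subgroup.mem_bot] at h3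
  show a j * v = v * a j
  have h4 : a j * v * (a j)⁻¹ = v := by
    have := congrArg (· * v) h3
    simpa using this
  calc a j * v = a j * v * (a j)⁻¹ * a j := by group
    _ = v * a j := by rw [h4]

/-- for a good factor, one of the two coordinate subgroups is trivial -/
theorem DecData.coordSub_eq_bot_or {A B : Subgroup (∀ j, Wf j)} (h : DecData s A B) (j l : J)
    (hjl : l ≠ j) (u : Wf l) (hu : s l u = -1) (hG : Good (Wf j) (s j)) :
    coordSub s A j = ⊥ ∨ coordSub s B j = ⊥ := by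
  by_contra hcon
  push Not at hcon
  have := hG.finite
  have := h.coordSub_normal j l hjl u hu
  have := h.symm.coordSub_normal j l hjl u hu
  have h1 := Cfsg.Agent.Helper88.AltSyl.center_le_of_normal hG.pgroup hG.card_center _ hcon.1
  have h2 := Cfsg.Agent.Helper88.AltSyl.center_le_of_normal hG.pgroup hG.card_center _ hcon.2
  have h3 : Subgroup.center (Wf j) ≤ ⊥ := by
    rw [← h.coordSub_inf j]
    exact le_inf h1 h2
  have h4 : Subgroup.center (Wf j) = ⊥ := le_bot_iff.mp h3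
  have h5 := hG.card_center
  rw [h4, Subgroup.card_bot] at h5
  omega

/-- for a good factor, the two coordinate subgroups are not both trivial -/
theorem DecData.not_both {A B : Subgroup (∀ j, Wf j)} (h : DecData s A B) (j l : J)
    (hjl : l ≠ j) (u : Wf l) (hu : s l u = -1) (hG : Good (Wf j) (s j)) :
    ¬ (coordSub s A j = ⊥ ∧ coordSub s B j = ⊥) := by
  rintro ⟨hA, hB⟩
  obtain ⟨v, w, hv, hne, -⟩ := hG.exists_comm
  obtain ⟨g, hg1, hgj, -, -⟩ := exists_ker_coord s j l hjl u hu w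
  obtain ⟨a, ha, b, hb, rfl⟩ := h.exists_mul g hg1
  have h1 := h.commute_of_coordSub_eq_bot j hA a ha v hv
  have h2 := h.symm.commute_of_coordSub_eq_bot j hB b hb v hv
  have h3 : Commute w v := by
    rw [← hgj, Pi.mul_apply]
    exact h1.mul_left h2
  apply hne
  rw [h3.symm.eq]
  group

/-- in a subgroup of order two, two non-trivial elements are equal -/
theorem eq_of_card_center_two {D : Type*} [Group D] (hc : Nat.card (Subgroup.center D) = 2)
    (x y : D) (hx : x ∈ Subgroup.center D) (hy : y ∈ Subgroup.center D) (hx1 : x ≠ 1)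
    (hy1 : y ≠ 1) : x = y := by
  obtain ⟨p, q, hpq, huniv⟩ := Nat.card_eq_two_iff.mp hc
  have hmem : ∀ t : Subgroup.center D, t = p ∨ t = q := by
    intro t
    have : t ∈ ({p, q} : Set (Subgroup.center D)) := by rw [huniv]; exact Set.mem_univ t
    simpa using this
  have hx' : (⟨x, hx⟩ : Subgroup.center D) ≠ 1 := fun h => hx1 (congrArg Subtype.val h)
  have hy' : (⟨y, hy⟩ : Subgroup.center D) ≠ 1 := fun h => hy1 (congrArg Subtype.val h)
  have key : (⟨x, hx⟩ : Subgroup.center D) = ⟨y, hy⟩ := by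
    rcases hmem ⟨x, hx⟩ with h1 | h1 <;> rcases hmem ⟨y, hy⟩ with h2 | h2 <;>
      rcases hmem 1 with h3 | h3
    all_goals first
      | exact h1.trans h2.symm
      | exact absurd (h1.trans h3.symm) hx'
      | exact absurd (h2.trans h3.symm) hy'
  exact congrArg Subtype.val key

/-- an `A`-owned and a `B`-owned good factor cannot coexist -/
theorem DecData.false_of_mixed {A B : Subgroup (∀ j, Wf j)} (h : DecData s A B)
    (hall : ∀ j, Good (Wf j) (s j) ∨ Subsingleton (Wf j))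
    (hfix : ∀ j, ∃ l, l ≠ j ∧ ∃ u : Wf l, s l u = -1)
    (j l : J) (hGj : Good (Wf j) (s j)) (hGl : Good (Wf l) (s l))
    (hj : coordSub s B j = ⊥) (hl : coordSub s A l = ⊥) : False := by
  classical
  obtain ⟨uj, huj⟩ := hGj.exists_odd
  obtain ⟨ul, hul⟩ := hGl.exists_odd
  have hjl : j ≠ l := by
    rintro rfl
    obtain ⟨l', hl', u', hu'⟩ := hfix j
    exact h.not_both j l' hl' u' hu' hGj ⟨hl, hj⟩
  set JA : Finset J :=
    Finset.univ.filter (fun k => coordSub s B k = ⊥ ∧ Good (Wf k) (s k)) with hJA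
  have hmemJA : ∀ k, k ∈ JA ↔ coordSub s B k = ⊥ ∧ Good (Wf k) (s k) := by
    intro k
    rw [hJA, Finset.mem_filter]
    simp
  set φ : (∀ j, Wf j) → ℤˣ := fun x => ∏ k ∈ JA, s k (x k) with hφ
  have hφmul : ∀ x y, φ (x * y) = φ x * φ y := by
    intro x y
    simp only [hφ, Pi.mul_apply, map_mul]
    rw [Finset.prod_mul_distrib]
  have hφb : ∀ b ∈ B, φ b = 1 := by
    intro b hb
    apply Finset.prod_eq_one
    intro k hk
    obtain ⟨hk1, hk2⟩ := (hmemJA k).mp hk
    exact hk2.cent_sign (b k) (h.symm.commute_of_coordSub_eq_bot k hk1 b hb)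
  have hφa : ∀ a ∈ A, φ a = 1 := by
    intro a ha
    have h1 : piSign s a = 1 := h.le_A ha
    rw [piSign_apply] at h1
    rw [← h1]
    apply Finset.prod_subset (Finset.subset_univ JA)
    intro k _ hk
    rw [hmemJA] at hk
    rcases hall k with hG | hS
    · have hBk : coordSub s B k ≠ ⊥ := fun h0 => hk ⟨h0, hG⟩
      obtain ⟨l', hl', u', hu'⟩ := hfix k
      have hAk : coordSub s A k = ⊥ := by
        rcases h.coordSub_eq_bot_or k l' hl' u' hu' hG with h0 | h0
        · exact h0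
        · exact absurd h0 hBk
      exact hG.cent_sign (a k) (h.commute_of_coordSub_eq_bot k hAk a ha)
    · have : a k = 1 := Subsingleton.elim _ _
      rw [this, map_one]
  set g : ∀ j, Wf j := Pi.mulSingle j uj * Pi.mulSingle l ul with hg
  have hg1 : piSign s g = 1 := by
    rw [hg, map_mul, piSign_mulSingle, piSign_mulSingle, huj, hul]
    norm_num
  obtain ⟨a, ha, b, hb, hab⟩ := h.exists_mul g hg1
  have hφg : φ g = 1 := by rw [hab, hφmul, hφa a ha, hφb b hb, one_mul]
  have hjJA : j ∈ JA := (hmemJA j).mpr ⟨hj, hGj⟩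
  have hlJA : l ∉ JA := by
    intro hl'
    obtain ⟨hl1, -⟩ := (hmemJA l).mp hl'
    obtain ⟨l', hl'', u', hu'⟩ := hfix l
    exact h.not_both l l' hl'' u' hu' hGl ⟨hl, hl1⟩
  have hφg' : φ g = -1 := by
    show ∏ k ∈ JA, s k (g k) = -1
    rw [Finset.prod_eq_single j]
    · rw [hg, Pi.mul_apply, Pi.mulSingle_eq_same, Pi.mulSingle_eq_of_ne hjl, mul_one, huj]
    · intro k hk hkj
      have hkl : k ≠ l := fun h0 => hlJA (h0 ▸ hk)
      rw [hg, Pi.mul_apply, Pi.mulSingle_eq_of_ne hkj, Pi.mulSingle_eq_of_ne hkl, one_mul,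
        map_one]
    · intro h0
      exact absurd hjJA h0
  rw [hφg] at hφg'
  exact absurd hφg' (by decide)

/-- if `A` owns all good factors, `B` is trivial -/
theorem DecData.false_of_all {A B : Subgroup (∀ j, Wf j)} (h : DecData s A B)
    (hall : ∀ j, Good (Wf j) (s j) ∨ Subsingleton (Wf j))
    (hfix : ∀ j, ∃ l, l ≠ j ∧ ∃ u : Wf l, s l u = -1) (hB : B ≠ ⊥)
    (hown : ∀ k, Good (Wf k) (s k) → coordSub s B k = ⊥) : False := by
  classical
  have hcent : ∀ b ∈ B, ∀ k, Good (Wf k) (s k) → ∀ v, s k v = 1 → Commute (b k) v :=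
    fun b hb k hk => h.symm.commute_of_coordSub_eq_bot k (hown k hk) b hb
  have hBcomm : ∀ b₁ ∈ B, ∀ b₂ ∈ B, b₁ * b₂ = b₂ * b₁ := by
    intro b₁ hb₁ b₂ hb₂
    funext k
    rcases hall k with hG | hS
    · exact (hG.cent_commute (b₁ k) (b₂ k) (hcent b₁ hb₁ k hG) (hcent b₂ hb₂ k hG)).eq
    · exact Subsingleton.elim _ _
  -- a factor with an odd element is good
  have hgood_of_odd : ∀ l (u : Wf l), s l u = -1 → Good (Wf l) (s l) := by
    intro l u hu
    rcases hall l with hG | hS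
    · exact hG
    · exfalso
      have : u = 1 := Subsingleton.elim _ _
      rw [this, map_one] at hu
      exact absurd hu (by decide)
  -- central one-coordinate elements lie in `A`
  have hC1 : ∀ k, Good (Wf k) (s k) → ∀ c ∈ Subgroup.center (Wf k), Pi.mulSingle k c ∈ A := by
    intro k hk c hc
    by_cases hc1 : c = 1
    · rw [hc1, Pi.mulSingle_one]
      exact A.one_mem
    obtain ⟨v, w, hv, hne, hcen⟩ := hk.exists_comm
    have hcz : c = v * w * v⁻¹ * w⁻¹ := eq_of_card_center_two hk.card_center c _ hc hcen hc1 hne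
    obtain ⟨l, hlk, u, hu⟩ := hfix k
    obtain ⟨g, hg1, hgk, -, -⟩ := exists_ker_coord s k l hlk u hu w
    have hvK : piSign s (Pi.mulSingle k v) = 1 := by rw [piSign_mulSingle, hv]
    have e1 : Pi.mulSingle k v * g * (Pi.mulSingle k v)⁻¹ * g⁻¹
        = Pi.mulSingle k (v * w * v⁻¹ * w⁻¹) := by
      funext m
      by_cases hm : m = k
      · subst hm
        simp [hgk]
      · simp [Pi.mulSingle_eq_of_ne hm]
    obtain ⟨a₁, ha₁, b₁, hb₁, e2⟩ := h.exists_mul _ hvK
    obtain ⟨a₂, ha₂, b₂, hb₂, e3⟩ := h.exists_mul g hg1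
    have hb₁g : b₁ * g = g * b₁ := by
      rw [e3, ← mul_assoc, ← h.comm a₂ ha₂ b₁ hb₁, mul_assoc, hBcomm b₁ hb₁ b₂ hb₂, ← mul_assoc]
    have e4 : Pi.mulSingle k v * g * (Pi.mulSingle k v)⁻¹ * g⁻¹ = a₁ * (g * a₁⁻¹ * g⁻¹) := by
      rw [e2]
      have : a₁ * b₁ * g * (a₁ * b₁)⁻¹ * g⁻¹ = a₁ * (b₁ * g) * b₁⁻¹ * a₁⁻¹ * g⁻¹ := by group
      rw [this, hb₁g]
      group
    rw [hcz, ← e1, e4]
    exact A.mul_mem ha₁ (h.conj_mem g hg1 _ (A.inv_mem ha₁))
  -- an element of `B` with central coordinates is trivial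
  have hC1' : ∀ b' ∈ B, (∀ k, b' k ∈ Subgroup.center (Wf k)) → b' = 1 := by
    intro b' hb' hcen
    have hA : b' ∈ A := by
      apply Subgroup.pi_mem_of_mulSingle_mem
      intro k
      rcases hall k with hG | hS
      · exact hC1 k hG _ (hcen k)
      · have : b' k = 1 := Subsingleton.elim _ _
        rw [this, Pi.mulSingle_one]
        exact A.one_mem
    have : b' ∈ A ⊓ B := ⟨hA, hb'⟩
    rw [h.inf, Subgroup.mem_bot] at this
    exact this
  obtain ⟨b, hb1⟩ := (Subgroup.ne_bot_iff_exists_ne_one).mp hB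
  have hb1' : (b : ∀ j, Wf j) ≠ 1 := fun h0 => hb1 (Subtype.ext h0)
  have hbB : (b : ∀ j, Wf j) ∈ B := b.2
  by_cases hbc : ∀ k, (b : ∀ j, Wf j) k ∈ Subgroup.center (Wf k)
  · exact hb1' (hC1' _ hbB hbc)
  push Not at hbc
  obtain ⟨k, hk⟩ := hbc
  have hGk : Good (Wf k) (s k) := by
    rcases hall k with hG | hS
    · exact hG
    · exfalso
      apply hk
      have : (b : ∀ j, Wf j) k = 1 := Subsingleton.elim _ _
      rw [this]
      exact Subgroup.one_mem _
  rw [Subgroup.mem_center_iff] at hk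
  push Not at hk
  obtain ⟨w, hw⟩ := hk
  obtain ⟨l, hlk, u, hu⟩ := hfix k
  have hGl : Good (Wf l) (s l) := hgood_of_odd l u hu
  obtain ⟨g, hg1, hgk, hgl, hgo⟩ := exists_ker_coord s k l hlk u hu w
  set b' : ∀ j, Wf j := (b : ∀ j, Wf j) * (g * (b : ∀ j, Wf j)⁻¹ * g⁻¹) with hb'
  have hb'B : b' ∈ B := B.mul_mem hbB (h.symm.conj_mem g hg1 _ (B.inv_mem hbB))
  have hcoord : ∀ m, b' m = (b : ∀ j, Wf j) m * g m * ((b : ∀ j, Wf j) m)⁻¹ * (g m)⁻¹ := by
    intro m
    simp [hb', mul_assoc]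
  have hcen : ∀ m, b' m ∈ Subgroup.center (Wf m) := by
    intro m
    rw [hcoord]
    by_cases hmk : m = k
    · subst hmk
      exact hGk.cent_comm _ (hcent _ hbB m hGk) _
    by_cases hml : m = l
    · subst hml
      exact hGl.cent_comm _ (hcent _ hbB m hGl) _
    · rw [hgo m hmk hml]
      simp
  have hb'1 := hC1' b' hb'B hcen
  have h2 := congrFun hb'1 k
  rw [hcoord, hgk, Pi.one_apply] at h2
  apply hw
  have h3 : (b : ∀ j, Wf j) k * w * ((b : ∀ j, Wf j) k)⁻¹ = w := by
    have := congrArg (· * w) h2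
    simpa using this
  calc w * (b : ∀ j, Wf j) k = (b : ∀ j, Wf j) k * w * ((b : ∀ j, Wf j) k)⁻¹ * (b : ∀ j, Wf j) k := by
        rw [h3]
    _ = (b : ∀ j, Wf j) k * w := by group

end P4

/-- **(P4)** the kernel of the product character of a product with at least two good factors is
indecomposable -/
theorem not_decomp_ker_piSign {J : Type*} [Fintype J] [DecidableEq J] (Wf : J → Type*)
    [∀ j, Group (Wf j)] (s : ∀ j, Wf j →* ℤˣ)
    (h : ∀ j, Good (Wf j) (s j) ∨ Subsingleton (Wf j))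
    (j₁ j₂ : J) (h12 : j₁ ≠ j₂) (h1 : Good (Wf j₁) (s j₁)) (h2 : Good (Wf j₂) (s j₂)) :
    ¬ Decomp ↥(piSign s).ker := by
  intro hD
  obtain ⟨A, B, hA, hB, hAK, hBK, hcomm, hinf, hsup⟩ := (Cfsg.Agent.Helper93.AltSyl.decomp_subgroup_iff _).mpr hD
  have hdec : DecData s A B := ⟨hAK, hBK, hcomm, hinf, hsup⟩
  have hfix : ∀ j, ∃ l, l ≠ j ∧ ∃ u : Wf l, s l u = -1 := by
    intro j
    by_cases hj : j = j₁
    · exact ⟨j₂, by rw [hj]; exact h12.symm, h2.exists_odd⟩
    · exact ⟨j₁, fun h0 => hj h0.symm, h1.exists_odd⟩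
  obtain ⟨l, hl, u, hu⟩ := hfix j₁
  rcases hdec.coordSub_eq_bot_or j₁ l hl u hu h1 with h0 | h0
  · apply hdec.symm.false_of_all h hfix hA
    intro k hk
    by_contra hne
    obtain ⟨l', hl', u', hu'⟩ := hfix k
    have hBk : coordSub s B k = ⊥ :=
      (hdec.coordSub_eq_bot_or k l' hl' u' hu' hk).resolve_left hne
    exact hdec.false_of_mixed h hfix k j₁ hk h1 hBk h0
  · apply hdec.false_of_all h hfix hB
    intro k hk
    by_contra hne
    obtain ⟨l', hl', u', hu'⟩ := hfix k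
    have hAk : coordSub s A k = ⊥ :=
      (hdec.coordSub_eq_bot_or k l' hl' u' hu' hk).resolve_right hne
    exact hdec.false_of_mixed h hfix j₁ k h1 hk h0 hAk

end Cfsg.Agent.Helper44.AltSyl
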