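import Mathlib
import Cfsg.Agent.Helper44.AltSylDefs
import Cfsg.Agent.Helper44.AltSylP4
import Cfsg.Agent.Helper93.AltSylD1
import Cfsg.Agent.Helper93.AltSylD2
import Cfsg.Agent.Helper88.AltSylD3
import Cfsg.Agent.Helper88.AltSylW4
import Cfsg.Agent.Helper53.AltSylW3
import Cfsg.Agent.Helper53.AltSylW5
import Cfsg.Agent.Helper33.AltSylW1
import Cfsg.Agent.Helper33.AltSylW6
import Cfsg.Agent.Helper38.AltSylA1
import Cfsg.Agent.Helper38.AltSylA2
import Cfsg.Agent.Helper38.AltSylA3
import Cfsg.Agent.Helper38.AltSylM3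
import Cfsg.Agent.Helper11.AltSylM4
import Cfsg.Agent.Helper11.AltSylM5
import Cfsg.Agent.Helper11.AltSylD6

set_option autoImplicit false

/-!
# S2221: direct decomposability of the Sylow 2-subgroups of the alternating groups, assembly
-/

namespace Cfsg.Agent.Helper44.AltSyl

open Cfsg.Agent.Helper93.AltSyl Cfsg.Agent.Helper88.AltSyl Cfsg.Agent.Helper53.AltSyl
  Cfsg.Agent.Helper33.AltSyl Cfsg.Agent.Helper38.AltSyl Cfsg.Agent.Helper11.AltSyl
open scoped RegularWreathProduct

theorem sgnW_succ_eq (e : ℕ) (he : 1 ≤ e) : sgnW (e + 1) = wrSign (sgnW e) :=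
  MonoidHom.ext fun w => sgnW_succ e he w

theorem good_W_two : Good (W 2) (sgnW 2) := by
  have h := good_base (sgnW 1) sgnW_one_inj sgnW_one_odd
  rw [sgnW_succ_eq 1 le_rfl]
  exact h

theorem strong_W_succ (e : ℕ) (he : 1 ≤ e) (h : Good (W e) (sgnW e)) :
    Strong (W (e + 1)) (sgnW (e + 1)) := by
  have h' := strong_step (sgnW e) h
  rw [sgnW_succ_eq e he]
  exact h'

theorem good_W : ∀ e : ℕ, 2 ≤ e → Good (W e) (sgnW e) := by
  intro e he
  induction e, he using Nat.le_induction with
  | base => exact good_W_two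
  | succ e he ih => exact (strong_W_succ e (by omega) ih).toGood

theorem strong_W (e : ℕ) (he : 3 ≤ e) : Strong (W e) (sgnW e) := by
  obtain ⟨e, rfl⟩ : ∃ e', e = e' + 1 := ⟨e - 1, by omega⟩
  exact strong_W_succ e (by omega) (good_W e (by omega))

theorem exists_odd_W : ∀ e : ℕ, 1 ≤ e → ∃ u : W e, sgnW e u = -1 := by
  intro e he
  induction e, he using Nat.le_induction with
  | base => exact sgnW_one_odd
  | succ e he ih =>
    obtain ⟨u, hu⟩ := ih
    let u₀ : W e ≀ᵣ C2 := ⟨fun c => if c = 1 then u else 1, 1⟩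
    have h1 : u₀.left 1 = u := by
      show (if (1 : C2) = 1 then u else 1) = u
      rw [if_pos rfl]
    have h2 : u₀.left gC2 = 1 := by
      show (if gC2 = 1 then u else 1) = 1
      rw [if_neg (by decide)]
    have h3 : wrSign (sgnW e) u₀ = -1 := by
      show sgnW e (u₀.left 1) * sgnW e (u₀.left gC2) = -1
      rw [h1, h2, map_one, mul_one, hu]
    exact ⟨u₀, (sgnW_succ e he u₀).trans h3⟩

theorem nontrivial_W (e : ℕ) (he : 2 ≤ e) : Nontrivial (W e) := by
  obtain ⟨u, hu⟩ := (good_W e he).exists_odd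
  refine ⟨⟨u, 1, ?_⟩⟩
  rintro rfl
  rw [map_one] at hu
  exact absurd hu (by decide)

theorem subsingleton_W_zero : Subsingleton (W 0) := by
  show Subsingleton PUnit
  infer_instance

/-- the Sylow 2-subgroups of the alternating group of degree `n` are isomorphic to the kernel of the
sign character of the model -/
theorem sylow_equiv_model (n : ℕ) (hn : 2 ≤ n) (P : Sylow 2 (alternatingGroup (Fin n))) :
    Nonempty (↥(P : Subgroup (alternatingGroup (Fin n))) ≃* ↥(modelSign n).ker) := by
  classical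
  obtain ⟨ψ, hψ, hsign⟩ := exists_model_hom n
  have hcomp : Equiv.Perm.sign.comp ψ = modelSign n := MonoidHom.ext hsign
  have hcard : Nat.card (Model n) = 2 ^ padicValNat 2 n.factorial := by
    rw [card_model, padicValNat_two_factorial]
  -- an odd element
  have hex : ∃ i ∈ bits n, 1 ≤ i := by
    by_contra hcon
    push Not at hcon
    have h1 : ∑ i ∈ bits n, 2 ^ i ≤ ∑ i ∈ bits n, (if i = 0 then 1 else 0) := by
      apply Finset.sum_le_sum
      intro i hi
      have := hcon i hi
      have hi0 : i = 0 := by omega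
      simp [hi0]
    rw [sum_bits, Finset.sum_ite_eq'] at h1
    split_ifs at h1 <;> omega
  obtain ⟨i, hi, hi1⟩ := hex
  obtain ⟨u, hu⟩ := exists_odd_W i hi1
  have hodd : ∃ w : Model n, Equiv.Perm.sign (ψ w) = -1 := by
    refine ⟨Pi.mulSingle (M := fun j : ↥(bits n) => W (j : ℕ)) ⟨i, hi⟩ u, ?_⟩
    rw [hsign]
    unfold modelSign
    rw [piSign_apply, Finset.prod_eq_single ⟨i, hi⟩]
    · rw [Pi.mulSingle_eq_same]
      exact hu
    · intro j _ hj
      rw [Pi.mulSingle_eq_of_ne hj, map_one]
    · intro h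
      exact absurd (Finset.mem_univ _) h
  obtain ⟨φ⟩ := sylow_equiv_ker n ψ hψ hcard hodd P
  rw [hcomp] at φ
  exact ⟨φ⟩

/-- the main theorem for the abstract notion of decomposability -/
theorem main (n : ℕ) (hn : 4 ≤ n) (P : Sylow 2 (alternatingGroup (Fin n))) :
    Decomp ↥(P : Subgroup (alternatingGroup (Fin n))) ↔
      (n = 4 ∨ n = 5 ∨ ((n % 4 = 2 ∨ n % 4 = 3) ∧ ∀ r : ℕ, 4 * (n / 4) ≠ 2 ^ r)) := by
  classical
  obtain ⟨φ⟩ := sylow_equiv_model n (by omega) P
  rw [decomp_congr φ]
  set S₂ : Finset ℕ := (bits n).filter (2 ≤ ·) with hS₂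
  have hsum : ∑ i ∈ S₂, 2 ^ i = 4 * (n / 4) := sum_filter_bits n
  have hS₂ne : S₂.Nonempty := by
    rw [Finset.nonempty_iff_ne_empty]
    intro h0
    rw [h0, Finset.sum_empty] at hsum
    omega
  have hpow : S₂.card = 1 ↔ ∃ r : ℕ, 4 * (n / 4) = 2 ^ r := by
    rw [card_eq_one_iff_two_pow S₂ hS₂ne, hsum]
  have hmemS₂ : ∀ i, i ∈ S₂ ↔ i ∈ bits n ∧ 2 ≤ i := by
    intro i
    rw [hS₂, Finset.mem_filter]
  have hb1 := one_mem_bits_iff n
  unfold modelSign
  by_cases h1 : 1 ∈ bits n
  · -- `n ≡ 2, 3 (mod 4)`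
    have hmod := hb1.mp h1
    obtain ⟨φ'⟩ := ker_piSign_equiv_pi (fun i : ↥(bits n) => W (i : ℕ))
      (fun i : ↥(bits n) => sgnW (i : ℕ)) ⟨1, h1⟩ sgnW_one_inj sgnW_one_odd
    rw [decomp_congr φ']
    by_cases hc : S₂.card = 1
    · obtain ⟨i, hi⟩ := Finset.card_eq_one.mp hc
      have hiS : i ∈ S₂ := by rw [hi]; exact Finset.mem_singleton_self i
      obtain ⟨hib, hi2⟩ := (hmemS₂ i).mp hiS
      have hne : (⟨i, hib⟩ : ↥(bits n)) ≠ ⟨1, h1⟩ := by
        intro h
        have := congrArg Subtype.val h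
        simp only at this
        omega
      have hsub : ∀ j : {j : ↥(bits n) // j ≠ ⟨1, h1⟩}, j ≠ ⟨⟨i, hib⟩, hne⟩ →
          Subsingleton (W ((j : ↥(bits n)) : ℕ)) := by
        rintro ⟨⟨j, hjb⟩, hj1⟩ hji
        have hj0 : j = 0 := by
          by_contra hj0
          have hj1' : j ≠ 1 := by
            intro h
            apply hj1
            exact Subtype.ext h
          have hjS : j ∈ S₂ := (hmemS₂ j).mpr ⟨hjb, by omega⟩
          rw [hi, Finset.mem_singleton] at hjS
          apply hji
          apply Subtype.ext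
          apply Subtype.ext
          exact hjS
        show Subsingleton (W j)
        rw [hj0]
        exact subsingleton_W_zero
      obtain ⟨φ''⟩ := pi_equiv_of_subsingleton
        (fun j : {j : ↥(bits n) // j ≠ ⟨1, h1⟩} => W ((j : ↥(bits n)) : ℕ)) ⟨⟨i, hib⟩, hne⟩ hsub
      rw [decomp_congr φ'']
      have hG := good_W i hi2
      have hnd : ¬ Decomp (W i) := not_decomp_of_card_center 2 hG.pgroup hG.card_center
      constructor
      · intro h
        exact absurd h hnd
      · rintro (h | h | ⟨-, h⟩)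
        · omega
        · omega
        · obtain ⟨r, hr⟩ := hpow.mp hc
          exact absurd hr (h r)
    · have hlt : 1 < S₂.card := by
        have := Finset.card_pos.mpr hS₂ne
        omega
      obtain ⟨i₁, hi₁, i₂, hi₂, h12⟩ := Finset.one_lt_card.mp hlt
      obtain ⟨hib₁, hi₁2⟩ := (hmemS₂ i₁).mp hi₁
      obtain ⟨hib₂, hi₂2⟩ := (hmemS₂ i₂).mp hi₂
      have hne₁ : (⟨i₁, hib₁⟩ : ↥(bits n)) ≠ ⟨1, h1⟩ := by
        intro h
        have := congrArg Subtype.val h
        simp only at this
        omega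
      have hne₂ : (⟨i₂, hib₂⟩ : ↥(bits n)) ≠ ⟨1, h1⟩ := by
        intro h
        have := congrArg Subtype.val h
        simp only at this
        omega
      have hD : Decomp (∀ j : {j : ↥(bits n) // j ≠ ⟨1, h1⟩}, W ((j : ↥(bits n)) : ℕ)) := by
        apply decomp_pi (fun j : {j : ↥(bits n) // j ≠ ⟨1, h1⟩} => W ((j : ↥(bits n)) : ℕ))
          ⟨⟨i₁, hib₁⟩, hne₁⟩ ⟨⟨i₂, hib₂⟩, hne₂⟩
        · intro h
          apply h12
          have := congrArg (fun j : {j : ↥(bits n) // j ≠ ⟨1, h1⟩} => ((j : ↥(bits n)) : ℕ)) h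
          exact this
        · exact nontrivial_W i₁ hi₁2
        · exact nontrivial_W i₂ hi₂2
      constructor
      · intro _
        right; right
        exact ⟨hmod, fun r hr => hc (hpow.mpr ⟨r, hr⟩)⟩
      · intro _
        exact hD
  · -- `n ≡ 0, 1 (mod 4)`
    have hmod : ¬ (n % 4 = 2 ∨ n % 4 = 3) := fun h => h1 (hb1.mpr h)
    by_cases hc : S₂.card = 1
    · obtain ⟨i, hi⟩ := Finset.card_eq_one.mp hc
      have hiS : i ∈ S₂ := by rw [hi]; exact Finset.mem_singleton_self i
      obtain ⟨hib, hi2⟩ := (hmemS₂ i).mp hiS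
      have hsub : ∀ j : ↥(bits n), j ≠ ⟨i, hib⟩ → Subsingleton (W (j : ℕ)) := by
        rintro ⟨j, hjb⟩ hji
        have hj0 : j = 0 := by
          by_contra hj0
          have hj1' : j ≠ 1 := by
            rintro rfl
            exact h1 hjb
          have hjS : j ∈ S₂ := (hmemS₂ j).mpr ⟨hjb, by omega⟩
          rw [hi, Finset.mem_singleton] at hjS
          apply hji
          apply Subtype.ext
          exact hjS
        show Subsingleton (W j)
        rw [hj0]
        exact subsingleton_W_zero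
      obtain ⟨φ'⟩ := ker_piSign_equiv_of_subsingleton (fun i : ↥(bits n) => W (i : ℕ))
        (fun i : ↥(bits n) => sgnW (i : ℕ)) ⟨i, hib⟩ hsub
      rw [decomp_congr φ']
      have hsum' : 4 * (n / 4) = 2 ^ i := by
        rw [← hsum, hi, Finset.sum_singleton]
      by_cases hi2' : i = 2
      · subst hi2'
        have hD : Decomp ↥(sgnW 2).ker := by
          rw [sgnW_succ_eq 1 le_rfl]
          exact decomp_ker_base (sgnW 1) sgnW_one_inj sgnW_one_odd
        constructor
        · intro _
          omega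
        · intro _
          exact hD
      · have hi3 : 3 ≤ i := by omega
        have hnd : ¬ Decomp ↥(sgnW i).ker := not_decomp_ker_of_strong (sgnW i) (strong_W i hi3)
        constructor
        · intro h
          exact absurd h hnd
        · rintro (h | h | ⟨h, -⟩)
          · subst h
            have h4 : (2 : ℕ) ^ i = 2 ^ 2 := by rw [← hsum']; norm_num
            have := Nat.pow_right_injective (le_refl 2) h4
            omega
          · subst h
            have h4 : (2 : ℕ) ^ i = 2 ^ 2 := by rw [← hsum']; norm_num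
            have := Nat.pow_right_injective (le_refl 2) h4
            omega
          · exact absurd h hmod
    · have hlt : 1 < S₂.card := by
        have := Finset.card_pos.mpr hS₂ne
        omega
      obtain ⟨i₁, hi₁, i₂, hi₂, h12⟩ := Finset.one_lt_card.mp hlt
      obtain ⟨hib₁, hi₁2⟩ := (hmemS₂ i₁).mp hi₁
      obtain ⟨hib₂, hi₂2⟩ := (hmemS₂ i₂).mp hi₂
      have hall : ∀ j : ↥(bits n), Good (W (j : ℕ)) (sgnW (j : ℕ)) ∨ Subsingleton (W (j : ℕ)) := by
        rintro ⟨j, hjb⟩
        by_cases hj2 : 2 ≤ j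
        · left
          exact good_W j hj2
        · right
          have hj0 : j = 0 := by
            by_contra hj0
            have : j = 1 := by omega
            subst this
            exact h1 hjb
          show Subsingleton (W j)
          rw [hj0]
          exact subsingleton_W_zero
      have hnd : ¬ Decomp ↥(piSign (fun i : ↥(bits n) => sgnW (i : ℕ))).ker := by
        apply not_decomp_ker_piSign (fun i : ↥(bits n) => W (i : ℕ))
          (fun i : ↥(bits n) => sgnW (i : ℕ)) hall ⟨i₁, hib₁⟩ ⟨i₂, hib₂⟩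
        · intro h
          exact h12 (congrArg Subtype.val h)
        · exact good_W i₁ hi₁2
        · exact good_W i₂ hi₂2
      constructor
      · intro h
        exact absurd h hnd
      · rintro (h | h | ⟨h, -⟩)
        · subst h
          exact absurd (hpow.mpr ⟨2, by norm_num⟩) hc
        · subst h
          exact absurd (hpow.mpr ⟨2, by norm_num⟩) hc
        · exact absurd h hmod

end Cfsg.Agent.Helper44.AltSyl
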