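import Mathlib
import Cfsg.Agent.Helper44.IrredOrder

set_option autoImplicit false

namespace Cfsg.Agent.Helper44

open Polynomial Matrix

variable {F : Type*} [Field F]

section Centralizer

variable {n : ℕ} (A : Matrix (Fin n) (Fin n) F)

/-- the evaluation homomorphism `F[X]/(minpoly A) → M_n(F)` -/
noncomputable def adjoinRootToMatrix : AdjoinRoot (minpoly F A) →ₐ[F] Matrix (Fin n) (Fin n) F :=
  Ideal.Quotient.liftₐ (Ideal.span {minpoly F A}) (Polynomial.aeval A) (by
    intro a ha
    rw [Ideal.mem_span_singleton] at ha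
    obtain ⟨c, rfl⟩ := ha
    rw [map_mul, minpoly.aeval, zero_mul])

theorem adjoinRootToMatrix_mk (f : F[X]) : adjoinRootToMatrix A (AdjoinRoot.mk _ f) = aeval A f :=
  rfl

theorem adjoinRootToMatrix_root : adjoinRootToMatrix A (AdjoinRoot.root _) = A := by
  rw [AdjoinRoot.root, adjoinRootToMatrix_mk, aeval_X]

theorem adjoinRootToMatrix_commute (k : AdjoinRoot (minpoly F A)) :
    adjoinRootToMatrix A k * A = A * adjoinRootToMatrix A k := by
  have h1 : adjoinRootToMatrix A k * adjoinRootToMatrix A (AdjoinRoot.root _)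
      = adjoinRootToMatrix A (AdjoinRoot.root _) * adjoinRootToMatrix A k := by
    rw [← map_mul, ← map_mul, mul_comm]
  rwa [adjoinRootToMatrix_root] at h1

theorem commute_adjoinRootToMatrix_of_commute (B : Matrix (Fin n) (Fin n) F) (hB : B * A = A * B)
    (k : AdjoinRoot (minpoly F A)) : B * adjoinRootToMatrix A k = adjoinRootToMatrix A k * B := by
  induction k using AdjoinRoot.induction_on with
  | ih f =>
    rw [adjoinRootToMatrix_mk]
    have h1 : A ∈ Subalgebra.centralizer F ({B} : Set (Matrix (Fin n) (Fin n) F)) := by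
      rw [Subalgebra.mem_centralizer_iff]
      intro b hb
      rw [Set.mem_singleton_iff] at hb
      rw [hb]
      exact hB
    have h2 : Algebra.adjoin F {A} ≤ Subalgebra.centralizer F ({B} : Set (Matrix (Fin n) (Fin n) F)) :=
      Algebra.adjoin_le (Set.singleton_subset_iff.2 h1)
    have h3 := h2 (Polynomial.aeval_mem_adjoin_singleton F A (p := f))
    rw [Subalgebra.mem_centralizer_iff] at h3
    exact h3 B rfl

variable (hirr : Irreducible (minpoly F A)) (hdeg : (minpoly F A).natDegree = n) (hn : 1 ≤ n)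

include hirr hdeg hn in
theorem exists_eq_adjoinRootToMatrix_of_commute (B : Matrix (Fin n) (Fin n) F)
    (hB : B * A = A * B) : ∃ k : AdjoinRoot (minpoly F A), B = adjoinRootToMatrix A k := by
  have : Fact (Irreducible (minpoly F A)) := ⟨hirr⟩
  have hμ0 : minpoly F A ≠ 0 := hirr.ne_zero
  set φ := adjoinRootToMatrix A with hφ
  set v₀ : Fin n → F := Pi.single ⟨0, hn⟩ 1 with hv₀
  have hv₀0 : v₀ ≠ 0 := by
    intro h
    have := congrFun h ⟨0, hn⟩
    simp [hv₀] at this
  let T : AdjoinRoot (minpoly F A) →ₗ[F] (Fin n → F) :=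
    { toFun := fun k => φ k *ᵥ v₀
      map_add' := fun a b => by rw [map_add, Matrix.add_mulVec]
      map_smul' := fun c a => by rw [map_smul, Matrix.smul_mulVec, RingHom.id_apply] }
  have hTinj : Function.Injective T := by
    rw [← LinearMap.ker_eq_bot, LinearMap.ker_eq_bot']
    intro k hk
    by_contra hk0
    have h1 : φ k⁻¹ *ᵥ (φ k *ᵥ v₀) = v₀ := by
      rw [Matrix.mulVec_mulVec, ← map_mul, inv_mul_cancel₀ hk0, map_one, Matrix.one_mulVec]
    have h2 : φ k *ᵥ v₀ = 0 := hk
    rw [h2, Matrix.mulVec_zero] at h1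
    exact hv₀0 h1.symm
  have hfin : Module.finrank F (AdjoinRoot (minpoly F A)) = Module.finrank F (Fin n → F) := by
    rw [(AdjoinRoot.powerBasis hμ0).finrank, AdjoinRoot.powerBasis_dim, hdeg, Module.finrank_fin_fun]
  have : Module.Finite F (AdjoinRoot (minpoly F A)) := (AdjoinRoot.powerBasis hμ0).finite
  have hTsurj : Function.Surjective T :=
    (LinearMap.injective_iff_surjective_of_finrank_eq_finrank hfin).1 hTinj
  obtain ⟨k₀, hk₀⟩ := hTsurj (B *ᵥ v₀)
  refine ⟨k₀, ?_⟩
  apply Matrix.mulVec_injective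
  funext w
  obtain ⟨k, rfl⟩ := hTsurj w
  show B *ᵥ (φ k *ᵥ v₀) = φ k₀ *ᵥ (φ k *ᵥ v₀)
  have hk₀' : φ k₀ *ᵥ v₀ = B *ᵥ v₀ := hk₀
  rw [Matrix.mulVec_mulVec, commute_adjoinRootToMatrix_of_commute A B hB k, ← Matrix.mulVec_mulVec,
    ← hk₀', Matrix.mulVec_mulVec, Matrix.mulVec_mulVec, ← map_mul, ← map_mul, mul_comm]

end Centralizer

end Cfsg.Agent.Helper44

namespace Cfsg.Agent.Helper44

open Polynomial Matrix

variable {F : Type*} [Field F] [Fintype F]

theorem centralizer_cyclic_of_minpoly_irreducible {q n : ℕ} (hF : Fintype.card F = q)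
    (hn : 1 ≤ n) (x : GL (Fin n) F)
    (hirr : Irreducible (minpoly F (x : Matrix (Fin n) (Fin n) F)))
    (hdeg : (minpoly F (x : Matrix (Fin n) (Fin n) F)).natDegree = n) :
    IsCyclic ↥(Subgroup.centralizer ({x} : Set (GL (Fin n) F))) ∧
      Nat.card ↥(Subgroup.centralizer ({x} : Set (GL (Fin n) F))) = q ^ n - 1 := by
  classical
  set A : Matrix (Fin n) (Fin n) F := (x : Matrix (Fin n) (Fin n) F) with hA
  have : Fact (Irreducible (minpoly F A)) := ⟨hirr⟩
  have hμ0 : minpoly F A ≠ 0 := hirr.ne_zero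
  have : Module.Finite F (AdjoinRoot (minpoly F A)) := (AdjoinRoot.powerBasis hμ0).finite
  have : Finite (AdjoinRoot (minpoly F A)) := Module.finite_of_finite F
  let _ : Fintype (AdjoinRoot (minpoly F A)) := Fintype.ofFinite _
  have : Nonempty (Fin n) := ⟨⟨0, hn⟩⟩
  set φ := adjoinRootToMatrix A with hφ
  have hφinj : Function.Injective φ := (φ.toRingHom).injective
  let f : (AdjoinRoot (minpoly F A))ˣ →* GL (Fin n) F :=
    Units.map (φ : AdjoinRoot (minpoly F A) →* Matrix (Fin n) (Fin n) F)
  have hfval : ∀ k, ((f k : GL (Fin n) F) : Matrix (Fin n) (Fin n) F) = φ k := fun k => rfl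
  have hfinj : Function.Injective f := by
    intro a b hab
    apply Units.ext
    apply hφinj
    rw [← hfval, ← hfval, hab]
  have hrange : f.range = Subgroup.centralizer ({x} : Set (GL (Fin n) F)) := by
    ext B
    rw [Subgroup.mem_centralizer_iff]
    constructor
    · rintro ⟨k, rfl⟩ h hh
      rw [Set.mem_singleton_iff] at hh
      subst hh
      apply Units.ext
      rw [Units.val_mul, Units.val_mul, hfval]
      exact (adjoinRootToMatrix_commute A k).symm
    · intro hB
      have hBx : (B : Matrix (Fin n) (Fin n) F) * A = A * B := by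
        have := hB x rfl
        have h2 := congrArg Units.val this
        rw [Units.val_mul, Units.val_mul] at h2
        exact h2.symm
      obtain ⟨k, hk⟩ := exists_eq_adjoinRootToMatrix_of_commute A hirr hdeg hn B hBx
      have hk0 : k ≠ 0 := by
        rintro rfl
        rw [map_zero] at hk
        have h1 : (B : Matrix (Fin n) (Fin n) F) * ((B⁻¹ : GL (Fin n) F) : Matrix _ _ F) = 1 := by
          rw [← Units.val_mul, mul_inv_cancel, Units.val_one]
        rw [hk, zero_mul] at h1
        exact zero_ne_one h1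
      refine ⟨Units.mk0 k hk0, ?_⟩
      apply Units.ext
      rw [hfval, Units.val_mk0, hk]
  rw [← hrange]
  constructor
  · exact isCyclic_of_surjective f.rangeRestrict f.rangeRestrict_surjective
  · rw [← Nat.card_congr (MonoidHom.ofInjective hfinj).toEquiv, Nat.card_units]
    have h1 := Module.card_eq_pow_finrank (K := F) (V := AdjoinRoot (minpoly F A))
    rw [(AdjoinRoot.powerBasis hμ0).finrank, AdjoinRoot.powerBasis_dim, hdeg] at h1
    rw [Nat.card_eq_fintype_card, h1, hF]

end Cfsg.Agent.Helper44
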