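import Mathlib
import Cfsg.Prelude.Def_ClassicalGeometry
import Cfsg.Agent.Helper44.OrthSumForm

/-!
# `diag(g, g) ∈ Ω(Q ⊕ Q)`

When reflections generate `O(Q)`, the abelianisation of `O(Q)` has exponent two; hence
`a * (σ a σ⁻¹) ∈ Ω` for all `a, σ`.  Applied to `a = diag(g, 1)` and the swap `σ`.
-/

set_option autoImplicit false

namespace Cfsg.Agent.Helper44

open Matrix QuadraticMap

variable {F : Type*} [Field F] {ι : Type} [Fintype ι] [DecidableEq ι]

section general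
variable (Q : QuadraticForm F (ι → F))

theorem abelianization_of_mul_self [Fintype F] (hQ : (QuadraticMap.polarBilin Q).Nondegenerate)
    (h : Fintype.card F ≠ 2 ∨ Fintype.card ι ≠ 4) (g : Cfsg.isometryGroup F ⇑Q) :
    (Abelianization.of g : Abelianization (Cfsg.isometryGroup F ⇑Q)) * Abelianization.of g = 1 := by
  obtain ⟨vs, -, rfl⟩ := exists_list_reflT Q hQ h g
  induction vs with
  | nil => simp
  | cons a l ih =>
    rw [List.map_cons, List.prod_cons, map_mul, mul_mul_mul_comm, ih, mul_one, ← map_mul,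
      reflT_mul_self, map_one]

theorem mul_conj_mem_Omega [Fintype F] (hQ : (QuadraticMap.polarBilin Q).Nondegenerate)
    (h : Fintype.card F ≠ 2 ∨ Fintype.card ι ≠ 4) (a σ : Cfsg.isometryGroup F ⇑Q) :
    a * (σ * a * σ⁻¹) ∈ Cfsg.Omega F ⇑Q := by
  show a * (σ * a * σ⁻¹) ∈ commutator (Cfsg.isometryGroup F ⇑Q)
  rw [← Abelianization.ker_of, MonoidHom.mem_ker, map_mul, map_mul, map_mul, map_inv,
    mul_comm (Abelianization.of σ), mul_inv_cancel_right]
  exact abelianization_of_mul_self Q hQ h a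

end general

section swap

/-- the swap matrix on `ι ⊕ ι` -/
def swapSumMat (ι : Type) [Fintype ι] [DecidableEq ι] (F : Type*) [Field F] :
    Matrix (ι ⊕ ι) (ι ⊕ ι) F :=
  Matrix.fromBlocks 0 1 1 0

theorem swapSumMat_mul_self : swapSumMat ι F * swapSumMat ι F = 1 := by
  unfold swapSumMat
  rw [Matrix.fromBlocks_multiply]
  simp [Matrix.fromBlocks_one]

def swapSumGL (ι : Type) [Fintype ι] [DecidableEq ι] (F : Type*) [Field F] : GL (ι ⊕ ι) F :=
  ⟨swapSumMat ι F, swapSumMat ι F, swapSumMat_mul_self, swapSumMat_mul_self⟩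

theorem swapSumMat_mulVec (x : ι ⊕ ι → F) :
    swapSumMat ι F *ᵥ x = Sum.elim (x ∘ Sum.inr) (x ∘ Sum.inl) := by
  rw [swapSumMat, Matrix.fromBlocks_mulVec]
  simp only [Matrix.zero_mulVec, Matrix.one_mulVec, zero_add, add_zero]

theorem swapSumGL_mem (Q : (ι → F) → F) :
    swapSumGL ι F ∈ Cfsg.isometryGroup F (orthSum Q Q) := by
  rw [mem_isometryGroup_iff]
  intro x
  show orthSum Q Q (swapSumMat ι F *ᵥ x) = orthSum Q Q x
  rw [swapSumMat_mulVec]
  show Q (x ∘ Sum.inr) + Q (x ∘ Sum.inl) = Q (x ∘ Sum.inl) + Q (x ∘ Sum.inr)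
  rw [add_comm]

/-- the swap isometry of `Q ⊕ Q` -/
def swapSumIso (Q : (ι → F) → F) : Cfsg.isometryGroup F (orthSum Q Q) :=
  ⟨swapSumGL ι F, swapSumGL_mem Q⟩

theorem swapSumIso_inv (Q : (ι → F) → F) : (swapSumIso Q)⁻¹ = swapSumIso Q := by
  apply inv_eq_of_mul_eq_one_left
  apply Subtype.ext
  apply Units.ext
  exact swapSumMat_mul_self

theorem blockDiag_eq_mul_conj (Q : (ι → F) → F) (g : Cfsg.isometryGroup F Q) :
    blockDiagIso Q Q (g, g)
      = blockDiagIso Q Q (g, 1) * (swapSumIso Q * blockDiagIso Q Q (g, 1) * (swapSumIso Q)⁻¹) := by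
  rw [swapSumIso_inv]
  apply Subtype.ext
  apply Units.ext
  show Matrix.fromBlocks (g.1 : Matrix ι ι F) 0 0 (g.1 : Matrix ι ι F)
    = Matrix.fromBlocks (g.1 : Matrix ι ι F) 0 0 1
      * (swapSumMat ι F * Matrix.fromBlocks (g.1 : Matrix ι ι F) 0 0 1 * swapSumMat ι F)
  unfold swapSumMat
  simp [Matrix.fromBlocks_multiply]

end swap

/-- `diag(g, g) ∈ Ω(Q ⊕ Q)` -/
theorem blockDiag_self_mem_Omega [Fintype F] (Q : QuadraticForm F (ι → F))
    (hQ : (QuadraticMap.polarBilin Q).Nondegenerate)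
    (h : Fintype.card F ≠ 2 ∨ Fintype.card (ι ⊕ ι) ≠ 4) (g : Cfsg.isometryGroup F ⇑Q) :
    blockDiagIso ⇑Q ⇑Q (g, g) ∈ Cfsg.Omega F (orthSum ⇑Q ⇑Q) := by
  rw [blockDiag_eq_mul_conj]
  exact mul_conj_mem_Omega (orthSumForm Q Q) (nondegenerate_orthSumForm Q Q hQ hQ) h _ _

end Cfsg.Agent.Helper44
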