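/-
helper44: monic polynomials with non-zero constant term, their number, and the lower bound
`q^n - q^(n-1) ≤ k(GL_n(q))` through characteristic polynomials.
-/
import Mathlib

set_option autoImplicit false

namespace Cfsg.Agent.Helper44.GLk

open Polynomial Matrix

universe u

variable (F : Type u) [Field F]

/-- monic polynomials of degree `k` with non-zero constant term -/
def Good (k : ℕ) : Type u := {p : {p : F[X] // p.Monic ∧ p.natDegree = k} // p.1.coeff 0 ≠ 0}

/-- the number of monic polynomials of degree `k` with non-zero constant term -/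
def goodCount (q k : ℕ) : ℕ := if k = 0 then 1 else (q - 1) * q ^ (k - 1)

variable {F}

/-- the underlying polynomial -/
def Good.poly {k : ℕ} (f : Good F k) : F[X] := f.1.1

theorem Good.monic {k : ℕ} (f : Good F k) : f.poly.Monic := f.1.2.1

theorem Good.natDegree {k : ℕ} (f : Good F k) : f.poly.natDegree = k := f.1.2.2

theorem Good.coeff_zero {k : ℕ} (f : Good F k) : f.poly.coeff 0 ≠ 0 := f.2

/-- constructor -/
def Good.mk' {k : ℕ} (f : F[X]) (h1 : f.Monic) (h2 : f.natDegree = k) (h3 : f.coeff 0 ≠ 0) :
    Good F k := ⟨⟨f, h1, h2⟩, h3⟩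

theorem Good.mk'_poly {k : ℕ} (f : F[X]) (h1 : f.Monic) (h2 : f.natDegree = k)
    (h3 : f.coeff 0 ≠ 0) : (Good.mk' f h1 h2 h3).poly = f := rfl

theorem Good.ext {k : ℕ} {f g : Good F k} (h : f.poly = g.poly) : f = g :=
  Subtype.ext (Subtype.ext h)

theorem good_zero_eq (f : Good F 0) : f.poly = 1 := f.monic.natDegree_eq_zero.mp f.natDegree

noncomputable instance : Unique (Good F 0) where
  default := Good.mk' 1 monic_one natDegree_one (by simp)
  uniq f := Good.ext (good_zero_eq f)

/-- `Good (k+1)` is in bijection with the coefficient vectors with non-zero first entry -/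
noncomputable def goodEquiv (k : ℕ) : Good F (k + 1) ≃ {v : Fin (k + 1) → F // v 0 ≠ 0} :=
  Equiv.subtypeEquiv ((monicEquivDegreeLT (k + 1)).trans (degreeLTEquiv F (k + 1)).toEquiv) (by
    intro p
    have h1 : ((monicEquivDegreeLT (k + 1)).trans (degreeLTEquiv F (k + 1)).toEquiv) p 0
        = p.1.coeff 0 := by
      show (p.1.eraseLead).coeff 0 = p.1.coeff 0
      rw [eraseLead_coeff_of_ne 0 (by rw [p.2.2]; omega)]
    rw [h1])

section fin

variable [Fintype F]

theorem card_vec_ne_zero (k : ℕ) [DecidableEq F] :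
    Fintype.card {v : Fin (k + 1) → F // v 0 ≠ 0} = (Fintype.card F - 1) * Fintype.card F ^ k := by
  rw [Fintype.card_subtype]
  have h1 : (Finset.univ.filter fun v : Fin (k + 1) → F => v 0 ≠ 0)
      = Fintype.piFinset (fun i : Fin (k + 1) =>
          if i = 0 then (Finset.univ.erase (0 : F)) else Finset.univ) := by
    ext v
    simp only [Finset.mem_filter, Finset.mem_univ, true_and, Fintype.mem_piFinset]
    constructor
    · intro hv i
      by_cases hi : i = 0
      · rw [if_pos hi, hi]
        exact Finset.mem_erase.2 ⟨hv, Finset.mem_univ _⟩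
      · rw [if_neg hi]
        exact Finset.mem_univ _
    · intro hv
      have := hv 0
      rw [if_pos rfl] at this
      exact (Finset.mem_erase.1 this).1
  rw [h1, Fintype.card_piFinset, Fin.prod_univ_succ, if_pos rfl, Finset.card_erase_of_mem
    (Finset.mem_univ _), Finset.card_univ]
  congr 1
  have h3 : ∀ i : Fin k, (if (Fin.succ i) = 0 then (Finset.univ.erase (0 : F)) else Finset.univ).card
      = Fintype.card F := by
    intro i
    rw [if_neg (Fin.succ_ne_zero i), Finset.card_univ]
  rw [Finset.prod_congr rfl (fun i _ => h3 i), Finset.prod_const, Finset.card_univ, Fintype.card_fin]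

instance (k : ℕ) : Finite (Good F k) := by
  rcases k with _ | k
  · infer_instance
  · exact Finite.of_equiv _ (goodEquiv k).symm

theorem card_good (k : ℕ) : Nat.card (Good F k) = goodCount (Fintype.card F) k := by
  classical
  rcases k with _ | k
  · rw [goodCount, if_pos rfl]
    exact Nat.card_unique
  · rw [goodCount, if_neg (by omega), Nat.card_congr (goodEquiv k), Nat.card_eq_fintype_card,
      card_vec_ne_zero, Nat.add_sub_cancel]

end fin

/-- every monic polynomial of degree `n` with non-zero constant term is the characteristic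
polynomial of an invertible matrix -/
theorem exists_GL_charpoly {n : ℕ} (f : Good F n) :
    ∃ g : GL (Fin n) F, (g : Matrix (Fin n) (Fin n) F).charpoly = f.poly := by
  obtain ⟨⟨f, hfm, hfd⟩, hf0⟩ := f
  show ∃ g : GL (Fin n) F, (g : Matrix (Fin n) (Fin n) F).charpoly = f
  let pb := AdjoinRoot.powerBasis' hfm
  have h1 := charpoly_leftMulMatrix pb
  have h2 : minpoly F pb.gen = f := by
    rw [AdjoinRoot.powerBasis'_gen, AdjoinRoot.minpoly_root hfm.ne_zero, hfm.leadingCoeff, inv_one,
      map_one, mul_one]
  rw [h2] at h1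
  have hdim : pb.dim = n := by rw [AdjoinRoot.powerBasis'_dim, hfd]
  let e : Fin pb.dim ≃ Fin n := finCongr hdim
  let M : Matrix (Fin n) (Fin n) F := Matrix.reindex e e (Algebra.leftMulMatrix pb.basis pb.gen)
  have hM : M.charpoly = f := by rw [Matrix.charpoly_reindex, h1]
  have hdet : M.det ≠ 0 := by
    rw [Matrix.det_eq_sign_charpoly_coeff, hM]
    exact mul_ne_zero (pow_ne_zero _ (by norm_num)) hf0
  exact ⟨Matrix.GeneralLinearGroup.mkOfDetNeZero M hdet, hM⟩

section lower

variable [Fintype F]

/-- the characteristic polynomial on conjugacy classes -/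
noncomputable def classCharpoly (n : ℕ) : ConjClasses (GL (Fin n) F) → F[X] :=
  Quotient.lift (fun g : GL (Fin n) F => (g : Matrix (Fin n) (Fin n) F).charpoly) (by
    intro a b hab
    obtain ⟨c, hc⟩ := isConj_iff.1 hab
    show (a : Matrix (Fin n) (Fin n) F).charpoly = (b : Matrix (Fin n) (Fin n) F).charpoly
    rw [← hc]
    have h1 : ((c * a * c⁻¹ : GL (Fin n) F) : Matrix (Fin n) (Fin n) F)
        = (c : Matrix (Fin n) (Fin n) F) * (a : Matrix (Fin n) (Fin n) F)
          * (c : Matrix (Fin n) (Fin n) F)⁻¹ := by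
      rw [Units.val_mul, Units.val_mul, Matrix.coe_units_inv]
    rw [h1, Matrix.charpoly_units_conj])

theorem classCharpoly_mk (n : ℕ) (g : GL (Fin n) F) :
    classCharpoly n (ConjClasses.mk g) = (g : Matrix (Fin n) (Fin n) F).charpoly := rfl

theorem card_good_le (n : ℕ) :
    goodCount (Fintype.card F) n ≤ Nat.card (ConjClasses (GL (Fin n) F)) := by
  classical
  rw [← card_good]
  have hex : ∀ f : Good F n, ∃ C : ConjClasses (GL (Fin n) F), classCharpoly n C = f.poly := by
    intro f
    obtain ⟨g, hg⟩ := exists_GL_charpoly f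
    exact ⟨ConjClasses.mk g, hg⟩
  choose φ hφ using hex
  apply Nat.card_le_card_of_injective φ
  intro f f' h
  apply Good.ext
  rw [← hφ f, ← hφ f', h]

theorem lower_bound (n : ℕ) (hn : 1 ≤ n) :
    Fintype.card F ^ n - Fintype.card F ^ (n - 1) ≤ Nat.card (ConjClasses (GL (Fin n) F)) := by
  refine le_trans (le_of_eq ?_) (card_good_le n)
  rw [goodCount, if_neg (by omega)]
  obtain ⟨k, rfl⟩ : ∃ k, n = k + 1 := ⟨n - 1, by omega⟩
  rw [Nat.add_sub_cancel, pow_succ, Nat.sub_mul, one_mul, mul_comm]

end lower

end Cfsg.Agent.Helper44.GLk
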