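/-
helper44: the numeric recursion bounding the number of conjugacy classes of `GL_n(q)`.
-/
import Cfsg.Agent.Helper44.GLkLower

set_option autoImplicit false

namespace Cfsg.Agent.Helper44.GLk

/-- numeric count: `aN r J s` bounds the number of sequences `(c_1, …, c_J)` of monic polynomials
with non-zero constant term over a field with `r + 1` elements with `∑ j deg c_j = s` -/
def aN (r : ℕ) : ℕ → ℕ → ℕ
  | 0, s => if s = 0 then 1 else 0
  | J + 1, s =>
      ∑ k ∈ Finset.range (s / (J + 1) + 1), goodCount (r + 1) k * aN r J (s - (J + 1) * k)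

theorem aN_zero (r s : ℕ) : aN r 0 s = if s = 0 then 1 else 0 := by
  rw [aN]

theorem aN_succ (r J s : ℕ) : aN r (J + 1) s
    = ∑ k ∈ Finset.range (s / (J + 1) + 1), goodCount (r + 1) k * aN r J (s - (J + 1) * k) := by
  rw [aN]

theorem telescope (K : ℕ) : ∀ (v B : ℕ → ℕ), v K ≤ B K →
    (∀ k, k < K → v k + B (k + 1) ≤ B k) → ∑ k ∈ Finset.range (K + 1), v k ≤ B 0 := by
  induction K with
  | zero =>
    intro v B h1 _
    simpa using h1
  | succ K ih =>
    intro v B h1 h2
    rw [Finset.sum_range_succ']
    have h3 := ih (fun k => v (k + 1)) (fun k => B (k + 1)) h1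
      (fun k hk => h2 (k + 1) (by omega))
    have h4 := h2 0 (by omega)
    have h5 : ∑ k ∈ Finset.range (K + 1), v (k + 1) ≤ B (0 + 1) := h3
    omega

theorem aN_bound (r : ℕ) : ∀ J s, aN r J s ≤ (r + 1) ^ s ∧
    (J ≤ s → 1 ≤ s → aN r J s + (r + 1) ^ (s - J) ≤ (r + 1) ^ s) := by
  intro J
  induction J with
  | zero =>
    intro s
    rw [aN_zero]
    refine ⟨?_, ?_⟩
    · split_ifs with h
      · exact Nat.one_le_pow _ _ (by omega)
      · exact Nat.zero_le _
    · intro _ h1
      rw [if_neg (by omega), Nat.sub_zero, zero_add]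
  | succ J ih =>
    intro s
    by_cases hs : s < J + 1
    · have h1 : s / (J + 1) = 0 := Nat.div_eq_of_lt hs
      rw [aN_succ, h1, zero_add, Finset.sum_range_one, goodCount, if_pos rfl, one_mul, mul_zero,
        Nat.sub_zero]
      exact ⟨(ih s).1, fun h => by omega⟩
    · have hs' : J + 1 ≤ s := by omega
      obtain ⟨K, hK⟩ : ∃ K, s / (J + 1) = K + 1 := by
        have : 1 ≤ s / (J + 1) := (Nat.one_le_div_iff (by omega)).2 hs'
        exact ⟨s / (J + 1) - 1, by omega⟩
      have hKs : (J + 1) * (K + 1) ≤ s := by
        rw [← hK]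
        exact Nat.mul_div_le s (J + 1)
      have key : aN r (J + 1) s + (r + 1) ^ (s - (J + 1)) ≤ (r + 1) ^ s := by
        rw [aN_succ, hK, Finset.sum_range_succ', goodCount, if_pos rfl, one_mul, mul_zero,
          Nat.sub_zero]
        have h2 := (ih s).2 (by omega) (by omega)
        have h3 : ∑ k ∈ Finset.range (K + 1),
            goodCount (r + 1) (k + 1) * aN r J (s - (J + 1) * (k + 1))
            ≤ (fun k => r * (r + 1) ^ (s - J * (k + 1) - 1)) 0 := by
          apply telescope K (fun k => goodCount (r + 1) (k + 1) * aN r J (s - (J + 1) * (k + 1)))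
            (fun k => r * (r + 1) ^ (s - J * (k + 1) - 1))
          · show goodCount (r + 1) (K + 1) * aN r J (s - (J + 1) * (K + 1))
              ≤ r * (r + 1) ^ (s - J * (K + 1) - 1)
            rw [goodCount, if_neg (by omega), Nat.add_sub_cancel, Nat.add_sub_cancel, mul_assoc]
            apply Nat.mul_le_mul_left
            refine le_trans (Nat.mul_le_mul_left _ (ih _).1) ?_
            rw [← pow_add]
            apply le_of_eq
            congr 1
            obtain ⟨m, hm⟩ : ∃ m, m = J * (K + 1) := ⟨_, rfl⟩
            have : (J + 1) * (K + 1) = m + K + 1 := by rw [hm]; ring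
            rw [this] at hKs ⊢
            rw [← hm]
            omega
          · intro k hk
            show goodCount (r + 1) (k + 1) * aN r J (s - (J + 1) * (k + 1))
              + r * (r + 1) ^ (s - J * (k + 1 + 1) - 1) ≤ r * (r + 1) ^ (s - J * (k + 1) - 1)
            rw [goodCount, if_neg (by omega), Nat.add_sub_cancel, Nat.add_sub_cancel, mul_assoc,
              ← Nat.mul_add]
            apply Nat.mul_le_mul_left
            obtain ⟨m, hm⟩ : ∃ m, m = J * (k + 1) := ⟨_, rfl⟩
            have e1 : (J + 1) * (k + 1) = m + k + 1 := by rw [hm]; ring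
            have e2 : J * (k + 1 + 1) = m + J := by rw [hm]; ring
            have e3 : (J + 1) * (K + 1) = (J + 1) * (k + 1) + (J + 1) * (K - k) := by
              rw [← Nat.mul_add]
              congr 1
              omega
            have e4 : J + 1 ≤ (J + 1) * (K - k) := Nat.le_mul_of_pos_right _ (by omega)
            rw [e1] at e3
            have h5 := (ih (s - (J + 1) * (k + 1))).2 (by rw [e1]; omega) (by rw [e1]; omega)
            rw [e1] at h5 ⊢
            rw [e2, ← hm]
            have h6 := Nat.mul_le_mul_left ((r + 1) ^ k) h5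
            rw [Nat.mul_add, ← pow_add, ← pow_add] at h6
            have x1 : k + (s - (m + k + 1) - J) = s - (m + J) - 1 := by omega
            have x2 : k + (s - (m + k + 1)) = s - m - 1 := by omega
            rw [x1, x2] at h6
            exact h6
        simp only at h3
        have h7 : r * (r + 1) ^ (s - J * (0 + 1) - 1) + (r + 1) ^ (s - (J + 1))
            = (r + 1) ^ (s - J) := by
          have y1 : s - J * (0 + 1) - 1 = s - (J + 1) := by rw [zero_add, mul_one]; omega
          have y2 : s - J = (s - (J + 1)) + 1 := by omega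
          rw [y1, y2, pow_succ]
          ring
        omega
      exact ⟨le_trans (Nat.le_add_right _ _) key, fun _ _ => key⟩

theorem aN_le (r n : ℕ) : aN r n n ≤ (r + 1) ^ n := (aN_bound r n n).1

end Cfsg.Agent.Helper44.GLk
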