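/-
helper44: sequences of monic polynomials with non-zero constant term of given weighted degree,
and the bound on their number.
-/
import Cfsg.Agent.Helper44.GLkNum

set_option autoImplicit false

namespace Cfsg.Agent.Helper44.GLk

open Polynomial

universe u

variable (F : Type u) [Field F]

/-- sequences `(c_1, …, c_J)` of monic polynomials with non-zero constant term and
`∑ j * deg c_j = s` -/
def Seqs (J s : ℕ) : Type u :=
  {c : Fin J → F[X] // (∀ j, (c j).Monic ∧ (c j).coeff 0 ≠ 0) ∧
    ∑ j : Fin J, (j.1 + 1) * (c j).natDegree = s}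

variable {F}

theorem seqs_sum (J s : ℕ) (c : Seqs F (J + 1) s) :
    ∑ j : Fin J, (j.1 + 1) * (c.1 j.castSucc).natDegree
      + (J + 1) * (c.1 (Fin.last J)).natDegree = s := by
  have := c.2.2
  rw [Fin.sum_univ_castSucc] at this
  simpa using this

/-- split off the last polynomial -/
noncomputable def seqsSplit (J s : ℕ) (c : Seqs F (J + 1) s) :
    Σ k : Fin (s / (J + 1) + 1), Good F k.1 × Seqs F J (s - (J + 1) * k.1) :=
  ⟨⟨(c.1 (Fin.last J)).natDegree, by
      rw [Nat.lt_succ_iff, Nat.le_div_iff_mul_le (by omega)]
      have := seqs_sum J s c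
      rw [mul_comm]
      omega⟩,
    Good.mk' (c.1 (Fin.last J)) (c.2.1 _).1 rfl (c.2.1 _).2,
    ⟨fun j => c.1 j.castSucc, fun j => c.2.1 _, by
      have := seqs_sum J s c
      show ∑ j : Fin J, (j.1 + 1) * (c.1 j.castSucc).natDegree
        = s - (J + 1) * (c.1 (Fin.last J)).natDegree
      omega⟩⟩

/-- forget the proofs -/
noncomputable def seqsProj (J s : ℕ)
    (x : Σ k : Fin (s / (J + 1) + 1), Good F k.1 × Seqs F J (s - (J + 1) * k.1)) :
    F[X] × (Fin J → F[X]) := (x.2.1.poly, x.2.2.1)

theorem seqsSplit_injective (J s : ℕ) : Function.Injective (seqsSplit (F := F) J s) := by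
  apply Function.Injective.of_comp (f := seqsProj J s)
  intro c c' h
  have h1 : c.1 (Fin.last J) = c'.1 (Fin.last J) := congrArg Prod.fst h
  have h2 : (fun j : Fin J => c.1 j.castSucc) = (fun j => c'.1 j.castSucc) := congrArg Prod.snd h
  apply Subtype.ext
  funext j
  exact Fin.lastCases h1 (fun j => congrFun h2 j) j

section fin

variable [Fintype F]

theorem seqs_finite : ∀ J s, Finite (Seqs F J s)
  | 0, s => by
    unfold Seqs
    infer_instance
  | J + 1, s => by
    haveI : ∀ s', Finite (Seqs F J s') := seqs_finite J
    exact Finite.of_injective _ (seqsSplit_injective J s)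

instance (J s : ℕ) : Finite (Seqs F J s) := seqs_finite J s

theorem card_seqs_le : ∀ J s, Nat.card (Seqs F J s) ≤ aN (Fintype.card F - 1) J s
  | 0, s => by
    rw [aN_zero]
    split_ifs with h
    · haveI : Subsingleton (Seqs F 0 s) := by
        unfold Seqs
        infer_instance
      exact Finite.card_le_one_iff_subsingleton.2 inferInstance
    · haveI : IsEmpty (Seqs F 0 s) := by
        constructor
        intro c
        have := c.2.2
        simp at this
        omega
      simp
  | J + 1, s => by
    have hq : Fintype.card F - 1 + 1 = Fintype.card F := by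
      have := Fintype.card_pos (α := F)
      omega
    rw [aN_succ]
    refine le_trans (Nat.card_le_card_of_injective _ (seqsSplit_injective J s)) ?_
    rw [Nat.card_sigma, ← Fin.sum_univ_eq_sum_range (fun k => goodCount (Fintype.card F - 1 + 1) k
      * aN (Fintype.card F - 1) J (s - (J + 1) * k))]
    apply Finset.sum_le_sum
    intro k _
    rw [Nat.card_prod, card_good, hq]
    exact Nat.mul_le_mul_left _ (card_seqs_le J _)

theorem card_seqs_le_pow (n : ℕ) : Nat.card (Seqs F n n) ≤ Fintype.card F ^ n := by
  have hq : Fintype.card F - 1 + 1 = Fintype.card F := by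
    have := Fintype.card_pos (α := F)
    omega
  have := aN_le (Fintype.card F - 1) n
  rw [hq] at this
  exact le_trans (card_seqs_le n n) this

end fin

end Cfsg.Agent.Helper44.GLk
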