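/-
helper44: matching two families of prime powers with the same invariants, and the resulting
isomorphism of the direct sums of cyclic modules.
-/
import Mathlib

set_option autoImplicit false

namespace Cfsg.Agent.Helper44.GLk

open Polynomial

universe u v w

variable {F : Type u} [Field F] [DecidableEq F]

/-- the invariant: the product of the (normalised) primes occurring with exponent `j` -/
noncomputable def cseq {ι : Type v} [Fintype ι] (p : ι → F[X]) (e : ι → ℕ) (j : ℕ) : F[X] :=
  by classical exact ∏ i ∈ Finset.univ.filter (fun i => e i = j), normalize (p i)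

theorem cseq_def {ι : Type v} [Fintype ι] [DecidableEq ι] (p : ι → F[X]) (e : ι → ℕ) (j : ℕ) :
    cseq p e j = ∏ i ∈ Finset.univ.filter (fun i => e i = j), normalize (p i) := by
  unfold cseq
  congr 1

theorem card_fiber {ι : Type v} [Fintype ι] [DecidableEq ι] (p : ι → F[X]) (e : ι → ℕ)
    (hp : ∀ i, Irreducible (p i)) (j : ℕ) (r : F[X]) :
    Fintype.card {i // (e i, normalize (p i)) = (j, r)}
      = Multiset.count r (UniqueFactorizationMonoid.normalizedFactors (cseq p e j)) := by
  classical
  rw [cseq_def, Finset.prod_eq_multiset_prod, UniqueFactorizationMonoid.normalizedFactors_prod_eq,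
    Multiset.map_map, Multiset.count_map, Fintype.card_subtype, ← Finset.filter_val,
    ← Finset.card_def, Finset.filter_filter]
  · congr 1
    ext i
    simp only [Finset.mem_filter, Finset.mem_univ, true_and, Prod.mk.injEq, Function.comp_apply,
      normalize_idem]
    constructor
    · rintro ⟨h1, h2⟩
      exact ⟨h1, h2.symm⟩
    · rintro ⟨h1, h2⟩
      exact ⟨h1, h2.symm⟩
  · intro a ha
    obtain ⟨i, _, rfl⟩ := Multiset.mem_map.1 ha
    exact (normalize_associated (p i)).symm.irreducible (hp i)

/-- equal invariants give a matching of the index sets -/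
theorem exists_equiv_of_cseq_eq {ι : Type v} {ι' : Type w} [Fintype ι] [Fintype ι']
    (p : ι → F[X]) (e : ι → ℕ) (p' : ι' → F[X]) (e' : ι' → ℕ)
    (hp : ∀ i, Irreducible (p i)) (hp' : ∀ i, Irreducible (p' i))
    (h : ∀ j : ℕ, cseq p e j = cseq p' e' j) :
    ∃ σ : ι ≃ ι', ∀ i, e' (σ i) = e i ∧ normalize (p' (σ i)) = normalize (p i) := by
  classical
  have hcard : ∀ k : ℕ × F[X], Fintype.card {i // (e i, normalize (p i)) = k}
      = Fintype.card {i // (e' i, normalize (p' i)) = k} := by
    rintro ⟨j, r⟩
    rw [card_fiber p e hp, card_fiber p' e' hp', h]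
  refine ⟨Equiv.ofFiberEquiv (f := fun i => (e i, normalize (p i)))
    (g := fun i => (e' i, normalize (p' i))) (fun k => Fintype.equivOfCardEq (hcard k)), ?_⟩
  intro i
  have := Equiv.ofFiberEquiv_map (f := fun i => (e i, normalize (p i)))
    (g := fun i => (e' i, normalize (p' i))) (fun k => Fintype.equivOfCardEq (hcard k)) i
  exact ⟨congrArg Prod.fst this, congrArg Prod.snd this⟩

/-- the module isomorphism from a matching -/
theorem nonempty_pi_equiv {ι : Type v} {ι' : Type w} [Fintype ι] [Fintype ι']
    (p : ι → F[X]) (e : ι → ℕ) (p' : ι' → F[X]) (e' : ι' → ℕ)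
    (hp : ∀ i, Irreducible (p i)) (hp' : ∀ i, Irreducible (p' i))
    (h : ∀ j : ℕ, cseq p e j = cseq p' e' j) :
    Nonempty (((i : ι) → F[X] ⧸ Submodule.span F[X] {p i ^ e i})
      ≃ₗ[F[X]] ((i : ι') → F[X] ⧸ Submodule.span F[X] {p' i ^ e' i})) := by
  obtain ⟨σ, hσ⟩ := exists_equiv_of_cseq_eq p e p' e' hp hp' h
  have h1 : ∀ i, Submodule.span F[X] {p i ^ e i}
      = Submodule.span F[X] {p' (σ i) ^ e' (σ i)} := by
    intro i
    rw [(hσ i).1]
    have h2 : Associated (p i) (p' (σ i)) :=
      (normalize_eq_normalize_iff_associated.1 (hσ i).2).symm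
    exact Ideal.span_singleton_eq_span_singleton.2 (h2.pow_pow)
  exact ⟨(LinearEquiv.piCongrRight (fun i => Submodule.quotEquivOfEq _ _ (h1 i))).trans
    (LinearEquiv.piCongrLeft F[X] (fun i' => F[X] ⧸ Submodule.span F[X] {p' i' ^ e' i'}) σ)⟩

end Cfsg.Agent.Helper44.GLk
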