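/-
helper44: primary decomposition of the `F[X]`-module of an endomorphism, with non-zero exponents,
and the dimension formula.
-/
import Cfsg.Agent.Helper44.GLkMatch

set_option autoImplicit false

namespace Cfsg.Agent.Helper44.GLk

open Polynomial Module

universe u v w

/-- drop the trivial factors of a product -/
def piDrop {R : Type u} [Semiring R] {ι : Type v} (A : ι → Type w) [∀ i, AddCommMonoid (A i)]
    [∀ i, Module R (A i)] (P : ι → Prop) [DecidablePred P]
    (h : ∀ i, ¬ P i → Subsingleton (A i)) :
    ((i : ι) → A i) ≃ₗ[R] ((i : {i // P i}) → A i.1) where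
  toFun f i := f i.1
  invFun g i := if hi : P i then g ⟨i, hi⟩ else 0
  map_add' _ _ := rfl
  map_smul' _ _ := rfl
  left_inv f := by
    funext i
    by_cases hi : P i
    · simp [hi]
    · haveI := h i hi
      exact Subsingleton.elim _ _
  right_inv g := by
    funext ⟨i, hi⟩
    simp [hi]

variable {F : Type u} [Field F]

/-- primary decomposition with non-zero exponents -/
theorem exists_decomp {V : Type u} [AddCommGroup V] [Module F V] [Module.Finite F V]
    (φ : Module.End F V) :
    ∃ (ι : Type u) (_ : Fintype ι) (p : ι → F[X]) (e : ι → ℕ), (∀ i, Irreducible (p i)) ∧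
      (∀ i, e i ≠ 0) ∧
      Nonempty (AEval' φ ≃ₗ[F[X]] ((i : ι) → F[X] ⧸ Submodule.span F[X] {p i ^ e i})) := by
  classical
  obtain ⟨ι, hι, p, hp, e, ⟨E⟩⟩ := Module.equiv_directSum_of_isTorsion
    (Module.AEval.isTorsion_of_finiteDimensional F V φ)
  have hsub : ∀ i, ¬ (e i ≠ 0) → Subsingleton (F[X] ⧸ Submodule.span F[X] {p i ^ e i}) := by
    intro i hi
    rw [not_not] at hi
    rw [Submodule.Quotient.subsingleton_iff, hi, pow_zero]
    exact Ideal.span_singleton_one
  refine ⟨{i // e i ≠ 0}, inferInstance, fun i => p i.1, fun i => e i.1, fun i => hp i.1,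
    fun i => i.2, ⟨?_⟩⟩
  exact (E.trans (DirectSum.linearEquivFunOnFintype F[X] ι _)).trans
    (piDrop (fun i => F[X] ⧸ Submodule.span F[X] {p i ^ e i}) (fun i => e i ≠ 0) hsub)

/-- the dimension formula -/
theorem finrank_eq_sum {M : Type v} [AddCommGroup M] [Module F M] [Module F[X] M]
    [IsScalarTower F F[X] M] [Module.Finite F M]
    {ι : Type w} [Fintype ι] (p : ι → F[X]) (e : ι → ℕ)
    (E : M ≃ₗ[F[X]] ((i : ι) → F[X] ⧸ Submodule.span F[X] {p i ^ e i})) :
    Module.finrank F M = ∑ i, e i * (p i).natDegree := by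
  have hfin : Module.Finite F ((i : ι) → F[X] ⧸ Submodule.span F[X] {p i ^ e i}) :=
    Module.Finite.equiv (E.restrictScalars F)
  have hfin' : ∀ i, Module.Finite F (F[X] ⧸ Submodule.span F[X] {p i ^ e i}) := by
    intro i
    exact Module.Finite.of_surjective
      (LinearMap.proj (R := F) (φ := fun i => F[X] ⧸ Submodule.span F[X] {p i ^ e i}) i)
      (LinearMap.proj_surjective i)
  rw [LinearEquiv.finrank_eq (E.restrictScalars F), Module.finrank_pi_fintype]
  apply Finset.sum_congr rfl
  intro i _
  rw [← natDegree_pow]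
  exact finrank_quotient_span_eq_natDegree

end Cfsg.Agent.Helper44.GLk
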