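/-
helper44: the conjugacy classes of `GL_n(F)` are determined by the invariants of the primary
decomposition; the upper bound `k(GL_n(q)) ≤ q^n`.
-/
import Cfsg.Agent.Helper44.GLkDecomp
import Cfsg.Agent.Helper44.GLkCount
import Cfsg.Agent.Helper43.GLConj

set_option autoImplicit false

namespace Cfsg.Agent.Helper44.GLk

open Polynomial Module

universe u

variable {F : Type u} [Field F] [DecidableEq F]

/-- `c` is a sequence of invariants of `φ` -/
def IsInv {V : Type u} [AddCommGroup V] [Module F V] (φ : Module.End F V) (c : ℕ → F[X]) : Prop :=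
  ∃ (ι : Type u) (_ : Fintype ι) (p : ι → F[X]) (e : ι → ℕ), (∀ i, Irreducible (p i)) ∧
    Nonempty (AEval' φ ≃ₗ[F[X]] ((i : ι) → F[X] ⧸ Submodule.span F[X] {p i ^ e i})) ∧
    ∀ j, c j = cseq p e j

theorem nonempty_equiv_of_isInv {V W : Type u} [AddCommGroup V] [Module F V] [AddCommGroup W]
    [Module F W] (φ : Module.End F V) (ψ : Module.End F W) (c : ℕ → F[X]) (h1 : IsInv φ c)
    (h2 : IsInv ψ c) : Nonempty (AEval' φ ≃ₗ[F[X]] AEval' ψ) := by
  obtain ⟨ι, hι, p, e, hp, ⟨E⟩, hc⟩ := h1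
  obtain ⟨ι', hι', p', e', hp', ⟨E'⟩, hc'⟩ := h2
  obtain ⟨T⟩ := nonempty_pi_equiv p e p' e' hp hp' (fun j => by rw [← hc, ← hc'])
  exact ⟨(E.trans T).trans E'.symm⟩

omit [DecidableEq F] in
theorem not_X_dvd {V : Type u} [AddCommGroup V] [Module F V] (φ : Module.End F V)
    (hφ : Function.Surjective φ) {ι : Type u} [Fintype ι] (p : ι → F[X]) (e : ι → ℕ)
    (he : ∀ i, e i ≠ 0)
    (E : AEval' φ ≃ₗ[F[X]] ((i : ι) → F[X] ⧸ Submodule.span F[X] {p i ^ e i})) (i : ι) :
    ¬ X ∣ p i := by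
  intro hX
  obtain ⟨z, hz⟩ : ∃ z : (i : ι) → F[X] ⧸ Submodule.span F[X] {p i ^ e i},
    z = fun i => Submodule.Quotient.mk 1 := ⟨_, rfl⟩
  obtain ⟨v, hv⟩ := hφ ((AEval'.of φ).symm (E.symm z))
  have h1 : (X : F[X]) • (AEval'.of φ v) = E.symm z := by
    rw [AEval'.X_smul_of, hv, LinearEquiv.apply_symm_apply]
  have h2 : (X : F[X]) • E (AEval'.of φ v) = z := by
    rw [← map_smul, h1, E.apply_symm_apply]
  have h3 := congrFun h2 i
  obtain ⟨a, ha⟩ := Submodule.Quotient.mk_surjective _ (E (AEval'.of φ v) i)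
  rw [Pi.smul_apply, ← ha, ← Submodule.Quotient.mk_smul, hz, Submodule.Quotient.eq, smul_eq_mul,
    Submodule.mem_span_singleton] at h3
  obtain ⟨b, hb⟩ := h3
  have h4 : X ∣ p i ^ e i := dvd_pow hX (he i)
  have h5 : (X : F[X]) ∣ X * a - 1 := by
    rw [← hb]
    exact Dvd.dvd.mul_left h4 b
  have h6 : (X : F[X]) ∣ 1 := (dvd_sub_right (dvd_mul_right X a)).1 h5
  exact not_isUnit_X (isUnit_of_dvd_one h6)

theorem exists_isInv {V : Type u} [AddCommGroup V] [Module F V] [Module.Finite F V]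
    (φ : Module.End F V) (hφ : Function.Surjective φ) :
    ∃ c : ℕ → F[X], IsInv φ c ∧ (∀ j, (c j).Monic ∧ (c j).coeff 0 ≠ 0) ∧ c 0 = 1 ∧
      (∀ j, Module.finrank F V < j → c j = 1) ∧
      ∑ j ∈ Finset.range (Module.finrank F V + 1), j * (c j).natDegree = Module.finrank F V := by
  classical
  obtain ⟨ι, hι, p, e, hp, he, ⟨E⟩⟩ := exists_decomp φ
  haveI : Module.Finite F (AEval' φ) := Module.Finite.equiv (AEval'.of φ)
  have hn : Module.finrank F V = ∑ i, e i * (p i).natDegree := by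
    rw [LinearEquiv.finrank_eq (AEval'.of φ)]
    exact finrank_eq_sum p e E
  have hdeg : ∀ i, 1 ≤ (p i).natDegree := fun i => (hp i).natDegree_pos
  have hle : ∀ i, e i ≤ Module.finrank F V := by
    intro i
    rw [hn]
    refine le_trans ?_ (Finset.single_le_sum (f := fun i => e i * (p i).natDegree)
      (fun _ _ => Nat.zero_le _) (Finset.mem_univ i))
    exact Nat.le_mul_of_pos_right _ (hdeg i)
  have hp0 : ∀ i, p i ≠ 0 := fun i => (hp i).ne_zero
  refine ⟨cseq p e, ⟨ι, hι, p, e, hp, ⟨E⟩, fun _ => rfl⟩, ?_, ?_, ?_, ?_⟩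
  · intro j
    rw [cseq_def]
    refine ⟨monic_prod_of_monic _ _ (fun i _ => monic_normalize (hp0 i)), ?_⟩
    rw [coeff_zero_eq_eval_zero, eval_prod, Finset.prod_ne_zero_iff]
    intro i _
    rw [← coeff_zero_eq_eval_zero]
    intro h0
    have h1 : X ∣ normalize (p i) := X_dvd_iff.2 h0
    exact not_X_dvd φ hφ p e he E i ((normalize_associated (p i)).dvd_iff_dvd_right.1 h1)
  · rw [cseq_def]
    exact Finset.prod_eq_one (fun i hi => absurd (Finset.mem_filter.1 hi).2 (he i))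
  · intro j hj
    rw [cseq_def]
    refine Finset.prod_eq_one (fun i hi => ?_)
    have := (Finset.mem_filter.1 hi).2
    have := hle i
    omega
  · have h1 : ∀ j ∈ Finset.range (Module.finrank F V + 1), j * (cseq p e j).natDegree
        = ∑ i ∈ Finset.univ.filter (fun i => e i = j), e i * (p i).natDegree := by
      intro j _
      rw [cseq_def, natDegree_prod_of_monic _ _ (fun i _ => monic_normalize (hp0 i)),
        Finset.mul_sum]
      apply Finset.sum_congr rfl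
      intro i hi
      rw [(Finset.mem_filter.1 hi).2, natDegree_eq_of_degree_eq degree_normalize]
    rw [Finset.sum_congr rfl h1, Finset.sum_fiberwise_of_maps_to
      (fun i _ => Finset.mem_range.2 (Nat.lt_succ_of_le (hle i))), ← hn]

theorem toLin'_surjective {n : ℕ} (g : GL (Fin n) F) :
    Function.Surjective (Matrix.toLin' (g : Matrix (Fin n) (Fin n) F)) := by
  intro x
  refine ⟨Matrix.toLin' ((g⁻¹ : GL (Fin n) F) : Matrix (Fin n) (Fin n) F) x, ?_⟩
  rw [← Matrix.toLin'_mul_apply, ← Units.val_mul, mul_inv_cancel, Units.val_one,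
    Matrix.toLin'_one]
  rfl

theorem isConj_of_isInv {n : ℕ} (g g' : GL (Fin n) F) (c : ℕ → F[X])
    (h1 : IsInv (Matrix.toLin' (g : Matrix (Fin n) (Fin n) F)) c)
    (h2 : IsInv (Matrix.toLin' (g' : Matrix (Fin n) (Fin n) F)) c) : IsConj g g' := by
  obtain ⟨E⟩ := nonempty_equiv_of_isInv _ _ c h1 h2
  obtain ⟨φ, hφ⟩ : ∃ φ, φ = Matrix.toLin' (g : Matrix (Fin n) (Fin n) F) := ⟨_, rfl⟩
  obtain ⟨ψ, hψ⟩ : ∃ ψ, ψ = Matrix.toLin' (g' : Matrix (Fin n) (Fin n) F) := ⟨_, rfl⟩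
  rw [← hφ, ← hψ] at E
  have he : ∀ v, ((AEval'.of φ).trans ((E.restrictScalars F).trans (AEval'.of ψ).symm)) (φ v)
      = ψ (((AEval'.of φ).trans ((E.restrictScalars F).trans (AEval'.of ψ).symm)) v) := by
    intro v
    show (AEval'.of ψ).symm (E (AEval'.of φ (φ v))) = ψ ((AEval'.of ψ).symm (E (AEval'.of φ v)))
    rw [← AEval'.X_smul_of, map_smul, AEval'.of_symm_X_smul]
  apply Cfsg.Agent.Helper43.isConj_of_linearEquiv g g'
    ((AEval'.of φ).trans ((E.restrictScalars F).trans (AEval'.of ψ).symm))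
  intro v
  rw [map_sub, map_sub, Matrix.toLin'_one, LinearMap.sub_apply, LinearMap.sub_apply, map_sub,
    ← hφ, ← hψ, he]
  rfl

theorem exists_classInv {n : ℕ} (g : GL (Fin n) F) :
    ∃ c : Seqs F n n, ∃ c' : ℕ → F[X],
      IsInv (Matrix.toLin' (g : Matrix (Fin n) (Fin n) F)) c' ∧ c' 0 = 1 ∧
      (∀ j, n < j → c' j = 1) ∧ ∀ j : Fin n, c.1 j = c' (j.1 + 1) := by
  obtain ⟨c', h1, h2, h3, h4, h5⟩ := exists_isInv (Matrix.toLin' (g : Matrix (Fin n) (Fin n) F))
    (toLin'_surjective g)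
  rw [Module.finrank_fin_fun] at h4 h5
  refine ⟨⟨fun j => c' (j.1 + 1), fun j => h2 _, ?_⟩, c', h1, h3, h4, fun _ => rfl⟩
  rw [Finset.sum_range_succ', zero_mul, add_zero] at h5
  rw [Fin.sum_univ_eq_sum_range (fun j => (j + 1) * (c' (j + 1)).natDegree) n]
  exact h5

omit [DecidableEq F] in
theorem card_conjClasses_le [Fintype F] (n : ℕ) :
    Nat.card (ConjClasses (GL (Fin n) F)) ≤ Fintype.card F ^ n := by
  classical
  refine le_trans ?_ (card_seqs_le_pow n)
  have hex : ∀ C : ConjClasses (GL (Fin n) F), ∃ c : Seqs F n n, ∃ c' : ℕ → F[X],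
      IsInv (Matrix.toLin' ((Quotient.out C : GL (Fin n) F) : Matrix (Fin n) (Fin n) F)) c' ∧
      c' 0 = 1 ∧ (∀ j, n < j → c' j = 1) ∧ ∀ j : Fin n, c.1 j = c' (j.1 + 1) :=
    fun C => exists_classInv _
  choose f c' hc' using hex
  apply Nat.card_le_card_of_injective f
  intro C C' hCC'
  have h1 : c' C = c' C' := by
    funext j
    rcases Nat.eq_zero_or_pos j with rfl | hj
    · rw [(hc' C).2.1, (hc' C').2.1]
    · by_cases hjn : n < j
      · rw [(hc' C).2.2.1 j hjn, (hc' C').2.2.1 j hjn]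
      · have e1 := (hc' C).2.2.2 ⟨j - 1, by omega⟩
        have e2 := (hc' C').2.2.2 ⟨j - 1, by omega⟩
        have e3 : j - 1 + 1 = j := by omega
        simp only [e3] at e1 e2
        rw [← e1, ← e2, hCC']
  have h2 : IsConj (Quotient.out C) (Quotient.out C') := by
    apply isConj_of_isInv _ _ (c' C) (hc' C).1
    rw [h1]
    exact (hc' C').1
  rw [← Quotient.out_eq C, ← Quotient.out_eq C']
  exact ConjClasses.mk_eq_mk_iff_isConj.2 h2

end Cfsg.Agent.Helper44.GLk
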