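import Mathlib

/-!
# Linear algebra for the endgame of Gross' theorem (helper64's S3795, piece (END))

`sl2_endgame`: on a plane over `ZMod q` (`q + 1 = 2 ^ b`), an `s`-group `A` of linear automorphisms
(`s` odd, `s ≠ q`), all of whose scalar members have square `1`, normalised by an element `y` such
that `y ^ i` fixes a nonzero vector only for `2 ^ b ∣ i`, is trivial.
-/

set_option autoImplicit false
set_option linter.style.haveILetI false

namespace Cfsg.Agent.Helper44.Gross

open scoped LinearAlgebra.Projectivization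

section lin

variable {K V : Type*} [Field K] [AddCommGroup V] [Module K V]

theorem smul_mk_eq_iff (a : V ≃ₗ[K] V) (v : V) (hv : v ≠ 0) :
    a • Projectivization.mk K v hv = Projectivization.mk K v hv ↔ ∃ c : K, a v = c • v := by
  have hav : a v ≠ 0 := fun h => hv (a.map_eq_zero_iff.mp h)
  have h1 : a • Projectivization.mk K v hv = Projectivization.mk K (a v) hav := rfl
  rw [h1, Projectivization.mk_eq_mk_iff']
  constructor
  · rintro ⟨c, hc⟩
    exact ⟨c, hc.symm⟩
  · rintro ⟨c, hc⟩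
    exact ⟨c, hc.symm⟩

/-- a linear automorphism of a plane fixing three distinct points of the projective line is a
scalar -/
theorem scalar_of_three_fixed (hV : Module.finrank K V = 2) (a : V ≃ₗ[K] V)
    {x₁ x₂ x₃ : ℙ K V} (h12 : x₁ ≠ x₂) (h13 : x₁ ≠ x₃) (h23 : x₂ ≠ x₃)
    (h1 : a • x₁ = x₁) (h2 : a • x₂ = x₂) (h3 : a • x₃ = x₃) :
    ∃ α : K, ∀ v, a v = α • v := by
  induction x₁ using Projectivization.ind with
  | h v₁ hv₁ =>
  induction x₂ using Projectivization.ind with
  | h v₂ hv₂ =>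
  induction x₃ using Projectivization.ind with
  | h v₃ hv₃ =>
  obtain ⟨c₁, hc₁⟩ := (smul_mk_eq_iff a v₁ hv₁).mp h1
  obtain ⟨c₂, hc₂⟩ := (smul_mk_eq_iff a v₂ hv₂).mp h2
  obtain ⟨c₃, hc₃⟩ := (smul_mk_eq_iff a v₃ hv₃).mp h3
  have hne : ∀ {v w : V} (hv : v ≠ 0) (hw : w ≠ 0),
      Projectivization.mk K v hv ≠ Projectivization.mk K w hw → ∀ c : K, c • w ≠ v := by
    intro v w hv hw h c hc
    exact h ((Projectivization.mk_eq_mk_iff' K v w hv hw).mpr ⟨c, hc⟩)
  have hli : LinearIndependent K ![v₁, v₂] := by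
    rw [LinearIndependent.pair_iff]
    intro s t hst
    by_cases hs : s = 0
    · subst hs
      rw [zero_smul, zero_add] at hst
      exact ⟨rfl, (smul_eq_zero.mp hst).resolve_right hv₂⟩
    · exfalso
      apply hne hv₁ hv₂ h12 (-(s⁻¹ * t))
      have : s • v₁ = -(t • v₂) := eq_neg_of_add_eq_zero_left hst
      calc (-(s⁻¹ * t)) • v₂ = s⁻¹ • (-(t • v₂)) := by rw [neg_smul, mul_smul, smul_neg]
        _ = s⁻¹ • (s • v₁) := by rw [this]
        _ = v₁ := by rw [smul_smul, inv_mul_cancel₀ hs, one_smul]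
  haveI : FiniteDimensional K V := Module.finite_of_finrank_pos (by rw [hV]; norm_num)
  have hspan : Submodule.span K (Set.range ![v₁, v₂]) = ⊤ :=
    hli.span_eq_top_of_card_eq_finrank' (by rw [hV]; rfl)
  have hpair : ∀ v : V, ∃ s t : K, s • v₁ + t • v₂ = v := by
    intro v
    have hv : v ∈ Submodule.span K (Set.range ![v₁, v₂]) := by rw [hspan]; trivial
    rw [Matrix.range_cons, Matrix.range_cons, Matrix.range_empty, Set.union_empty,
      Set.singleton_union, Submodule.mem_span_pair] at hv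
    exact hv
  obtain ⟨s, t, hst⟩ := hpair v₃
  have hs : s ≠ 0 := by
    intro hs
    rw [hs, zero_smul, zero_add] at hst
    exact hne hv₃ hv₂ h23.symm t hst
  have ht : t ≠ 0 := by
    intro ht
    rw [ht, zero_smul, add_zero] at hst
    exact hne hv₃ hv₁ h13.symm s hst
  have key : (s * (c₁ - c₃)) • v₁ + (t * (c₂ - c₃)) • v₂ = 0 := by
    have h4 : a v₃ = s • a v₁ + t • a v₂ := by rw [← hst, map_add, map_smul, map_smul]
    rw [hc₃, hc₁, hc₂, ← hst] at h4
    have h5 : (s * (c₁ - c₃)) • v₁ + (t * (c₂ - c₃)) • v₂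
        = (s • c₁ • v₁ + t • c₂ • v₂) - c₃ • (s • v₁ + t • v₂) := by
      simp only [mul_sub, sub_smul, mul_smul, smul_add]
      rw [smul_comm c₃ s v₁, smul_comm c₃ t v₂]
      abel
    rw [h5, ← h4, sub_self]
  obtain ⟨e1, e2⟩ := LinearIndependent.pair_iff.mp hli _ _ key
  have hc13 : c₁ = c₃ := by
    have := (mul_eq_zero.mp e1).resolve_left hs
    exact sub_eq_zero.mp this
  have hc23 : c₂ = c₃ := by
    have := (mul_eq_zero.mp e2).resolve_left ht
    exact sub_eq_zero.mp this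
  refine ⟨c₃, fun v => ?_⟩
  obtain ⟨s', t', hv⟩ := hpair v
  rw [← hv, map_add, map_smul, map_smul, hc₁, hc₂, hc13, hc23, smul_add, smul_comm s' c₃,
    smul_comm t' c₃]

end lin

section endgame

variable {q : ℕ} [Fact q.Prime] {V : Type*} [AddCommGroup V] [Module (ZMod q) V]

theorem pow_apply_of_scalar (a : V ≃ₗ[ZMod q] V) (α : ZMod q) (hα : ∀ v, a v = α • v) (n : ℕ)
    (v : V) : (a ^ n) v = α ^ n • v := by
  induction n generalizing v with
  | zero => simp
  | succ n ih =>
    rw [pow_succ, LinearEquiv.mul_apply, hα, map_smul, ih, smul_smul, pow_succ, mul_comm]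

theorem pow_apply_of_scalar_at (a : V ≃ₗ[ZMod q] V) (c : ZMod q) (v : V) (hc : a v = c • v) (n : ℕ) :
    (a ^ n) v = c ^ n • v := by
  induction n with
  | zero => simp
  | succ n ih =>
    rw [pow_succ, LinearEquiv.mul_apply, hc, map_smul, ih, smul_smul, pow_succ, mul_comm]

theorem sl2_endgame {s b : ℕ} (hq2 : q ≠ 2) (hs : s.Prime) (hs2 : s ≠ 2) (hqs : q ≠ s)
    (hqb : q + 1 = 2 ^ b) (hV : Module.finrank (ZMod q) V = 2)
    (A : Subgroup (V ≃ₗ[ZMod q] V)) (hA : IsPGroup s A) (y : V ≃ₗ[ZMod q] V)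
    (hyA : ∀ a, a ∈ A ↔ y * a * y⁻¹ ∈ A)
    (H1 : ∀ a ∈ A, ∀ α : ZMod q, (∀ v, a v = α • v) → α ^ 2 = 1)
    (H2 : ∀ i : ℕ, (∃ v : V, v ≠ 0 ∧ (y ^ i) v = v) → 2 ^ b ∣ i) :
    ∀ a ∈ A, ∀ v, a v = v := by
  classical
  haveI : Fact s.Prime := ⟨hs⟩
  have hqp : q.Prime := Fact.out
  haveI : FiniteDimensional (ZMod q) V := Module.finite_of_finrank_pos (by rw [hV]; norm_num)
  haveI : Finite V := Module.finite_of_finite (ZMod q)
  have hcard : Nat.card (ℙ (ZMod q) V) = q + 1 := by
    rw [Projectivization.card_of_finrank_two _ _ hV, Nat.card_zmod]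
  haveI : Nontrivial V := Module.nontrivial_of_finrank_pos (R := ZMod q) (by rw [hV]; norm_num)
  obtain ⟨v₀, hv₀⟩ := exists_ne (0 : V)
  -- scalars in `A` are trivial
  have hscal : ∀ a ∈ A, (∃ α : ZMod q, ∀ v, a v = α • v) → ∀ v, a v = v := by
    rintro a ha ⟨α, hα⟩
    have h2 := H1 a ha α hα
    obtain ⟨k, hk⟩ := hA ⟨a, ha⟩
    have hak : a ^ (s ^ k) = 1 := by
      have := congrArg Subtype.val hk
      simpa using this
    have h3 : α ^ (s ^ k) = 1 := by
      have h4 := pow_apply_of_scalar a α hα (s ^ k) v₀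
      rw [hak] at h4
      have h4' : v₀ = α ^ (s ^ k) • v₀ := h4
      by_contra hne
      have h5 : (α ^ (s ^ k) - 1) • v₀ = 0 := by rw [sub_smul, one_smul, ← h4', sub_self]
      rcases smul_eq_zero.mp h5 with h6 | h6
      · exact hne (sub_eq_zero.mp h6)
      · exact hv₀ h6
    have hodd : Odd (s ^ k) := (hs.odd_of_ne_two hs2).pow
    obtain ⟨m, hm⟩ := hodd
    have h1 : α = 1 := by
      rw [hm, pow_succ, pow_mul, h2, one_pow, one_mul] at h3
      exact h3
    intro v
    rw [hα, h1, one_smul]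
  -- three fixed points: trivial
  have hthree : ∀ x₁ x₂ x₃ : ℙ (ZMod q) V, x₁ ≠ x₂ → x₁ ≠ x₃ → x₂ ≠ x₃ →
      (∀ a ∈ A, a • x₁ = x₁) → (∀ a ∈ A, a • x₂ = x₂) → (∀ a ∈ A, a • x₃ = x₃) →
      ∀ a ∈ A, ∀ v, a v = v := by
    intro x₁ x₂ x₃ h12 h13 h23 h1 h2 h3 a ha
    exact hscal a ha (scalar_of_three_fixed hV a h12 h13 h23 (h1 a ha) (h2 a ha) (h3 a ha))
  -- the fixed points of `A`
  have hmod := hA.card_modEq_card_fixedPoints (ℙ (ZMod q) V)
  rw [hcard] at hmod
  have hfixmem : ∀ x : ℙ (ZMod q) V, x ∈ MulAction.fixedPoints ↥A (ℙ (ZMod q) V) ↔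
      ∀ a ∈ A, a • x = x := by
    intro x
    rw [MulAction.mem_fixedPoints]
    constructor
    · intro h a ha
      exact h ⟨a, ha⟩
    · rintro h ⟨a, ha⟩
      exact h a ha
  have hs5 : q = 3 → 5 ≤ s := by
    intro hq3
    have h2 := hs.two_le
    by_contra hlt
    have : s = 2 ∨ s = 3 ∨ s = 4 := by omega
    rcases this with h | h | h
    · exact hs2 h
    · exact hqs (by omega)
    · rw [h] at hs
      norm_num at hs
  have hne : (MulAction.fixedPoints ↥A (ℙ (ZMod q) V)).Nonempty := by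
    by_contra hemp
    rw [Set.not_nonempty_iff_eq_empty] at hemp
    have hz : Nat.card (MulAction.fixedPoints ↥A (ℙ (ZMod q) V)) = 0 := by
      rw [hemp]
      simp
    rw [hz] at hmod
    have h1 : s ∣ q + 1 := (Nat.modEq_zero_iff_dvd).mp hmod
    rw [hqb] at h1
    have h2 : s ∣ 2 := hs.dvd_of_dvd_pow h1
    exact hs2 ((Nat.prime_dvd_prime_iff_eq hs Nat.prime_two).mp h2)
  obtain ⟨x, hx⟩ := hne
  rw [hfixmem] at hx
  -- `y` permutes the fixed points
  have hyfix : ∀ x : ℙ (ZMod q) V, (∀ a ∈ A, a • x = x) → ∀ a ∈ A, a • (y • x) = y • x := by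
    intro x hx a ha
    have h1 : y⁻¹ * a * y ∈ A := by
      rw [hyA]
      have : y * (y⁻¹ * a * y) * y⁻¹ = a := by group
      rw [this]
      exact ha
    have h2 := hx _ h1
    calc a • (y • x) = y • ((y⁻¹ * a * y) • x) := by
          rw [← mul_smul, ← mul_smul]
          congr 1
          group
      _ = y • x := by rw [h2]
  by_cases hy2 : y • (y • x) = x
  · -- `y ^ 2` fixes the point `x`
    induction x using Projectivization.ind with
    | h v hv =>
    have hyy : (y * y) • Projectivization.mk (ZMod q) v hv = Projectivization.mk (ZMod q) v hv := by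
      rw [mul_smul]
      exact hy2
    obtain ⟨c, hc⟩ := (smul_mk_eq_iff (y * y) v hv).mp hyy
    have hc0 : c ≠ 0 := by
      intro h0
      rw [h0, zero_smul] at hc
      exact hv ((y * y).map_eq_zero_iff.mp hc)
    have hcq : c ^ (q - 1) = 1 := ZMod.pow_card_sub_one_eq_one hc0
    have h1 := pow_apply_of_scalar_at (y * y) c v hc (q - 1)
    rw [hcq, one_smul, ← pow_two, ← pow_mul] at h1
    have h2 := H2 (2 * (q - 1)) ⟨v, hv, h1⟩
    have hq3 : q = 3 := by
      have hq2' := hqp.two_le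
      have h3 : 2 ^ b ∣ 4 := by
        have h4 : 2 * 2 ^ b = 2 * (q - 1) + 4 := by
          rw [← hqb]
          omega
        have h5 : 2 ^ b ∣ 2 * 2 ^ b := Dvd.intro_left 2 rfl
        rw [h4] at h5
        exact (Nat.dvd_add_right h2).mp h5
      have h6 : 2 ^ b ≤ 4 := Nat.le_of_dvd (by norm_num) h3
      omega
    have hs5' := hs5 hq3
    have hmod' : 4 ≡ Nat.card (MulAction.fixedPoints ↥A (ℙ (ZMod q) V)) [MOD s] := by
      have : q + 1 = 4 := by omega
      rw [this] at hmod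
      exact hmod
    have hle : Nat.card (MulAction.fixedPoints ↥A (ℙ (ZMod q) V)) ≤ 4 := by
      have := Nat.card_le_card_of_injective (fun z : MulAction.fixedPoints ↥A (ℙ (ZMod q) V) =>
        (z : ℙ (ZMod q) V)) Subtype.val_injective
      rw [hcard] at this
      omega
    have h4 : Nat.card (MulAction.fixedPoints ↥A (ℙ (ZMod q) V)) = 4 :=
      (Nat.ModEq.eq_of_lt_of_lt hmod' (by omega) (by omega)).symm
    haveI : Fintype (MulAction.fixedPoints ↥A (ℙ (ZMod q) V)) := Fintype.ofFinite _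
    have h5 : 2 < Fintype.card (MulAction.fixedPoints ↥A (ℙ (ZMod q) V)) := by
      rw [← Nat.card_eq_fintype_card, h4]
      norm_num
    obtain ⟨z₁, z₂, z₃, h12, h13, h23⟩ := Fintype.two_lt_card_iff.mp h5
    exact hthree z₁ z₂ z₃ (fun h => h12 (Subtype.ext h)) (fun h => h13 (Subtype.ext h))
      (fun h => h23 (Subtype.ext h)) ((hfixmem _).mp z₁.2) ((hfixmem _).mp z₂.2)
      ((hfixmem _).mp z₃.2)
  · -- three distinct fixed points
    have h12 : x ≠ y • x := by
      intro h
      apply hy2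
      rw [← h, ← h]
    have h23 : y • x ≠ y • (y • x) := by
      intro h
      exact h12 (smul_left_cancel y h)
    exact hthree x (y • x) (y • (y • x)) h12 (fun h => hy2 h.symm) h23 hx (hyfix x hx)
      (hyfix _ (hyfix x hx))

end endgame

end Cfsg.Agent.Helper44.Gross
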