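import Mathlib
import Cfsg.Agent.Helper44.GrossENDa

/-!
# The endgame of Gross' theorem for an abstract elementary abelian group of order `q ^ 2`
(helper64's S3795, piece (END)): `sl2_endgame` transported from `Additive E` to `E`.
-/

set_option autoImplicit false
set_option linter.style.haveILetI false

namespace Cfsg.Agent.Helper44.Gross

section abstractB

theorem elem_endgame_comm {E : Type*} [CommGroup E] [Finite E]
    {q s b : ℕ} [Fact q.Prime] (hq2 : q ≠ 2) (hs : s.Prime) (hs2 : s ≠ 2)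
    (hqs : q ≠ s) (hqb : q + 1 = 2 ^ b)
    (hexp : ∀ x : E, x ^ q = 1) (hcard : Nat.card E = q ^ 2)
    (𝒜 : Subgroup (MulAut E)) (h𝒜 : IsPGroup s 𝒜) (η : MulAut E)
    (hη : ∀ φ, φ ∈ 𝒜 ↔ η * φ * η⁻¹ ∈ 𝒜)
    (H1 : ∀ φ ∈ 𝒜, ∀ n : ℕ, (∀ x, φ x = x ^ n) → ((n : ZMod q)) ^ 2 = 1)
    (H2 : ∀ i : ℕ, (∃ x : E, x ≠ 1 ∧ (η ^ i) x = x) → 2 ^ b ∣ i) :
    ∀ φ ∈ 𝒜, ∀ x, φ x = x := by
  classical
  have hqp : q.Prime := Fact.out
  have hexpV : ∀ v : Additive E, q • v = 0 := fun v => by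
    show Additive.ofMul ((Additive.toMul v) ^ q) = 0
    rw [hexp]
    rfl
  haveI : Module (ZMod q) (Additive E) := AddCommGroup.zmodModule hexpV
  let Λ : MulAut E →* (Additive E ≃ₗ[ZMod q] Additive E) :=
    { toFun := fun φ => AddEquiv.toLinearEquiv (MulEquiv.toAdditive φ)
        (fun c x => ZMod.map_smul (MulEquiv.toAdditive φ) c x)
      map_one' := by
        refine LinearEquiv.ext fun v => ?_
        show (MulEquiv.toAdditive (1 : MulAut E)) v = v
        rfl
      map_mul' := by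
        intro φ ψ
        refine LinearEquiv.ext fun v => ?_
        show (MulEquiv.toAdditive (φ * ψ)) v
          = (MulEquiv.toAdditive φ) ((MulEquiv.toAdditive ψ) v)
        rfl }
  have hΛ : ∀ (φ : MulAut E) (x : E), Λ φ (Additive.ofMul x) = Additive.ofMul (φ x) :=
    fun φ x => rfl
  have hV : Module.finrank (ZMod q) (Additive E) = 2 := by
    haveI : Fintype (Additive E) := Fintype.ofFinite _
    have h1 := Module.card_eq_pow_finrank (K := ZMod q) (V := Additive E)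
    rw [ZMod.card, ← Nat.card_eq_fintype_card] at h1
    have h2 : Nat.card (Additive E) = Nat.card E := Nat.card_congr Additive.toMul
    rw [h2, hcard] at h1
    exact (Nat.pow_right_injective hqp.two_le h1).symm
  have key := sl2_endgame (q := q) (V := Additive E) hq2 hs hs2 hqs hqb hV (𝒜.map Λ)
    (h𝒜.map Λ) (Λ η) ?_ ?_ ?_
  · intro φ hφ x
    have := key (Λ φ) (Subgroup.mem_map_of_mem Λ hφ) (Additive.ofMul x)
    rw [hΛ] at this
    exact Additive.ofMul.injective this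
  · -- normalisation
    intro a
    constructor
    · rintro ⟨φ, hφ, rfl⟩
      refine ⟨η * φ * η⁻¹, (hη φ).mp hφ, ?_⟩
      rw [map_mul, map_mul, map_inv]
    · rintro ⟨ψ, hψ, hψa⟩
      refine ⟨η⁻¹ * ψ * η, ?_, ?_⟩
      · apply (hη _).mpr
        have : η * (η⁻¹ * ψ * η) * η⁻¹ = ψ := by group
        rw [this]
        exact hψ
      · rw [map_mul, map_mul, map_inv, hψa]
        group
  · -- scalars
    rintro a ⟨φ, hφ, rfl⟩ α hα
    have h1 : ∀ x : E, φ x = x ^ α.val := by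
      intro x
      have h2 := hα (Additive.ofMul x)
      rw [hΛ] at h2
      have h3 : α • Additive.ofMul x = Additive.ofMul (x ^ α.val) := by
        conv_lhs => rw [← ZMod.natCast_zmod_val α]
        rw [Nat.cast_smul_eq_nsmul]
        rfl
      rw [h3] at h2
      exact Additive.ofMul.injective h2
    have h4 := H1 φ hφ α.val h1
    rw [ZMod.natCast_zmod_val] at h4
    exact h4
  · -- freeness
    rintro i ⟨v, hv, hvi⟩
    apply H2 i
    refine ⟨Additive.toMul v, ?_, ?_⟩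
    · intro h
      apply hv
      have : v = Additive.ofMul (Additive.toMul v) := rfl
      rw [this, h]
      rfl
    · rw [← map_pow] at hvi
      have : v = Additive.ofMul (Additive.toMul v) := rfl
      rw [this, hΛ] at hvi
      exact Additive.ofMul.injective hvi

theorem elem_endgame {E : Type*} [Group E] [Finite E]
    {q s b : ℕ} [Fact q.Prime] (hq2 : q ≠ 2) (hs : s.Prime) (hs2 : s ≠ 2)
    (hqs : q ≠ s) (hqb : q + 1 = 2 ^ b)
    (hcomm : ∀ x y : E, x * y = y * x) (hexp : ∀ x : E, x ^ q = 1) (hcard : Nat.card E = q ^ 2)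
    (𝒜 : Subgroup (MulAut E)) (h𝒜 : IsPGroup s 𝒜) (η : MulAut E)
    (hη : ∀ φ, φ ∈ 𝒜 ↔ η * φ * η⁻¹ ∈ 𝒜)
    (H1 : ∀ φ ∈ 𝒜, ∀ n : ℕ, (∀ x, φ x = x ^ n) → ((n : ZMod q)) ^ 2 = 1)
    (H2 : ∀ i : ℕ, (∃ x : E, x ≠ 1 ∧ (η ^ i) x = x) → 2 ^ b ∣ i) :
    ∀ φ ∈ 𝒜, ∀ x, φ x = x :=
  @elem_endgame_comm E { (inferInstance : Group E) with mul_comm := hcomm } _ q s b _ hq2 hs hs2
    hqs hqb hexp hcard 𝒜 h𝒜 η hη H1 H2

end abstractB

end Cfsg.Agent.Helper44.Gross
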