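import Mathlib

/-!
# Plumbing for the endgame of Gross' theorem (helper64's S3795, piece (END)):
commutator calculus in a class two situation; conjugation acting on `P ⧸ T`.
-/

set_option autoImplicit false
set_option linter.style.haveILetI false

namespace Cfsg.Agent.Helper44.Gross

open Subgroup
open scoped commutatorElement

universe u

variable {Γ : Type u} [Group Γ]

theorem conj_commutator (g x y : Γ) : g * ⁅x, y⁆ * g⁻¹ = ⁅g * x * g⁻¹, g * y * g⁻¹⁆ := by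
  simp only [commutatorElement_def]
  group

section calc2

variable {P Z : Subgroup Γ}

theorem comm_mul_left (hZP : Z ≤ P) (hcomm : ∀ a ∈ P, ∀ b ∈ P, ⁅a, b⁆ ∈ Z)
    (hZc : ∀ z ∈ Z, ∀ a ∈ P, a * z = z * a) {a b c : Γ} (ha : a ∈ P) (hb : b ∈ P) (hc : c ∈ P) :
    ⁅a * b, c⁆ = ⁅a, c⁆ * ⁅b, c⁆ := by
  have h1 : ⁅a * b, c⁆ = a * ⁅b, c⁆ * a⁻¹ * ⁅a, c⁆ := by
    simp only [commutatorElement_def]
    group
  have h2 : a * ⁅b, c⁆ = ⁅b, c⁆ * a := hZc _ (hcomm b hb c hc) a ha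
  have h3 : ⁅a, c⁆ * ⁅b, c⁆ = ⁅b, c⁆ * ⁅a, c⁆ :=
    hZc _ (hcomm b hb c hc) _ (hZP (hcomm a ha c hc))
  rw [h1, h2, mul_assoc, mul_assoc, mul_inv_cancel_left, h3]

theorem comm_mul_right (_hZP : Z ≤ P) (hcomm : ∀ a ∈ P, ∀ b ∈ P, ⁅a, b⁆ ∈ Z)
    (hZc : ∀ z ∈ Z, ∀ a ∈ P, a * z = z * a) {a b c : Γ} (ha : a ∈ P) (hb : b ∈ P) (hc : c ∈ P) :
    ⁅a, b * c⁆ = ⁅a, b⁆ * ⁅a, c⁆ := by
  have h1 : ⁅a, b * c⁆ = ⁅a, b⁆ * (b * ⁅a, c⁆) * b⁻¹ := by
    simp only [commutatorElement_def]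
    group
  have h2 : b * ⁅a, c⁆ = ⁅a, c⁆ * b := hZc _ (hcomm a ha c hc) b hb
  rw [h1, h2, mul_assoc, mul_assoc, mul_inv_cancel, mul_one]

theorem comm_pow_left (hZP : Z ≤ P) (hcomm : ∀ a ∈ P, ∀ b ∈ P, ⁅a, b⁆ ∈ Z)
    (hZc : ∀ z ∈ Z, ∀ a ∈ P, a * z = z * a) {a c : Γ} (ha : a ∈ P) (hc : c ∈ P) (n : ℕ) :
    ⁅a ^ n, c⁆ = ⁅a, c⁆ ^ n := by
  induction n with
  | zero => simp
  | succ n ih =>
    rw [pow_succ, comm_mul_left hZP hcomm hZc (P.pow_mem ha n) ha hc, ih, pow_succ]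

theorem comm_pow_right (hZP : Z ≤ P) (hcomm : ∀ a ∈ P, ∀ b ∈ P, ⁅a, b⁆ ∈ Z)
    (hZc : ∀ z ∈ Z, ∀ a ∈ P, a * z = z * a) {a c : Γ} (ha : a ∈ P) (hc : c ∈ P) (n : ℕ) :
    ⁅a, c ^ n⁆ = ⁅a, c⁆ ^ n := by
  induction n with
  | zero => simp
  | succ n ih =>
    rw [pow_succ, comm_mul_right hZP hcomm hZc ha (P.pow_mem hc n) hc, ih, pow_succ]

/-- an element of `Z ∖ Z0` of order `q` with `c = c ^ m * z₀` forces `m ≡ 1 mod q` -/
theorem natCast_eq_one_of_pow {Z0 : Subgroup Γ} {q : ℕ} (hq : q.Prime) {c z₀ : Γ} (hc0 : c ∉ Z0)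
    (hcq : c ^ q = 1) (hz₀ : z₀ ∈ Z0) (hcz : c * z₀ = z₀ * c) {m : ℕ} (hm : c = c ^ m * z₀) :
    (m : ZMod q) = 1 := by
  by_contra hne
  apply hc0
  -- `c ^ (m - 1) ∈ Z0` as an integer power
  have h1 : c ^ ((m : ℤ) - 1) ∈ Z0 := by
    have h2 : c ^ ((m : ℤ) - 1) = z₀⁻¹ := by
      rw [zpow_sub, zpow_natCast, zpow_one]
      have h3 : c ^ m = c * z₀⁻¹ := by
        have : c * z₀⁻¹ = c ^ m * z₀ * z₀⁻¹ := by rw [← hm]
        rw [this, mul_assoc, mul_inv_cancel, mul_one]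
      rw [h3]
      have h4 : c * z₀⁻¹ = z₀⁻¹ * c := by
        have := congrArg (fun t => z₀⁻¹ * t * z₀⁻¹) hcz
        simp only [mul_assoc, mul_inv_cancel, mul_one, inv_mul_cancel_left] at this
        exact this.symm
      rw [h4, mul_assoc, mul_inv_cancel, mul_one]
    rw [h2]
    exact Z0.inv_mem hz₀
  have hcop : IsCoprime ((m : ℤ) - 1) (q : ℤ) := by
    rw [isCoprime_comm]
    apply (Nat.prime_iff_prime_int.mp hq).coprime_iff_not_dvd.mpr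
    intro hdvd
    apply hne
    have h5 : ((m : ℤ) : ZMod q) = ((1 : ℤ) : ZMod q) := by
      rw [ZMod.intCast_eq_intCast_iff_dvd_sub]
      have : (1 : ℤ) - (m : ℤ) = -((m : ℤ) - 1) := by ring
      rw [this]
      exact (dvd_neg).mpr hdvd
    simpa using h5
  obtain ⟨x, y, hxy⟩ := hcop
  have h6 : c = (c ^ ((m : ℤ) - 1)) ^ x * (c ^ (q : ℤ)) ^ y := by
    rw [← zpow_mul, ← zpow_mul, ← zpow_add, mul_comm ((m : ℤ) - 1) x, mul_comm (q : ℤ) y, hxy,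
      zpow_one]
  rw [h6, zpow_natCast, hcq, one_zpow, mul_one]
  exact Z0.zpow_mem h1 x

end calc2

section quot

/-- conjugation by an element of the normaliser, on `P` -/
def conjP (P : Subgroup Γ) (g : Γ) (hg : g ∈ normalizer (P : Set Γ)) : ↥P ≃* ↥P where
  toFun p := ⟨g * p * g⁻¹, (mem_normalizer_iff.mp hg p).mp p.2⟩
  invFun p := ⟨g⁻¹ * p * g, (mem_normalizer_iff''.mp hg p).mp p.2⟩
  left_inv p := by
    apply Subtype.ext
    show g⁻¹ * (g * p * g⁻¹) * g = p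
    group
  right_inv p := by
    apply Subtype.ext
    show g * (g⁻¹ * p * g) * g⁻¹ = p
    group
  map_mul' p p' := by
    apply Subtype.ext
    show g * (p * p') * g⁻¹ = (g * p * g⁻¹) * (g * p' * g⁻¹)
    group

theorem conjP_coe (P : Subgroup Γ) (g : Γ) (hg : g ∈ normalizer (P : Set Γ)) (p : ↥P) :
    ((conjP P g hg p : ↥P) : Γ) = g * p * g⁻¹ := rfl

theorem map_conjP (P T : Subgroup Γ) (g : Γ) (hgP : g ∈ normalizer (P : Set Γ))
    (hgT : g ∈ normalizer (T : Set Γ)) :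
    (T.subgroupOf P).map (conjP P g hgP : ↥P →* ↥P) = T.subgroupOf P := by
  ext p
  rw [Subgroup.mem_map]
  constructor
  · rintro ⟨t, ht, rfl⟩
    rw [mem_subgroupOf] at ht ⊢
    exact (mem_normalizer_iff.mp hgT t).mp ht
  · intro hp
    rw [mem_subgroupOf] at hp
    refine ⟨(conjP P g hgP).symm p, ?_, (conjP P g hgP).apply_symm_apply p⟩
    rw [mem_subgroupOf]
    exact (mem_normalizer_iff''.mp hgT p).mp hp

/-- the automorphism of `P ⧸ T` induced by conjugation -/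
noncomputable def indAut (P T : Subgroup Γ) [(T.subgroupOf P).Normal] (g : Γ)
    (hgP : g ∈ normalizer (P : Set Γ)) (hgT : g ∈ normalizer (T : Set Γ)) :
    MulAut (↥P ⧸ T.subgroupOf P) :=
  QuotientGroup.congr (T.subgroupOf P) (T.subgroupOf P) (conjP P g hgP) (map_conjP P T g hgP hgT)

theorem indAut_mk (P T : Subgroup Γ) [(T.subgroupOf P).Normal] (g : Γ)
    (hgP : g ∈ normalizer (P : Set Γ)) (hgT : g ∈ normalizer (T : Set Γ)) (p : ↥P) :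
    indAut P T g hgP hgT (p : ↥P ⧸ T.subgroupOf P) = ((conjP P g hgP p : ↥P) : ↥P ⧸ T.subgroupOf P) :=
  QuotientGroup.congr_mk _ _ _ _ p

/-- the homomorphism from the normaliser to the automorphism group of `P ⧸ T` -/
noncomputable def rhoHom (P T : Subgroup Γ) [(T.subgroupOf P).Normal] :
    ↥(normalizer (P : Set Γ) ⊓ normalizer (T : Set Γ)) →* MulAut (↥P ⧸ T.subgroupOf P) :=
  MonoidHom.mk' (fun n => indAut P T n.1 (Subgroup.mem_inf.mp n.2).1 (Subgroup.mem_inf.mp n.2).2)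
    (by
      intro n m
      apply MulEquiv.ext
      intro x
      induction x using QuotientGroup.induction_on with
      | H p =>
      rw [MulAut.mul_apply, indAut_mk, indAut_mk, indAut_mk]
      congr 1
      apply Subtype.ext
      rw [conjP_coe, conjP_coe, conjP_coe]
      show (n.1 * m.1) * p * (n.1 * m.1)⁻¹ = n.1 * (m.1 * p * m.1⁻¹) * n.1⁻¹
      group)

theorem rhoHom_mk (P T : Subgroup Γ) [(T.subgroupOf P).Normal]
    (n : ↥(normalizer (P : Set Γ) ⊓ normalizer (T : Set Γ))) (p : ↥P) :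
    rhoHom P T n (p : ↥P ⧸ T.subgroupOf P)
      = ((conjP P n.1 (Subgroup.mem_inf.mp n.2).1 p : ↥P) : ↥P ⧸ T.subgroupOf P) :=
  indAut_mk P T n.1 (Subgroup.mem_inf.mp n.2).1 (Subgroup.mem_inf.mp n.2).2 p

/-- `rhoHom n` fixes the class of `p` iff `p⁻¹ * (n p n⁻¹) ∈ T` -/
theorem rhoHom_fix_iff (P T : Subgroup Γ) [(T.subgroupOf P).Normal]
    (n : ↥(normalizer (P : Set Γ) ⊓ normalizer (T : Set Γ))) (p : ↥P) :
    rhoHom P T n (p : ↥P ⧸ T.subgroupOf P) = (p : ↥P ⧸ T.subgroupOf P) ↔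
      (p : Γ)⁻¹ * ((n : Γ) * p * (n : Γ)⁻¹) ∈ T := by
  rw [rhoHom_mk, eq_comm, QuotientGroup.eq, mem_subgroupOf]
  rfl

end quot

end Cfsg.Agent.Helper44.Gross
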