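import Mathlib
import Cfsg.Agent.Helper44.GrossENDb
import Cfsg.Agent.Helper44.GrossENDc
import Cfsg.Agent.S0022

/-!
# Piece (END) of helper64's S3795 (Gross): the endgame on the `q + 1` lines of `P / T`.
-/

set_option autoImplicit false
set_option linter.style.haveILetI false

namespace Cfsg.Agent.Helper44.Gross

open Subgroup
open scoped commutatorElement

universe u

/-- transfer of freeness from `P / Z` to `P / T` (coprime action, S0022) -/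
theorem free_transfer {Γ : Type u} [Group Γ] [Finite Γ] {q : ℕ} (hq : q.Prime) (hq2 : q ≠ 2)
    (P Z T : Subgroup Γ) (hP : IsPGroup q P) (hZT : Z ≤ T) (hTP : T ≤ P)
    (hTn : P ≤ normalizer (T : Set Γ)) (g : Γ) {k : ℕ} (hgk : g ^ (2 ^ k) = 1)
    (hgP : g ∈ normalizer (P : Set Γ)) (hgT : g ∈ normalizer (T : Set Γ))
    (hfree : ∀ a ∈ P, ⁅g, a⁆ ∈ Z → a ∈ Z) (p : Γ) (hp : p ∈ P)
    (hgp : p⁻¹ * (g * p * g⁻¹) ∈ T) : p ∈ T := by
  classical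
  haveI : Fact q.Prime := ⟨hq⟩
  have hcop : (Nat.card (zpowers g)).Coprime (Nat.card P) := by
    rw [Nat.card_zpowers]
    obtain ⟨j, -, hj⟩ := (Nat.dvd_prime_pow Nat.prime_two).mp (orderOf_dvd_of_pow_eq_one hgk)
    obtain ⟨m, hm⟩ := (IsPGroup.iff_card).mp hP
    rw [hj, hm]
    exact Nat.Coprime.pow _ _ ((Nat.coprime_primes Nat.prime_two hq).mpr (Ne.symm hq2))
  have hsolv : Group.IsSolvable (zpowers g) ∨ Group.IsSolvable P := Or.inl (by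
    apply Group.isSolvable_of_comm
    rintro ⟨a, ha⟩ ⟨b, hb⟩
    apply Subtype.ext
    obtain ⟨i, rfl⟩ := mem_zpowers_iff.mp ha
    obtain ⟨j, rfl⟩ := mem_zpowers_iff.mp hb
    show g ^ i * g ^ j = g ^ j * g ^ i
    rw [← zpow_add, ← zpow_add, add_comm])
  let K : Subgroup Γ :=
    { carrier := {a | a ∈ normalizer (T : Set Γ) ∧ a * p * a⁻¹ * p⁻¹ ∈ T}
      mul_mem' := by
        rintro a b ⟨haT, ha⟩ ⟨hbT, hb⟩
        refine ⟨(normalizer (T : Set Γ)).mul_mem haT hbT, ?_⟩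
        have h1 : a * b * p * (a * b)⁻¹ * p⁻¹ = a * (b * p * b⁻¹ * p⁻¹) * a⁻¹ * (a * p * a⁻¹ * p⁻¹) := by
          group
        rw [h1]
        exact T.mul_mem ((mem_normalizer_iff.mp haT _).mp hb) ha
      one_mem' := by
        refine ⟨(normalizer (T : Set Γ)).one_mem, ?_⟩
        simp
      inv_mem' := by
        rintro a ⟨haT, ha⟩
        refine ⟨(normalizer (T : Set Γ)).inv_mem haT, ?_⟩
        have h1 : a⁻¹ * p * a⁻¹⁻¹ * p⁻¹ = (a⁻¹ * (a * p * a⁻¹ * p⁻¹) * a)⁻¹ := by group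
        rw [h1]
        exact T.inv_mem ((mem_normalizer_iff''.mp haT _).mp ha) }
  have hgK : g ∈ K := by
    refine ⟨hgT, ?_⟩
    have h1 : g * p * g⁻¹ * p⁻¹ = p * (p⁻¹ * (g * p * g⁻¹)) * p⁻¹ := by group
    rw [h1]
    exact (mem_normalizer_iff.mp (hTn hp) _).mp hgp
  have hzK : zpowers g ≤ K := (zpowers_le).mpr hgK
  obtain ⟨c, hc, hpc⟩ := Cfsg.Agent.S0022.result (zpowers g) P ((zpowers_le).mpr hgP) hcop hsolv T
    hTP hTn ((zpowers_le).mpr hgT) p hp (fun a ha => (hzK ha).2)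
  obtain ⟨hcP, hcC⟩ := Subgroup.mem_inf.mp hc
  have hgc : g * c = c * g := mem_centralizer_iff.mp hcC g (mem_zpowers g)
  have h1 : ⁅g, c⁆ = 1 := by
    rw [commutatorElement_def, hgc]
    group
  have hcZ : c ∈ Z := hfree c hcP (by rw [h1]; exact Z.one_mem)
  have h2 : p = c * (p⁻¹ * c)⁻¹ := by group
  rw [h2]
  exact T.mul_mem (hZT hcZ) (T.inv_mem hpc)

/-- (END) the endgame on the `q + 1` lines of `P / T`. -/
theorem endgame {Γ : Type u} [Group Γ] [Finite Γ] (q s b : ℕ) (P Z Z0 T A : Subgroup Γ) (y : Γ)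
    (hq : q.Prime) (hs : s.Prime) (hq2 : q ≠ 2) (hs2 : s ≠ 2) (hqs : q ≠ s)
    (hP : IsPGroup q P) (hPexp : ∀ a ∈ P, a ^ q = 1)
    (hZP : Z ≤ P) (hcomm : ∀ a ∈ P, ∀ b ∈ P, ⁅a, b⁆ ∈ Z) (hZc : ∀ z ∈ Z, ∀ a ∈ P, a * z = z * a)
    (hZ0 : Z0 ≤ Z) (hidx : Z0.relIndex Z = q)
    (hT : ∀ a, a ∈ T ↔ a ∈ P ∧ ∀ b ∈ P, ⁅a, b⁆ ∈ Z0)
    (hTidx : T.relIndex P = q ^ 2) (hqb : q + 1 = 2 ^ b)
    (hyP : y ∈ normalizer (P : Set Γ)) (hyZ : y ∈ normalizer (Z : Set Γ))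
    (hyZ0 : y ∈ normalizer (Z0 : Set Γ)) (hytriv : ∀ z ∈ Z, ⁅y, z⁆ ∈ Z0)
    (hyord : orderOf y = 2 ^ b)
    (hfree : ∀ i : ℕ, y ^ i ≠ 1 → ∀ a ∈ P, ⁅y ^ i, a⁆ ∈ Z → a ∈ Z)
    (hA : IsPGroup s A) (hAP : A ≤ normalizer (P : Set Γ))
    (hAZ : ∀ a ∈ A, ∀ z ∈ Z, a * z = z * a) (hyA : y ∈ normalizer (A : Set Γ))
    (hAnt : ∃ a ∈ A, ∃ v ∈ P, ⁅a, v⁆ ∉ T) : False := by
  classical
  haveI : Fact q.Prime := ⟨hq⟩
  obtain ⟨a₀, ha₀, v₀, hv₀, hav₀⟩ := hAnt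
  have hTP : T ≤ P := fun a ha => ((hT a).mp ha).1
  have hZT : Z ≤ T := by
    intro z hz
    refine (hT z).mpr ⟨hZP hz, fun b hb => ?_⟩
    have h1 : ⁅z, b⁆ = 1 := by
      rw [commutatorElement_def, ← hZc z hz b hb]; group
    rw [h1]; exact Z0.one_mem
  -- commutators with `T` lie in `Z0`, on both sides
  have hTl : ∀ t ∈ T, ∀ x ∈ P, ⁅t, x⁆ ∈ Z0 := fun t ht x hx => ((hT t).mp ht).2 x hx
  have hTr : ∀ t ∈ T, ∀ x ∈ P, ⁅x, t⁆ ∈ Z0 := by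
    intro t ht x hx
    rw [← commutatorElement_inv]
    exact Z0.inv_mem (hTl t ht x hx)
  -- `T` is normalised by `P`
  have hTn : P ≤ normalizer (T : Set Γ) := by
    intro g hg
    apply mem_normalizer_fintype
    intro t ht
    have h1 : g * t * g⁻¹ = ⁅g, t⁆ * t := by
      rw [commutatorElement_def]; group
    rw [h1]
    exact T.mul_mem (hZT (hcomm g hg t (hTP ht))) ht
  haveI hTnorm : (T.subgroupOf P).Normal := by
    constructor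
    intro t ht g
    rw [mem_subgroupOf] at ht ⊢
    exact (mem_normalizer_iff.mp (hTn g.2) _).mp ht
  -- normalisers
  have hnT : ∀ g : Γ, g ∈ normalizer (P : Set Γ) → g ∈ normalizer (Z0 : Set Γ) →
      g ∈ normalizer (T : Set Γ) := by
    intro g hgP hgZ0
    apply mem_normalizer_fintype
    intro t ht
    have ht' : t ∈ T := ht
    show g * t * g⁻¹ ∈ T
    rw [hT]
    refine ⟨(mem_normalizer_iff.mp hgP t).mp (hTP ht'), fun x hx => ?_⟩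
    have hx' : g⁻¹ * x * g ∈ P := (mem_normalizer_iff''.mp hgP x).mp hx
    have h1 : ⁅g * t * g⁻¹, x⁆ = g * ⁅t, g⁻¹ * x * g⁆ * g⁻¹ := by
      rw [conj_commutator]
      congr 1
      group
    rw [h1]
    exact (mem_normalizer_iff.mp hgZ0 _).mp (hTl t ht' _ hx')
  have hAZ0 : ∀ a ∈ A, a ∈ normalizer (Z0 : Set Γ) := by
    intro a ha
    apply mem_normalizer_fintype
    intro z hz
    have hz' : z ∈ Z0 := hz
    have h1 : a * z * a⁻¹ = z := by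
      rw [hAZ a ha z (hZ0 hz')]; group
    show a * z * a⁻¹ ∈ Z0
    rw [h1]
    exact hz'
  have hAT : ∀ a ∈ A, a ∈ normalizer (T : Set Γ) := fun a ha => hnT a (hAP ha) (hAZ0 a ha)
  have hyT : y ∈ normalizer (T : Set Γ) := hnT y hyP hyZ0
  -- the quotient
  have hcommE : ∀ x z : ↥P ⧸ T.subgroupOf P, x * z = z * x := by
    intro x z
    induction x using QuotientGroup.induction_on with
    | H a =>
    induction z using QuotientGroup.induction_on with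
    | H c =>
    rw [← QuotientGroup.mk_mul, ← QuotientGroup.mk_mul, QuotientGroup.eq, mem_subgroupOf]
    have h1 : (((a * c)⁻¹ * (c * a) : ↥P) : Γ) = ⁅(c : Γ)⁻¹, (a : Γ)⁻¹⁆ := by
      rw [commutatorElement_def]
      push_cast
      group
    rw [h1]
    exact hZT (hcomm _ (P.inv_mem c.2) _ (P.inv_mem a.2))
  have hexpE : ∀ x : ↥P ⧸ T.subgroupOf P, x ^ q = 1 := by
    intro x
    induction x using QuotientGroup.induction_on with
    | H a =>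
    rw [← QuotientGroup.mk_pow]
    have : a ^ q = 1 := Subtype.ext (by rw [SubgroupClass.coe_pow]; exact hPexp a a.2)
    rw [this]
    rfl
  have hcardE : Nat.card (↥P ⧸ T.subgroupOf P) = q ^ 2 := by
    rw [← hTidx]
    rfl
  -- the homomorphism
  let N : Subgroup Γ := normalizer (P : Set Γ) ⊓ normalizer (T : Set Γ)
  have hAN : A ≤ N := fun a ha => Subgroup.mem_inf.mpr ⟨hAP ha, hAT a ha⟩
  have hyN : y ∈ N := Subgroup.mem_inf.mpr ⟨hyP, hyT⟩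
  let ρ := rhoHom P T
  let 𝒜 : Subgroup (MulAut (↥P ⧸ T.subgroupOf P)) := (A.subgroupOf N).map ρ
  have h𝒜 : IsPGroup s 𝒜 := (hA.comap_subtype).map ρ
  let η : MulAut (↥P ⧸ T.subgroupOf P) := ρ ⟨y, hyN⟩
  -- the element `u` outside `T`
  have hu₀P : ⁅a₀, v₀⁆ ∈ P := by
    rw [commutatorElement_def]
    exact P.mul_mem ((mem_normalizer_iff.mp (hAP ha₀) v₀).mp hv₀) (P.inv_mem hv₀)
  obtain ⟨w₀, hw₀P, hw₀⟩ : ∃ w ∈ P, ⁅⁅a₀, v₀⁆, w⁆ ∉ Z0 := by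
    by_contra hcon
    push Not at hcon
    exact hav₀ ((hT _).mpr ⟨hu₀P, hcon⟩)
  have key := elem_endgame (E := ↥P ⧸ T.subgroupOf P) (q := q) hq2 hs hs2 hqs hqb hcommE hexpE
    hcardE 𝒜 h𝒜 η ?_ ?_ ?_
  · -- conclusion
    have h1 := key (ρ ⟨a₀, hAN ha₀⟩)
      (Subgroup.mem_map_of_mem ρ (show (⟨a₀, hAN ha₀⟩ : ↥N) ∈ A.subgroupOf N from ha₀))
      ((⟨v₀, hv₀⟩ : ↥P) : ↥P ⧸ T.subgroupOf P)
    rw [rhoHom_fix_iff] at h1
    apply hav₀
    have h2 : ⁅a₀, v₀⁆ = v₀ * (v₀⁻¹ * (a₀ * v₀ * a₀⁻¹)) * v₀⁻¹ := by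
      rw [commutatorElement_def]; group
    rw [h2]
    exact (mem_normalizer_iff.mp (hTn hv₀) _).mp h1
  · -- `η` normalises `𝒜`
    intro φ
    constructor
    · rintro ⟨a, ha, rfl⟩
      have ha' : (a : Γ) ∈ A := ha
      refine ⟨⟨y, hyN⟩ * a * ⟨y, hyN⟩⁻¹, ?_, ?_⟩
      · show (y * (a : Γ) * y⁻¹) ∈ A
        exact (mem_normalizer_iff.mp hyA _).mp ha'
      · rw [map_mul, map_mul, map_inv]
    · rintro ⟨a, ha, haφ⟩
      have ha' : (a : Γ) ∈ A := ha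
      refine ⟨⟨y, hyN⟩⁻¹ * a * ⟨y, hyN⟩, ?_, ?_⟩
      · show (y⁻¹ * (a : Γ) * y) ∈ A
        exact (mem_normalizer_iff''.mp hyA _).mp ha'
      · have hη : ρ ⟨y, hyN⟩ = η := rfl
        rw [map_mul, map_mul, map_inv, haφ, hη]
        group
  · -- scalars have square one
    rintro φ ⟨a, ha, rfl⟩ n hn
    have ha' : (a : Γ) ∈ A := ha
    set u : Γ := ⁅a₀, v₀⁆ with hu
    -- the images of `u` and `w₀`
    have himg : ∀ x : Γ, ∀ hx : x ∈ P, (x ^ n)⁻¹ * ((a : Γ) * x * (a : Γ)⁻¹) ∈ T := by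
      intro x hx
      have h1 := hn ((⟨x, hx⟩ : ↥P) : ↥P ⧸ T.subgroupOf P)
      rw [rhoHom_mk, ← QuotientGroup.mk_pow, eq_comm, QuotientGroup.eq, mem_subgroupOf] at h1
      exact h1
    set t₁ : Γ := (u ^ n)⁻¹ * ((a : Γ) * u * (a : Γ)⁻¹) with ht₁
    set t₂ : Γ := (w₀ ^ n)⁻¹ * ((a : Γ) * w₀ * (a : Γ)⁻¹) with ht₂
    have ht₁T : t₁ ∈ T := himg u hu₀P
    have ht₂T : t₂ ∈ T := himg w₀ hw₀P
    have hau : (a : Γ) * u * (a : Γ)⁻¹ = u ^ n * t₁ := by rw [ht₁]; group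
    have haw : (a : Γ) * w₀ * (a : Γ)⁻¹ = w₀ ^ n * t₂ := by rw [ht₂]; group
    set c : Γ := ⁅u, w₀⁆ with hc
    have hcZ : c ∈ Z := hcomm u hu₀P w₀ hw₀P
    have hac : (a : Γ) * c * (a : Γ)⁻¹ = c := by
      rw [hAZ a ha' c hcZ]; group
    have hunP : u ^ n ∈ P := P.pow_mem hu₀P n
    have hwnP : w₀ ^ n ∈ P := P.pow_mem hw₀P n
    have h1 : c = c ^ (n * n) * (⁅u ^ n, t₂⁆ * ⁅t₁, w₀ ^ n * t₂⁆) := by
      conv_lhs => rw [← hac, hc, conj_commutator, hau, haw]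
      rw [comm_mul_left hZP hcomm hZc hunP (hTP ht₁T) (P.mul_mem hwnP (hTP ht₂T)),
        comm_mul_right hZP hcomm hZc hunP hwnP (hTP ht₂T),
        comm_pow_left hZP hcomm hZc hu₀P hwnP, comm_pow_right hZP hcomm hZc hu₀P hw₀P,
        ← pow_mul, mul_assoc]
    have hz₀ : ⁅u ^ n, t₂⁆ * ⁅t₁, w₀ ^ n * t₂⁆ ∈ Z0 :=
      Z0.mul_mem (hTr t₂ ht₂T _ hunP) (hTl t₁ ht₁T _ (P.mul_mem hwnP (hTP ht₂T)))
    have hcq : c ^ q = 1 := hPexp c (hZP hcZ)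
    have h2 := natCast_eq_one_of_pow hq hw₀ hcq hz₀
      (hZc _ (hZ0 hz₀) c (hZP hcZ)) h1
    rw [pow_two, ← Nat.cast_mul]
    exact h2
  · -- freeness
    rintro i ⟨x, hx1, hxi⟩
    induction x using QuotientGroup.induction_on with
    | H p =>
    have hpT : (p : Γ) ∉ T := by
      intro hp
      apply hx1
      rw [QuotientGroup.eq_one_iff, mem_subgroupOf]
      exact hp
    rw [← map_pow, rhoHom_fix_iff] at hxi
    have hxi' : (p : Γ)⁻¹ * (y ^ i * p * (y ^ i)⁻¹) ∈ T := hxi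
    rw [← hyord]
    apply orderOf_dvd_of_pow_eq_one
    by_contra hne
    apply hpT
    have hyiN : y ^ i ∈ N := N.pow_mem hyN i
    refine free_transfer hq hq2 P Z T hP hZT hTP hTn (y ^ i) (k := b) ?_
      (Subgroup.mem_inf.mp hyiN).1 (Subgroup.mem_inf.mp hyiN).2 (hfree i hne) p p.2 hxi'
    rw [← pow_mul, mul_comm, pow_mul, ← hyord, pow_orderOf_eq_one, one_pow]

end Cfsg.Agent.Helper44.Gross
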