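import Mathlib

/-!
# Counting subgroups of index two through a surjection onto a four-group
-/

set_option autoImplicit false

namespace Cfsg.Agent.Helper44

/-- a subgroup of index two contains the commutator subgroup -/
theorem commutator_le_of_index_eq_two {G : Type*} [Group G] (H : Subgroup G) (hH : H.index = 2) :
    commutator G ≤ H := by
  haveI : H.Normal := Subgroup.normal_of_index_eq_two hH
  have hcard : Nat.card (G ⧸ H) = 2 := hH
  haveI : Fact (Nat.Prime 2) := ⟨Nat.prime_two⟩
  haveI : IsCyclic (G ⧸ H) := isCyclic_of_prime_card hcard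
  letI : CommGroup (G ⧸ H) := IsCyclic.commGroup
  have h := Abelianization.commutator_subset_ker (QuotientGroup.mk' H)
  rwa [QuotientGroup.ker_mk'] at h

/-- In a group of order four and exponent two there are exactly three subgroups of index two. -/
theorem card_index_two_of_four {A : Type*} [Group A] (hA : Nat.card A = 4)
    (hexp : ∀ a : A, a * a = 1) : Nat.card {K : Subgroup A // K.index = 2} = 3 := by
  classical
  haveI : Finite A := Nat.finite_of_card_ne_zero (by rw [hA]; norm_num)
  haveI := Fintype.ofFinite A
  have horder : ∀ x : A, x ≠ 1 → orderOf x = 2 := by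
    intro x hx
    apply orderOf_eq_prime
    · rw [sq]; exact hexp x
    · exact hx
  have hcardz : ∀ x : A, x ≠ 1 → Nat.card (Subgroup.zpowers x) = 2 := by
    intro x hx
    rw [Nat.card_zpowers, horder x hx]
  have hidx : ∀ x : A, x ≠ 1 → (Subgroup.zpowers x).index = 2 := by
    intro x hx
    have h1 := (Subgroup.zpowers x).card_mul_index
    rw [hcardz x hx, hA] at h1
    omega
  have hmemz : ∀ x y : A, y ∈ Subgroup.zpowers x → y = 1 ∨ y = x := by
    intro x y hy
    obtain ⟨k, rfl⟩ := Subgroup.mem_zpowers_iff.1 hy
    rcases Int.even_or_odd k with ⟨j, rfl⟩ | ⟨j, rfl⟩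
    · left
      rw [← two_mul, zpow_mul, zpow_ofNat, sq, hexp, one_zpow]
    · right
      rw [zpow_add, zpow_one, zpow_mul, zpow_ofNat, sq, hexp, one_zpow, one_mul]
  let e : {x : A // x ≠ 1} → {K : Subgroup A // K.index = 2} :=
    fun x => ⟨Subgroup.zpowers x.1, hidx x.1 x.2⟩
  have hinj : Function.Injective e := by
    intro x y hxy
    have h1 : Subgroup.zpowers x.1 = Subgroup.zpowers y.1 := congrArg Subtype.val hxy
    have h2 : x.1 ∈ Subgroup.zpowers y.1 := by
      rw [← h1]
      exact Subgroup.mem_zpowers _
    rcases hmemz _ _ h2 with h | h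
    · exact absurd h x.2
    · exact Subtype.ext h
  have hsurj : Function.Surjective e := by
    intro ⟨K, hK⟩
    have hKcard : Nat.card K = 2 := by
      have h1 := K.card_mul_index
      rw [hK, hA] at h1
      omega
    have : ∃ x : K, x ≠ 1 := by
      by_contra hcon
      push Not at hcon
      have : Subsingleton K := ⟨fun a b => by rw [hcon a, hcon b]⟩
      have := Nat.card_unique (α := K)
      omega
    obtain ⟨x, hx⟩ := this
    have hx1 : (x : A) ≠ 1 := fun h => hx (Subtype.ext h)
    refine ⟨⟨x.1, hx1⟩, ?_⟩
    apply Subtype.ext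
    show Subgroup.zpowers x.1 = K
    apply Subgroup.eq_of_le_of_card_ge
    · rw [Subgroup.zpowers_le]
      exact x.2
    · rw [hcardz _ hx1, hKcard]
  rw [← Nat.card_congr (Equiv.ofBijective e ⟨hinj, hsurj⟩)]
  have h3 : Nat.card {x : A // x ≠ 1} = Nat.card A - 1 := by
    rw [Nat.card_eq_fintype_card, Nat.card_eq_fintype_card, Fintype.card_subtype_compl,
      Fintype.card_subtype_eq]
  rw [h3, hA]

/-- Subgroups of index two of `G` correspond to those of `A` under a surjection `G → A` whose
kernel is the commutator subgroup. -/
theorem card_index_two_eq_of_surjective {G A : Type*} [Group G] [Group A] (f : G →* A)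
    (hf : Function.Surjective f) (hker : f.ker = commutator G) :
    Nat.card {H : Subgroup G // H.index = 2} = Nat.card {K : Subgroup A // K.index = 2} := by
  symm
  let e : {K : Subgroup A // K.index = 2} → {H : Subgroup G // H.index = 2} :=
    fun K => ⟨K.1.comap f, by rw [Subgroup.index_comap_of_surjective _ hf]; exact K.2⟩
  have hinj : Function.Injective e := by
    intro K K' h
    have h1 : K.1.comap f = K'.1.comap f := congrArg Subtype.val h
    exact Subtype.ext (Subgroup.comap_injective hf h1)
  have hsurj : Function.Surjective e := by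
    intro ⟨H, hH⟩
    have hle : f.ker ≤ H := by
      rw [hker]
      exact commutator_le_of_index_eq_two H hH
    refine ⟨⟨H.map f, by rw [Subgroup.index_map_eq _ hf hle]; exact hH⟩, ?_⟩
    apply Subtype.ext
    exact Subgroup.comap_map_eq_self hle
  exact Nat.card_congr (Equiv.ofBijective e ⟨hinj, hsurj⟩)

end Cfsg.Agent.Helper44
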