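import Cfsg.Agent.Helper44.InndiagPlus

/-!
# The quotient `ker(dHom) / preimage of Inn` when `-1 ∈ Ω`  (general even-dimensional form)
-/

set_option autoImplicit false

namespace Cfsg.Agent.Helper44

open Matrix QuadraticMap Module

variable {F : Type*} [Field F]

section general

variable {ι : Type} [Fintype ι] [DecidableEq ι] (Q : QuadraticForm F (ι → F))
variable [Fintype F] (h2 : (2 : F) ≠ 0) (hQ : (QuadraticMap.polarBilin Q).Nondegenerate)
  (hn : 7 ≤ Fintype.card ι)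

include h2 hQ hn in
/-- if `-1 ∈ Ω` and `δ` is a similarity with `dHom δ = 1` and non-square multiplier, then
`ker(dHom)` modulo the preimage of `Inn(PΩ)` has order four; it is cyclic iff `δ²` does not
induce an inner automorphism -/
theorem exists_psi_of_mem {t : ι → F} (ht : Q t ≠ 0) (m : ℕ) (hm : Fintype.card ι = 2 * m)
    (hneg : negOne Q ∈ Cfsg.Omega F ⇑Q)
    (δ : ↥(Cfsg.Geo.quadSimilarityGroup (F := F) ⇑Q))
    (hδm : ¬ IsSquare ((multHom ⇑Q ht δ : Fˣ) : F)) (hδd : dHom Q ht m δ = 1) :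
    (conjAut ⇑Q (δ * δ) ∉ Cfsg.Inn (Cfsg.POmega F ⇑Q) →
      ∃ ψ : ↥((dHom Q ht m).ker) →* Multiplicative (ZMod 4), Function.Surjective ψ ∧
        ∀ g : ↥((dHom Q ht m).ker), ψ g = 1 ↔
          conjAut ⇑Q g.1 ∈ Cfsg.Inn (Cfsg.POmega F ⇑Q)) ∧
    (conjAut ⇑Q (δ * δ) ∈ Cfsg.Inn (Cfsg.POmega F ⇑Q) →
      ∃ ψ : ↥((dHom Q ht m).ker) →* Multiplicative (ZMod 2 × ZMod 2), Function.Surjective ψ ∧
        ∀ g : ↥((dHom Q ht m).ker), ψ g = 1 ↔
          conjAut ⇑Q g.1 ∈ Cfsg.Inn (Cfsg.POmega F ⇑Q)) := by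
  set ν : F := ((multHom ⇑Q ht δ : Fˣ) : F) with hνdef
  have hν : ¬ IsSquare ν := hδm
  set χ : ↥((dHom Q ht m).ker) →* ℤˣ :=
    (sqChar F).comp ((multHom ⇑Q ht).comp (Subgroup.subtype _)) with hχ
  set N : Subgroup ↥((dHom Q ht m).ker) :=
    ((piQ Q).comp (Subgroup.subtype ((dHom Q ht m).ker))).ker with hNdef
  have hN1 : ∀ g' : ↥((dHom Q ht m).ker), g' ∈ N ↔ piQ Q g'.1 = 1 := fun g' => by
    rw [hNdef, MonoidHom.mem_ker, MonoidHom.comp_apply]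
    rfl
  have hNmem : ∀ g : ↥((dHom Q ht m).ker),
      g ∈ N ↔ conjAut ⇑Q g.1 ∈ Cfsg.Inn (Cfsg.POmega F ⇑Q) := by
    intro g
    rw [hN1, piQ, piHom_eq_one_iff]
  have hg₁ : Q ((δ.1 : Matrix ι ι F) *ᵥ t) = ν * Q t := multFun_spec ⇑Q δ t
  have hν0 : ν ≠ 0 := by
    rintro h0
    exact hν ⟨0, by rw [h0, mul_zero]⟩
  have ht' : Q ((δ.1 : Matrix ι ι F) *ᵥ t) ≠ 0 := by
    rw [hg₁]
    exact mul_ne_zero hν0 ht
  have hdet : detHom ⇑Q (refl Q t ht * refl Q _ ht') = 1 := by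
    rw [map_mul, ← reflT_of_ne Q t ht, ← reflT_of_ne Q _ ht', detHom_reflT Q t ht,
      detHom_reflT Q _ ht']
    simp
  have hsign : signChar ⇑Q ν (refl Q t ht * refl Q _ ht') = -1 := by
    rw [map_mul, ← reflT_of_ne Q t ht, ← reflT_of_ne Q _ ht']
    by_cases hs : IsSquare (Q t)
    · rw [(signChar_reflT Q h2 hν t ht).1 hs, (signChar_reflT Q h2 hν _ ht').2 (by
        rw [hg₁, mul_comm, isSquare_mul_nonsquare_iff ht hν]; exact not_not.2 hs), one_mul]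
    · rw [(signChar_reflT Q h2 hν t ht).2 hs, (signChar_reflT Q h2 hν _ ht').1 (by
        rw [hg₁, mul_comm, isSquare_mul_nonsquare_iff ht hν]; exact hs), mul_one]
  generalize hρ : refl Q t ht * refl Q _ ht' = ρ at hdet hsign
  have hρm : multHom ⇑Q ht (toGO Q ρ) = 1 := multHom_of_isometry ⇑Q ht _ ρ.2
  have hρd : dHom Q ht m (toGO Q ρ) = 1 := by
    rw [dHom_apply, hρm, inv_one, one_pow, mul_one]
    exact hdet
  have hχy : χ ⟨toGO Q ρ, hρd⟩ = 1 := by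
    show sqChar F (multHom ⇑Q ht (toGO Q ρ)) = 1
    rw [hρm, map_one]
  have hχd : χ ⟨δ, hδd⟩ = -1 := by
    show sqChar F (multHom ⇑Q ht δ) = -1
    rcases Int.units_eq_one_or (sqChar F (multHom ⇑Q ht δ)) with h | h
    · rw [sqChar_eq_one_iff] at h
      exact absurd h hν
    · exact h
  have hNχ : N ≤ χ.ker := by
    intro g hg
    rw [hNmem] at hg
    have := goChar_eq_one_of_conjAut_mem_Inn Q h2 hQ hn ht m hm g.1 hg
    rw [goChar_eq_one_iff] at this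
    rw [MonoidHom.mem_ker]
    exact (sqChar_eq_one_iff _).2 this.1
  have hyN : (⟨toGO Q ρ, hρd⟩ : ↥((dHom Q ht m).ker)) ∉ N := by
    rw [hNmem]
    show ¬ conjAut ⇑Q (toGO Q ρ) ∈ _
    rw [conjAut_toGO_mem_Inn_iff Q hQ hn hneg, mem_Omega_iff_signChar Q h2 hQ hν _ hdet, hsign]
    decide
  have hker : ∀ g : ↥((dHom Q ht m).ker), χ g = 1 →
      g ∈ N ∨ g * (⟨toGO Q ρ, hρd⟩ : ↥((dHom Q ht m).ker))⁻¹ ∈ N := by
    intro g hg
    have h1 : goChar Q h2 hQ ht m hm g.1 = 1 := by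
      rw [goChar_eq_one_iff]
      exact ⟨(sqChar_eq_one_iff _).1 hg, MonoidHom.mem_ker.1 g.2⟩
    rw [goChar_eq_one_iff_exists] at h1
    obtain ⟨r, hr, k, e⟩ := h1
    rw [Subgroup.mem_subgroupOf] at hr
    have hpi : piQ Q g.1 = piQ Q (toGO Q ⟨r.1, hr.1⟩) := by
      have e2 : toGO Q ⟨r.1, hr.1⟩ = r := Subtype.ext rfl
      rw [e2, e, map_mul, piQ_scalarGO, mul_one]
    rcases piQ_toGO_of_det_one Q h2 hQ hn hneg hν ⟨r.1, hr.1⟩ ρ hr.2 hdet hsign with h | h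
    · left
      rw [hN1, hpi, h]
    · right
      rw [hN1]
      show piQ Q (g.1 * (toGO Q ρ)⁻¹) = 1
      rw [map_mul, map_inv, hpi, h, mul_inv_cancel]
  have hdd : (⟨δ, hδd⟩ : ↥((dHom Q ht m).ker)) * ⟨δ, hδd⟩ ∈ N ↔
      conjAut ⇑Q (δ * δ) ∈ Cfsg.Inn (Cfsg.POmega F ⇑Q) := by
    rw [hNmem]
    rfl
  constructor
  · intro hd2
    obtain ⟨e⟩ := QuotFour.nonempty_equiv_zmod_four N χ hNχ _ _ hχy hyN hχd hker
      (fun h => hd2 (hdd.1 h))
    refine ⟨e.toMonoidHom.comp (QuotientGroup.mk' N),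
      e.surjective.comp (QuotientGroup.mk'_surjective N), fun g => ?_⟩
    rw [MonoidHom.comp_apply]
    show e (QuotientGroup.mk' N g) = 1 ↔ _
    rw [MulEquiv.map_eq_one_iff, QuotientGroup.mk'_apply, QuotientGroup.eq_one_iff]
    exact hNmem g
  · intro hd2
    obtain ⟨e⟩ := QuotFour.nonempty_equiv_klein N χ hNχ _ _ hχy hyN hχd hker (hdd.2 hd2)
    refine ⟨e.toMonoidHom.comp (QuotientGroup.mk' N),
      e.surjective.comp (QuotientGroup.mk'_surjective N), fun g => ?_⟩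
    rw [MonoidHom.comp_apply]
    show e (QuotientGroup.mk' N g) = 1 ↔ _
    rw [MulEquiv.map_eq_one_iff, QuotientGroup.mk'_apply, QuotientGroup.eq_one_iff]
    exact hNmem g

end general

end Cfsg.Agent.Helper44
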