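/-
helper44: a Frobenius-semilinear injective endomorphism of a non-zero finite-dimensional vector space over an
algebraically closed field of characteristic p has a non-zero fixed vector.
-/
import Mathlib

set_option autoImplicit false

namespace Cfsg.Agent.Helper44

open Polynomial

section poly

variable {K : Type*} [Field K]

/-- The polynomials `T 0 = a 0 X^q`, `T (i+1) = (T i)^q + a (i+1) X^q`. -/
noncomputable def langPoly (q : ℕ) (a : ℕ → K) : ℕ → K[X]
  | 0 => C (a 0) * X ^ q
  | (i + 1) => (langPoly q a i) ^ q + C (a (i + 1)) * X ^ q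

theorem langPoly_natDegree (q : ℕ) (hq : 2 ≤ q) (a : ℕ → K) (ha : a 0 ≠ 0) (i : ℕ) :
    (langPoly q a i).natDegree = q ^ (i + 1) := by
  induction i with
  | zero => simp [langPoly, natDegree_C_mul_X_pow q (a 0) ha]
  | succ i ih =>
    have h1 : ((langPoly q a i) ^ q).natDegree = q ^ (i + 2) := by
      rw [natDegree_pow, ih]; ring
    have h2 : (C (a (i + 1)) * X ^ q : K[X]).natDegree ≤ q := natDegree_C_mul_X_pow_le _ _
    have h3 : q < q ^ (i + 2) := by
      calc q = q ^ 1 := (pow_one q).symm
        _ < q ^ (i + 2) := Nat.pow_lt_pow_right (by omega) (by omega)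
    rw [langPoly, natDegree_add_eq_left_of_natDegree_lt (by omega), h1]

theorem X_sq_dvd_langPoly (q : ℕ) (hq : 2 ≤ q) (a : ℕ → K) (i : ℕ) : (X : K[X]) ^ 2 ∣ langPoly q a i := by
  have hX : (X : K[X]) ^ 2 ∣ X ^ q := pow_dvd_pow X hq
  induction i with
  | zero => exact Dvd.dvd.mul_left hX _
  | succ i ih =>
    rw [langPoly]
    refine dvd_add ?_ (Dvd.dvd.mul_left hX _)
    have : (langPoly q a i) ^ q = (langPoly q a i) ^ (q - 1) * langPoly q a i := by
      rw [← pow_succ]; congr 1; omega
    rw [this]
    exact Dvd.dvd.mul_left ih _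

/-- There is a non-zero `s` with `T m (s) = s`. -/
theorem exists_langPoly_fixed [IsAlgClosed K] (q : ℕ) (hq : 2 ≤ q) (a : ℕ → K) (ha : a 0 ≠ 0) (m : ℕ) :
    ∃ s : K, s ≠ 0 ∧ (langPoly q a m).eval s = s := by
  obtain ⟨S, hS⟩ := X_sq_dvd_langPoly q hq a m
  have hT0 : langPoly q a m ≠ 0 := by
    intro h
    have := langPoly_natDegree q hq a ha m
    rw [h, natDegree_zero] at this
    have : 0 < q ^ (m + 1) := by positivity
    omega
  have hS0 : S ≠ 0 := by
    rintro rfl
    apply hT0
    rw [hS, mul_zero]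
  have hdeg : (X * S - 1 : K[X]).degree ≠ 0 := by
    have h1 : (X * S : K[X]).natDegree = S.natDegree + 1 := natDegree_X_mul hS0
    have h3 : (X * S - 1 : K[X]).natDegree = (X * S : K[X]).natDegree := by
      apply natDegree_sub_eq_left_of_natDegree_lt
      rw [natDegree_one, h1]; omega
    intro h0
    have h5 : (X * S - 1 : K[X]).natDegree = 0 := natDegree_eq_zero_iff_degree_le_zero.2 (le_of_eq h0)
    rw [h3, h1] at h5
    omega
  obtain ⟨s, hs⟩ := IsAlgClosed.exists_root _ hdeg
  rw [IsRoot.def, eval_sub, eval_mul, eval_X, eval_one] at hs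
  refine ⟨s, ?_, ?_⟩
  · rintro rfl
    rw [zero_mul, zero_sub] at hs
    exact one_ne_zero (neg_eq_zero.1 hs)
  · rw [hS, eval_mul, eval_pow, eval_X]
    have : s * eval s S = 1 := by linear_combination hs
    calc s ^ 2 * eval s S = s * (s * eval s S) := by ring
      _ = s := by rw [this, mul_one]

end poly

section fixed

variable {K : Type*} [Field K] [IsAlgClosed K] (p : ℕ) [Fact p.Prime] [CharP K p] (f : ℕ)
variable {V : Type*} [AddCommGroup V] [Module K V] [FiniteDimensional K V]

/-- A Frobenius-semilinear injective endomorphism of a non-zero finite-dimensional space has a non-zero fixed vector. -/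
theorem exists_fixed_vector (hf : 1 ≤ f) [Nontrivial V] (φ : V →ₛₗ[iterateFrobenius K p f] V)
    (hinj : Function.Injective φ) : ∃ v : V, v ≠ 0 ∧ φ v = v := by
  classical
  set q := p ^ f with hq
  have hp2 : 2 ≤ p := (Fact.out : p.Prime).two_le
  have hq2 : 2 ≤ q := by
    calc 2 ≤ p := hp2
      _ = p ^ 1 := (pow_one p).symm
      _ ≤ p ^ f := Nat.pow_le_pow_right (by omega) hf
  have hσ : ∀ c : K, iterateFrobenius K p f c = c ^ q := fun c => iterateFrobenius_def p f c
  have hsurj : Function.Surjective (iterateFrobenius K p f) := (bijective_iterateFrobenius K p f).2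
  have hφs : ∀ (c : K) (x : V), φ (c • x) = c ^ q • φ x := by
    intro c x
    rw [map_smulₛₗ, hσ]
  obtain ⟨w0, hw0⟩ := exists_ne (0 : V)
  let w : ℕ → V := fun i => φ^[i] w0
  have hw_succ : ∀ i, w (i + 1) = φ (w i) := fun i => Function.iterate_succ_apply' φ i w0
  -- there is m with w 0 .. w m dependent
  have hex : ∃ m, ¬ LinearIndependent K (fun i : Fin (m + 1) => w i) := by
    refine ⟨Module.finrank K V, fun h => ?_⟩
    have := h.fintype_card_le_finrank
    rw [Fintype.card_fin] at this
    omega
  let m := Nat.find hex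
  have hm : ¬ LinearIndependent K (fun i : Fin (m + 1) => w i) := Nat.find_spec hex
  have hmin : ∀ j < m, LinearIndependent K (fun i : Fin (j + 1) => w i) := by
    intro j hj
    by_contra h
    exact Nat.find_min hex hj h
  have hm0 : m ≠ 0 := by
    intro h0
    rw [h0] at hm
    apply hm
    have : (fun i : Fin (0 + 1) => w i) = fun _ => w0 := by
      funext i
      have : (i : ℕ) = 0 := by omega
      simp [w]
    rw [this]
    have : Subsingleton (Fin (0 + 1)) := (inferInstance : Subsingleton (Fin 1))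
    exact LinearIndependent.of_subsingleton (0 : Fin (0 + 1)) hw0
  obtain ⟨m', hm'⟩ : ∃ m', m = m' + 1 := ⟨m - 1, by omega⟩
  have hLI : LinearIndependent K (fun i : Fin (m' + 1) => w i) := hmin m' (by omega)
  rw [hm'] at hm
  have hsnoc : (fun i : Fin (m' + 1 + 1) => w i) = Fin.snoc (fun i : Fin (m' + 1) => w i) (w (m' + 1)) := by
    funext i
    refine Fin.lastCases ?_ (fun j => ?_) i
    · simp
    · simp
  rw [hsnoc, linearIndependent_finSnoc] at hm
  have hmem : w (m' + 1) ∈ Submodule.span K (Set.range (fun i : Fin (m' + 1) => w i)) := by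
    by_contra h
    exact hm ⟨hLI, h⟩
  obtain ⟨a', ha'⟩ := (Submodule.mem_span_range_iff_exists_fun K).1 hmem
  -- extend a' to ℕ
  let a : ℕ → K := fun i => if h : i < m' + 1 then a' ⟨i, h⟩ else 0
  have haa : ∀ i : Fin (m' + 1), a i = a' i := by
    intro i
    show (if h : (i : ℕ) < m' + 1 then a' ⟨i, h⟩ else 0) = a' i
    rw [dif_pos i.2]
  have hrel : ∑ i : Fin (m' + 1), a i • w i = w (m' + 1) := by
    rw [← ha']
    exact Finset.sum_congr rfl fun i _ => by rw [haa]
  -- a 0 ≠ 0
  have ha0 : a 0 ≠ 0 := by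
    intro h0
    rw [Fin.sum_univ_succ] at hrel
    simp only [Fin.val_zero, h0, zero_smul, zero_add, Fin.val_succ] at hrel
    -- choose q-th roots
    choose b hb using fun i : Fin m' => hsurj (a (i + 1))
    have h1 : φ (∑ i : Fin m', b i • w i) = φ (w m') := by
      rw [map_sum, ← hw_succ, ← hrel]
      refine Finset.sum_congr rfl fun i _ => ?_
      rw [map_smulₛₗ, hb, hw_succ]
    have h2 := hinj h1
    -- contradiction with independence
    have hLI' := hLI
    have hsnoc' : (fun i : Fin (m' + 1) => w i) = Fin.snoc (fun i : Fin m' => w i) (w m') := by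
      funext i
      refine Fin.lastCases ?_ (fun j => ?_) i
      · simp
      · simp
    rw [hsnoc', linearIndependent_finSnoc] at hLI'
    apply hLI'.2
    rw [← h2]
    exact Submodule.sum_mem _ fun i _ => Submodule.smul_mem _ _ (Submodule.subset_span ⟨i, rfl⟩)
  obtain ⟨s, hs0, hs⟩ := exists_langPoly_fixed q hq2 a ha0 m'
  let t : ℕ → K := fun i => (langPoly q a i).eval s
  have ht0 : t 0 = a 0 * s ^ q := by simp [t, langPoly]
  have htsucc : ∀ i, t (i + 1) = t i ^ q + a (i + 1) * s ^ q := by
    intro i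
    simp [t, langPoly]
  have htm : t m' = s := hs
  refine ⟨∑ i : Fin (m' + 1), t i • w i, ?_, ?_⟩
  · intro h
    have := Fintype.linearIndependent_iff.1 hLI (fun i => t i) h 0
    simp only [Fin.val_zero] at this
    rw [ht0] at this
    exact (mul_ne_zero ha0 (pow_ne_zero _ hs0)) this
  · rw [map_sum]
    have e1 : ∀ i : Fin (m' + 1), φ (t i • w i) = t i ^ q • w (i + 1) := by
      intro i
      rw [hφs, hw_succ]
    simp only [e1]
    rw [Fin.sum_univ_castSucc]
    simp only [Fin.val_castSucc, Fin.val_last]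
    rw [htm, ← hrel, Finset.smul_sum]
    rw [Fin.sum_univ_succ (fun i : Fin (m' + 1) => s ^ q • a i • w i)]
    rw [Fin.sum_univ_succ (fun i : Fin (m' + 1) => t i • w i)]
    simp only [Fin.val_zero, Fin.val_succ]
    rw [ht0]
    have e2 : ∀ i : Fin m', t (i + 1) • w (i + 1) = t i ^ q • w (i + 1) + s ^ q • a (i + 1) • w (i + 1) := by
      intro i
      rw [htsucc, add_smul, smul_smul, mul_comm]
    simp only [e2, Finset.sum_add_distrib]
    rw [smul_smul, mul_comm (s ^ q)]
    abel

end fixed

end Cfsg.Agent.Helper44
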