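/-
helper44: a Frobenius-semilinear injective endomorphism of a finite-dimensional vector space over an
algebraically closed field has a basis of fixed vectors (Lang's theorem for GL_n, linear-algebra form).
-/
import Mathlib
import Cfsg.Agent.Helper44.LangFixed

set_option autoImplicit false

namespace Cfsg.Agent.Helper44

open Polynomial

section

variable {K : Type*} [Field K] [IsAlgClosed K] (p : ℕ) [Fact p.Prime] [CharP K p] (f : ℕ)
variable {V : Type*} [AddCommGroup V] [Module K V] [FiniteDimensional K V]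

/-- Artin–Schreier: `c^q - c + d = 0` is solvable. -/
theorem exists_artin_schreier (q : ℕ) (hq : 2 ≤ q) (d : K) : ∃ c : K, c ^ q + d = c := by
  have hdeg : (X ^ q - X + C d : K[X]).degree ≠ 0 := by
    have h1 : (X ^ q - X : K[X]).natDegree = q := by
      rw [natDegree_sub_eq_left_of_natDegree_lt] <;> rw [natDegree_X_pow]
      rw [natDegree_X]; omega
    have h2 : (X ^ q - X + C d : K[X]).natDegree = q := by
      rw [natDegree_add_eq_left_of_natDegree_lt, h1]
      rw [natDegree_C, h1]; omega
    intro h0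
    have h5 : (X ^ q - X + C d : K[X]).natDegree = 0 := natDegree_eq_zero_iff_degree_le_zero.2 (le_of_eq h0)
    omega
  obtain ⟨c, hc⟩ := IsAlgClosed.exists_root _ hdeg
  rw [IsRoot.def, eval_add, eval_sub, eval_pow, eval_X, eval_C] at hc
  exact ⟨c, by linear_combination hc⟩

/-- Extension step: a new fixed vector outside the span of given fixed vectors. -/
theorem exists_fixed_not_mem_span (hf : 1 ≤ f) (φ : V →ₛₗ[iterateFrobenius K p f] V)
    (hinj : Function.Injective φ) {k : ℕ} (v : Fin k → V) (hv : ∀ j, φ (v j) = v j)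
    (hU : Submodule.span K (Set.range v) ≠ ⊤) :
    ∃ x : V, φ x = x ∧ x ∉ Submodule.span K (Set.range v) := by
  classical
  set q := p ^ f with hq
  have hp2 : 2 ≤ p := (Fact.out : p.Prime).two_le
  have hq2 : 2 ≤ q := by
    calc 2 ≤ p := hp2
      _ = p ^ 1 := (pow_one p).symm
      _ ≤ p ^ f := Nat.pow_le_pow_right (by omega) hf
  have hσ : ∀ c : K, iterateFrobenius K p f c = c ^ q := fun c => iterateFrobenius_def p f c
  have hsurj : Function.Surjective (iterateFrobenius K p f) := (bijective_iterateFrobenius K p f).2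
  set U := Submodule.span K (Set.range v) with hUdef
  have hφsum : ∀ c : Fin k → K, φ (∑ j, c j • v j) = ∑ j, (c j) ^ q • v j := by
    intro c
    rw [map_sum]
    refine Finset.sum_congr rfl fun j _ => ?_
    rw [map_smulₛₗ, hσ, hv]
  have hmemU : ∀ c : Fin k → K, ∑ j, c j • v j ∈ U := fun c =>
    Submodule.sum_mem _ fun j _ => Submodule.smul_mem _ _ (Submodule.subset_span ⟨j, rfl⟩)
  have hUle : U ≤ U.comap φ := by
    rw [hUdef, Submodule.span_le]
    rintro _ ⟨j, rfl⟩
    show φ (v j) ∈ U
    rw [hv]
    exact Submodule.subset_span ⟨j, rfl⟩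
  -- if φ x ∈ U then x ∈ U
  have hback : ∀ x, φ x ∈ U → x ∈ U := by
    intro x hx
    obtain ⟨d, hd⟩ := (Submodule.mem_span_range_iff_exists_fun K).1 hx
    choose b hb using fun j => hsurj (d j)
    have : φ (∑ j, b j • v j) = φ x := by
      rw [hφsum, ← hd]
      refine Finset.sum_congr rfl fun j _ => ?_
      rw [← hσ, hb]
    rw [← hinj this]
    exact hmemU b
  let φ' : (V ⧸ U) →ₛₗ[iterateFrobenius K p f] (V ⧸ U) := U.mapQ U φ hUle
  have hφ' : ∀ x : V, φ' (Submodule.Quotient.mk x) = Submodule.Quotient.mk (φ x) := fun x => rfl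
  have hinj' : Function.Injective φ' := by
    rw [← LinearMap.ker_eq_bot, LinearMap.ker_eq_bot']
    intro y hy
    obtain ⟨x, rfl⟩ := Submodule.Quotient.mk_surjective U y
    rw [hφ', Submodule.Quotient.mk_eq_zero] at hy
    rw [Submodule.Quotient.mk_eq_zero]
    exact hback x hy
  have : Nontrivial (V ⧸ U) := Submodule.Quotient.nontrivial_iff.2 hU
  obtain ⟨y, hy0, hy⟩ := exists_fixed_vector p f hf φ' hinj'
  obtain ⟨x, rfl⟩ := Submodule.Quotient.mk_surjective U y
  rw [hφ', Submodule.Quotient.eq] at hy
  have hxU : x ∉ U := by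
    intro h
    apply hy0
    rw [Submodule.Quotient.mk_eq_zero]
    exact h
  obtain ⟨d, hd⟩ := (Submodule.mem_span_range_iff_exists_fun K).1 hy
  choose c hc using fun j => exists_artin_schreier q hq2 (d j)
  refine ⟨x + ∑ j, c j • v j, ?_, ?_⟩
  · rw [map_add, hφsum]
    have h1 : φ x = x + ∑ j, d j • v j := by rw [hd]; abel
    rw [h1, add_assoc, ← Finset.sum_add_distrib]
    congr 1
    refine Finset.sum_congr rfl fun j _ => ?_
    rw [← add_smul, add_comm, hc]
  · intro h
    apply hxU
    have := U.sub_mem h (hmemU c)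
    simpa using this

/-- A basis-size family of independent fixed vectors. -/
theorem exists_fixed_family (hf : 1 ≤ f) (φ : V →ₛₗ[iterateFrobenius K p f] V)
    (hinj : Function.Injective φ) :
    ∀ k, k ≤ Module.finrank K V → ∃ v : Fin k → V, LinearIndependent K v ∧ ∀ j, φ (v j) = v j := by
  intro k
  induction k with
  | zero =>
    intro _
    exact ⟨Fin.elim0, linearIndependent_empty_type, fun j => Fin.elim0 j⟩
  | succ k ih =>
    intro hk
    obtain ⟨v, hLI, hv⟩ := ih (by omega)
    have hU : Submodule.span K (Set.range v) ≠ ⊤ := by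
      intro h
      have h1 := finrank_span_eq_card hLI
      rw [h, finrank_top, Fintype.card_fin] at h1
      omega
    obtain ⟨x, hx, hxU⟩ := exists_fixed_not_mem_span p f hf φ hinj v hv hU
    refine ⟨Fin.snoc v x, linearIndependent_finSnoc.2 ⟨hLI, hxU⟩, ?_⟩
    intro j
    refine Fin.lastCases ?_ (fun i => ?_) j
    · simp [hx]
    · simp [hv]

end

end Cfsg.Agent.Helper44
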