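import Mathlib
import Cfsg.Prelude.Def_ClassicalGeometry
import Cfsg.Agent.Helper44.MaxSingTrans
import Cfsg.Agent.Helper44.PlusParity
import Cfsg.Agent.Helper44.OrthSumOmega

/-!
# `Ω` is transitive on each class of maximal totally singular subspaces
-/

set_option autoImplicit false

namespace Cfsg.Agent.Helper44

open Matrix QuadraticMap Module

variable {F : Type*} [Field F] {ι : Type} [Fintype ι] [DecidableEq ι]

theorem exists_mem_Omega_map_eq [Fintype F] (Q : QuadraticForm F (ι → F))
    (hQ : (QuadraticMap.polarBilin Q).Nondegenerate)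
    (h : Fintype.card F ≠ 2 ∨ Fintype.card ι ≠ 4) {m : ℕ} (hm : 1 ≤ m)
    (hcard : Fintype.card ι = 2 * m) (U W : Submodule F (ι → F))
    (hU : IsTotSing Q U) (hW : IsTotSing Q W) (hUm : finrank F ↥U = m) (hWm : finrank F ↥W = m)
    (he : Even (m - finrank F ↥(U ⊓ W))) :
    ∃ g : Cfsg.isometryGroup F ⇑Q, g ∈ Cfsg.Omega F ⇑Q ∧
      U.map ((g.1 : Matrix ι ι F)).mulVecLin = W := by
  have hV : finrank F (ι → F) = 2 * m := by
    rw [Module.finrank_fintype_fun_eq_card, hcard]
  obtain ⟨vs, hvs, hlen, hmap⟩ := exists_list_qRefl_map_eq Q hQ hW hWm hV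
    (m - finrank F ↥(W ⊓ U)) U hU hUm rfl
  rw [inf_comm] at hlen
  have hev : Even vs.length := by rw [hlen]; exact he
  by_cases h2 : (2 : F) = 0
  · haveI : CharP F 2 := CharTwo.of_one_ne_zero_of_two_eq_zero one_ne_zero h2
    refine ⟨(vs.map (reflT Q)).prod, ?_, ?_⟩
    · apply prod_reflT_mem_Omega_two Q hQ _ vs hvs hev
      rcases h with h | h
      · exact Or.inl (exists_ne_zero_ne_one_of_card_ne_two h)
      · exact Or.inr h
    · rw [mulVecLin_prod_reflT' Q vs hvs]
      exact hmap
  · by_cases hsq : IsSquare (vs.map (fun v => Q v)).prod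
    · refine ⟨(vs.map (reflT Q)).prod, prod_reflT_mem_Omega Q h2 vs hvs hev hsq, ?_⟩
      rw [mulVecLin_prod_reflT' Q vs hvs]
      exact hmap
    · set c : F := (vs.map (fun v => Q v)).prod with hc
      have hc0 : c ≠ 0 := list_prod_Q_ne_zero Q vs hvs
      have hU0 : U ≠ ⊥ := by
        intro h0
        rw [h0, finrank_bot] at hUm
        omega
      obtain ⟨x, y, hx, hy, hstab⟩ := exists_pair_qRefl_stabilizing Q hQ hU hU0 c hc0
      have hvs' : ∀ v ∈ vs ++ [x, y], Q v ≠ 0 := by
        intro v hv
        rw [List.mem_append] at hv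
        rcases hv with hv | hv
        · exact hvs v hv
        · simp only [List.mem_cons, List.not_mem_nil, or_false] at hv
          rcases hv with rfl | rfl
          · rw [hx]; exact one_ne_zero
          · rw [hy]; exact hc0
      refine ⟨((vs ++ [x, y]).map (reflT Q)).prod, ?_, ?_⟩
      · apply prod_reflT_mem_Omega Q h2 _ hvs'
        · rw [List.length_append]
          exact hev.add ⟨1, rfl⟩
        · rw [List.map_append, List.prod_append, ← hc]
          simp only [List.map_cons, List.map_nil, List.prod_cons, List.prod_nil, hx, hy, mul_one, one_mul]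
          exact ⟨c, rfl⟩
      · rw [mulVecLin_prod_reflT' Q _ hvs', List.map_append, List.prod_append]
        simp only [List.map_cons, List.map_nil, List.prod_cons, List.prod_nil, mul_one]
        have : U.map ((vs.map (Helper14.qRefl Q)).prod * (Helper14.qRefl Q x * Helper14.qRefl Q y))
            = (U.map (Helper14.qRefl Q x * Helper14.qRefl Q y)).map (vs.map (Helper14.qRefl Q)).prod := by
          rw [← Submodule.map_comp]
          rfl
        rw [this, hstab, hmap]

end Cfsg.Agent.Helper44
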