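import Mathlib
import Cfsg.Prelude.Def_GeometricClasses
import Cfsg.Agent.Helper44.QGeom
import Cfsg.Agent.Helper45.UnInSL

/-!
# `GO_n ∩ SL_n` (similarities of a quadratic form, `q` odd) in `SL_n`: the transvection half

If a subgroup `M` of `GL_n` contains `GO ∩ SL` and a transvection `x ↦ x + B(x, w₀) v` with
`w₀ ∉ F v`, then `M` contains `SL_n`.  (Port of the unitary argument of `Helper45.UnInSL`.)
-/

set_option autoImplicit false

namespace Cfsg.Agent.Helper44.OrthInSL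

open Cfsg.Geo Matrix Module QuadraticMap Cfsg.Agent.Helper93 Cfsg.Agent.Helper44.QG
open Cfsg.Agent.Helper45.UnInSL (tv_congr' tv_add_dual tv_neg_dual tv_zero_dual)

variable {F : Type*} [Field F] {n : ℕ} (Q : QuadraticForm F (Fin n → F))

/-- the functional `x ↦ B(x, w)` -/
noncomputable def fd (w : Fin n → F) : Module.Dual F (Fin n → F) := QuadraticMap.polarBilin Q w

theorem fd_apply (w x : Fin n → F) : fd Q w x = polar ⇑Q x w := by
  unfold fd
  rw [QuadraticMap.polarBilin_apply_apply, polar_comm]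

theorem fd_add (w w' : Fin n → F) : fd Q (w + w') = fd Q w + fd Q w' := by
  unfold fd
  rw [map_add]

theorem fd_neg (w : Fin n → F) : fd Q (-w) = - fd Q w := by
  unfold fd
  rw [map_neg]

theorem fd_zero : fd Q 0 = 0 := by
  unfold fd
  rw [map_zero]

/-- isometries preserve the polar form -/
theorem polar_of_Q {A : Matrix (Fin n) (Fin n) F} (hA : ∀ x, Q (A.mulVec x) = Q x)
    (x y : Fin n → F) : polar ⇑Q (A.mulVec x) (A.mulVec y) = polar ⇑Q x y := by
  unfold polar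
  rw [← Matrix.mulVec_add, hA, hA, hA]

/-! ### Siegel elements -/

/-- `x ↦ x + a B(x,w) y - a B(x,y) w` for singular orthogonal `y`, `w` -/
noncomputable def sg (y w : Fin n → F) (a : F) (hyw : polar ⇑Q y w = 0) (hyy : Q y = 0)
    (hww : Q w = 0) : Matrix.GeneralLinearGroup (Fin n) F :=
  tv (fd Q (a • w)) y (by rw [fd_apply, polar_smul_right, hyw, smul_zero]) *
    tv (fd Q (-(a • y))) w (by
      rw [fd_apply, polar_neg_right, polar_smul_right, polar_comm, hyw, smul_zero, neg_zero])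

theorem sg_mulVec (y w : Fin n → F) (a : F) (hyw : polar ⇑Q y w = 0) (hyy : Q y = 0)
    (hww : Q w = 0) (x : Fin n → F) :
    (sg Q y w a hyw hyy hww : Matrix (Fin n) (Fin n) F).mulVec x
      = x + (a * polar ⇑Q x w) • y - (a * polar ⇑Q x y) • w := by
  unfold sg
  have hw2 : polar ⇑Q w w = 0 := by rw [polar_self_eq, hww, mul_zero]
  rw [gl_mul_mulVec, tv_mulVec, tv_mulVec, fd_apply, fd_apply, polar_add_left, polar_smul_left,
    polar_smul_right, polar_smul_right, polar_neg_right, polar_smul_right, hw2]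
  simp only [smul_eq_mul, mul_zero, add_zero, neg_smul]
  abel

theorem sg_Q (y w : Fin n → F) (a : F) (hyw : polar ⇑Q y w = 0) (hyy : Q y = 0)
    (hww : Q w = 0) (x : Fin n → F) :
    Q ((sg Q y w a hyw hyy hww : Matrix (Fin n) (Fin n) F).mulVec x) = Q x := by
  rw [sg_mulVec, sub_eq_add_neg, ← neg_smul, QuadraticMap.map_add ⇑Q, QuadraticMap.map_add ⇑Q,
    QuadraticMap.map_smul, QuadraticMap.map_smul, hyy, hww, polar_add_left, polar_smul_left,
    polar_smul_right, polar_smul_right, polar_smul_right, hyw]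
  simp only [smul_eq_mul, mul_zero, add_zero]
  ring

theorem sg_mem (y w : Fin n → F) (a : F) (hyw : polar ⇑Q y w = 0) (hyy : Q y = 0)
    (hww : Q w = 0) :
    sg Q y w a hyw hyy hww ∈ quadSimilarityGroup ⇑Q ⊓ specialLinear (Fin n) F := by
  refine ⟨⟨1, fun u => ?_⟩, ?_⟩
  · rw [sg_Q, Units.val_one, one_mul]
  · exact (specialLinear (Fin n) F).mul_mem (tv_mem_sl _ _ _) (tv_mem_sl _ _ _)

/-! ### the sets `eSet M v` -/

/-- `w ∈ eSet M v` iff `B(v,w) = 0` and the transvection `x ↦ x + B(x,w) v` lies in `M` -/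
def eSet (M : Subgroup (Matrix.GeneralLinearGroup (Fin n) F)) (v : Fin n → F) :
    Set (Fin n → F) :=
  {w | ∃ h : fd Q w v = 0, tv (fd Q w) v h ∈ M}

theorem eSet_map {M : Subgroup (Matrix.GeneralLinearGroup (Fin n) F)}
    {g : Matrix.GeneralLinearGroup (Fin n) F} (hgM : g ∈ M)
    (hg : ∀ a : Fin n → F, Q ((g : Matrix (Fin n) (Fin n) F).mulVec a) = Q a)
    {v w : Fin n → F} (hw : w ∈ eSet Q M v) :
    (g : Matrix (Fin n) (Fin n) F).mulVec w ∈ eSet Q M ((g : Matrix (Fin n) (Fin n) F).mulVec v) := by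
  obtain ⟨h, hm⟩ := hw
  have h' : fd Q ((g : Matrix (Fin n) (Fin n) F).mulVec w)
      ((g : Matrix (Fin n) (Fin n) F).mulVec v) = 0 := by
    rw [fd_apply, polar_of_Q Q hg, ← fd_apply]
    exact h
  refine ⟨h', ?_⟩
  rw [tv_conj g (fd Q ((g : Matrix (Fin n) (Fin n) F).mulVec w)) v h']
  have e : dualPull (fd Q ((g : Matrix (Fin n) (Fin n) F).mulVec w)) g = fd Q w := by
    apply LinearMap.ext
    intro x
    rw [dualPull_apply, fd_apply, fd_apply, polar_of_Q Q hg]
  rw [tv_congr' e v _ h]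
  exact M.mul_mem (M.mul_mem hgM hm) (M.inv_mem hgM)

theorem eSet_add {M : Subgroup (Matrix.GeneralLinearGroup (Fin n) F)} {v w w' : Fin n → F}
    (hw : w ∈ eSet Q M v) (hw' : w' ∈ eSet Q M v) : w + w' ∈ eSet Q M v := by
  obtain ⟨h, hm⟩ := hw
  obtain ⟨h', hm'⟩ := hw'
  have h'' : (fd Q w + fd Q w') v = 0 := by rw [LinearMap.add_apply, h, h', add_zero]
  have h3 : fd Q (w + w') v = 0 := by rw [fd_add]; exact h''
  refine ⟨h3, ?_⟩
  rw [tv_congr' (fd_add Q w w') v h3 h'', tv_add_dual _ _ v h h' h'']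
  exact M.mul_mem hm hm'

theorem eSet_neg {M : Subgroup (Matrix.GeneralLinearGroup (Fin n) F)} {v w : Fin n → F}
    (hw : w ∈ eSet Q M v) : -w ∈ eSet Q M v := by
  obtain ⟨h, hm⟩ := hw
  have h'' : (-fd Q w) v = 0 := by rw [LinearMap.neg_apply, h, neg_zero]
  have h3 : fd Q (-w) v = 0 := by rw [fd_neg]; exact h''
  refine ⟨h3, ?_⟩
  rw [tv_congr' (fd_neg Q w) v h3 h'', tv_neg_dual _ v h h'']
  exact M.inv_mem hm

theorem eSet_zero (M : Subgroup (Matrix.GeneralLinearGroup (Fin n) F)) (v : Fin n → F) :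
    (0 : Fin n → F) ∈ eSet Q M v := by
  have h : fd Q 0 v = 0 := by rw [fd_zero, LinearMap.zero_apply]
  refine ⟨h, ?_⟩
  rw [tv_congr' (fd_zero Q) v h (by rw [LinearMap.zero_apply]), tv_zero_dual]
  exact M.one_mem

/-- the largest `F`-subspace inside `eSet M v` -/
def eSub (M : Subgroup (Matrix.GeneralLinearGroup (Fin n) F)) (v : Fin n → F) :
    Submodule F (Fin n → F) where
  carrier := {y | ∀ a : F, a • y ∈ eSet Q M v}
  zero_mem' := fun a => by rw [smul_zero]; exact eSet_zero Q M v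
  add_mem' := fun {y y'} hy hy' a => by rw [smul_add]; exact eSet_add Q (hy a) (hy' a)
  smul_mem' := fun c y hy a => by rw [smul_smul]; exact hy (a * c)

theorem mem_eSub {M : Subgroup (Matrix.GeneralLinearGroup (Fin n) F)} {v y : Fin n → F} :
    y ∈ eSub Q M v ↔ ∀ a : F, a • y ∈ eSet Q M v := Iff.rfl

theorem mem_eSet_of_mem_eSub {M : Subgroup (Matrix.GeneralLinearGroup (Fin n) F)}
    {v y : Fin n → F} (h : y ∈ eSub Q M v) : y ∈ eSet Q M v := by
  have := h 1
  rwa [one_smul] at this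

/-- the Siegel move -/
theorem sg_move {M : Subgroup (Matrix.GeneralLinearGroup (Fin n) F)}
    (hM : quadSimilarityGroup ⇑Q ⊓ specialLinear (Fin n) F ≤ M) {v w₀ y w : Fin n → F}
    (hw₀ : w₀ ∈ eSet Q M v) (hyy : Q y = 0) (hww : Q w = 0) (hyw : polar ⇑Q y w = 0)
    (hvy : polar ⇑Q v y = 0) (hvw : polar ⇑Q v w = 0) (hw₀y : polar ⇑Q w₀ y = 0)
    (hw₀w : polar ⇑Q w₀ w ≠ 0) :
    y ∈ eSub Q M v := by
  intro a'
  have hmem := eSet_map Q (hM (sg_mem Q y w (a' / polar ⇑Q w₀ w) hyw hyy hww))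
    (sg_Q Q y w (a' / polar ⇑Q w₀ w) hyw hyy hww) hw₀
  rw [sg_mulVec, sg_mulVec, hvy, hvw, hw₀y, div_mul_cancel₀ _ hw₀w] at hmem
  simp only [mul_zero, zero_smul, add_zero, sub_zero] at hmem
  have := eSet_add Q hmem (eSet_neg Q hw₀)
  rwa [add_comm w₀, add_neg_cancel_right] at this

end Cfsg.Agent.Helper44.OrthInSL
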