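import Mathlib
import Cfsg.Prelude.Def_GeometricClasses
import Cfsg.Agent.Helper44.OrthInSL

/-!
# `GO_n ∩ SL_n` in `SL_n`: a good transvection in `M` forces `SL_n ≤ M`
-/

set_option autoImplicit false

namespace Cfsg.Agent.Helper44.OrthInSL

open Cfsg.Geo Matrix Module QuadraticMap Cfsg.Agent.Helper93 Cfsg.Agent.Helper44.QG

variable {F : Type*} [Field F] [Fintype F] {n : ℕ} (Q : QuadraticForm F (Fin n → F))
  (h2 : (2 : F) ≠ 0) (hQ : (QuadraticMap.polarBilin Q).Nondegenerate)

omit [Fintype F] in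
theorem finrank_eq : finrank F (Fin n → F) = n := by
  rw [Module.finrank_fintype_fun_eq_card, Fintype.card_fin]

omit [Fintype F] in
theorem not_mem_span_pair_of {v w₀ y : Fin n → F} (hw₀v : w₀ ∉ Submodule.span F {v})
    (hynS : y ∉ Submodule.span F {v, w₀}) : w₀ ∉ Submodule.span F {v, y} := by
  intro hmem
  obtain ⟨α, β, h⟩ := Submodule.mem_span_pair.1 hmem
  by_cases hβ : β = 0
  · apply hw₀v
    rw [← h, hβ, zero_smul, add_zero]
    exact Submodule.smul_mem _ _ (Submodule.mem_span_singleton_self v)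
  · apply hynS
    have : y = β⁻¹ • (w₀ - α • v) := by
      rw [← h, add_sub_cancel_left, smul_smul, inv_mul_cancel₀ hβ, one_smul]
    rw [this]
    apply Submodule.smul_mem
    apply Submodule.sub_mem
    · exact Submodule.subset_span (by simp)
    · exact Submodule.smul_mem _ _ (Submodule.subset_span (by simp))

include h2 hQ

/-- first half, step 1 -/
theorem perp_le_eSub (hn : 13 ≤ n) {M : Subgroup (Matrix.GeneralLinearGroup (Fin n) F)}
    (hM : quadSimilarityGroup ⇑Q ⊓ specialLinear (Fin n) F ≤ M) {v w₀ : Fin n → F}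
    (hw₀ : w₀ ∈ eSet Q M v) (hw₀v : w₀ ∉ Submodule.span F {v}) :
    perp Q (Submodule.span F {v, w₀}) ≤ eSub Q M v := by
  have hd := finrank_span_pair_le' (F := F) v w₀
  have hfr := finrank_eq (F := F) (n := n)
  apply perp_le_of_singular h2 hQ _ (by omega)
  intro y hyS hyy hynS
  rw [mem_perp_span] at hyS
  have hyv : polar ⇑Q y v = 0 := hyS v (by simp)
  have hyw₀ : polar ⇑Q y w₀ = 0 := hyS w₀ (by simp)
  have hw₀' : w₀ ∉ Submodule.span F {v, y} := not_mem_span_pair_of hw₀v hynS
  have hd' := finrank_span_pair_le' (F := F) v y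
  obtain ⟨w, hwS, hww, hww₀⟩ := QG.exists_singular h2 hQ (Submodule.span F {v, y}) (by omega) hw₀'
  rw [mem_perp_span] at hwS
  have hwv : polar ⇑Q w v = 0 := hwS v (by simp)
  have hwy : polar ⇑Q w y = 0 := hwS y (by simp)
  exact sg_move Q hM hw₀ hyy hww (by rw [polar_comm]; exact hwy) (by rw [polar_comm]; exact hyv)
    (by rw [polar_comm]; exact hwv) (by rw [polar_comm]; exact hyw₀)
    (by rw [polar_comm]; exact hww₀)

/-- first half, step 2 -/
theorem mem_eSub_of_orth (hn : 13 ≤ n) {M : Subgroup (Matrix.GeneralLinearGroup (Fin n) F)}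
    (hM : quadSimilarityGroup ⇑Q ⊓ specialLinear (Fin n) F ≤ M) {v w₀ : Fin n → F}
    (hw₀ : w₀ ∈ eSet Q M v) (hw₀v : w₀ ∉ Submodule.span F {v}) {x : Fin n → F}
    (hx : polar ⇑Q x v = 0) : x ∈ eSub Q M v := by
  have hfr := finrank_eq (F := F) (n := n)
  by_cases hxw : polar ⇑Q x w₀ = 0
  · apply perp_le_eSub Q h2 hQ hn hM hw₀ hw₀v
    rw [mem_perp_span]
    intro y hy
    rcases hy with rfl | rfl
    · exact hx
    · exact hxw
  · have hd1 := finrank_span_triple_le (F := F) v w₀ x
    have hd2 := finrank_span_pair_le' (F := F) v w₀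
    obtain ⟨w₁, hw₁S, hw₁n⟩ := exists_mem_perp_not_mem hQ (Submodule.span F {v, w₀, x})
      (Submodule.span F {v, w₀}) (by omega)
    rw [mem_perp_span] at hw₁S
    have h1 : polar ⇑Q w₁ v = 0 := hw₁S v (by simp)
    have h2' : polar ⇑Q w₁ w₀ = 0 := hw₁S w₀ (by simp)
    have h3 : polar ⇑Q w₁ x = 0 := hw₁S x (by simp)
    have hw₁E : w₁ ∈ eSub Q M v := by
      apply perp_le_eSub Q h2 hQ hn hM hw₀ hw₀v
      rw [mem_perp_span]
      intro y hy
      rcases hy with rfl | rfl
      · exact h1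
      · exact h2'
    have hw₁v : w₁ ∉ Submodule.span F {v} := by
      intro hmem
      apply hw₁n
      exact Submodule.span_mono (by simp) hmem
    apply perp_le_eSub Q h2 hQ hn hM (mem_eSet_of_mem_eSub Q hw₁E) hw₁v
    rw [mem_perp_span]
    intro y hy
    rcases hy with rfl | rfl
    · exact hx
    · rw [polar_comm]; exact h3

/-- first half, step 3: a non-trivial `eSet` puts `v` in `dirSub M` -/
theorem mem_dirSub_of_eSet (hn : 13 ≤ n) {M : Subgroup (Matrix.GeneralLinearGroup (Fin n) F)}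
    (hM : quadSimilarityGroup ⇑Q ⊓ specialLinear (Fin n) F ≤ M) {v w₀ : Fin n → F}
    (hw₀ : w₀ ∈ eSet Q M v) (hw₀v : w₀ ∉ Submodule.span F {v}) : v ∈ dirSub M := by
  rw [mem_dirSub]
  intro φ h
  obtain ⟨w, hw⟩ := exists_riesz hQ φ
  have e : φ = fd Q w := by
    apply LinearMap.ext
    intro x
    rw [hw, fd_apply]
  subst e
  have hwv : polar ⇑Q w v = 0 := by
    rw [fd_apply] at h
    rw [polar_comm]
    exact h
  obtain ⟨h', hm⟩ := mem_eSet_of_mem_eSub Q (mem_eSub_of_orth Q h2 hQ hn hM hw₀ hw₀v hwv)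
  exact hm

/-- first half, step 4: `dirSub M` is everything once it is non-zero -/
theorem dirSub_eq_top_of_ne_bot (hn : 13 ≤ n)
    {M : Subgroup (Matrix.GeneralLinearGroup (Fin n) F)}
    (hM : quadSimilarityGroup ⇑Q ⊓ specialLinear (Fin n) F ≤ M) {v : Fin n → F} (hv : v ≠ 0)
    (hvD : v ∈ dirSub M) : dirSub M = ⊤ := by
  have hfr := finrank_eq (F := F) (n := n)
  have step : ∀ v : Fin n → F, v ≠ 0 → v ∈ dirSub M →
      perp Q (Submodule.span F {v}) ≤ dirSub M := by
    intro v hv hvD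
    have hd := finrank_span_singleton_le_one (F := F) v
    apply perp_le_of_singular h2 hQ _ (by omega)
    intro y hyS hyy hynS
    rw [mem_perp_span] at hyS
    have hyv : polar ⇑Q y v = 0 := hyS v (by simp)
    have hvy : v ∉ Submodule.span F {y} := by
      intro hmem
      obtain ⟨c, hc⟩ := Submodule.mem_span_singleton.1 hmem
      have hc0 : c ≠ 0 := by
        rintro rfl
        rw [zero_smul] at hc
        exact hv hc.symm
      apply hynS
      have : y = c⁻¹ • v := by rw [← hc, smul_smul, inv_mul_cancel₀ hc0, one_smul]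
      rw [this]
      exact Submodule.smul_mem _ _ (Submodule.mem_span_singleton_self v)
    have hd' := finrank_span_singleton_le_one (F := F) y
    obtain ⟨w, hwS, hww, hwv⟩ := QG.exists_singular h2 hQ (Submodule.span F {y}) (by omega) hvy
    rw [mem_perp_span] at hwS
    have hwy : polar ⇑Q w y = 0 := hwS y (by simp)
    have hvw : polar ⇑Q v w ≠ 0 := by rw [polar_comm]; exact hwv
    have hyw : polar ⇑Q y w = 0 := by rw [polar_comm]; exact hwy
    have hmem := dirSet_map hvD (hM (sg_mem Q y w (1 / polar ⇑Q v w) hyw hyy hww))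
    rw [sg_mulVec, polar_comm ⇑Q v y, hyv, div_mul_cancel₀ _ hvw, mul_zero, zero_smul, sub_zero,
      one_smul] at hmem
    have := (dirSub M).sub_mem hmem hvD
    rwa [add_sub_cancel_left] at this
  rw [eq_top_iff]
  intro x _
  have hd := finrank_span_pair_le' (F := F) v x
  obtain ⟨y, hyS, hy0⟩ := exists_mem_perp_not_mem hQ (Submodule.span F {v, x}) ⊥
    (by rw [finrank_bot]; omega)
  rw [mem_perp_span] at hyS
  have hyv : polar ⇑Q y v = 0 := hyS v (by simp)
  have hyx : polar ⇑Q y x = 0 := hyS x (by simp)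
  have hy0' : y ≠ 0 := by simpa using hy0
  have hyD : y ∈ dirSub M := by
    apply step v hv hvD
    rw [mem_perp_span]
    intro z hz
    rw [Set.mem_singleton_iff] at hz
    rw [hz]
    exact hyv
  apply step y hy0' hyD
  rw [mem_perp_span]
  intro z hz
  rw [Set.mem_singleton_iff] at hz
  rw [hz, polar_comm]
  exact hyx

/-- **the transvection half**: a subgroup containing `GO ∩ SL` and a good transvection
contains `SL_n` -/
theorem sl_le_of_eSet (hn : 13 ≤ n) {M : Subgroup (Matrix.GeneralLinearGroup (Fin n) F)}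
    (hM : quadSimilarityGroup ⇑Q ⊓ specialLinear (Fin n) F ≤ M) {v w₀ : Fin n → F} (hv : v ≠ 0)
    (hw₀ : w₀ ∈ eSet Q M v) (hw₀v : w₀ ∉ Submodule.span F {v}) :
    specialLinear (Fin n) F ≤ M := by
  have : Nontrivial (Fin n) := Fin.nontrivial_iff_two_le.mpr (by omega)
  exact sl_le_of_dirSub_eq_top (dirSub_eq_top_of_ne_bot Q h2 hQ hn hM hv
    (mem_dirSub_of_eSet Q h2 hQ hn hM hw₀ hw₀v))

end Cfsg.Agent.Helper44.OrthInSL
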