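import Mathlib
import Cfsg.Prelude.Def_GeometricClasses
import Cfsg.Agent.Helper44.OrthInSL2

/-!
# A linear map with `h w ∈ ⟨u, w, h u⟩` for all singular `u ≠ 0` and `w ⊥ u` is a homothety
-/

set_option autoImplicit false

namespace Cfsg.Agent.Helper44.OrthInSL

open Matrix Module QuadraticMap Cfsg.Agent.Helper44.QG

section linalg

variable {F V : Type*} [Field F] [AddCommGroup V] [Module F V]

/-- `a`, `b` are linearly independent modulo `P` -/
def IndepMod (P : Submodule F V) (a b : V) : Prop :=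
  ∀ α β : F, α • a + β • b ∈ P → α = 0 ∧ β = 0

theorem indepMod_of_not_mem {P : Submodule F V} {w₁ w₂ : V} (hw₁ : w₁ ∉ P)
    (hw₂ : w₂ ∉ P ⊔ Submodule.span F {w₁}) : IndepMod P w₁ w₂ := by
  intro α β hmem
  have hβ : β = 0 := by
    by_contra hβ
    apply hw₂
    have : w₂ = β⁻¹ • (α • w₁ + β • w₂) + (-(β⁻¹ * α)) • w₁ := by
      rw [smul_add, smul_smul, smul_smul, inv_mul_cancel₀ hβ, one_smul, neg_smul]
      abel
    rw [this]
    exact Submodule.add_mem_sup (P.smul_mem _ hmem)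
      (Submodule.smul_mem _ _ (Submodule.mem_span_singleton_self w₁))
  refine ⟨?_, hβ⟩
  by_contra hα
  apply hw₁
  rw [hβ, zero_smul, add_zero] at hmem
  have : w₁ = α⁻¹ • (α • w₁) := by rw [smul_smul, inv_mul_cancel₀ hα, one_smul]
  rw [this]
  exact P.smul_mem _ hmem

theorem coeff_eq_of_indepMod (h : V →ₗ[F] V) (W P : Submodule F V)
    (hh : ∀ w ∈ W, ∃ c : F, h w - c • w ∈ P) {a b : V} (ha : a ∈ W) (hb : b ∈ W)
    (hab : IndepMod P a b) {ca cb : F} (hca : h a - ca • a ∈ P) (hcb : h b - cb • b ∈ P) :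
    ca = cb := by
  obtain ⟨c, hc⟩ := hh (a + b) (W.add_mem ha hb)
  have h1 : (c - ca) • a + (c - cb) • b ∈ P := by
    have : (c - ca) • a + (c - cb) • b
        = (h a - ca • a) + (h b - cb • b) - (h (a + b) - c • (a + b)) := by
      rw [map_add]
      module
    rw [this]
    exact P.sub_mem (P.add_mem hca hcb) hc
  obtain ⟨e1, e2⟩ := hab _ _ h1
  rw [sub_eq_zero] at e1 e2
  rw [← e1, ← e2]

/-- if `h w ∈ F w + P` for all `w ∈ W` and `W / (W ∩ P)` has dimension at least two then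
`h` is a homothety on `W` modulo `P` -/
theorem exists_smul_sub_mem (h : V →ₗ[F] V) (W P : Submodule F V)
    (hh : ∀ w ∈ W, ∃ c : F, h w - c • w ∈ P) {w₁ w₂ : V} (h1 : w₁ ∈ W) (h2 : w₂ ∈ W)
    (h12 : IndepMod P w₁ w₂) : ∃ c : F, ∀ w ∈ W, h w - c • w ∈ P := by
  obtain ⟨c₁, hc₁⟩ := hh w₁ h1
  obtain ⟨c₂, hc₂⟩ := hh w₂ h2
  have e12 : c₁ = c₂ := coeff_eq_of_indepMod h W P hh h1 h2 h12 hc₁ hc₂
  refine ⟨c₁, fun w hw => ?_⟩
  obtain ⟨c, hc⟩ := hh w hw
  by_cases hwP : w ∈ P
  · have : h w - c₁ • w = (h w - c • w) + (c - c₁) • w := by module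
    rw [this]
    exact P.add_mem hc (P.smul_mem _ hwP)
  by_cases hi1 : IndepMod P w w₁
  · rw [← coeff_eq_of_indepMod h W P hh hw h1 hi1 hc hc₁]
    exact hc
  by_cases hi2 : IndepMod P w w₂
  · rw [e12, ← coeff_eq_of_indepMod h W P hh hw h2 hi2 hc hc₂]
    exact hc
  exfalso
  unfold IndepMod at hi1 hi2
  push Not at hi1 hi2
  obtain ⟨α, β, hαβ, hne⟩ := hi1
  obtain ⟨α', β', hαβ', hne'⟩ := hi2
  have hw₁P : w₁ ∉ P := by
    intro hmem
    have := (h12 1 0 (by rw [one_smul, zero_smul, add_zero]; exact hmem)).1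
    exact one_ne_zero this
  have hw₂P : w₂ ∉ P := by
    intro hmem
    have := (h12 0 1 (by rw [one_smul, zero_smul, zero_add]; exact hmem)).2
    exact one_ne_zero this
  have hα : α ≠ 0 := by
    rintro rfl
    have hβ := hne rfl
    rw [zero_smul, zero_add] at hαβ
    apply hw₁P
    have : w₁ = β⁻¹ • (β • w₁) := by rw [smul_smul, inv_mul_cancel₀ hβ, one_smul]
    rw [this]
    exact P.smul_mem _ hαβ
  have hα' : α' ≠ 0 := by
    rintro rfl
    have hβ := hne' rfl
    rw [zero_smul, zero_add] at hαβ'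
    apply hw₂P
    have : w₂ = β'⁻¹ • (β' • w₂) := by rw [smul_smul, inv_mul_cancel₀ hβ, one_smul]
    rw [this]
    exact P.smul_mem _ hαβ'
  have h3 : (α' * β) • w₁ + (-(α * β')) • w₂ ∈ P := by
    have : (α' * β) • w₁ + (-(α * β')) • w₂
        = α' • (α • w + β • w₁) - α • (α' • w + β' • w₂) := by module
    rw [this]
    exact P.sub_mem (P.smul_mem _ hαβ) (P.smul_mem _ hαβ')
  obtain ⟨e1, -⟩ := h12 _ _ h3
  have hβ : β = 0 := (mul_eq_zero.1 e1).resolve_left hα'
  rw [hβ, zero_smul, add_zero] at hαβ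
  apply hwP
  have : w = α⁻¹ • (α • w) := by rw [smul_smul, inv_mul_cancel₀ hα, one_smul]
  rw [this]
  exact P.smul_mem _ hαβ

end linalg

variable {F : Type*} [Field F] [Fintype F] {n : ℕ} (Q : QuadraticForm F (Fin n → F))
  (h2 : (2 : F) ≠ 0) (hQ : (QuadraticMap.polarBilin Q).Nondegenerate)

include h2 hQ

/-- step 1: for each singular `u ≠ 0`, `h` is a homothety on `u^⊥` modulo `⟨u, h u⟩` -/
theorem homothety_step1 (hn : 13 ≤ n) (h : (Fin n → F) →ₗ[F] (Fin n → F))
    (hh : ∀ u w : Fin n → F, u ≠ 0 → Q u = 0 → polar ⇑Q u w = 0 →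
      h w ∈ Submodule.span F {u, w, h u}) (u : Fin n → F) (hu0 : u ≠ 0) (hu : Q u = 0) :
    ∃ c : F, ∀ w, polar ⇑Q u w = 0 → h w - c • w ∈ Submodule.span F {u, h u} := by
  have hfr := finrank_eq (F := F) (n := n)
  set P : Submodule F (Fin n → F) := Submodule.span F {u, h u} with hP
  have hdP : finrank F P ≤ 2 := finrank_span_pair_le' (F := F) u (h u)
  have hd1 := finrank_span_singleton_le_one (F := F) u
  have hhW : ∀ w ∈ perp Q (Submodule.span F {u}), ∃ c : F, h w - c • w ∈ P := by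
    intro w hw
    rw [mem_perp_span] at hw
    have huw : polar ⇑Q u w = 0 := by
      rw [polar_comm]
      exact hw u rfl
    obtain ⟨a, b, c, e⟩ := Submodule.mem_span_triple.1 (hh u w hu0 hu huw)
    refine ⟨b, ?_⟩
    rw [← e, hP, Submodule.mem_span_pair]
    exact ⟨a, c, by abel⟩
  obtain ⟨w₁, hw₁W, hw₁P⟩ := exists_mem_perp_not_mem hQ (Submodule.span F {u}) P (by omega)
  have hd2 := finrank_sup_span_singleton_le P w₁
  obtain ⟨w₂, hw₂W, hw₂P⟩ := exists_mem_perp_not_mem hQ (Submodule.span F {u})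
    (P ⊔ Submodule.span F {w₁}) (by omega)
  obtain ⟨c, hc⟩ := exists_smul_sub_mem h _ P hhW hw₁W hw₂W (indepMod_of_not_mem hw₁P hw₂P)
  refine ⟨c, fun w hw => hc w ?_⟩
  rw [mem_perp_span]
  intro y hy
  rw [Set.mem_singleton_iff] at hy
  rw [hy, polar_comm]
  exact hw

omit h2 in
/-- step 2: the ratios agree -/
theorem homothety_step2 (hn : 13 ≤ n) (h : (Fin n → F) →ₗ[F] (Fin n → F))
    (u₁ u₂ : Fin n → F) (c₁ c₂ : F)
    (hc₁ : ∀ w, polar ⇑Q u₁ w = 0 → h w - c₁ • w ∈ Submodule.span F {u₁, h u₁})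
    (hc₂ : ∀ w, polar ⇑Q u₂ w = 0 → h w - c₂ • w ∈ Submodule.span F {u₂, h u₂}) : c₁ = c₂ := by
  have hfr := finrank_eq (F := F) (n := n)
  by_contra hne
  have hd1 := finrank_span_pair_le' (F := F) u₁ (h u₁)
  have hd2 := finrank_span_pair_le' (F := F) u₂ (h u₂)
  have hd3 := finrank_span_pair_le' (F := F) u₁ u₂
  have hd4 := Submodule.finrank_add_le_finrank_add_finrank (Submodule.span F {u₁, h u₁})
    (Submodule.span F {u₂, h u₂})
  obtain ⟨w, hwS, hwP⟩ := exists_mem_perp_not_mem hQ (Submodule.span F {u₁, u₂})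
    (Submodule.span F {u₁, h u₁} ⊔ Submodule.span F {u₂, h u₂}) (by omega)
  rw [mem_perp_span] at hwS
  have h1 := hc₁ w (by rw [polar_comm]; exact hwS u₁ (by simp))
  have h2' := hc₂ w (by rw [polar_comm]; exact hwS u₂ (by simp))
  apply hwP
  have hc : c₁ - c₂ ≠ 0 := sub_ne_zero.2 hne
  have : w = (c₁ - c₂)⁻¹ • ((h w - c₂ • w) - (h w - c₁ • w)) := by
    have e : (h w - c₂ • w) - (h w - c₁ • w) = (c₁ - c₂) • w := by module
    rw [e, smul_smul, inv_mul_cancel₀ hc, one_smul]
  rw [this]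
  apply Submodule.smul_mem
  exact Submodule.sub_mem _ (Submodule.mem_sup_right h2') (Submodule.mem_sup_left h1)

omit h2 hQ [Fintype F] in
theorem perp_bot_eq_top : perp Q (⊥ : Submodule F (Fin n → F)) = ⊤ := by
  rw [eq_top_iff]
  intro x _
  rw [mem_perp]
  intro s hs
  rw [Submodule.mem_bot] at hs
  rw [hs]
  simp [polar]

/-- **homothety lemma** -/
theorem exists_eq_smul_of_span (hn : 13 ≤ n) (h : (Fin n → F) →ₗ[F] (Fin n → F))
    (hh : ∀ u w : Fin n → F, u ≠ 0 → Q u = 0 → polar ⇑Q u w = 0 →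
      h w ∈ Submodule.span F {u, w, h u}) : ∃ c : F, ∀ x, h x = c • x := by
  have hfr := finrank_eq (F := F) (n := n)
  -- a non-zero singular vector
  obtain ⟨u₀, hu₀0, hu₀⟩ : ∃ u₀ : Fin n → F, u₀ ≠ 0 ∧ Q u₀ = 0 := by
    have he : (Pi.single (⟨0, by omega⟩ : Fin n) (1 : F) : Fin n → F) ≠ 0 := by
      intro h0
      have := congrFun h0 ⟨0, by omega⟩
      rw [Pi.single_eq_same, Pi.zero_apply] at this
      exact one_ne_zero this
    obtain ⟨u, -, huu, hu⟩ := QG.exists_singular h2 hQ ⊥ (by rw [finrank_bot]; omega)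
      (w₀ := Pi.single (⟨0, by omega⟩ : Fin n) (1 : F)) (by simpa using he)
    refine ⟨u, ?_, huu⟩
    rintro rfl
    apply hu
    simp [polar]
  obtain ⟨c₀, hc₀⟩ := homothety_step1 Q h2 hQ hn h hh u₀ hu₀0 hu₀
  refine ⟨c₀, ?_⟩
  set R : (Fin n → F) →ₗ[F] (Fin n → F) := h - c₀ • LinearMap.id with hRdef
  have hRx : ∀ x, R x = h x - c₀ • x := fun x => by
    rw [hRdef, LinearMap.sub_apply, LinearMap.smul_apply, LinearMap.id_apply]
  -- the property of `R`
  have hR : ∀ u : Fin n → F, u ≠ 0 → Q u = 0 → ∀ w, polar ⇑Q u w = 0 →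
      R w ∈ Submodule.span F {u, R u} := by
    intro u hu0 hu w huw
    obtain ⟨c, hc⟩ := homothety_step1 Q h2 hQ hn h hh u hu0 hu
    have e : c = c₀ := homothety_step2 Q hQ hn h u u₀ c c₀ hc hc₀
    rw [e] at hc
    have hle : Submodule.span F {u, h u} ≤ Submodule.span F {u, R u} := by
      rw [Submodule.span_le]
      intro y hy
      rcases hy with rfl | rfl
      · exact Submodule.subset_span (by simp)
      · have : h u = R u + c₀ • u := by rw [hRx]; abel
        rw [SetLike.mem_coe, this]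
        exact Submodule.add_mem _ (Submodule.subset_span (by simp))
          (Submodule.smul_mem _ _ (Submodule.subset_span (by simp)))
    rw [hRx]
    exact hle (hc w huw)
  -- the range of `R` is small
  obtain ⟨t₀, ht₀⟩ : ∃ t₀, polar ⇑Q u₀ t₀ ≠ 0 := by
    by_contra hcon
    push Not at hcon
    exact hu₀0 (hQ.1 u₀ hcon)
  have hI : LinearMap.range R ≤ Submodule.span F {u₀, R u₀, R t₀} := by
    rintro _ ⟨x, rfl⟩
    set a := polar ⇑Q u₀ x / polar ⇑Q u₀ t₀ with ha
    have hw : polar ⇑Q u₀ (x - a • t₀) = 0 := by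
      rw [polar_sub_right, polar_smul_right, smul_eq_mul, ha, div_mul_cancel₀ _ ht₀, sub_self]
    have e : R x = R (x - a • t₀) + a • R t₀ := by
      rw [map_sub, map_smul]
      abel
    rw [e]
    apply Submodule.add_mem
    · have hle : Submodule.span F {u₀, R u₀} ≤ Submodule.span F {u₀, R u₀, R t₀} := by
        apply Submodule.span_mono
        intro y hy
        rcases hy with rfl | rfl
        · simp
        · simp
      exact hle (hR u₀ hu₀0 hu₀ _ hw)
    · exact Submodule.smul_mem _ _ (Submodule.subset_span (by simp))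
  have hdI : finrank F (LinearMap.range R) ≤ 3 :=
    (Submodule.finrank_mono hI).trans (finrank_span_triple_le _ _ _)
  have hrn := LinearMap.finrank_range_add_finrank_ker R
  set S := perp Q (LinearMap.ker R) with hS
  have hdS : finrank F S + finrank F (LinearMap.ker R) = finrank F (Fin n → F) :=
    finrank_perp hQ (LinearMap.ker R)
  have hpS : perp Q S = LinearMap.ker R := perp_perp hQ _
  -- singular vectors of the kernel outside a small subspace containing the range
  have key : ∀ T : Submodule F (Fin n → F), LinearMap.range R ≤ T → finrank F T ≤ 4 →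
      ∃ u, u ∉ T ∧ S ≤ Submodule.span F {u} := by
    intro T hIT hdT
    obtain ⟨w₀, hw₀T, hw₀S⟩ := exists_mem_perp_not_mem hQ T S (by omega)
    obtain ⟨u, huS, hu, huw⟩ := QG.exists_singular h2 hQ S (by omega) hw₀S
    rw [hpS, LinearMap.mem_ker] at huS
    have huT : u ∉ T := by
      intro hmem
      apply huw
      rw [polar_comm]
      exact (mem_perp.1 hw₀T) u hmem
    have hu0 : u ≠ 0 := by
      rintro rfl
      exact huT (Submodule.zero_mem _)
    refine ⟨u, huT, ?_⟩
    have hle : perp Q (Submodule.span F {u}) ≤ LinearMap.ker R := by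
      intro w hw
      rw [mem_perp_span] at hw
      have huw' : polar ⇑Q u w = 0 := by
        rw [polar_comm]
        exact hw u rfl
      obtain ⟨a, b, e⟩ := Submodule.mem_span_pair.1 (hR u hu0 hu w huw')
      rw [huS, smul_zero, add_zero] at e
      rw [LinearMap.mem_ker]
      by_contra hne
      have ha : a ≠ 0 := by
        rintro rfl
        rw [zero_smul] at e
        exact hne e.symm
      apply huT
      apply hIT
      have : u = a⁻¹ • R w := by rw [← e, smul_smul, inv_mul_cancel₀ ha, one_smul]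
      rw [this]
      exact Submodule.smul_mem _ _ ⟨w, rfl⟩
    have := perp_anti (Q := Q) hle
    rwa [perp_perp hQ] at this
  obtain ⟨u, huI, hSu⟩ := key (LinearMap.range R) le_rfl (by omega)
  have hd4 := finrank_sup_span_singleton_le (LinearMap.range R) u
  obtain ⟨u', hu'T, hSu'⟩ := key (LinearMap.range R ⊔ Submodule.span F {u}) le_sup_left (by omega)
  have hu'u : u' ∉ Submodule.span F {u} := fun hmem => hu'T (Submodule.mem_sup_right hmem)
  have hSbot : S = ⊥ := by
    rw [eq_bot_iff]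
    intro x hx
    obtain ⟨a, ea⟩ := Submodule.mem_span_singleton.1 (hSu hx)
    obtain ⟨b, eb⟩ := Submodule.mem_span_singleton.1 (hSu' hx)
    rw [Submodule.mem_bot]
    by_contra hx0
    have hb : b ≠ 0 := by
      rintro rfl
      rw [zero_smul] at eb
      exact hx0 eb.symm
    apply hu'u
    have : u' = (b⁻¹ * a) • u := by
      rw [← smul_smul, ea, ← eb, smul_smul, inv_mul_cancel₀ hb, one_smul]
    rw [this]
    exact Submodule.smul_mem _ _ (Submodule.mem_span_singleton_self u)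
  have hK : LinearMap.ker R = ⊤ := by
    rw [← hpS, hSbot, perp_bot_eq_top]
  intro x
  have hx : x ∈ LinearMap.ker R := by rw [hK]; exact Submodule.mem_top
  rw [LinearMap.mem_ker, hRx, sub_eq_zero] at hx
  exact hx

end Cfsg.Agent.Helper44.OrthInSL
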