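import Mathlib
import Cfsg.Prelude.Def_GeometricClasses
import Cfsg.Agent.Helper44.OrthInSL3
import Cfsg.Agent.Helper44.Spinor

/-!
# `GO_n ∩ SL_n` in `SL_n`: producing a transvection from a non-similarity
-/

set_option autoImplicit false

namespace Cfsg.Agent.Helper44.OrthInSL

open Cfsg.Geo Matrix Module QuadraticMap Cfsg.Agent.Helper93 Cfsg.Agent.Helper44.QG

variable {F : Type*} [Field F] {n : ℕ} (Q : QuadraticForm F (Fin n → F))

/-! ### Eichler elements in `GL` -/

/-- `x ↦ x + B(x,w) u - B(x,u) w - Q(w) B(x,u) u` for singular `u` and `w ⊥ u` -/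
noncomputable def ei (u w : Fin n → F) (hu : Q u = 0) (huw : polar ⇑Q u w = 0) :
    Matrix.GeneralLinearGroup (Fin n) F :=
  tv (fd Q w) u (by rw [fd_apply]; exact huw) *
    tv (fd Q (-u)) (w - Q w • u) (by
      rw [fd_apply, polar_neg_right, polar_sub_left, polar_smul_left, polar_self_eq, hu,
        polar_comm, huw]
      simp)

theorem ei_mulVec (u w : Fin n → F) (hu : Q u = 0) (huw : polar ⇑Q u w = 0) (x : Fin n → F) :
    (ei Q u w hu huw : Matrix (Fin n) (Fin n) F).mulVec x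
      = x + polar ⇑Q x w • u - polar ⇑Q x u • w - (Q w * polar ⇑Q x u) • u := by
  unfold ei
  have hww : polar ⇑Q w w = 2 * Q w := polar_self_eq w
  have hwu : polar ⇑Q w u = 0 := by rw [polar_comm]; exact huw
  rw [gl_mul_mulVec, tv_mulVec, tv_mulVec, fd_apply, fd_apply, polar_add_left, polar_smul_left,
    polar_neg_right, polar_sub_left, polar_smul_left, hww, huw]
  simp only [smul_eq_mul, mul_zero, sub_zero]
  module

theorem ei_Q (u w : Fin n → F) (hu : Q u = 0) (huw : polar ⇑Q u w = 0) (x : Fin n → F) :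
    Q ((ei Q u w hu huw : Matrix (Fin n) (Fin n) F).mulVec x) = Q x := by
  have e : x + polar ⇑Q x w • u - polar ⇑Q x u • w - (Q w * polar ⇑Q x u) • u
      = x + ((polar ⇑Q x w - Q w * polar ⇑Q x u) • u + (-(polar ⇑Q x u)) • w) := by module
  rw [ei_mulVec, e, QuadraticMap.map_add ⇑Q, QuadraticMap.map_add ⇑Q, QuadraticMap.map_smul,
    QuadraticMap.map_smul, hu, polar_add_right, polar_smul_right, polar_smul_right,
    polar_smul_left, polar_smul_right, huw]
  simp only [smul_eq_mul, mul_zero, add_zero, zero_add]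
  ring

theorem ei_mem (u w : Fin n → F) (hu : Q u = 0) (huw : polar ⇑Q u w = 0) :
    ei Q u w hu huw ∈ quadSimilarityGroup ⇑Q ⊓ specialLinear (Fin n) F := by
  refine ⟨⟨1, fun x => ?_⟩, ?_⟩
  · rw [ei_Q, Units.val_one, one_mul]
  · exact (specialLinear (Fin n) F).mul_mem (tv_mem_sl _ _ _) (tv_mem_sl _ _ _)

/-! ### the commutator is a transvection -/

theorem comm_eq_tv (X k : Matrix.GeneralLinearGroup (Fin n) F) (v gw z y : Fin n → F) (c : F)
    (hX : ∀ x, (X : Matrix (Fin n) (Fin n) F).mulVec x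
      = x + polar ⇑Q x y • v - polar ⇑Q x z • gw - (c * polar ⇑Q x z) • v)
    (hk : ∀ a, Q ((k : Matrix (Fin n) (Fin n) F).mulVec a) = Q a)
    (hkv : (k : Matrix (Fin n) (Fin n) F).mulVec v = v)
    (hkg : (k : Matrix (Fin n) (Fin n) F).mulVec gw = gw)
    (hkz : (k : Matrix (Fin n) (Fin n) F).mulVec z = z)
    (hvy : polar ⇑Q v y = 0) (hvz : polar ⇑Q v z = 0)
    (h0 : fd Q ((k : Matrix (Fin n) (Fin n) F).mulVec y - y) v = 0) :
    X⁻¹ * k * X * k⁻¹ = tv (fd Q ((k : Matrix (Fin n) (Fin n) F).mulVec y - y)) v h0 := by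
  have hXv : (X : Matrix (Fin n) (Fin n) F).mulVec v = v := by
    rw [hX, hvy, hvz]
    simp
  have hpk : ∀ a b : Fin n → F,
      polar ⇑Q (((k⁻¹ : Matrix.GeneralLinearGroup (Fin n) F) : Matrix (Fin n) (Fin n) F).mulVec a) b
        = polar ⇑Q a ((k : Matrix (Fin n) (Fin n) F).mulVec b) := by
    intro a b
    rw [← polar_of_Q Q hk, gl_inv_mulVec]
  apply gl_ext
  intro x
  rw [mul_assoc, mul_assoc, gl_mul_mulVec]
  have key : ((k * (X * k⁻¹) : Matrix.GeneralLinearGroup (Fin n) F) :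
      Matrix (Fin n) (Fin n) F).mulVec x
      = (X : Matrix (Fin n) (Fin n) F).mulVec
        ((tv (fd Q ((k : Matrix (Fin n) (Fin n) F).mulVec y - y)) v h0 :
          Matrix (Fin n) (Fin n) F).mulVec x) := by
    rw [gl_mul_mulVec, gl_mul_mulVec, hX, tv_mulVec, Matrix.mulVec_add, Matrix.mulVec_smul, hXv,
      hX, fd_apply, polar_sub_right]
    simp only [Matrix.mulVec_sub, Matrix.mulVec_add, Matrix.mulVec_smul, gl_inv_mulVec, hkv, hkg,
      hpk, hkz]
    module
  rw [key, gl_inv_mulVec']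

/-! ### choosing the rotation -/

section rot

variable [Fintype F] (h2 : (2 : F) ≠ 0) (hQ : (QuadraticMap.polarBilin Q).Nondegenerate)

include h2 hQ in
/-- a rotation in `GO ∩ SL` fixing a three-dimensional subspace pointwise and moving `y` -/
theorem exists_rotation (hn : 13 ≤ n) (a b c y : Fin n → F)
    (hy : y ∉ Submodule.span F {a, b, c}) :
    ∃ k ∈ quadSimilarityGroup ⇑Q ⊓ specialLinear (Fin n) F,
      (∀ x, Q ((k : Matrix (Fin n) (Fin n) F).mulVec x) = Q x) ∧
      (k : Matrix (Fin n) (Fin n) F).mulVec a = a ∧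
      (k : Matrix (Fin n) (Fin n) F).mulVec b = b ∧
      (k : Matrix (Fin n) (Fin n) F).mulVec c = c ∧
      ∃ (q : Fin n → F) (t : F), t ≠ 0 ∧ Q q ≠ 0 ∧ polar ⇑Q q a = 0 ∧
        (k : Matrix (Fin n) (Fin n) F).mulVec y - y = t • q := by
  have hfr := finrank_eq (F := F) (n := n)
  have hd3 := finrank_span_triple_le (F := F) a b c
  obtain ⟨q, hqA, hq, hqy⟩ := exists_nonsingular_ne hQ (Submodule.span F {a, b, c}) (by omega) hy
  set S₁ : Submodule F (Fin n → F) :=
    Submodule.span F {a, b, c} ⊔ Submodule.span F {y} ⊔ Submodule.span F {q} with hS₁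
  have hd5 : finrank F S₁ ≤ finrank F (Submodule.span F {a, b, c}) + 2 := by
    have h1 : finrank F S₁ ≤ finrank F (Submodule.span F {a, b, c} ⊔ Submodule.span F {y} :
        Submodule F (Fin n → F)) + 1 := finrank_sup_span_singleton_le _ q
    have h3 := finrank_sup_span_singleton_le (Submodule.span F {a, b, c}) y
    omega
  obtain ⟨p, hpS, hp⟩ := exists_nonsingular_mem_perp hQ S₁ (by omega)
  have hpA : p ∈ perp Q (Submodule.span F {a, b, c}) :=
    perp_anti (le_sup_left.trans le_sup_left) hpS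
  rw [mem_perp] at hpS
  have hpy : polar ⇑Q p y = 0 :=
    hpS y ((le_sup_right.trans le_sup_left : Submodule.span F {y} ≤ S₁)
      (Submodule.mem_span_singleton_self y))
  have hpq : polar ⇑Q p q = 0 :=
    hpS q ((le_sup_right : Submodule.span F {q} ≤ S₁) (Submodule.mem_span_singleton_self q))
  rw [mem_perp_span] at hqA hpA
  -- the rotation
  have hfix : ∀ x : Fin n → F, polar ⇑Q p x = 0 → polar ⇑Q q x = 0 →
      ((refl Q p hp * refl Q q hq : Cfsg.isometryGroup F ⇑Q).1 : Matrix (Fin n) (Fin n) F).mulVec x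
        = x := by
    intro x hpx hqx
    show (((refl Q p hp).1 * (refl Q q hq).1 : Matrix.GeneralLinearGroup (Fin n) F) :
      Matrix (Fin n) (Fin n) F).mulVec x = x
    rw [gl_mul_mulVec, refl_mulVec Q q hq, hqx, mul_zero, zero_smul, sub_zero, refl_mulVec Q p hp,
      hpx, mul_zero, zero_smul, sub_zero]
  refine ⟨(refl Q p hp * refl Q q hq : Cfsg.isometryGroup F ⇑Q).1, ⟨?_, ?_⟩, ?_, ?_, ?_, ?_, ?_⟩
  · refine ⟨1, fun x => ?_⟩
    rw [Units.val_one, one_mul]
    exact (Helper13.mem_isometryGroup_iff ⇑Q _).1 (refl Q p hp * refl Q q hq).2 x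
  · show Matrix.GeneralLinearGroup.det ((refl Q p hp).1 * (refl Q q hq).1) = 1
    have h1 := detHom_reflT Q p hp
    have h3 := detHom_reflT Q q hq
    rw [reflT_of_ne Q p hp] at h1
    rw [reflT_of_ne Q q hq] at h3
    have h1' : Matrix.GeneralLinearGroup.det (refl Q p hp).1 = -1 := h1
    have h3' : Matrix.GeneralLinearGroup.det (refl Q q hq).1 = -1 := h3
    rw [map_mul, h1', h3']
    simp
  · exact (Helper13.mem_isometryGroup_iff ⇑Q _).1 (refl Q p hp * refl Q q hq).2
  · exact hfix a (hpA a (by simp)) (hqA a (by simp))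
  · exact hfix b (hpA b (by simp)) (hqA b (by simp))
  · exact hfix c (hpA c (by simp)) (hqA c (by simp))
  · refine ⟨q, -((Q q)⁻¹ * polar ⇑Q q y), ?_, hq, hqA a (by simp), ?_⟩
    · exact neg_ne_zero.2 (mul_ne_zero (inv_ne_zero hq) hqy)
    · show (((refl Q p hp).1 * (refl Q q hq).1 : Matrix.GeneralLinearGroup (Fin n) F) :
        Matrix (Fin n) (Fin n) F).mulVec y - y = _
      rw [gl_mul_mulVec, refl_mulVec Q q hq, refl_mulVec Q p hp, polar_sub_right,
        polar_smul_right, hpy, hpq]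
      simp only [smul_eq_mul, mul_zero, sub_zero, zero_smul]
      module

end rot

end Cfsg.Agent.Helper44.OrthInSL
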