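import Mathlib
import Cfsg.Prelude.Def_GeometricClasses
import Cfsg.Agent.Helper44.OrthInSL4
import Cfsg.Agent.Helper45.NonsingMax2

/-!
# `GO_n(q) ∩ SL_n(q)` (`q` odd, `n ≥ 13`) is a maximal subgroup of `SL_n(q)`
-/

set_option autoImplicit false

namespace Cfsg.Agent.Helper44.OrthInSL

open Cfsg.Geo Matrix Module QuadraticMap Cfsg.Agent.Helper93 Cfsg.Agent.Helper44.QG

variable {F : Type*} [Field F] [Fintype F] {n : ℕ} (Q : QuadraticForm F (Fin n → F))
  (h2 : (2 : F) ≠ 0) (hQ : (QuadraticMap.polarBilin Q).Nondegenerate)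

/-- the adjoint of `g⁻¹` for the polar form -/
noncomputable def gdual (g : Matrix.GeneralLinearGroup (Fin n) F) :
    (Fin n → F) →ₗ[F] (Fin n → F) :=
  LinearMap.BilinForm.leftAdjointOfNondegenerate (QuadraticMap.polarBilin Q) hQ
    (Matrix.mulVecLin ((g⁻¹ : Matrix.GeneralLinearGroup (Fin n) F) : Matrix (Fin n) (Fin n) F))

omit [Fintype F] in
theorem polar_gdual (g : Matrix.GeneralLinearGroup (Fin n) F) (a b : Fin n → F) :
    polar ⇑Q (gdual Q hQ g a) b
      = polar ⇑Q a (((g⁻¹ : Matrix.GeneralLinearGroup (Fin n) F) :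
          Matrix (Fin n) (Fin n) F).mulVec b) := by
  have h := LinearMap.BilinForm.isAdjointPairLeftAdjointOfNondegenerate
    (QuadraticMap.polarBilin Q) hQ
    (Matrix.mulVecLin ((g⁻¹ : Matrix.GeneralLinearGroup (Fin n) F) : Matrix (Fin n) (Fin n) F))
    a b
  simpa [gdual] using h

omit [Fintype F] in
theorem polar_gdual' (g : Matrix.GeneralLinearGroup (Fin n) F) (a b : Fin n → F) :
    polar ⇑Q (gdual Q hQ g a) ((g : Matrix (Fin n) (Fin n) F).mulVec b) = polar ⇑Q a b := by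
  rw [polar_gdual, gl_inv_mulVec']

include h2 in
/-- a non-similarity has a pair `(u, w)` in general position -/
theorem exists_pair_of_not_similarity (hn : 13 ≤ n) (g : Matrix.GeneralLinearGroup (Fin n) F)
    (hg : g ∉ quadSimilarityGroup ⇑Q) :
    ∃ u w : Fin n → F, u ≠ 0 ∧ Q u = 0 ∧ polar ⇑Q u w = 0 ∧
      gdual Q hQ g w ∉ Submodule.span F {(g : Matrix (Fin n) (Fin n) F).mulVec u,
        (g : Matrix (Fin n) (Fin n) F).mulVec w, gdual Q hQ g u} := by
  have hfr := finrank_eq (F := F) (n := n)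
  by_contra hcon
  push Not at hcon
  apply hg
  set h : (Fin n → F) →ₗ[F] (Fin n → F) :=
    (Matrix.mulVecLin ((g⁻¹ : Matrix.GeneralLinearGroup (Fin n) F) :
      Matrix (Fin n) (Fin n) F)).comp (gdual Q hQ g) with hh
  have hx : ∀ x, h x = ((g⁻¹ : Matrix.GeneralLinearGroup (Fin n) F) :
      Matrix (Fin n) (Fin n) F).mulVec (gdual Q hQ g x) := fun x => rfl
  obtain ⟨c, hc⟩ := exists_eq_smul_of_span Q h2 hQ hn h (by
    intro u w hu0 hu huw
    obtain ⟨α, β, γ, e⟩ := Submodule.mem_span_triple.1 (hcon u w hu0 hu huw)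
    rw [Submodule.mem_span_triple]
    refine ⟨α, β, γ, ?_⟩
    rw [hx, hx, ← e, Matrix.mulVec_add, Matrix.mulVec_add, Matrix.mulVec_smul, Matrix.mulVec_smul,
      Matrix.mulVec_smul, gl_inv_mulVec', gl_inv_mulVec'])
  -- `gdual x = c • g x`
  have hgd : ∀ x, gdual Q hQ g x = c • (g : Matrix (Fin n) (Fin n) F).mulVec x := by
    intro x
    have h1 := hc x
    rw [hx] at h1
    have h3 := congrArg (fun t => (g : Matrix (Fin n) (Fin n) F).mulVec t) h1
    simp only [gl_inv_mulVec, Matrix.mulVec_smul] at h3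
    exact h3
  have hcQ : ∀ x, c * Q ((g : Matrix (Fin n) (Fin n) F).mulVec x) = Q x := by
    intro x
    have h1 := polar_gdual' Q hQ g x x
    rw [hgd, polar_smul_left, polar_self_eq, polar_self_eq, smul_eq_mul] at h1
    have h3 : (2 : F) * (c * Q ((g : Matrix (Fin n) (Fin n) F).mulVec x)) = 2 * Q x := by
      rw [← h1]; ring
    exact mul_left_cancel₀ h2 h3
  obtain ⟨z, -, hz⟩ := exists_nonsingular_mem_perp hQ (⊥ : Submodule F (Fin n → F))
    (by rw [finrank_bot]; omega)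
  have hc0 : c ≠ 0 := by
    rintro rfl
    apply hz
    rw [← hcQ z, zero_mul]
  refine ⟨Units.mk0 c⁻¹ (inv_ne_zero hc0), fun x => ?_⟩
  rw [Units.val_mk0, ← hcQ x, ← mul_assoc, inv_mul_cancel₀ hc0, one_mul]

include h2 hQ in
/-- **the non-similarity half**: a non-similarity in `M ⊇ GO ∩ SL` produces a good transvection -/
theorem exists_eSet_of_not_similarity (hn : 13 ≤ n)
    {M : Subgroup (Matrix.GeneralLinearGroup (Fin n) F)}
    (hM : quadSimilarityGroup ⇑Q ⊓ specialLinear (Fin n) F ≤ M)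
    (g : Matrix.GeneralLinearGroup (Fin n) F) (hgM : g ∈ M) (hg : g ∉ quadSimilarityGroup ⇑Q) :
    ∃ v w₀ : Fin n → F, v ≠ 0 ∧ w₀ ∈ eSet Q M v ∧ w₀ ∉ Submodule.span F {v} := by
  obtain ⟨u, w, hu0, hu, huw, hy⟩ := exists_pair_of_not_similarity Q h2 hQ hn g hg
  set v := (g : Matrix (Fin n) (Fin n) F).mulVec u with hv
  set gw := (g : Matrix (Fin n) (Fin n) F).mulVec w with hgw
  set z := gdual Q hQ g u with hz
  set y := gdual Q hQ g w with hydef
  obtain ⟨k, hkH, hkQ, hkv, hkg, hkz, q, t, ht, hq, hqv, hkq⟩ :=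
    exists_rotation Q h2 hQ hn v gw z y hy
  have hv0 : v ≠ 0 := by
    intro h0
    apply hu0
    rw [← gl_inv_mulVec' g u, ← hv, h0, Matrix.mulVec_zero]
  -- the conjugated Eichler element
  set X : Matrix.GeneralLinearGroup (Fin n) F := g * ei Q u w hu huw * g⁻¹ with hXdef
  have hXM : X ∈ M := M.mul_mem (M.mul_mem hgM (hM (ei_mem Q u w hu huw))) (M.inv_mem hgM)
  have hpy : ∀ x : Fin n → F,
      polar ⇑Q (((g⁻¹ : Matrix.GeneralLinearGroup (Fin n) F) :
        Matrix (Fin n) (Fin n) F).mulVec x) w = polar ⇑Q x y := by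
    intro x
    rw [polar_comm, ← polar_gdual, polar_comm]
  have hpz : ∀ x : Fin n → F,
      polar ⇑Q (((g⁻¹ : Matrix.GeneralLinearGroup (Fin n) F) :
        Matrix (Fin n) (Fin n) F).mulVec x) u = polar ⇑Q x z := by
    intro x
    rw [polar_comm, ← polar_gdual, polar_comm]
  have hX : ∀ x, (X : Matrix (Fin n) (Fin n) F).mulVec x
      = x + polar ⇑Q x y • v - polar ⇑Q x z • gw - (Q w * polar ⇑Q x z) • v := by
    intro x
    rw [hXdef, gl_mul_mulVec, gl_mul_mulVec, ei_mulVec, hpy, hpz]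
    simp only [Matrix.mulVec_sub, Matrix.mulVec_add, Matrix.mulVec_smul, gl_inv_mulVec]
    rfl
  have hvy : polar ⇑Q v y = 0 := by
    rw [polar_comm, hydef, hv, polar_gdual', polar_comm]
    exact huw
  have hvz : polar ⇑Q v z = 0 := by
    rw [polar_comm, hz, hv, polar_gdual', polar_self_eq, hu, mul_zero]
  have h0 : fd Q ((k : Matrix (Fin n) (Fin n) F).mulVec y - y) v = 0 := by
    rw [fd_apply, hkq, polar_smul_right, polar_comm, hqv, smul_zero]
  have hcomm := comm_eq_tv Q X k v gw z y (Q w) hX hkQ hkv hkg hkz hvy hvz h0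
  have hkM : k ∈ M := hM hkH
  refine ⟨v, (k : Matrix (Fin n) (Fin n) F).mulVec y - y, hv0, ⟨h0, ?_⟩, ?_⟩
  · rw [← hcomm]
    exact M.mul_mem (M.mul_mem (M.mul_mem (M.inv_mem hXM) hkM) hXM) (M.inv_mem hkM)
  · rw [hkq]
    intro hmem
    obtain ⟨c, hc⟩ := Submodule.mem_span_singleton.1 hmem
    -- `q = c' • v`
    have hq' : q = (t⁻¹ * c) • v := by
      rw [← smul_smul, hc, smul_smul, inv_mul_cancel₀ ht, one_smul]
    have h1 : polar ⇑Q q v = 0 := hqv
    rw [hq', polar_smul_left, polar_self_eq, smul_eq_mul] at h1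
    apply hq
    rw [hq', QuadraticMap.map_smul, smul_eq_mul]
    rcases mul_eq_zero.1 h1 with h3 | h3
    · rw [h3, mul_zero, zero_mul]
    · rcases mul_eq_zero.1 h3 with h4 | h4
      · exact absurd h4 h2
      · rw [h4, mul_zero]

include h2 hQ in
/-- some transvection is not a similarity -/
theorem exists_sl_not_similarity (hn : 13 ≤ n) :
    ∃ g ∈ specialLinear (Fin n) F, g ∉ quadSimilarityGroup ⇑Q := by
  have hfr := finrank_eq (F := F) (n := n)
  obtain ⟨v, hv0, hv⟩ : ∃ v : Fin n → F, v ≠ 0 ∧ Q v = 0 := by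
    have he : (Pi.single (⟨0, by omega⟩ : Fin n) (1 : F) : Fin n → F) ≠ 0 := by
      intro h0
      have := congrFun h0 ⟨0, by omega⟩
      rw [Pi.single_eq_same, Pi.zero_apply] at this
      exact one_ne_zero this
    obtain ⟨u, -, huu, hu⟩ := QG.exists_singular h2 hQ ⊥ (by rw [finrank_bot]; omega)
      (w₀ := Pi.single (⟨0, by omega⟩ : Fin n) (1 : F)) (by simpa using he)
    refine ⟨u, ?_, huu⟩
    rintro rfl
    apply hu
    simp [polar]
  have h0 : fd Q v v = 0 := by rw [fd_apply, polar_self_eq, hv, mul_zero]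
  refine ⟨tv (fd Q v) v h0, tv_mem_sl _ _ _, ?_⟩
  rintro ⟨μ, hμ⟩
  have hQt : ∀ x : Fin n → F, Q x + polar ⇑Q x v * polar ⇑Q x v = (μ : F) * Q x := by
    intro x
    have h1 := hμ x
    rw [tv_mulVec, fd_apply, QuadraticMap.map_add ⇑Q, QuadraticMap.map_smul, hv,
      polar_smul_right, smul_eq_mul, smul_eq_mul, mul_zero, add_zero] at h1
    exact h1
  have hd := finrank_span_singleton_le_one (F := F) v
  obtain ⟨x₀, hx₀S, hx₀⟩ := exists_nonsingular_mem_perp hQ (Submodule.span F {v}) (by omega)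
  rw [mem_perp_span] at hx₀S
  have hx₀v : polar ⇑Q x₀ v = 0 := hx₀S v rfl
  have hμ1 : (μ : F) = 1 := by
    have h1 := hQt x₀
    rw [hx₀v, mul_zero, add_zero] at h1
    have h3 : ((μ : F) - 1) * Q x₀ = 0 := by rw [sub_mul, ← h1]; ring
    exact sub_eq_zero.1 ((mul_eq_zero.1 h3).resolve_right hx₀)
  apply hv0
  apply hQ.1 v
  intro x
  have h1 := hQt x
  rw [hμ1, one_mul] at h1
  have h3 : polar ⇑Q x v * polar ⇑Q x v = 0 := by linear_combination h1
  rw [QuadraticMap.polarBilin_apply_apply, polar_comm]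
  exact mul_self_eq_zero.1 h3

include h2 hQ in
/-- **`GO_n(F) ∩ SL_n(F)` is a maximal subgroup of `SL_n(F)`** (`|F|` odd, `n ≥ 13`). -/
theorem go_isMaximalIn_sl_aux (hn : 13 ≤ n) :
    IsMaximalIn (specialLinear (Fin n) F) (quadSimilarityGroup ⇑Q ⊓ specialLinear (Fin n) F) := by
  refine ⟨lt_of_le_of_ne inf_le_right fun heq => ?_, fun M hPM hMS => ?_⟩
  · obtain ⟨g, hg, hgs⟩ := exists_sl_not_similarity Q h2 hQ hn
    rw [← heq] at hg
    exact hgs hg.1
  · by_cases hE : M ≤ quadSimilarityGroup ⇑Q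
    · left
      exact le_antisymm (le_inf hE hMS) hPM
    · right
      obtain ⟨g, hgM, hg⟩ := SetLike.not_le_iff_exists.1 hE
      obtain ⟨v, w₀, hv0, hw₀, hw₀v⟩ := exists_eSet_of_not_similarity Q h2 hQ hn hPM g hgM hg
      exact le_antisymm hMS (sl_le_of_eSet Q h2 hQ hn hPM hv0 hw₀ hw₀v)

/-- the same, for a functional quadratic form -/
theorem go_isMaximalIn_sl (hn : 13 ≤ n) (hodd : Odd (Fintype.card F)) (Qf : (Fin n → F) → F)
    (hQf : Cfsg.Geo.IsNondegenerateQuadraticForm Qf) :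
    IsMaximalIn (specialLinear (Fin n) F) (quadSimilarityGroup Qf ⊓ specialLinear (Fin n) F) := by
  have h2 : (2 : F) ≠ 0 := by
    intro h
    have h3 : ringChar F = 2 := by
      have := CharP.ringChar_of_prime_eq_zero Nat.prime_two (R := F) (by exact_mod_cast h)
      exact this
    have h4 := FiniteField.even_card_iff_char_two.1 h3
    rcases hodd with ⟨k, hk⟩
    omega
  obtain ⟨Q, hQcoe⟩ : ∃ Q : QuadraticForm F (Fin n → F), ⇑Q = Qf :=
    ⟨Helper45.OmegaParity.qfOfGeo Qf hQf, rfl⟩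
  subst hQcoe
  exact go_isMaximalIn_sl_aux Q h2 (Helper45.OmegaParity.nondeg_of_geo Q hQf) hn

end Cfsg.Agent.Helper44.OrthInSL
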