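/-
helper44: the class counts of elements of odd prime order in `O^+_{2m}(q)` and `O^-_{2m}(q)`.
-/
import Mathlib
import Cfsg.Agent.Helper44.OrthPrimeCount
import Cfsg.Agent.Helper44.OrthPrimeArith
import Cfsg.Agent.Helper43.SpPrimeF

set_option autoImplicit false

namespace Cfsg.Agent.Helper44.QType

open Polynomial Matrix QuadraticMap Cfsg Cfsg.Agent.Helper44
open Cfsg.Agent.Helper43 Cfsg.Agent.Helper43.SS Cfsg.Agent.Helper43.SpPrime

universe u

section final

variable {F : Type u} [Field F] [Fintype F]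

/-- anisotropy of the binary form forces a non-zero discriminant -/
theorem disc_ne_zero_of_aniso (a c : F)
    (hac : ∀ z₁ z₂ : F, z₁ ^ 2 + a * z₁ * z₂ + c * z₂ ^ 2 = 0 → z₁ = 0 ∧ z₂ = 0) :
    a ^ 2 - 4 * c ≠ 0 := by
  intro h
  by_cases h2 : (2 : F) = 0
  · have h4 : (4 : F) = 0 := by
      have : (4 : F) = 2 * 2 := by norm_num
      rw [this, h2, mul_zero]
    rw [h4, zero_mul, sub_zero] at h
    have ha : a = 0 := pow_eq_zero_iff (two_ne_zero) |>.mp h
    haveI : CharP F 2 := by
      apply CharTwo.of_one_ne_zero_of_two_eq_zero one_ne_zero h2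
    obtain ⟨s, hs⟩ := isSquare_of_charTwo' c
    have := hac s 1 (by
      rw [ha, hs]
      have : s ^ 2 + 0 * s * 1 + s * s * 1 ^ 2 = 2 * (s * s) := by ring
      rw [this, h2, zero_mul])
    exact one_ne_zero this.2
  · have := hac a (-2) (by linear_combination -h)
    exact h2 (neg_eq_zero.mp this.2)

variable (p : ℕ) [Fact p.Prime] [CharP F p] {q : ℕ} (hF : Fintype.card F = q)
  (m r i t : ℕ) (hm : 1 ≤ m) (hr : r.Prime) (hr2 : r ≠ 2) (hrp : r ≠ p)
  (hi : i = orderOf (q : ZMod r)) (ht : t * i = r - 1)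

include hF hr hr2 hrp hi ht in
theorem basic_facts : 0 < i ∧ 1 ≤ t ∧ ((q : ℕ) : ZMod r) ≠ 0 ∧ (Odd i → 1 ≤ t / 2) := by
  haveI : Fact r.Prime := ⟨hr⟩
  have hp : p.Prime := Fact.out
  have h2 := hr.two_le
  have hipos : 0 < i := by
    rcases Nat.eq_zero_or_pos i with h0 | h0
    · rw [h0, mul_zero] at ht
      omega
    · exact h0
  have htpos : 1 ≤ t := by
    rcases Nat.eq_zero_or_pos t with h0 | h0
    · rw [h0, zero_mul] at ht
      omega
    · exact h0
  refine ⟨hipos, htpos, ?_, ?_⟩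
  · rw [Ne, ZMod.natCast_eq_zero_iff]
    obtain ⟨e, -, hcard⟩ := FiniteField.card F p
    rw [← hF, hcard]
    intro hdvd
    exact hrp ((Nat.prime_dvd_prime_iff_eq hr hp).mp (hr.dvd_of_dvd_pow hdvd))
  · intro hodd
    · have hrodd : Odd r := hr.eq_two_or_odd'.resolve_left hr2
      have heven : Even (t * i) := by
        rw [ht]
        obtain ⟨s, hs⟩ := hrodd
        exact ⟨s, by omega⟩
      have hteven : Even t := by
        rcases Nat.even_mul.mp heven with h | h
        · exact h
        · exact absurd h (Nat.not_even_iff_odd.mpr hodd)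
      obtain ⟨s, hs⟩ := hteven
      omega

include hF hm hr hr2 hrp hi ht in
/-- the count for a form of plus type -/
theorem card_classes_plus_type {κ : Type} [Fintype κ] [DecidableEq κ]
    (Qt : QuadraticForm F (κ → F)) (hκ : Fintype.card κ = 2 * m)
    (hnd : ∀ x, (∀ y, polar Qt x y = 0) → x = 0) (hT : HasType (⇑Qt) m 1) :
    Nat.card {C : ConjClasses ↥(Cfsg.isometryGroup F ⇑Qt) //
      ∃ g : ↥(Cfsg.isometryGroup F ⇑Qt), ConjClasses.mk g = C ∧ orderOf g = r}
      = if Odd i then Nat.choose (m / i + t / 2) (t / 2) - 1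
        else Nat.choose (2 * m / i + t) t - 1
          - (if i ∣ 2 * m ∧ Odd (2 * m / i) then Nat.choose (2 * m / i + t - 1) (t - 1) else 0) := by
  haveI : Fact r.Prime := ⟨hr⟩
  obtain ⟨hipos, htpos, hq0, -⟩ := basic_facts p hF r i t hr hr2 hrp hi ht
  rw [card_classes_prime_order_orth p Qt hκ hnd (Or.inl rfl) hT r hr hr2 hrp,
    card_orthPred m r hm 1]
  have hcond : (((Nat.card F : ℕ) : ZMod r) ^ m = ((1 : ℤ) : ZMod r)) ↔ i ∣ m := by
    rw [Nat.card_eq_fintype_card, hF, Int.cast_one, pow_eq_one_iff_dvd, ← hi]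
  by_cases hodd : Odd i
  · rw [if_pos hodd]
    by_cases hd : i ∣ m
    · rw [if_pos (hcond.mpr hd)]
      exact card_spPrimePred_odd p hF m r i t hr hr2 hrp hi ht hodd
    · rw [if_neg (fun h => hd (hcond.mp h)),
        card_spPrimePred_odd p hF (m - 1) r i t hr hr2 hrp hi ht hodd, pred_div_of_not_dvd hm hd]
  · rw [if_neg hodd]
    have heven : Even i := Nat.not_odd_iff_even.mp hodd
    by_cases hd : i ∣ m
    · rw [if_pos (hcond.mpr hd), card_spPrimePred_even p hF m r i t hr hrp hi ht heven]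
      have hnot : ¬ (i ∣ 2 * m ∧ Odd (2 * m / i)) := by
        rintro ⟨-, ho⟩
        obtain ⟨B, rfl⟩ := hd
        rw [show 2 * (i * B) = i * (2 * B) by ring, Nat.mul_div_cancel_left _ hipos] at ho
        exact absurd (even_two_mul B) (Nat.not_even_iff_odd.mpr ho)
      rw [if_neg hnot, Nat.sub_zero]
    · rw [if_neg (fun h => hd (hcond.mp h)),
        card_spPrimePred_even p hF (m - 1) r i t hr hrp hi ht heven]
      by_cases hd2 : i ∣ 2 * m
      · have hoddA : Odd (2 * m / i) := by
          by_contra hA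
          rw [Nat.not_odd_iff_even] at hA
          obtain ⟨A, hA'⟩ := hd2
          rw [hA', Nat.mul_div_cancel_left _ hipos] at hA
          obtain ⟨B, rfl⟩ := hA
          apply hd
          exact ⟨B, by
            have : 2 * m = 2 * (i * B) := by rw [hA']; ring
            omega⟩
        rw [if_pos ⟨hd2, hoddA⟩]
        have hA1 : 1 ≤ 2 * m / i := hoddA.pos
        rw [choose_pascal _ t hA1 htpos]
        have := sub_two_div_of_dvd hm heven hd2
        congr 2
        omega
      · rw [if_neg (fun h => hd2 h.1), Nat.sub_zero, sub_two_div_of_not_dvd hm heven hd2]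

include hF hm hr hr2 hrp hi ht in
/-- the count for a form of minus type -/
theorem card_classes_minus_type {κ : Type} [Fintype κ] [DecidableEq κ]
    (Qt : QuadraticForm F (κ → F)) (hκ : Fintype.card κ = 2 * m)
    (hnd : ∀ x, (∀ y, polar Qt x y = 0) → x = 0) (hT : HasType (⇑Qt) m (-1)) :
    Nat.card {C : ConjClasses ↥(Cfsg.isometryGroup F ⇑Qt) //
      ∃ g : ↥(Cfsg.isometryGroup F ⇑Qt), ConjClasses.mk g = C ∧ orderOf g = r}
      = if Odd i then Nat.choose (m / i + t / 2) (t / 2) - 1
          - (if i ∣ m then Nat.choose (m / i + t / 2 - 1) (t / 2 - 1) else 0)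
        else Nat.choose (2 * m / i + t) t - 1
          - (if i ∣ 2 * m ∧ Even (2 * m / i) then Nat.choose (2 * m / i + t - 1) (t - 1) else 0) := by
  haveI : Fact r.Prime := ⟨hr⟩
  obtain ⟨hipos, htpos, hq0, hs⟩ := basic_facts p hF r i t hr hr2 hrp hi ht
  rw [card_classes_prime_order_orth p Qt hκ hnd (Or.inr rfl) hT r hr hr2 hrp,
    card_orthPred m r hm (-1)]
  have hcond : (((Nat.card F : ℕ) : ZMod r) ^ m = ((-1 : ℤ) : ZMod r))
      ↔ (Even i ∧ i ∣ 2 * m ∧ Odd (2 * m / i)) := by
    rw [Nat.card_eq_fintype_card, hF, Int.cast_neg, Int.cast_one,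
      pow_eq_neg_one_iff hr2 _ hq0, ← hi]
  by_cases hodd : Odd i
  · rw [if_pos hodd, if_neg (fun h => absurd (hcond.mp h).1 (Nat.not_even_iff_odd.mpr hodd)),
      card_spPrimePred_odd p hF (m - 1) r i t hr hr2 hrp hi ht hodd]
    have hs1 := hs hodd
    by_cases hd : i ∣ m
    · rw [if_pos hd]
      have hA1 : 1 ≤ m / i := Nat.div_pos (Nat.le_of_dvd (by omega) hd) hipos
      rw [choose_pascal _ _ hA1 hs1]
      have := pred_div_of_dvd hm hd
      congr 2
      omega
    · rw [if_neg hd, Nat.sub_zero, pred_div_of_not_dvd hm hd]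
  · rw [if_neg hodd]
    have heven : Even i := Nat.not_odd_iff_even.mp hodd
    by_cases hc : i ∣ 2 * m ∧ Odd (2 * m / i)
    · rw [if_pos (hcond.mpr ⟨heven, hc⟩), card_spPrimePred_even p hF m r i t hr hrp hi ht heven,
        if_neg (fun h => absurd h.2 (Nat.not_even_iff_odd.mpr hc.2)), Nat.sub_zero]
    · rw [if_neg (fun h => hc (hcond.mp h).2),
        card_spPrimePred_even p hF (m - 1) r i t hr hrp hi ht heven]
      by_cases hd2 : i ∣ 2 * m
      · have hevenA : Even (2 * m / i) := by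
          by_contra hA
          exact hc ⟨hd2, Nat.not_even_iff_odd.mp hA⟩
        rw [if_pos ⟨hd2, hevenA⟩]
        have hA1 : 1 ≤ 2 * m / i := Nat.div_pos (Nat.le_of_dvd (by omega) hd2) hipos
        rw [choose_pascal _ t hA1 htpos]
        have := sub_two_div_of_dvd hm heven hd2
        congr 2
        omega
      · rw [if_neg (fun h => hd2 h.1), Nat.sub_zero, sub_two_div_of_not_dvd hm heven hd2]

end final

end Cfsg.Agent.Helper44.QType
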