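-- (Q3) of helper88's WANTED #4677 for S5318: all involutions of SL₃(F), F finite of odd order, are conjugate
-- to diag(-1,-1,1).
import Cfsg.Agent.Helper88.PSL3Fus

set_option autoImplicit false

namespace Cfsg.Agent.Helper44.PSL3Q

open Matrix Cfsg.Agent.Helper37.PSL3Inv Cfsg.Agent.Helper37.SU3Inv Cfsg.Agent.Helper37.GL2S2
  Cfsg.Agent.Helper85 Cfsg.Agent.Helper88.PSL3F

variable {F : Type*} [Field F] [Fintype F]

/-- in a finite field of odd order `2 ≠ 0` -/
theorem two_ne_zero_of_card_odd (hF : Fintype.card F % 2 = 1) : (2 : F) ≠ 0 := by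
  intro h
  have h2 : ringChar F ∣ 2 := by
    have := (ringChar.spec F 2).1 (by exact_mod_cast h)
    exact this
  have hp : (ringChar F).Prime := CharP.char_is_prime F (ringChar F)
  have h3 : ringChar F = 2 := (Nat.prime_dvd_prime_iff_eq hp Nat.prime_two).1 h2
  have := FiniteField.even_card_iff_char_two.1 h3
  omega

/-- the matrix of `zSL F` is `Dm = diag(-1,-1,1)` -/
theorem zSL_val : (zSL F).1 = (Dm : Matrix (Fin 3) (Fin 3) F) := by
  unfold zSL
  rw [blkSL_val]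
  have : ((-1 : GL (Fin 2) F)).1 = (-1 : Matrix (Fin 2) (Fin 2) F) := rfl
  rw [this, Dm]
  have hd : (-1 : Matrix (Fin 2) (Fin 2) F).det = 1 := by
    rw [Matrix.det_fin_two]; simp
  rw [hd, inv_one]

/-- (Q3) all involutions of SL₃(F) are conjugate to diag(-1,-1,1) (F of odd order). -/
theorem exists_conj_zSL (hF : Fintype.card F % 2 = 1) (g : Matrix.SpecialLinearGroup (Fin 3) F)
    (hg : g * g = 1) (hg1 : g ≠ 1) : ∃ k : Matrix.SpecialLinearGroup (Fin 3) F, k * zSL F * k⁻¹ = g := by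
  have h2 : (2 : F) ≠ 0 := two_ne_zero_of_card_odd hF
  have hsq : g.1 * g.1 = 1 := by
    rw [← Matrix.SpecialLinearGroup.coe_mul, hg, Matrix.SpecialLinearGroup.coe_one]
  have hne : g.1 ≠ 1 := by
    intro h
    apply hg1
    apply Subtype.ext
    rw [h, Matrix.SpecialLinearGroup.coe_one]
  obtain ⟨P, hP⟩ := exists_diag h2 g.1 hsq g.2 hne
  rw [← Dm_eq] at hP
  have hd : P.1.det ≠ 0 := det_ne_zero_GL P
  set E : Matrix (Fin 3) (Fin 3) F := blk 1 (P.1.det)⁻¹ with hE
  have hED : E * Dm = Dm * E := blk_comm_Dm _ _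
  have hdetE : E.det = (P.1.det)⁻¹ := by
    rw [hE, det_blk, Matrix.det_one, one_mul]
  have hdet : (P.1 * E).det = 1 := by
    rw [Matrix.det_mul, hdetE, mul_inv_cancel₀ hd]
  let k : Matrix.SpecialLinearGroup (Fin 3) F := ⟨P.1 * E, hdet⟩
  have hk : k.1 = P.1 * E := rfl
  refine ⟨k, ?_⟩
  rw [mul_inv_eq_iff_eq_mul]
  apply Subtype.ext
  rw [Matrix.SpecialLinearGroup.coe_mul, Matrix.SpecialLinearGroup.coe_mul, zSL_val, hk]
  rw [Matrix.mul_assoc, hED, ← Matrix.mul_assoc, ← hP, Matrix.mul_assoc]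

end Cfsg.Agent.Helper44.PSL3Q
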