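-- (Q4) of helper88's WANTED #4677 for S5318: the centralizer of diag(-1,-1,1) in SL₃(F) is the image of GL₂(F).
import Cfsg.Agent.Helper44.PSL3Q3

set_option autoImplicit false

namespace Cfsg.Agent.Helper44.PSL3Q

open Matrix Cfsg.Agent.Helper37.PSL3Inv Cfsg.Agent.Helper37.SU3Inv Cfsg.Agent.Helper37.GL2S2
  Cfsg.Agent.Helper85 Cfsg.Agent.Helper88.PSL3F

variable {F : Type*} [Field F] [Fintype F]

/-- (Q4) the centralizer of diag(-1,-1,1) in SL₃(F) is the image of GL₂(F). -/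
theorem exists_blkSL_of_comm (hF : Fintype.card F % 2 = 1) (g : Matrix.SpecialLinearGroup (Fin 3) F)
    (hg : g * zSL F = zSL F * g) : ∃ A : GL (Fin 2) F, blkSL A = g := by
  have h2 : (2 : F) ≠ 0 := two_ne_zero_of_card_odd hF
  have hc : g.1 * Dm = Dm * g.1 := by
    have := congrArg Subtype.val hg
    rw [Matrix.SpecialLinearGroup.coe_mul, Matrix.SpecialLinearGroup.coe_mul, zSL_val] at this
    exact this
  have hblk := eq_blk_of_comm h2 g.1 hc
  set A₀ : Matrix (Fin 2) (Fin 2) F := !![g.1 0 0, g.1 0 1; g.1 1 0, g.1 1 1] with hA₀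
  have hdet : A₀.det * g.1 2 2 = 1 := by
    rw [← det_blk, ← hblk]
    exact g.2
  have hA0 : A₀.det ≠ 0 := left_ne_zero_of_mul_eq_one hdet
  have he : g.1 2 2 = (A₀.det)⁻¹ := eq_inv_of_mul_eq_one_right hdet
  refine ⟨Matrix.GeneralLinearGroup.mkOfDetNeZero A₀ hA0, ?_⟩
  apply Subtype.ext
  rw [blkSL_val]
  show blk A₀ (A₀.det)⁻¹ = g.1
  rw [← he, ← hblk]

end Cfsg.Agent.Helper44.PSL3Q
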