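-- (Q5) of helper88's WANTED #4677 for S5318: the image of a Sylow 2-subgroup of GL₂(F) is a Sylow 2-subgroup of
-- SL₃(F) (as far as the order goes), F finite of odd order.
import Cfsg.Agent.Helper88.PSL3Fus
import Cfsg.Agent.S2364

set_option autoImplicit false

namespace Cfsg.Agent.Helper44.PSL3Q

open Matrix Cfsg.Agent.Helper37.PSL3Inv Cfsg.Agent.Helper37.SU3Inv Cfsg.Agent.Helper37.GL2S2
  Cfsg.Agent.Helper85 Cfsg.Agent.Helper88.PSL3F

variable {F : Type*} [Field F] [Fintype F]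

/-- `blkSL : GL₂(F) → SL₃(F)` is injective -/
theorem blkSL_injective : Function.Injective (blkSL : GL (Fin 2) F → Matrix.SpecialLinearGroup (Fin 3) F) := by
  intro A B h
  have h1 := congrArg Subtype.val h
  rw [blkSL_val, blkSL_val] at h1
  exact Units.ext (blk_inj h1).1

/-- arithmetic: `|SL₃(q)| = |GL₂(q)| * (q² (q² + q + 1))` -/
theorem card_SL3_eq (q : ℕ) (hq : 1 ≤ q) :
    q ^ 2 * ((q ^ 3 - 1) * (q ^ 3 - q)) = q * ((q - 1) * (q ^ 2 - 1)) * (q ^ 2 * (q ^ 2 + q + 1)) := by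
  obtain ⟨m, rfl⟩ : ∃ m, q = m + 1 := ⟨q - 1, by omega⟩
  have e1 : (m + 1) ^ 3 - 1 = m * ((m + 1) ^ 2 + (m + 1) + 1) := by
    have : (m + 1) ^ 3 = m * ((m + 1) ^ 2 + (m + 1) + 1) + 1 := by ring
    omega
  have e2 : (m + 1) ^ 3 - (m + 1) = (m + 1) * ((m + 1) ^ 2 - 1) := by
    rw [Nat.mul_sub, mul_one]; ring_nf
  have e3 : m + 1 - 1 = m := by omega
  rw [e1, e2, e3]
  ring

/-- (Q5) the image of a Sylow 2-subgroup of GL₂(F) is a Sylow 2-subgroup of SL₃(F). -/
theorem card_map_blkSL (hF : Fintype.card F % 2 = 1) (P : Sylow 2 (GL (Fin 2) F)) :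
    Nat.card ((P : Subgroup (GL (Fin 2) F)).map blkSL) =
      2 ^ (Nat.card (Matrix.SpecialLinearGroup (Fin 3) F)).factorization 2 := by
  have h1 : Nat.card ((P : Subgroup (GL (Fin 2) F)).map blkSL) = Nat.card (P : Subgroup (GL (Fin 2) F)) :=
    Subgroup.card_map_of_injective blkSL_injective
  rw [h1, Sylow.card_eq_multiplicity]
  congr 1
  have hSL := Cfsg.Agent.S2364.card_SL_formula (F := F) 3 (by norm_num)
  have hGL := Cfsg.Agent.Helper37.GL2.card_GL2 (F := F)
  have hq : 1 ≤ Fintype.card F := Fintype.card_pos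
  have hprod : ∏ i ∈ Finset.range (3 - 1), (Fintype.card F ^ 3 - Fintype.card F ^ i) =
      (Fintype.card F ^ 3 - 1) * (Fintype.card F ^ 3 - Fintype.card F) := by
    simp [Finset.prod_range_succ]
  rw [hprod] at hSL
  have h3 : (3 - 1 : ℕ) = 2 := rfl
  rw [h3, card_SL3_eq _ hq, ← hGL] at hSL
  rw [hSL]
  have hpos : Nat.card (GL (Fin 2) F) ≠ 0 := Nat.card_pos.ne'
  have hodd : ¬ 2 ∣ Fintype.card F ^ 2 * (Fintype.card F ^ 2 + Fintype.card F + 1) := by
    generalize Fintype.card F = q at hF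
    intro h
    rcases (Nat.Prime.dvd_mul Nat.prime_two).1 h with h | h
    · have := Nat.Prime.dvd_of_dvd_pow Nat.prime_two h
      omega
    · have e : q ^ 2 + q + 1 = q * (q + 1) + 1 := by ring
      rw [e] at h
      have : 2 ∣ q * (q + 1) := Nat.even_mul_succ_self q |>.two_dvd
      omega
  have hne : Fintype.card F ^ 2 * (Fintype.card F ^ 2 + Fintype.card F + 1) ≠ 0 := by
    intro h; rw [h] at hodd; exact hodd (dvd_zero _)
  rw [Nat.factorization_mul hpos hne, Finsupp.add_apply,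
    Nat.factorization_eq_zero_of_not_dvd hodd, add_zero]

end Cfsg.Agent.Helper44.PSL3Q
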