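import Mathlib
import Cfsg.Agent.Helper44.QSimDefs
import Cfsg.Agent.Helper44.QTypeClassify
import Cfsg.Agent.Helper19.QSimAR
import Cfsg.Agent.Helper65.QSimIDX0
import Cfsg.Agent.Helper65.QSimIDX3
import Cfsg.Agent.Helper45.QSimIDX

set_option autoImplicit false

/-!
# S5981: the type of `Q` from the index condition (piece (IDXb))

If `r ≠ p` is an odd prime with `q` of even order modulo `r` and `r` divides the index in `SL_n(q)`
of the similarity group of `Q`, then `n = 2m` and `q^m ≡ -ε` modulo `r`, where `ε` is the type of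
`Q`.
-/

namespace Cfsg.Agent.Helper44.QSim

open Matrix Cfsg.Geo QuadraticMap Cfsg.Agent.Helper44.QType

universe u

variable {F : Type u} [Field F] [Fintype F] {n : ℕ}

theorem not_dvd_card (p : ℕ) [Fact p.Prime] [CharP F p] {q : ℕ} (hq : Fintype.card F = q)
    {r : ℕ} (hr : r.Prime) (hrp : r ≠ p) : ¬ r ∣ q := by
  have hp : p.Prime := Fact.out
  obtain ⟨k, -, hk⟩ := FiniteField.card F p
  rw [← hq, hk]
  intro h
  exact hrp ((Nat.prime_dvd_prime_iff_eq hr hp).mp (hr.dvd_of_dvd_pow h))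

theorem two_le_card' {q : ℕ} (hq : Fintype.card F = q) : 2 ≤ q := by
  rw [← hq]
  exact Fintype.one_lt_card

/-- (IDXb) -/
theorem type_of_index (p : ℕ) [Fact p.Prime] [CharP F p] {q : ℕ} (hq : Fintype.card F = q)
    (hodd : Odd q) (hn : 3 ≤ n) (Q : QuadraticForm F (Fin n → F))
    (hQ : (polarBilin Q).Nondegenerate) (r : ℕ) (hr : r.Prime) (hrp : r ≠ p)
    (hev : Even (orderOf (q : ZMod r)))
    (hΩ : r ∣ (quadSimilarityGroup (⇑Q)).relIndex (specialLinear (Fin n) F)) :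
    ∃ (m : ℕ) (ε : ℤ), n = 2 * m ∧ 1 ≤ m ∧ (ε = 1 ∨ ε = -1) ∧ HasType (⇑Q) m ε ∧
      ((q : ℕ) : ZMod r) ^ m = - ((ε : ℤ) : ZMod r) := by
  have h0 := Cfsg.Agent.Helper65.QSim.card_isometryGroup_mul_dvd Q hQ r hΩ
  rw [Cfsg.Agent.Helper65.QSim.card_specialLinear hq (by omega)] at h0
  have hrq := not_dvd_card p hq hr hrp
  have hq2 := two_le_card' hq
  have hnd : ∀ x : Fin n → F, (∀ y, polar (⇑Q) x y = 0) → x = 0 := by
    intro x hx
    apply hQ.1
    intro y
    rw [polarBilin_apply_apply]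
    exact hx y
  rcases Nat.even_or_odd' n with ⟨m, hm | hm⟩
  · have hm1 : 1 ≤ m := by omega
    have hV : Module.finrank F (Fin n → F) = 2 * m := by
      rw [Module.finrank_fintype_fun_eq_card, Fintype.card_fin, hm]
    obtain ⟨ε, hε, hT⟩ := exists_hasType Q hV hnd
    refine ⟨m, ε, hm, hm1, hε, hT, ?_⟩
    rcases hε with rfl | rfl
    · rw [Cfsg.Agent.Helper45.QSim.card_isometryGroup_plus hq Q hQ hm hm1 hT, hm] at h0
      have h1 := Cfsg.Agent.Helper19.QSim.arith_plus hq2 hm1 hr hrq hev h0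
      have h2 : ((q ^ m + 1 : ℕ) : ZMod r) = 0 := (ZMod.natCast_eq_zero_iff _ _).mpr h1
      push_cast at h2
      push_cast
      linear_combination h2
    · rw [Cfsg.Agent.Helper45.QSim.card_isometryGroup_minus hq Q hQ hm hm1 hT, hm] at h0
      have h1 := Cfsg.Agent.Helper19.QSim.arith_minus hq2 hm1 hr hrq hev h0
      have h2 : ((q ^ m - 1 : ℕ) : ZMod r) = 0 := (ZMod.natCast_eq_zero_iff _ _).mpr h1
      rw [Nat.cast_sub (Nat.one_le_pow _ _ (by omega))] at h2
      push_cast at h2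
      push_cast
      linear_combination h2
  · exfalso
    rw [Cfsg.Agent.Helper45.QSim.card_isometryGroup_odd hq hodd Q hQ hm, hm] at h0
    exact Cfsg.Agent.Helper19.QSim.arith_odd hq2 hr hrq hev h0

theorem orderOf_cast_ne_one {q r : ℕ} (hq : 1 ≤ q) (h : ¬ r ∣ q - 1) :
    orderOf (q : ZMod r) ≠ 1 := by
  intro h1
  rw [orderOf_eq_one_iff] at h1
  apply h
  rw [← ZMod.natCast_eq_zero_iff, Nat.cast_sub hq, h1]
  simp

theorem orderOf_cast_pos {q r : ℕ} (hr : r.Prime) (h : ¬ r ∣ q) : 0 < orderOf (q : ZMod r) := by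
  haveI : Fact r.Prime := ⟨hr⟩
  rw [orderOf_pos_iff, isOfFinOrder_iff_pow_eq_one]
  refine ⟨r - 1, by have := hr.two_le; omega, ?_⟩
  apply ZMod.pow_card_sub_one_eq_one
  intro h0
  exact h ((ZMod.natCast_eq_zero_iff _ _).mp h0)

theorem padicVal_eq_one {r N : ℕ} [Fact r.Prime] (hN : N ≠ 0) (h1 : r ∣ N) (h2 : ¬ r ^ 2 ∣ N) :
    padicValNat r N = 1 := by
  have a : 1 ≤ padicValNat r N := one_le_padicValNat_of_dvd hN h1
  have b : ¬ 2 ≤ padicValNat r N := fun h => h2 ((padicValNat_dvd_iff_le hN).mpr h)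
  omega

end Cfsg.Agent.Helper44.QSim
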