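import Mathlib
import Cfsg.Agent.Helper44.QSimDefs
import Cfsg.Agent.Helper44.QSimIdx
import Cfsg.Agent.Helper44.QSimTwoA
import Cfsg.Agent.Helper11.QSimEX1
import Cfsg.Agent.Helper11.QSimEX2
import Cfsg.Agent.Helper11.QSimEX3
import Cfsg.Agent.Helper40.QSimEX4

set_option autoImplicit false

/-!
# S5981: the exceptional cases `n = r ∈ {3, 5}`, `(q - 1)_r = r` (piece (EX5))

Every element of order `r` of `PSL_r(q)` is conjugate into the similarity group of `Q`.
-/

namespace Cfsg.Agent.Helper44.QSim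

open Matrix Cfsg.Geo QuadraticMap Polynomial Cfsg.Agent.Helper44.QType

universe u

variable {F : Type u} [Field F] [Fintype F] {n : ℕ}

omit [Fintype F] in
theorem prod_X_sub_C_coeff_zero {k : ℕ} (μ : Fin k → F) :
    (∏ i, (X - C (μ i)) : F[X]).coeff 0 = (-1) ^ k * ∏ i, μ i := by
  rw [coeff_zero_eq_eval_zero, eval_prod]
  simp only [eval_sub, eval_X, eval_C, zero_sub]
  rw [Finset.prod_neg]
  simp

/-- (EX5) -/
theorem good_exceptional (p : ℕ) [Fact p.Prime] [CharP F p] (hp2 : p ≠ 2) {q : ℕ}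
    (hq : Fintype.card F = q) (Q : QuadraticForm F (Fin n → F))
    (hQ : (polarBilin Q).Nondegenerate) (r : ℕ) (hr : r.Prime) (h35 : r = 3 ∨ r = 5)
    (hnr : n = r) (hv : padicValNat r (q - 1) = 1) (x : GL (Fin n) F) (hx : IsPrimeElt r x) :
    ∃ g ∈ specialLinear (Fin n) F, g⁻¹ * x * g ∈ quadSimilarityGroup (⇑Q) := by
  classical
  subst hnr
  have hp : p.Prime := Fact.out
  obtain ⟨hxSL, ⟨z, hz⟩, hns⟩ := hx
  have hdet : (x : Matrix (Fin n) (Fin n) F).det = 1 := (mem_specialLinear_iff x).mp hxSL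
  have hr2 : n ≠ 2 := by rcases h35 with h | h <;> omega
  have hrq : n ∣ q - 1 := dvd_of_one_le_padicValNat (by omega)
  have hz' : (x : Matrix (Fin n) (Fin n) F) ^ n = z • (1 : Matrix (Fin n) (Fin n) F) := by
    rw [← hz, Units.val_pow_eq_pow_val]
  have hz1 : z = 1 :=
    Cfsg.Agent.Helper11.QSim.scalar_eq_one_of_det hq n hr hr2 hv _ hdet z hz'
  rw [hz1, one_smul] at hz'
  have hxr : x ^ n = 1 := by
    apply Units.ext
    rw [Units.val_pow_eq_pow_val, hz']
    rfl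
  obtain ⟨μ, hμ, hch⟩ := Cfsg.Agent.Helper11.QSim.exists_roots_of_pow_eq_one hq n hr hrq _ hz'
  have hq2 := two_le_card' hq
  have hrp : n ≠ p := by
    intro h
    have h1 : p ∣ q := by
      obtain ⟨k, -, hk⟩ := FiniteField.card F p
      rw [← hq, hk]
      exact dvd_pow_self p k.ne_zero
    have h2 : p ∣ q - 1 := h ▸ hrq
    have h3 : p ∣ 1 := by
      have := Nat.dvd_sub h1 h2
      rwa [Nat.sub_sub_self (by omega)] at this
    exact hp.one_lt.ne' (Nat.dvd_one.mp h3)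
  have hcop : n.Coprime p := (Nat.coprime_primes hr hp).mpr hrp
  have hnF : (n : F) ≠ 0 := by
    intro h0
    rw [CharP.cast_eq_zero_iff F p n] at h0
    exact hrp ((Nat.prime_dvd_prime_iff_eq hp hr).mp h0).symm
  have hprod : ∏ i, μ i = 1 := by
    have h1 := Matrix.det_eq_sign_charpoly_coeff (x : Matrix (Fin n) (Fin n) F)
    rw [hch, prod_X_sub_C_coeff_zero, hdet, Fintype.card_fin, ← mul_assoc, ← mul_pow] at h1
    simpa using h1.symm
  have hμ0 : ∀ i, μ i ≠ 0 := by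
    intro i h0
    have := hμ i
    rw [h0, zero_pow hr.ne_zero] at this
    exact zero_ne_one this
  have hne : ∃ i j, μ i ≠ μ j := by
    by_contra hcon
    push Not at hcon
    have hn0 : 0 < n := hr.pos
    set a := μ ⟨0, hn0⟩ with ha
    have hμa : μ = fun _ => a := funext fun i => hcon i _
    have ha0 : a ≠ 0 := hμ0 _
    set y : GL (Fin n) F := Matrix.GeneralLinearGroup.mk'' (Matrix.diagonal μ) (by
      rw [Matrix.det_diagonal]
      exact isUnit_iff_ne_zero.mpr (Finset.prod_ne_zero_iff.mpr fun i _ => hμ0 i)) with hy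
    have hyc : (y : Matrix (Fin n) (Fin n) F) = Matrix.diagonal μ := rfl
    have hyr : y ^ n = 1 := by
      apply Units.ext
      rw [Units.val_pow_eq_pow_val, hyc, Matrix.diagonal_pow]
      have : (μ ^ n) = fun _ => (1 : F) := funext fun i => hμ i
      rw [this]
      exact Matrix.diagonal_one
    have hconj := Cfsg.Agent.Helper43.SS.isConj_GL_of_charpoly_eq x y n n hnF hnF hxr hyr (by
      rw [hch, hyc, Matrix.charpoly_diagonal])
    obtain ⟨c, hc⟩ := isConj_iff.mp hconj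
    have hysc : (y : Matrix (Fin n) (Fin n) F) = a • (1 : Matrix (Fin n) (Fin n) F) := by
      rw [hyc, hμa, Matrix.smul_one_eq_diagonal]
    have hxy : x = y := by
      have h1 : x = c⁻¹ * y * c := by rw [← hc]; group
      rw [h1]
      apply Units.ext
      rw [Units.val_mul, Units.val_mul, hysc, Matrix.mul_smul, Matrix.mul_one, Matrix.smul_mul,
        coe_inv_mul]
    exact hns a (by rw [hxy, hysc])
  have h2 : (2 : F) ≠ 0 := two_ne_zero_of_char p hp2
  -- the pairing data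
  obtain ⟨h, hnh, c, lam, hc0, hcr, hlam0, hlamr, hpoly⟩ : ∃ (h : ℕ) (_ : n = 2 * h + 1) (c : F)
      (lam : Fin h → F), c ≠ 0 ∧ c ^ n = 1 ∧ (∀ i, lam i ≠ 0) ∧ (∀ i, lam i ^ n = 1) ∧
      (∏ i, (X - C (μ i)) : F[X])
        = (X - C c) * ∏ i, ((X - C (c * lam i)) * (X - C (c * (lam i)⁻¹))) := by
    rcases h35 with h3 | h5
    · subst h3
      refine ⟨1, rfl, μ 0, fun _ => μ 1 / μ 0, hμ0 0, hμ 0, fun _ => div_ne_zero (hμ0 1) (hμ0 0),
        fun _ => by rw [div_pow, hμ 1, hμ 0, div_one], ?_⟩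
      rw [Fin.prod_univ_three, Fin.prod_univ_one]
      have e1 : μ 0 * (μ 1 / μ 0) = μ 1 := by rw [mul_comm, div_mul_cancel₀ _ (hμ0 0)]
      have e2 : μ 0 * (μ 1 / μ 0)⁻¹ = μ 2 := by
        have h1 : μ 0 * μ 1 * μ 2 = 1 := by rw [← hprod, Fin.prod_univ_three]
        have h0 := hμ 0
        rw [inv_div, mul_div_assoc', div_eq_iff (hμ0 1)]
        linear_combination (-(μ 0) ^ 2) * h1 + μ 1 * μ 2 * h0
      rw [e1, e2]
      ring
    · subst h5
      obtain ⟨σ, hσ1, hσ2⟩ := Cfsg.Agent.Helper11.QSim.exists_pairs_five μ hμ hprod hne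
      refine ⟨2, rfl, μ (σ 0), ![μ (σ 1) / μ (σ 0), μ (σ 3) / μ (σ 0)], hμ0 _, hμ _, ?_, ?_, ?_⟩
      · intro i
        fin_cases i
        · exact div_ne_zero (hμ0 _) (hμ0 _)
        · exact div_ne_zero (hμ0 _) (hμ0 _)
      · intro i
        fin_cases i
        · show (μ (σ 1) / μ (σ 0)) ^ 5 = 1
          rw [div_pow, hμ, hμ, div_one]
        · show (μ (σ 3) / μ (σ 0)) ^ 5 = 1
          rw [div_pow, hμ, hμ, div_one]
      · rw [← Equiv.prod_comp σ (fun i => (X - C (μ i) : F[X])), Fin.prod_univ_five,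
          Fin.prod_univ_two]
        have hm0 := hμ0 (σ 0)
        have hm1 := hμ0 (σ 1)
        have hm3 := hμ0 (σ 3)
        have e1 : μ (σ 0) * (![μ (σ 1) / μ (σ 0), μ (σ 3) / μ (σ 0)] 0) = μ (σ 1) := by
          show μ (σ 0) * (μ (σ 1) / μ (σ 0)) = μ (σ 1)
          rw [mul_comm, div_mul_cancel₀ _ hm0]
        have e2 : μ (σ 0) * (![μ (σ 1) / μ (σ 0), μ (σ 3) / μ (σ 0)] 0)⁻¹ = μ (σ 2) := by
          show μ (σ 0) * (μ (σ 1) / μ (σ 0))⁻¹ = μ (σ 2)
          rw [inv_div, mul_div_assoc', div_eq_iff hm1]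
          linear_combination -hσ1
        have e3 : μ (σ 0) * (![μ (σ 1) / μ (σ 0), μ (σ 3) / μ (σ 0)] 1) = μ (σ 3) := by
          show μ (σ 0) * (μ (σ 3) / μ (σ 0)) = μ (σ 3)
          rw [mul_comm, div_mul_cancel₀ _ hm0]
        have e4 : μ (σ 0) * (![μ (σ 1) / μ (σ 0), μ (σ 3) / μ (σ 0)] 1)⁻¹ = μ (σ 4) := by
          show μ (σ 0) * (μ (σ 3) / μ (σ 0))⁻¹ = μ (σ 4)
          rw [inv_div, mul_div_assoc', div_eq_iff hm3]
          linear_combination -hσ2
        rw [e1, e2, e3, e4]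
        ring
  obtain ⟨y, hyH, hych, hyk⟩ :=
    Cfsg.Agent.Helper40.QSim.exists_sim_of_pairs h2 Q hQ hnh c hc0 lam hlam0
  have hyr : y ^ n = 1 := hyk n hcr hlamr
  exact exists_conj_of_charpoly p (⇑Q) x y n n hcop hnF hxr hyr hyH (by rw [hch, hych, hpoly])

end Cfsg.Agent.Helper44.QSim
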