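import Mathlib
import Cfsg.Agent.Helper44.QSimTwoA
import Cfsg.Agent.Helper43.SpTwoC

set_option autoImplicit false

/-!
# Involutions of `PSL_n(q)`, `q` odd, are conjugate into the orthogonal similarity groups:
the case of a non-square scalar (piece (R2b) of S5981)
-/

namespace Cfsg.Agent.Helper44.QSim

open Matrix Cfsg.Geo QuadraticMap Cfsg.Agent.Helper43.PGLInv Cfsg.Agent.Helper43.SpDer

universe u

variable {F : Type u} [Field F] [Fintype F] {n : ℕ}

/-- a weighted sum of two squares represents every element of a finite field of odd order -/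
theorem exists_sq_add_mul_sq (hodd : Odd (Fintype.card F)) (a z : F) (ha : a ≠ 0) :
    ∃ u t : F, u ^ 2 + a * t ^ 2 = z := by
  open Polynomial in
  have hf : (X ^ 2 : F[X]).degree = 2 := by
    rw [degree_X_pow]; rfl
  have hg : (C a * X ^ 2 - C z : F[X]).degree = 2 := by
    have h1 : (C a * X ^ 2 : F[X]).degree = 2 := by
      rw [degree_C_mul_X_pow 2 ha]; rfl
    rw [degree_sub_eq_left_of_degree_lt, h1]
    rw [h1]
    exact lt_of_le_of_lt degree_C_le (by norm_num)
  obtain ⟨u, t, h⟩ := FiniteField.exists_root_sum_quadratic hf hg (Nat.odd_iff.mp hodd)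
  refine ⟨u, t, ?_⟩
  simp only [Polynomial.eval_pow, Polynomial.eval_X, Polynomial.eval_sub, Polynomial.eval_mul,
    Polynomial.eval_C] at h
  linear_combination h

section block

variable {m : ℕ}

omit [Fintype F] in
/-- the block matrix squaring to `z` -/
theorem block_mul_self (α β u t : Fin m → F) (z : F)
    (h : ∀ i, u i ^ 2 + α i * β i * t i ^ 2 = z) :
    (fromBlocks (diagonal u) (diagonal fun i => β i * t i) (diagonal fun i => α i * t i)
        (diagonal fun i => - u i) : Matrix (Fin m ⊕ Fin m) (Fin m ⊕ Fin m) F)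
      * fromBlocks (diagonal u) (diagonal fun i => β i * t i) (diagonal fun i => α i * t i)
        (diagonal fun i => - u i) = z • 1 := by
  rw [fromBlocks_multiply]
  simp only [Matrix.diagonal_mul_diagonal, Matrix.diagonal_add]
  rw [← fromBlocks_one, fromBlocks_smul, smul_zero, Matrix.smul_one_eq_diagonal]
  congr 1
  · congr 1
    ext i
    rw [← h i]; ring
  · rw [← Matrix.diagonal_zero]
    congr 1
    ext i
    ring
  · rw [← Matrix.diagonal_zero]
    congr 1
    ext i
    ring
  · congr 1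
    ext i
    rw [← h i]; ring

omit [Fintype F] in
/-- the block matrix multiplies the weighted sum of squares by `z` -/
theorem block_form (α β u t : Fin m → F) (z : F)
    (h : ∀ i, u i ^ 2 + α i * β i * t i ^ 2 = z) (w : Fin m ⊕ Fin m → F) :
    (∑ i, (α i * ((fromBlocks (diagonal u) (diagonal fun i => β i * t i)
          (diagonal fun i => α i * t i) (diagonal fun i => - u i) :
            Matrix (Fin m ⊕ Fin m) (Fin m ⊕ Fin m) F) *ᵥ w) (Sum.inl i) ^ 2
        + β i * ((fromBlocks (diagonal u) (diagonal fun i => β i * t i)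
          (diagonal fun i => α i * t i) (diagonal fun i => - u i) :
            Matrix (Fin m ⊕ Fin m) (Fin m ⊕ Fin m) F) *ᵥ w) (Sum.inr i) ^ 2))
      = z * ∑ i, (α i * w (Sum.inl i) ^ 2 + β i * w (Sum.inr i) ^ 2) := by
  rw [Finset.mul_sum]
  apply Finset.sum_congr rfl
  intro i _
  have hw : w = Sum.elim (fun j => w (Sum.inl j)) (fun j => w (Sum.inr j)) := by
    ext s
    rcases s with s | s <;> rfl
  have e1 : ((fromBlocks (diagonal u) (diagonal fun i => β i * t i)
        (diagonal fun i => α i * t i) (diagonal fun i => - u i) :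
          Matrix (Fin m ⊕ Fin m) (Fin m ⊕ Fin m) F) *ᵥ w) (Sum.inl i)
      = u i * w (Sum.inl i) + β i * t i * w (Sum.inr i) := by
    conv_lhs => rw [hw]
    rw [fromBlocks_mulVec, Sum.elim_inl, Pi.add_apply, Matrix.mulVec_diagonal,
      Matrix.mulVec_diagonal]
    rfl
  have e2 : ((fromBlocks (diagonal u) (diagonal fun i => β i * t i)
        (diagonal fun i => α i * t i) (diagonal fun i => - u i) :
          Matrix (Fin m ⊕ Fin m) (Fin m ⊕ Fin m) F) *ᵥ w) (Sum.inr i)
      = α i * t i * w (Sum.inl i) + - u i * w (Sum.inr i) := by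
    conv_lhs => rw [hw]
    rw [fromBlocks_mulVec, Sum.elim_inr, Pi.add_apply, Matrix.mulVec_diagonal,
      Matrix.mulVec_diagonal]
    rfl
  rw [e1, e2, ← h i]
  ring

end block

/-- (R2b) The case of a non-square scalar. -/
theorem good_nonsquare (p : ℕ) [Fact p.Prime] [CharP F p] (hp2 : p ≠ 2)
    (Q : QuadraticForm F (Fin n → F)) (hQ : (polarBilin Q).Nondegenerate)
    (x : GL (Fin n) F) (hx : x ∈ specialLinear (Fin n) F) (z : F) (hz : ¬ IsSquare z)
    (hxx : (x : Matrix (Fin n) (Fin n) F) * (x : Matrix (Fin n) (Fin n) F)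
      = z • (1 : Matrix (Fin n) (Fin n) F)) :
    ∃ g ∈ specialLinear (Fin n) F, g⁻¹ * x * g ∈ quadSimilarityGroup (⇑Q) := by
  classical
  have h2 : (2 : F) ≠ 0 := two_ne_zero_of_char p hp2
  have hodd := odd_card_of_char_ne_two (F := F) p hp2
  have hz0 : z ≠ 0 := by
    rintro rfl
    exact hz ⟨0, by simp⟩
  set zu : Fˣ := Units.mk0 z hz0 with hzu
  have hxsc : x * x = sc n zu := by
    apply Units.ext
    rw [Units.val_mul, Matrix.GeneralLinearGroup.coe_scalar, scalar_eq_smul_one]
    exact hxx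
  obtain ⟨m, hnm⟩ := even_of_nonsquare x zu hxsc hz
  obtain ⟨P, R, d, hPR, hRP, hd, hQP⟩ := exists_diag_form h2 Q hQ
  -- coordinates in pairs
  let e : Fin m ⊕ Fin m ≃ Fin n := finSumFinEquiv.trans (finCongr hnm.symm)
  let α : Fin m → F := fun i => d (e (Sum.inl i))
  let β : Fin m → F := fun i => d (e (Sum.inr i))
  have hαβ : ∀ i, α i * β i ≠ 0 := fun i => mul_ne_zero (hd _) (hd _)
  choose u t hut using fun i => exists_sq_add_mul_sq hodd (α i * β i) z (hαβ i)
  -- the linear equivalence to the paired coordinates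
  let Req : (Fin n → F) ≃ₗ[F] (Fin n → F) :=
    { Matrix.toLin' R with
      invFun := Matrix.toLin' P
      left_inv := fun v => by
        show Matrix.toLin' P (Matrix.toLin' R v) = v
        rw [Matrix.toLin'_apply, Matrix.toLin'_apply, Matrix.mulVec_mulVec, hPR,
          Matrix.one_mulVec]
      right_inv := fun v => by
        show Matrix.toLin' R (Matrix.toLin' P v) = v
        rw [Matrix.toLin'_apply, Matrix.toLin'_apply, Matrix.mulVec_mulVec, hRP,
          Matrix.one_mulVec] }
  let φ : (Fin n → F) ≃ₗ[F] (Fin m ⊕ Fin m → F) :=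
    Req.trans (LinearEquiv.funCongrLeft F F e)
  have hφ : ∀ v s, φ v s = (R *ᵥ v) (e s) := fun v s => rfl
  have hQφ : ∀ v, Q v = ∑ i, (α i * φ v (Sum.inl i) ^ 2 + β i * φ v (Sum.inr i) ^ 2) := by
    intro v
    have h1 : Q v = Q (P *ᵥ (R *ᵥ v)) := by
      rw [Matrix.mulVec_mulVec, hPR, Matrix.one_mulVec]
    rw [h1, hQP, ← Equiv.sum_comp e, Fintype.sum_sum_type, ← Finset.sum_add_distrib]
    apply Finset.sum_congr rfl
    intro i _
    rw [hφ, hφ]
  set Y' : Matrix (Fin m ⊕ Fin m) (Fin m ⊕ Fin m) F :=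
    fromBlocks (diagonal u) (diagonal fun i => β i * t i) (diagonal fun i => α i * t i)
      (diagonal fun i => - u i) with hY'
  have hY'Y' : Y' * Y' = z • 1 := block_mul_self α β u t z hut
  set Y₀ : Matrix (Fin n) (Fin n) F := embMat φ Y' with hY₀
  have hYY : Y₀ * Y₀ = z • 1 := by
    rw [hY₀, ← embMat_mul, hY'Y', embMat_smul, embMat_one]
  have hYinv : Y₀ * (z⁻¹ • Y₀) = 1 := by
    rw [Matrix.mul_smul, hYY, smul_smul, inv_mul_cancel₀ hz0, one_smul]
  have hYinv' : (z⁻¹ • Y₀) * Y₀ = 1 := by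
    rw [Matrix.smul_mul, hYY, smul_smul, inv_mul_cancel₀ hz0, one_smul]
  set y : GL (Fin n) F := ⟨Y₀, z⁻¹ • Y₀, hYinv, hYinv'⟩ with hy
  have hysc : y * y = sc n zu := by
    apply Units.ext
    rw [Units.val_mul, Matrix.GeneralLinearGroup.coe_scalar, scalar_eq_smul_one]
    exact hYY
  have hconj := isConj_of_sq_nonsquare hodd x y zu hz hxsc hysc
  have hymem : y ∈ quadSimilarityGroup (⇑Q) := by
    rw [mem_quadSimilarityGroup_iff]
    refine ⟨zu, ?_⟩
    intro v
    show Q (Y₀ *ᵥ v) = z * Q v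
    rw [hQφ, hQφ, hY₀]
    have h3 : φ (embMat φ Y' *ᵥ v) = Y' *ᵥ φ v := by
      rw [embMat_mulVec, LinearEquiv.apply_symm_apply]
    rw [h3]
    exact block_form α β u t z hut (φ v)
  have hcop := orderOf_coprime_of_sq_scalar p hp2 x z hz0 hxx
  exact exists_conj_of_isConj p (⇑Q) x y hcop hymem hconj

end Cfsg.Agent.Helper44.QSim
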