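/-
helper44: conjugacy classes of a normal subgroup `N = ker δ` inside a conjugacy class of `G`.
-/
import Mathlib

set_option autoImplicit false

namespace Cfsg.Agent.Helper44.SLk

/-- the classes of `N` lying in the `G`-class of `x` are at most `|A : δ(C_G(x))|` -/
theorem card_fiber_le {G N A : Type*} [Group G] [Group N] [CommGroup A] [Finite A]
    (i : N →* G) (hi : Function.Injective i) (δ : G →* A)
    (hker : ∀ g, δ g = 1 → g ∈ i.range) (x : G) :
    Nat.card {C : ConjClasses N // ConjClasses.map i C = ConjClasses.mk x}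
      ≤ (Subgroup.map δ (Subgroup.centralizer {x})).index := by
  classical
  set H : Subgroup A := Subgroup.map δ (Subgroup.centralizer {x}) with hH
  have hex : ∀ C : {C : ConjClasses N // ConjClasses.map i C = ConjClasses.mk x},
      ∃ h : G, h * x * h⁻¹ = i (Quotient.out C.1) := by
    intro C
    have h1 := C.2
    rw [← Quotient.out_eq C.1] at h1
    have h2 : ConjClasses.mk (i (Quotient.out C.1)) = ConjClasses.mk x := h1
    exact isConj_iff.1 (ConjClasses.mk_eq_mk_iff_isConj.1 h2).symm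
  choose h hh using hex
  rw [Subgroup.index_eq_card]
  apply Nat.card_le_card_of_injective (fun C => (QuotientGroup.mk (δ (h C)) : A ⧸ H))
  intro C C' hCC
  have h1 : (δ (h C))⁻¹ * δ (h C') ∈ H := QuotientGroup.eq.1 hCC
  obtain ⟨z, hz, hz'⟩ := Subgroup.mem_map.1 h1
  have hzx : x * z = z * x := (Subgroup.mem_centralizer_iff.1 hz) x rfl
  have hs : δ (h C' * z⁻¹ * (h C)⁻¹) = 1 := by
    rw [map_mul, map_mul, map_inv, map_inv, hz']
    rw [mul_inv_rev, inv_inv]
    have : δ (h C') * ((δ (h C'))⁻¹ * δ (h C)) * (δ (h C))⁻¹ = 1 := by group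
    exact this
  obtain ⟨n, hn⟩ := hker _ hs
  have h2 : i (n * Quotient.out C.1 * n⁻¹) = i (Quotient.out C'.1) := by
    rw [map_mul, map_mul, map_inv, hn, ← hh C, ← hh C']
    have hzx' : z⁻¹ * x * z = x := by rw [mul_assoc, hzx, ← mul_assoc, inv_mul_cancel, one_mul]
    calc h C' * z⁻¹ * (h C)⁻¹ * (h C * x * (h C)⁻¹) * (h C' * z⁻¹ * (h C)⁻¹)⁻¹
        = h C' * (z⁻¹ * x * z) * (h C')⁻¹ := by group
      _ = h C' * x * (h C')⁻¹ := by rw [hzx']
  have h3 := hi h2
  apply Subtype.ext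
  rw [← Quotient.out_eq C.1, ← Quotient.out_eq C'.1]
  exact ConjClasses.mk_eq_mk_iff_isConj.2 (isConj_iff.2 ⟨n, h3⟩)

theorem pow_gcd_mem {A : Type*} [CommGroup A] (H : Subgroup A) (m k : ℕ)
    (hm : ∀ a : A, a ^ m ∈ H) (hk : ∀ a : A, a ^ k ∈ H) (a : A) : a ^ Nat.gcd m k ∈ H := by
  have h1 : (a ^ Nat.gcd m k) = (a ^ (Nat.gcdA m k)) ^ m * (a ^ (Nat.gcdB m k)) ^ k := by
    rw [← zpow_natCast a (Nat.gcd m k), Nat.gcd_eq_gcd_ab, zpow_add, zpow_mul', zpow_mul',
      zpow_natCast, zpow_natCast]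
  rw [h1]
  exact H.mul_mem (hm _) (hk _)

theorem pow_finset_gcd_mem {A : Type*} [CommGroup A] (H : Subgroup A) {ι : Type*}
    (s : Finset ι) (f : ι → ℕ) (hs : ∀ i ∈ s, ∀ a : A, a ^ f i ∈ H) (a : A) :
    a ^ s.gcd f ∈ H := by
  classical
  induction s using Finset.induction_on generalizing a with
  | empty =>
    rw [Finset.gcd_empty]
    simp
  | insert j s hj ih =>
    rw [Finset.gcd_insert]
    exact pow_gcd_mem H _ _ (hs j (Finset.mem_insert_self j s))
      (fun a => ih (fun i hi => hs i (Finset.mem_insert_of_mem hi)) a) a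

/-- if `H` contains all `d`-th powers in a finite cyclic group, its index is at most
`gcd d |A|` -/
theorem index_le_gcd {A : Type*} [CommGroup A] [Finite A] [IsCyclic A] (H : Subgroup A) (d : ℕ)
    (hd : ∀ a : A, a ^ d ∈ H) : H.index ≤ Nat.gcd d (Nat.card A) := by
  have h1 : (powMonoidHom d : A →* A).range ≤ H := by
    rintro _ ⟨a, rfl⟩
    exact hd a
  have h2 := Subgroup.index_dvd_of_le h1
  rw [IsCyclic.index_powMonoidHom_range] at h2
  rw [Nat.gcd_comm]
  exact Nat.le_of_dvd (Nat.gcd_pos_of_pos_left _ Nat.card_pos) h2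

end Cfsg.Agent.Helper44.SLk
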