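/-
helper44: the determinant of a block-diagonal map on a dependent product of finite free modules
over a field, and multiplicativity of the determinant in short exact sequences.
-/
import Mathlib

set_option autoImplicit false

namespace Cfsg.Agent.Helper44.SLk

universe u v

variable {F : Type u} [Field F]

/-- the determinant of a conjugate by a linear equivalence, in applied form -/
theorem det_eq_of_equiv {M N : Type*} [AddCommGroup M] [Module F M] [AddCommGroup N] [Module F N]
    (f : M →ₗ[F] M) (g : N →ₗ[F] N) (e : M ≃ₗ[F] N) (h : ∀ x, e (f x) = g (e x)) :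
    LinearMap.det f = LinearMap.det g := by
  rw [← LinearMap.det_conj f e]
  congr 1
  apply LinearMap.ext
  intro y
  show e (f (e.symm y)) = g y
  rw [h, e.apply_symm_apply]

theorem det_piMap (ι : Type v) [Fintype ι] :
    ∀ (A : ι → Type v) [∀ i, AddCommGroup (A i)] [∀ i, Module F (A i)]
      [∀ i, Module.Finite F (A i)] (f : ∀ i, A i →ₗ[F] A i),
      LinearMap.det (LinearMap.piMap f) = ∏ i, LinearMap.det (f i) := by
  refine Fintype.induction_empty_option
    (P := fun (ι : Type v) [Fintype ι] => ∀ (A : ι → Type v) [∀ i, AddCommGroup (A i)]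
      [∀ i, Module F (A i)] [∀ i, Module.Finite F (A i)] (f : ∀ i, A i →ₗ[F] A i),
      LinearMap.det (LinearMap.piMap f) = ∏ i, LinearMap.det (f i)) ?_ ?_ ?_ ι
  · intro α β _ e ih A _ _ _ f
    letI : Fintype α := Fintype.ofEquiv β e.symm
    have h1 := ih (fun a => A (e a)) (fun a => f (e a))
    rw [← Fintype.prod_equiv e (fun a => LinearMap.det (f (e a))) (fun b => LinearMap.det (f b))
      (fun _ => rfl), ← h1]
    symm
    apply det_eq_of_equiv _ _ (LinearEquiv.piCongrLeft F A e)
    intro x
    funext b
    obtain ⟨a, rfl⟩ := e.surjective b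
    show (Equiv.piCongrLeft A e) (fun a => f (e a) (x a)) (e a)
      = f (e a) ((Equiv.piCongrLeft A e) x (e a))
    rw [Equiv.piCongrLeft_apply_apply, Equiv.piCongrLeft_apply_apply]
  · intro A _ _ _ f
    rw [LinearMap.det_eq_one_of_subsingleton, Finset.prod_of_isEmpty]
  · intro α _ ih A _ _ _ f
    rw [Fintype.prod_option, ← ih (fun a => A (some a)) (fun a => f (some a)),
      ← LinearMap.det_prodMap]
    apply det_eq_of_equiv _ _ (LinearEquiv.piOptionEquivProd (R := F) (M := A))
    intro x
    rfl

/-- multiplicativity of the determinant in a short exact sequence -/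
theorem det_of_exact {V' V V'' : Type*} [AddCommGroup V'] [Module F V'] [AddCommGroup V]
    [Module F V] [AddCommGroup V''] [Module F V''] [Module.Finite F V]
    (i : V' →ₗ[F] V) (p : V →ₗ[F] V'') (hi : Function.Injective i) (hp : Function.Surjective p)
    (hex : LinearMap.range i = LinearMap.ker p)
    (f' : V' →ₗ[F] V') (f : V →ₗ[F] V) (f'' : V'' →ₗ[F] V'')
    (h1 : ∀ x, i (f' x) = f (i x)) (h2 : ∀ x, p (f x) = f'' (p x)) :
    LinearMap.det f = LinearMap.det f' * LinearMap.det f'' := by
  have hW : LinearMap.range i ≤ (LinearMap.range i).comap f := by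
    rintro _ ⟨x, rfl⟩
    exact ⟨f' x, h1 x⟩
  rw [LinearMap.det_eq_det_mul_det (LinearMap.range i) f hW]
  congr 1
  · symm
    apply det_eq_of_equiv _ _ (LinearEquiv.ofInjective i hi)
    intro x
    apply Subtype.ext
    exact h1 x
  · have hker : LinearMap.ker p = LinearMap.range i := hex.symm
    apply det_eq_of_equiv _ _
      ((Submodule.quotEquivOfEq _ _ hex).trans (LinearMap.quotKerEquivOfSurjective p hp))
    intro y
    obtain ⟨x, rfl⟩ := Submodule.Quotient.mk_surjective _ y
    exact h2 x

end Cfsg.Agent.Helper44.SLk
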