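/-
helper44: determinants of multiplication maps on the cyclic modules `F[X]/(f)`.
-/
import Cfsg.Agent.Helper44.SLkDetPi

set_option autoImplicit false

namespace Cfsg.Agent.Helper44.SLk

open Polynomial

universe u v

variable {F : Type u} [Field F]

/-- multiplication by a polynomial on an `F[X]`-module, as an `F`-linear map -/
noncomputable def mulPoly (M : Type v) [AddCommGroup M] [Module F M] [Module F[X] M] [IsScalarTower F F[X] M]
    (w : F[X]) : M →ₗ[F] M :=
  (LinearMap.lsmul F[X] M w).restrictScalars F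

theorem mulPoly_apply (M : Type v) [AddCommGroup M] [Module F M] [Module F[X] M]
    [IsScalarTower F F[X] M] (w : F[X]) (x : M) : mulPoly M w x = w • x := rfl

/-- the cyclic module `F[X]/(f)` -/
abbrev Qm (f : F[X]) : Type u := F[X] ⧸ Submodule.span F[X] {f}

theorem finite_Qm (f : F[X]) (hf : f ≠ 0) : Module.Finite F (Qm f) := by
  show Module.Finite F (AdjoinRoot f)
  exact (AdjoinRoot.powerBasis hf).finite

theorem det_mulPoly_one (f : F[X]) (w : F[X]) (hf : Submodule.span F[X] {f} = ⊤) :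
    LinearMap.det (mulPoly (Qm f) w) = 1 := by
  have : Subsingleton (Qm f) := Submodule.Quotient.subsingleton_iff.2 hf
  exact LinearMap.det_eq_one_of_subsingleton _

/-- the determinant of multiplication by `X` on `F[X]/(f)`, `f` monic -/
theorem det_mulPoly_X (f : F[X]) (hf : f.Monic) :
    LinearMap.det (mulPoly (Qm f) (X : F[X])) = (-1) ^ f.natDegree * f.coeff 0 := by
  have h1 : mulPoly (Qm f) (X : F[X]) = Algebra.lmul F (AdjoinRoot f) (AdjoinRoot.root f) := by
    apply LinearMap.ext
    intro x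
    obtain ⟨g, rfl⟩ := Submodule.Quotient.mk_surjective _ x
    rfl
  have h2 := Algebra.PowerBasis.norm_gen_eq_coeff_zero_minpoly (AdjoinRoot.powerBasis' hf)
  rw [Algebra.norm_apply] at h2
  have h3 : minpoly F (AdjoinRoot.powerBasis' hf).gen = f := by
    rw [AdjoinRoot.powerBasis'_gen, AdjoinRoot.minpoly_root hf.ne_zero, hf.leadingCoeff, inv_one,
      map_one, mul_one]
  rw [h3, AdjoinRoot.powerBasis'_dim, AdjoinRoot.powerBasis'_gen] at h2
  rw [h1]
  exact h2

/-- the inclusion `F[X]/(p^e) → F[X]/(p^(e+1))`, multiplication by `p` -/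
noncomputable def inclQ (p : F[X]) (e : ℕ) : Qm (p ^ e) →ₗ[F[X]] Qm (p ^ (e + 1)) :=
  Submodule.mapQ _ _ (LinearMap.lsmul F[X] F[X] p) (by
    rw [Submodule.span_le]
    intro g hg
    rw [Set.mem_singleton_iff] at hg
    subst hg
    show p • p ^ e ∈ Submodule.span F[X] {p ^ (e + 1)}
    rw [smul_eq_mul, ← pow_succ']
    exact Submodule.mem_span_singleton_self _)

theorem inclQ_mk (p : F[X]) (e : ℕ) (g : F[X]) :
    inclQ p e (Submodule.Quotient.mk g) = Submodule.Quotient.mk (p * g) := rfl

/-- the projection `F[X]/(p^(e+1)) → F[X]/(p)` -/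
noncomputable def projQ (p : F[X]) (e : ℕ) : Qm (p ^ (e + 1)) →ₗ[F[X]] Qm p :=
  Submodule.mapQ _ _ LinearMap.id (by
    rw [Submodule.span_le]
    intro g hg
    rw [Set.mem_singleton_iff] at hg
    subst hg
    show p ^ (e + 1) ∈ Submodule.span F[X] {p}
    rw [Submodule.mem_span_singleton]
    exact ⟨p ^ e, by rw [smul_eq_mul, pow_succ]⟩)

theorem projQ_mk (p : F[X]) (e : ℕ) (g : F[X]) :
    projQ p e (Submodule.Quotient.mk g) = Submodule.Quotient.mk g := rfl

theorem inclQ_injective (p : F[X]) (hp : p ≠ 0) (e : ℕ) : Function.Injective (inclQ p e) := by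
  rw [← LinearMap.ker_eq_bot, LinearMap.ker_eq_bot']
  intro x hx
  obtain ⟨g, rfl⟩ := Submodule.Quotient.mk_surjective _ x
  rw [inclQ_mk, Submodule.Quotient.mk_eq_zero, Submodule.mem_span_singleton] at hx
  obtain ⟨c, hc⟩ := hx
  rw [Submodule.Quotient.mk_eq_zero, Submodule.mem_span_singleton]
  refine ⟨c, ?_⟩
  apply mul_left_cancel₀ hp
  rw [← hc, smul_eq_mul, smul_eq_mul, pow_succ']
  ring

theorem projQ_surjective (p : F[X]) (e : ℕ) : Function.Surjective (projQ p e) := by
  intro y
  obtain ⟨g, rfl⟩ := Submodule.Quotient.mk_surjective _ y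
  exact ⟨Submodule.Quotient.mk g, rfl⟩

theorem range_inclQ (p : F[X]) (e : ℕ) : LinearMap.range (inclQ p e) = LinearMap.ker (projQ p e) := by
  ext y
  obtain ⟨g, rfl⟩ := Submodule.Quotient.mk_surjective _ y
  rw [LinearMap.mem_range, LinearMap.mem_ker, projQ_mk, Submodule.Quotient.mk_eq_zero,
    Submodule.mem_span_singleton]
  constructor
  · rintro ⟨x, hx⟩
    obtain ⟨h, rfl⟩ := Submodule.Quotient.mk_surjective _ x
    rw [inclQ_mk, Submodule.Quotient.eq, Submodule.mem_span_singleton] at hx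
    obtain ⟨c, hc⟩ := hx
    refine ⟨h - c * p ^ e, ?_⟩
    have : g = p * h - c • p ^ (e + 1) := by rw [hc]; ring
    rw [this, smul_eq_mul, smul_eq_mul, pow_succ]
    ring
  · rintro ⟨c, hc⟩
    refine ⟨Submodule.Quotient.mk c, ?_⟩
    rw [inclQ_mk, ← hc, smul_eq_mul, mul_comm]

theorem det_mulPoly_succ (p : F[X]) (hp : p ≠ 0) (e : ℕ) (w : F[X]) :
    LinearMap.det (mulPoly (Qm (p ^ (e + 1))) w)
      = LinearMap.det (mulPoly (Qm (p ^ e)) w) * LinearMap.det (mulPoly (Qm p) w) := by
  haveI : Module.Finite F (Qm (p ^ (e + 1))) := finite_Qm _ (pow_ne_zero _ hp)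
  apply det_of_exact ((inclQ p e).restrictScalars F) ((projQ p e).restrictScalars F)
    (inclQ_injective p hp e) (projQ_surjective p e)
  · have := range_inclQ p e
    ext y
    have h2 := SetLike.ext_iff.1 this y
    exact h2
  · intro x
    show inclQ p e (w • x) = w • inclQ p e x
    rw [map_smul]
  · intro x
    show projQ p e (w • x) = w • projQ p e x
    rw [map_smul]

theorem det_mulPoly_pow (p : F[X]) (hp : p ≠ 0) (e : ℕ) (w : F[X]) :
    LinearMap.det (mulPoly (Qm (p ^ e)) w) = LinearMap.det (mulPoly (Qm p) w) ^ e := by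
  induction e with
  | zero =>
    simp only [pow_zero]
    exact det_mulPoly_one _ _ Ideal.span_singleton_one
  | succ e ih =>
    rw [det_mulPoly_succ p hp, ih, pow_succ]

/-- surjectivity of the norm: every element of a finite field is the determinant of a
multiplication on `F[X]/(p)`, `p` irreducible -/
theorem exists_det_mulPoly_eq [Finite F] (p : F[X]) (hp : Irreducible p) (a : F) :
    ∃ w : F[X], LinearMap.det (mulPoly (Qm p) w) = a := by
  haveI : Fact (Irreducible p) := ⟨hp⟩
  haveI : Module.Finite F (AdjoinRoot p) := (AdjoinRoot.powerBasis hp.ne_zero).finite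
  haveI : Finite (AdjoinRoot p) := Module.finite_of_finite F
  obtain ⟨κ, hκ⟩ := FiniteField.norm_surjective F (AdjoinRoot p) a
  obtain ⟨w, rfl⟩ := AdjoinRoot.mk_surjective κ
  refine ⟨w, ?_⟩
  rw [← hκ, Algebra.norm_apply]
  congr 1

end Cfsg.Agent.Helper44.SLk
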