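/-
helper44: from a primary decomposition of the module of an endomorphism: the determinant of the
endomorphism, and commuting endomorphisms with prescribed determinants.
-/
import Cfsg.Agent.Helper44.SLkQuotDet
import Cfsg.Agent.Helper44.GLkStruct

set_option autoImplicit false

namespace Cfsg.Agent.Helper44.SLk

open Polynomial Module Cfsg.Agent.Helper44.GLk

universe u

variable {F : Type u} [Field F]

/-- primary decomposition with monic primes and non-zero exponents -/
theorem exists_decomp_monic {V : Type u} [AddCommGroup V] [Module F V] [Module.Finite F V]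
    (φ : Module.End F V) :
    ∃ (ι : Type u) (_ : Fintype ι) (p : ι → F[X]) (e : ι → ℕ), (∀ i, Irreducible (p i)) ∧
      (∀ i, (p i).Monic) ∧ (∀ i, e i ≠ 0) ∧
      Nonempty (AEval' φ ≃ₗ[F[X]] ((i : ι) → Qm (p i ^ e i))) := by
  classical
  obtain ⟨ι, hι, p, e, hp, he, ⟨E⟩⟩ := exists_decomp φ
  refine ⟨ι, hι, fun i => normalize (p i), e,
    fun i => (normalize_associated (p i)).symm.irreducible (hp i),
    fun i => monic_normalize (hp i).ne_zero, he, ⟨?_⟩⟩
  have h1 : ∀ i, Submodule.span F[X] {p i ^ e i}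
      = Submodule.span F[X] {normalize (p i) ^ e i} := by
    intro i
    exact Ideal.span_singleton_eq_span_singleton.2 ((normalize_associated (p i)).symm.pow_pow)
  exact E.trans (LinearEquiv.piCongrRight (fun i => Submodule.quotEquivOfEq _ _ (h1 i)))

section cent

variable {V : Type u} [AddCommGroup V] [Module F V] [Module.Finite F V] (φ : Module.End F V)
  {ι : Type u} [Fintype ι] [DecidableEq ι] (p : ι → F[X]) (e : ι → ℕ)
  (E : AEval' φ ≃ₗ[F[X]] ((i : ι) → Qm (p i ^ e i)))

/-- the `F`-linear equivalence underlying a decomposition -/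
noncomputable def decompEquiv : V ≃ₗ[F] ((i : ι) → Qm (p i ^ e i)) :=
  (AEval'.of φ).trans (E.restrictScalars F)

theorem decompEquiv_apply (v : V) : decompEquiv φ p e E v = E (AEval'.of φ v) := rfl

theorem decompEquiv_map (v : V) :
    decompEquiv φ p e E (φ v) = (X : F[X]) • decompEquiv φ p e E v := by
  rw [decompEquiv_apply, decompEquiv_apply, ← AEval'.X_smul_of, map_smul]

theorem decompEquiv_symm_smul (y : (i : ι) → Qm (p i ^ e i)) :
    (decompEquiv φ p e E).symm ((X : F[X]) • y) = φ ((decompEquiv φ p e E).symm y) := by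
  apply (decompEquiv φ p e E).injective
  rw [decompEquiv_map, LinearEquiv.apply_symm_apply, LinearEquiv.apply_symm_apply]

/-- the block map: multiplication by `w` on the summand `i₀`, identity elsewhere -/
noncomputable def blockMap (i₀ : ι) (w : F[X]) :
    ((i : ι) → Qm (p i ^ e i)) →ₗ[F] ((i : ι) → Qm (p i ^ e i)) :=
  LinearMap.piMap (fun i => if i = i₀ then mulPoly (Qm (p i ^ e i)) w else LinearMap.id)

theorem blockMap_smul (i₀ : ι) (w : F[X]) (y : (i : ι) → Qm (p i ^ e i)) :
    blockMap p e i₀ w ((X : F[X]) • y) = (X : F[X]) • blockMap p e i₀ w y := by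
  funext i
  show (if i = i₀ then mulPoly (Qm (p i ^ e i)) w else LinearMap.id) ((X : F[X]) • y i)
    = (X : F[X]) • (if i = i₀ then mulPoly (Qm (p i ^ e i)) w else LinearMap.id) (y i)
  split_ifs
  · rw [mulPoly_apply, mulPoly_apply, smul_comm]
  · rfl

theorem det_blockMap (hp : ∀ i, p i ≠ 0) (i₀ : ι) (w : F[X]) :
    LinearMap.det (blockMap p e i₀ w) = LinearMap.det (mulPoly (Qm (p i₀)) w) ^ e i₀ := by
  haveI : ∀ i, Module.Finite F (Qm (p i ^ e i)) := fun i => finite_Qm _ (pow_ne_zero _ (hp i))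
  rw [blockMap, det_piMap, Finset.prod_eq_single i₀, if_pos rfl, det_mulPoly_pow _ (hp i₀)]
  · intro i _ hi
    rw [if_neg hi, LinearMap.det_id]
  · intro h
    exact absurd (Finset.mem_univ _) h

/-- the commuting endomorphism -/
noncomputable def centEnd (i₀ : ι) (w : F[X]) : V →ₗ[F] V :=
  ((decompEquiv φ p e E).symm : _ →ₗ[F] V) ∘ₗ blockMap p e i₀ w ∘ₗ
    ((decompEquiv φ p e E : V ≃ₗ[F] _) : V →ₗ[F] _)

theorem centEnd_apply (i₀ : ι) (w : F[X]) (v : V) : centEnd φ p e E i₀ w v
    = (decompEquiv φ p e E).symm (blockMap p e i₀ w (decompEquiv φ p e E v)) := rfl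

theorem centEnd_comm (i₀ : ι) (w : F[X]) (v : V) :
    centEnd φ p e E i₀ w (φ v) = φ (centEnd φ p e E i₀ w v) := by
  rw [centEnd_apply, centEnd_apply, decompEquiv_map, blockMap_smul, decompEquiv_symm_smul]

theorem det_centEnd (hp : ∀ i, p i ≠ 0) (i₀ : ι) (w : F[X]) :
    LinearMap.det (centEnd φ p e E i₀ w) = LinearMap.det (mulPoly (Qm (p i₀)) w) ^ e i₀ := by
  rw [← det_blockMap p e hp i₀ w]
  apply det_eq_of_equiv _ _ (decompEquiv φ p e E)
  intro v
  rw [centEnd_apply, LinearEquiv.apply_symm_apply]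

include E in
/-- the determinant of the endomorphism from the decomposition -/
theorem det_eq_prod (hp : ∀ i, (p i).Monic) :
    LinearMap.det φ = ∏ i, ((-1) ^ (p i).natDegree * (p i).coeff 0) ^ e i := by
  haveI : ∀ i, Module.Finite F (Qm (p i ^ e i)) :=
    fun i => finite_Qm _ (pow_ne_zero _ (hp i).ne_zero)
  have h1 : LinearMap.det φ
      = LinearMap.det (LinearMap.piMap (fun i => mulPoly (Qm (p i ^ e i)) (X : F[X]))) := by
    apply det_eq_of_equiv _ _ (decompEquiv φ p e E)
    intro v
    rw [decompEquiv_map]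
    rfl
  rw [h1, det_piMap]
  apply Finset.prod_congr rfl
  intro i _
  rw [det_mulPoly_pow _ (hp i).ne_zero, det_mulPoly_X _ (hp i)]

end cent

end Cfsg.Agent.Helper44.SLk
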