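/-
helper44: the invariants of an invertible matrix, with its determinant and centralizing elements
of prescribed determinants.
-/
import Cfsg.Agent.Helper44.SLkCent

set_option autoImplicit false

namespace Cfsg.Agent.Helper44.SLk

open Polynomial Module Cfsg.Agent.Helper44.GLk

universe u

variable {F : Type u} [Field F]

/-- `(-1)^deg f * f(0)`: the determinant of multiplication by `X` on `F[X]/(f)` -/
noncomputable def delta (f : F[X]) : F := (-1) ^ f.natDegree * f.coeff 0

theorem delta_one : delta (1 : F[X]) = 1 := by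
  rw [delta, natDegree_one, pow_zero, one_mul, coeff_one_zero]

theorem delta_mul {f g : F[X]} (hf : f.Monic) (hg : g.Monic) :
    delta (f * g) = delta f * delta g := by
  rw [delta, delta, delta, hf.natDegree_mul hg, mul_coeff_zero, pow_add]
  ring

theorem delta_prod {ι : Type*} (s : Finset ι) (f : ι → F[X]) (hf : ∀ i ∈ s, (f i).Monic) :
    delta (∏ i ∈ s, f i) = ∏ i ∈ s, delta (f i) := by
  classical
  induction s using Finset.induction_on with
  | empty => rw [Finset.prod_empty, Finset.prod_empty, delta_one]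
  | insert a s ha ih =>
    rw [Finset.prod_insert ha, Finset.prod_insert ha,
      delta_mul (hf a (Finset.mem_insert_self a s))
        (monic_prod_of_monic _ _ (fun i hi => hf i (Finset.mem_insert_of_mem hi))),
      ih (fun i hi => hf i (Finset.mem_insert_of_mem hi))]

variable [DecidableEq F]

theorem exists_inv_full [Finite F] {n : ℕ} (x : GL (Fin n) F) :
    ∃ c : ℕ → F[X], IsInv (Matrix.toLin' (x : Matrix (Fin n) (Fin n) F)) c ∧
      (∀ j, (c j).Monic ∧ (c j).coeff 0 ≠ 0) ∧ c 0 = 1 ∧ (∀ j, n < j → c j = 1) ∧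
      ∑ j ∈ Finset.range (n + 1), j * (c j).natDegree = n ∧
      (x : Matrix (Fin n) (Fin n) F).det = ∏ j ∈ Finset.range (n + 1), delta (c j) ^ j ∧
      ∀ j, c j ≠ 1 → ∀ a : F, a ≠ 0 → ∃ z : GL (Fin n) F, z * x = x * z ∧
        (z : Matrix (Fin n) (Fin n) F).det = a ^ j := by
  classical
  obtain ⟨φ, hφd⟩ : ∃ φ, φ = Matrix.toLin' (x : Matrix (Fin n) (Fin n) F) := ⟨_, rfl⟩
  have hφ : Function.Surjective φ := by
    rw [hφd]
    exact toLin'_surjective x
  rw [← hφd]
  obtain ⟨ι, hι, p, e, hp, hpm, he, ⟨E⟩⟩ := exists_decomp_monic φ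
  haveI : Module.Finite F (AEval' φ) := Module.Finite.equiv (AEval'.of φ)
  have hfr : Module.finrank F (Fin n → F) = n := Module.finrank_fin_fun F
  have hn : n = ∑ i, e i * (p i).natDegree := by
    rw [← hfr, LinearEquiv.finrank_eq (AEval'.of φ)]
    exact finrank_eq_sum p e E
  have hdeg : ∀ i, 1 ≤ (p i).natDegree := fun i => (hp i).natDegree_pos
  have hle : ∀ i, e i ≤ n := by
    intro i
    rw [hn]
    refine le_trans ?_ (Finset.single_le_sum (f := fun i => e i * (p i).natDegree)
      (fun _ _ => Nat.zero_le _) (Finset.mem_univ i))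
    exact Nat.le_mul_of_pos_right _ (hdeg i)
  have hnorm : ∀ i, normalize (p i) = p i := fun i => (hpm i).normalize_eq_self
  have hc : ∀ j, cseq p e j = ∏ i ∈ Finset.univ.filter (fun i => e i = j), p i := by
    intro j
    rw [cseq_def]
    exact Finset.prod_congr rfl (fun i _ => hnorm i)
  refine ⟨cseq p e, ⟨ι, hι, p, e, hp, ⟨E⟩, fun _ => rfl⟩, ?_, ?_, ?_, ?_, ?_, ?_⟩
  · intro j
    rw [hc]
    refine ⟨monic_prod_of_monic _ _ (fun i _ => hpm i), ?_⟩
    rw [coeff_zero_eq_eval_zero, eval_prod, Finset.prod_ne_zero_iff]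
    intro i _
    rw [← coeff_zero_eq_eval_zero]
    intro h0
    exact not_X_dvd φ hφ p e he E i (X_dvd_iff.2 h0)
  · rw [hc]
    exact Finset.prod_eq_one (fun i hi => absurd (Finset.mem_filter.1 hi).2 (he i))
  · intro j hj
    rw [hc]
    refine Finset.prod_eq_one (fun i hi => ?_)
    have := (Finset.mem_filter.1 hi).2
    have := hle i
    omega
  · have h1 : ∀ j ∈ Finset.range (n + 1), j * (cseq p e j).natDegree
        = ∑ i ∈ Finset.univ.filter (fun i => e i = j), e i * (p i).natDegree := by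
      intro j _
      rw [hc, natDegree_prod_of_monic _ _ (fun i _ => hpm i), Finset.mul_sum]
      apply Finset.sum_congr rfl
      intro i hi
      rw [(Finset.mem_filter.1 hi).2]
    rw [Finset.sum_congr rfl h1, Finset.sum_fiberwise_of_maps_to
      (fun i _ => Finset.mem_range.2 (Nat.lt_succ_of_le (hle i))), ← hn]
  · have h1 : ∀ j ∈ Finset.range (n + 1), delta (cseq p e j) ^ j
        = ∏ i ∈ Finset.univ.filter (fun i => e i = j), delta (p i) ^ e i := by
      intro j _
      rw [hc, delta_prod _ _ (fun i _ => hpm i), ← Finset.prod_pow]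
      apply Finset.prod_congr rfl
      intro i hi
      rw [(Finset.mem_filter.1 hi).2]
    rw [Finset.prod_congr rfl h1, Finset.prod_fiberwise_of_maps_to
      (fun i _ => Finset.mem_range.2 (Nat.lt_succ_of_le (hle i))),
      ← LinearMap.det_toLin', ← hφd]
    exact det_eq_prod φ p e E hpm
  · intro j hj a ha
    have hex : ∃ i₀, e i₀ = j := by
      by_contra hcon
      rw [not_exists] at hcon
      apply hj
      rw [hc]
      exact Finset.prod_eq_one (fun i hi => absurd (Finset.mem_filter.1 hi).2 (hcon i))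
    obtain ⟨i₀, hi₀⟩ := hex
    obtain ⟨w, hw⟩ := exists_det_mulPoly_eq (p i₀) (hp i₀) a
    have hdet : LinearMap.det (centEnd φ p e E i₀ w) = a ^ j := by
      rw [det_centEnd φ p e E (fun i => (hp i).ne_zero), hw, hi₀]
    obtain ⟨Z, hZ⟩ : ∃ Z : Matrix (Fin n) (Fin n) F, Z = LinearMap.toMatrix' (centEnd φ p e E i₀ w) :=
      ⟨_, rfl⟩
    have hZdet : Z.det = a ^ j := by
      rw [hZ, LinearMap.det_toMatrix', hdet]
    have hZ0 : Z.det ≠ 0 := by
      rw [hZdet]
      exact pow_ne_zero _ ha
    refine ⟨Matrix.GeneralLinearGroup.mkOfDetNeZero Z hZ0, ?_, hZdet⟩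
    apply Units.ext
    rw [Units.val_mul, Units.val_mul]
    show Z * (x : Matrix (Fin n) (Fin n) F) = (x : Matrix (Fin n) (Fin n) F) * Z
    apply (Matrix.toLin' (R := F)).injective
    rw [Matrix.toLin'_mul, Matrix.toLin'_mul, hZ, Matrix.toLin'_toMatrix', ← hφd]
    apply LinearMap.ext
    intro v
    exact centEnd_comm φ p e E i₀ w v

end Cfsg.Agent.Helper44.SLk
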