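/-
helper44: the number of conjugacy classes of `SL_n(F)` is bounded by a weighted count of
invariant sequences.
-/
import Cfsg.Agent.Helper44.SLkInv
import Cfsg.Agent.Helper44.SLkFiber

set_option autoImplicit false

namespace Cfsg.Agent.Helper44.SLk

open Polynomial Module Cfsg.Agent.Helper44.GLk Matrix

universe u

variable {F : Type u} [Field F]

/-- the determinant attached to a sequence of invariants -/
noncomputable def Dval {n s : ℕ} (c : Seqs F n s) : F := ∏ j : Fin n, delta (c.1 j) ^ (j.1 + 1)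

/-- the support of a sequence of invariants -/
noncomputable def supp {n s : ℕ} (c : Seqs F n s) : Finset (Fin n) := by
  classical exact Finset.univ.filter (fun j => c.1 j ≠ 1)

theorem mem_supp {n s : ℕ} (c : Seqs F n s) (j : Fin n) : j ∈ supp c ↔ c.1 j ≠ 1 := by
  classical
  unfold supp
  rw [Finset.mem_filter]
  constructor
  · exact fun h => h.2
  · exact fun h => ⟨Finset.mem_univ _, h⟩

/-- the gcd of the block sizes -/
noncomputable def dval {n s : ℕ} (c : Seqs F n s) : ℕ := (supp c).gcd (fun j => j.1 + 1)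

/-- the weight: the bound for the number of `SL`-classes in the `GL`-class -/
noncomputable def wt [Fintype F] {n s : ℕ} (c : Seqs F n s) : ℕ := by
  classical exact if Dval c = 1 then Nat.gcd (dval c) (Fintype.card F - 1) else 0

theorem wt_def [Fintype F] [DecidableEq F] {n s : ℕ} (c : Seqs F n s) :
    wt c = if Dval c = 1 then Nat.gcd (dval c) (Fintype.card F - 1) else 0 := by
  unfold wt
  congr 1

variable [DecidableEq F]

theorem exists_classInv_full [Finite F] {n : ℕ} (x : GL (Fin n) F) :
    ∃ c : Seqs F n n, ∃ c' : ℕ → F[X],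
      IsInv (Matrix.toLin' (x : Matrix (Fin n) (Fin n) F)) c' ∧ c' 0 = 1 ∧
      (∀ j, n < j → c' j = 1) ∧ (∀ j : Fin n, c.1 j = c' (j.1 + 1)) ∧
      (x : Matrix (Fin n) (Fin n) F).det = Dval c ∧
      ∀ j : Fin n, c.1 j ≠ 1 → ∀ a : F, a ≠ 0 → ∃ z : GL (Fin n) F, z * x = x * z ∧
        (z : Matrix (Fin n) (Fin n) F).det = a ^ (j.1 + 1) := by
  obtain ⟨c', h1, h2, h3, h4, h5, h6, h7⟩ := exists_inv_full x
  refine ⟨⟨fun j => c' (j.1 + 1), fun j => h2 _, ?_⟩, c', h1, h3, h4, fun _ => rfl, ?_, ?_⟩
  · rw [Finset.sum_range_succ', zero_mul, add_zero] at h5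
    rw [Fin.sum_univ_eq_sum_range (fun j => (j + 1) * (c' (j + 1)).natDegree) n]
    exact h5
  · rw [h6, Finset.prod_range_succ', pow_zero, mul_one]
    show _ = ∏ j : Fin n, delta (c' (j.1 + 1)) ^ (j.1 + 1)
    rw [Fin.prod_univ_eq_prod_range (fun j => delta (c' (j + 1)) ^ (j + 1)) n]
  · intro j hj a ha
    exact h7 (j.1 + 1) hj a ha

theorem det_eq_one_of_mem_range {n : ℕ} (g : GL (Fin n) F)
    (h : Matrix.GeneralLinearGroup.det g = 1) :
    g ∈ (Matrix.SpecialLinearGroup.toGL : SpecialLinearGroup (Fin n) F →* GL (Fin n) F).range := by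
  have h1 : (g : Matrix (Fin n) (Fin n) F).det = 1 := by
    have := congrArg Units.val h
    exact this
  exact ⟨⟨(g : Matrix (Fin n) (Fin n) F), h1⟩, Units.ext rfl⟩

theorem card_fiber_SL_le [Fintype F] {n : ℕ} (x : GL (Fin n) F) (c : Seqs F n n)
    (hdet : (x : Matrix (Fin n) (Fin n) F).det = Dval c)
    (hz : ∀ j : Fin n, c.1 j ≠ 1 → ∀ a : F, a ≠ 0 → ∃ z : GL (Fin n) F, z * x = x * z ∧
        (z : Matrix (Fin n) (Fin n) F).det = a ^ (j.1 + 1)) :
    Nat.card {C : ConjClasses (SpecialLinearGroup (Fin n) F) //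
      ConjClasses.map (Matrix.SpecialLinearGroup.toGL) C = ConjClasses.mk x} ≤ wt c := by
  rw [wt_def]
  split_ifs with hD
  · refine le_trans (card_fiber_le Matrix.SpecialLinearGroup.toGL
      Matrix.SpecialLinearGroup.toGL_injective Matrix.GeneralLinearGroup.det
      det_eq_one_of_mem_range x) ?_
    have hcard : Nat.card Fˣ = Fintype.card F - 1 := by
      rw [Nat.card_units, Nat.card_eq_fintype_card]
    rw [← hcard]
    apply index_le_gcd
    intro a
    unfold dval
    apply pow_finset_gcd_mem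
    intro j hj a
    obtain ⟨z, hz1, hz2⟩ := hz j ((mem_supp c j).1 hj) (a : F) a.ne_zero
    refine Subgroup.mem_map.2 ⟨z, ?_, ?_⟩
    · rw [Subgroup.mem_centralizer_iff]
      intro h hh
      rw [Set.mem_singleton_iff] at hh
      rw [hh, hz1]
    · apply Units.ext
      rw [Units.val_pow_eq_pow_val]
      exact hz2
  · have hempty : IsEmpty {C : ConjClasses (SpecialLinearGroup (Fin n) F) //
        ConjClasses.map (Matrix.SpecialLinearGroup.toGL) C = ConjClasses.mk x} := by
      constructor
      rintro ⟨C, hC⟩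
      apply hD
      rw [← hdet]
      rw [← Quotient.out_eq C] at hC
      have h2 : ConjClasses.mk (Matrix.SpecialLinearGroup.toGL (Quotient.out C))
          = ConjClasses.mk x := hC
      obtain ⟨g, hg⟩ := isConj_iff.1 (ConjClasses.mk_eq_mk_iff_isConj.1 h2)
      have h3 := congrArg (fun y : GL (Fin n) F => (Matrix.GeneralLinearGroup.det y : Fˣ)) hg
      simp only [map_mul, map_inv] at h3
      have h4 : Matrix.GeneralLinearGroup.det x
          = Matrix.GeneralLinearGroup.det (Matrix.SpecialLinearGroup.toGL (Quotient.out C)) := by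
        rw [← h3]
        rw [mul_comm, ← mul_assoc, inv_mul_cancel, one_mul]
      have h5 := congrArg Units.val h4
      rw [Matrix.SpecialLinearGroup.coeToGL_det] at h5
      exact h5
    simp

/-- the number of conjugacy classes of `SL_n(F)` is at most the weighted number of invariant
sequences of determinant `1` -/
theorem card_conjClasses_SL_le [Fintype F] (n : ℕ) :
    Nat.card (ConjClasses (SpecialLinearGroup (Fin n) F))
      ≤ ∑ᶠ c : Seqs F n n, wt c := by
  classical
  haveI : Fintype (ConjClasses (GL (Fin n) F)) := Fintype.ofFinite _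
  haveI : Fintype (Seqs F n n) := Fintype.ofFinite _
  rw [finsum_eq_sum_of_fintype]
  have hex : ∀ C : ConjClasses (GL (Fin n) F), ∃ c : Seqs F n n, ∃ c' : ℕ → F[X],
      IsInv (Matrix.toLin' ((Quotient.out C : GL (Fin n) F) : Matrix (Fin n) (Fin n) F)) c' ∧
      c' 0 = 1 ∧ (∀ j, n < j → c' j = 1) ∧ (∀ j : Fin n, c.1 j = c' (j.1 + 1)) ∧
      ((Quotient.out C : GL (Fin n) F) : Matrix (Fin n) (Fin n) F).det = Dval c ∧
      ∀ j : Fin n, c.1 j ≠ 1 → ∀ a : F, a ≠ 0 → ∃ z : GL (Fin n) F,
        z * (Quotient.out C) = (Quotient.out C) * z ∧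
        (z : Matrix (Fin n) (Fin n) F).det = a ^ (j.1 + 1) :=
    fun C => exists_classInv_full _
  choose κ c' hc' using hex
  have hinj : Function.Injective κ := by
    intro C C' hCC'
    have h1 : c' C = c' C' := by
      funext j
      rcases Nat.eq_zero_or_pos j with rfl | hj
      · rw [(hc' C).2.1, (hc' C').2.1]
      · by_cases hjn : n < j
        · rw [(hc' C).2.2.1 j hjn, (hc' C').2.2.1 j hjn]
        · have e1 := (hc' C).2.2.2.1 ⟨j - 1, by omega⟩
          have e2 := (hc' C').2.2.2.1 ⟨j - 1, by omega⟩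
          have e3 : j - 1 + 1 = j := by omega
          simp only [e3] at e1 e2
          rw [← e1, ← e2, hCC']
    have h2 : IsConj (Quotient.out C) (Quotient.out C') := by
      apply isConj_of_isInv _ _ (c' C) (hc' C).1
      rw [h1]
      exact (hc' C').1
    rw [← Quotient.out_eq C, ← Quotient.out_eq C']
    exact ConjClasses.mk_eq_mk_iff_isConj.2 h2
  have h1 : Nat.card (ConjClasses (SpecialLinearGroup (Fin n) F))
      = ∑ C : ConjClasses (GL (Fin n) F), Nat.card {s : ConjClasses (SpecialLinearGroup (Fin n) F) //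
          ConjClasses.map (Matrix.SpecialLinearGroup.toGL) s = C} := by
    rw [← Nat.card_sigma]
    exact Nat.card_congr (Equiv.sigmaFiberEquiv _).symm
  rw [h1]
  have h2 : ∀ C : ConjClasses (GL (Fin n) F),
      Nat.card {s : ConjClasses (SpecialLinearGroup (Fin n) F) //
          ConjClasses.map (Matrix.SpecialLinearGroup.toGL) s = C} ≤ wt (κ C) := by
    intro C
    have h3 := card_fiber_SL_le (Quotient.out C) (κ C) (hc' C).2.2.2.2.1 (hc' C).2.2.2.2.2
    have h4 : ConjClasses.mk (Quotient.out C) = C := Quotient.out_eq C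
    rw [h4] at h3
    exact h3
  refine le_trans (Finset.sum_le_sum (fun C _ => h2 C)) ?_
  rw [← Finset.sum_image (f := fun c => wt c) (s := Finset.univ) (g := κ)
    (fun a _ b _ h => hinj h)]
  exact Finset.sum_le_sum_of_subset (Finset.subset_univ _)

end Cfsg.Agent.Helper44.SLk
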