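/-
helper44: the action of `Fˣ` on invariant sequences by scaling the constant term of one entry.
-/
import Cfsg.Agent.Helper44.SLkClass

set_option autoImplicit false

namespace Cfsg.Agent.Helper44.SLk

open Polynomial Cfsg.Agent.Helper44.GLk

universe u

variable {F : Type u} [Field F]

/-- multiply the constant term by `a` (for polynomials of positive degree) -/
noncomputable def scaleConst (a : F) (f : F[X]) : F[X] :=
  if f.natDegree = 0 then f else f + C ((a - 1) * f.coeff 0)

theorem scaleConst_natDegree (a : F) (f : F[X]) : (scaleConst a f).natDegree = f.natDegree := by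
  unfold scaleConst
  split_ifs
  · rfl
  · rw [natDegree_add_C]

theorem scaleConst_monic (a : F) {f : F[X]} (hf : f.Monic) : (scaleConst a f).Monic := by
  unfold scaleConst
  split_ifs with h
  · exact hf
  · apply hf.add_of_left
    refine lt_of_le_of_lt degree_C_le ?_
    exact natDegree_pos_iff_degree_pos.1 (Nat.pos_of_ne_zero h)

theorem scaleConst_coeff_zero (a : F) {f : F[X]} (h : f.natDegree ≠ 0) :
    (scaleConst a f).coeff 0 = a * f.coeff 0 := by
  unfold scaleConst
  rw [if_neg h, coeff_add, coeff_C_zero]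
  ring

theorem scaleConst_coeff_zero_ne {a : F} (ha : a ≠ 0) {f : F[X]} (hf : f.coeff 0 ≠ 0) :
    (scaleConst a f).coeff 0 ≠ 0 := by
  by_cases h : f.natDegree = 0
  · unfold scaleConst
    rw [if_pos h]
    exact hf
  · rw [scaleConst_coeff_zero a h]
    exact mul_ne_zero ha hf

theorem scaleConst_inv {a : F} (ha : a ≠ 0) (f : F[X]) :
    scaleConst a⁻¹ (scaleConst a f) = f := by
  by_cases h : f.natDegree = 0
  · unfold scaleConst
    rw [if_pos h, if_pos h]
  · have h' : (scaleConst a f).natDegree ≠ 0 := by rw [scaleConst_natDegree]; exact h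
    have h1 : scaleConst a⁻¹ (scaleConst a f)
        = scaleConst a f + C ((a⁻¹ - 1) * (scaleConst a f).coeff 0) := by
      rw [scaleConst, if_neg h']
    rw [h1, scaleConst_coeff_zero a h]
    rw [scaleConst, if_neg h, add_assoc, ← C_add]
    have h2 : (a - 1) * f.coeff 0 + (a⁻¹ - 1) * (a * f.coeff 0) = 0 := by
      field_simp
      ring
    rw [h2, C_0, add_zero]

theorem delta_scaleConst (a : F) {f : F[X]} (h : f.natDegree ≠ 0) :
    delta (scaleConst a f) = a * delta f := by
  rw [delta, delta, scaleConst_natDegree, scaleConst_coeff_zero a h]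
  ring

theorem scaleConst_eq_one_iff (a : F) {f : F[X]} (hf : f.Monic) : scaleConst a f = 1 ↔ f = 1 := by
  rw [← (scaleConst_monic a hf).natDegree_eq_zero, ← hf.natDegree_eq_zero, scaleConst_natDegree]

/-- the action on the entry `j` -/
noncomputable def act {n s : ℕ} (j : Fin n) (a : Fˣ) (c : Seqs F n s) : Seqs F n s :=
  ⟨Function.update c.1 j (scaleConst (a : F) (c.1 j)), by
    intro i
    by_cases hi : i = j
    · subst hi
      rw [Function.update_self]
      exact ⟨scaleConst_monic _ (c.2.1 i).1, scaleConst_coeff_zero_ne a.ne_zero (c.2.1 i).2⟩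
    · rw [Function.update_of_ne hi]
      exact c.2.1 i, by
    refine Eq.trans ?_ c.2.2
    apply Finset.sum_congr rfl
    intro i _
    by_cases hi : i = j
    · subst hi
      rw [Function.update_self, scaleConst_natDegree]
    · rw [Function.update_of_ne hi]⟩

theorem act_self {n s : ℕ} (j : Fin n) (a : Fˣ) (c : Seqs F n s) :
    (act j a c).1 j = scaleConst (a : F) (c.1 j) := by
  show Function.update c.1 j (scaleConst (a : F) (c.1 j)) j = _
  rw [Function.update_self]

theorem act_ne {n s : ℕ} (j : Fin n) (a : Fˣ) (c : Seqs F n s) {i : Fin n} (hi : i ≠ j) :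
    (act j a c).1 i = c.1 i := by
  show Function.update c.1 j (scaleConst (a : F) (c.1 j)) i = _
  rw [Function.update_of_ne hi]

theorem act_inv {n s : ℕ} (j : Fin n) (a : Fˣ) (c : Seqs F n s) :
    act j a⁻¹ (act j a c) = c := by
  apply Subtype.ext
  funext i
  by_cases hi : i = j
  · subst hi
    rw [act_self, act_self, Units.val_inv_eq_inv_val, scaleConst_inv a.ne_zero]
  · rw [act_ne _ _ _ hi, act_ne _ _ _ hi]

theorem act_eq_one_iff {n s : ℕ} (j : Fin n) (a : Fˣ) (c : Seqs F n s) (i : Fin n) :
    (act j a c).1 i = 1 ↔ c.1 i = 1 := by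
  by_cases hi : i = j
  · subst hi
    rw [act_self, scaleConst_eq_one_iff _ (c.2.1 i).1]
  · rw [act_ne _ _ _ hi]

theorem supp_act {n s : ℕ} (j : Fin n) (a : Fˣ) (c : Seqs F n s) : supp (act j a c) = supp c := by
  ext i
  rw [mem_supp, mem_supp, Ne, Ne, act_eq_one_iff]

theorem Dval_act {n s : ℕ} (j : Fin n) (a : Fˣ) (c : Seqs F n s) (hj : c.1 j ≠ 1) :
    Dval (act j a c) = (a : F) ^ (j.1 + 1) * Dval c := by
  have hd : (c.1 j).natDegree ≠ 0 := fun h => hj ((c.2.1 j).1.natDegree_eq_zero.1 h)
  unfold Dval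
  rw [← Finset.mul_prod_erase Finset.univ _ (Finset.mem_univ j),
    ← Finset.mul_prod_erase Finset.univ (fun i => delta (c.1 i) ^ (i.1 + 1)) (Finset.mem_univ j),
    act_self, delta_scaleConst _ hd, mul_pow, mul_assoc]
  congr 2
  apply Finset.prod_congr rfl
  intro i hi
  rw [act_ne _ _ _ (Finset.ne_of_mem_erase hi)]

end Cfsg.Agent.Helper44.SLk
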