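/-
helper44: the number of conjugacy classes of `S / Z(S)` through the action of the centre on the
conjugacy classes of `S` (Burnside's lemma).
-/
import Mathlib

set_option autoImplicit false

namespace Cfsg.Agent.Helper44.SLk

universe u

variable {S : Type u} [Group S]

/-- multiplication by a central element on conjugacy classes -/
def zmul (z : Subgroup.center S) : ConjClasses S → ConjClasses S :=
  Quotient.map (fun x => (z : S) * x) (by
    intro a b hab
    obtain ⟨g, hg⟩ := isConj_iff.1 hab
    apply isConj_iff.2
    refine ⟨g, ?_⟩
    have hz : g * (z : S) = (z : S) * g := (Subgroup.mem_center_iff.1 z.2 g)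
    calc g * ((z : S) * a) * g⁻¹ = (g * (z : S)) * a * g⁻¹ := by group
      _ = (z : S) * (g * a * g⁻¹) := by rw [hz]; group
      _ = (z : S) * b := by rw [hg])

theorem zmul_mk (z : Subgroup.center S) (x : S) :
    zmul z (ConjClasses.mk x) = ConjClasses.mk ((z : S) * x) := rfl

instance centerAction : MulAction (Subgroup.center S) (ConjClasses S) where
  smul z C := zmul z C
  one_smul C := by
    induction C using Quotient.inductionOn with
    | h x =>
      show zmul 1 (ConjClasses.mk x) = ConjClasses.mk x
      rw [zmul_mk, Subgroup.coe_one, one_mul]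
  mul_smul z w C := by
    induction C using Quotient.inductionOn with
    | h x =>
      show zmul (z * w) (ConjClasses.mk x) = zmul z (zmul w (ConjClasses.mk x))
      rw [zmul_mk, zmul_mk, zmul_mk, Subgroup.coe_mul, mul_assoc]

theorem center_smul_mk (z : Subgroup.center S) (x : S) :
    z • (ConjClasses.mk x) = ConjClasses.mk ((z : S) * x) := rfl

/-- the map to the classes of the central quotient -/
def toQuotClass : ConjClasses S → ConjClasses (S ⧸ Subgroup.center S) :=
  ConjClasses.map (QuotientGroup.mk' (Subgroup.center S))

theorem toQuotClass_mk (x : S) :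
    toQuotClass (ConjClasses.mk x) = ConjClasses.mk (QuotientGroup.mk' (Subgroup.center S) x) := rfl

theorem toQuotClass_surjective : Function.Surjective (toQuotClass (S := S)) := by
  intro C
  induction C using Quotient.inductionOn with
  | h y =>
    obtain ⟨x, rfl⟩ := QuotientGroup.mk'_surjective (Subgroup.center S) y
    exact ⟨ConjClasses.mk x, rfl⟩

theorem toQuotClass_smul (z : Subgroup.center S) (C : ConjClasses S) :
    toQuotClass (z • C) = toQuotClass C := by
  induction C using Quotient.inductionOn with
  | h x =>
    show toQuotClass (z • ConjClasses.mk x) = toQuotClass (ConjClasses.mk x)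
    rw [center_smul_mk, toQuotClass_mk, toQuotClass_mk, map_mul]
    have : QuotientGroup.mk' (Subgroup.center S) (z : S) = 1 :=
      (QuotientGroup.eq_one_iff _).2 z.2
    rw [this, one_mul]

theorem exists_smul_of_toQuotClass_eq (C C' : ConjClasses S)
    (h : toQuotClass C = toQuotClass C') : ∃ z : Subgroup.center S, z • C = C' := by
  induction C using Quotient.inductionOn with
  | h x =>
    induction C' using Quotient.inductionOn with
    | h y =>
      have h' : ConjClasses.mk (QuotientGroup.mk' (Subgroup.center S) x)
          = ConjClasses.mk (QuotientGroup.mk' (Subgroup.center S) y) := h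
      obtain ⟨g', hg'⟩ := isConj_iff.1 (ConjClasses.mk_eq_mk_iff_isConj.1 h')
      obtain ⟨g, rfl⟩ := QuotientGroup.mk'_surjective (Subgroup.center S) g'
      rw [← map_inv, ← map_mul, ← map_mul] at hg'
      have h2 : (g * x * g⁻¹)⁻¹ * y ∈ Subgroup.center S := by
        have := (QuotientGroup.eq (s := Subgroup.center S)).1 hg'
        exact this
      refine ⟨⟨(g * x * g⁻¹)⁻¹ * y, h2⟩, ?_⟩
      show ConjClasses.mk (((g * x * g⁻¹)⁻¹ * y) * x) = ConjClasses.mk y
      apply ConjClasses.mk_eq_mk_iff_isConj.2
      apply isConj_iff.2
      refine ⟨g, ?_⟩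
      have hc : g * ((g * x * g⁻¹)⁻¹ * y) = ((g * x * g⁻¹)⁻¹ * y) * g :=
        (Subgroup.mem_center_iff.1 h2 g)
      have h3 : (g * x * g⁻¹) * ((g * x * g⁻¹)⁻¹ * y) = ((g * x * g⁻¹)⁻¹ * y) * (g * x * g⁻¹) :=
        (Subgroup.mem_center_iff.1 h2 _)
      rw [mul_inv_cancel_left] at h3
      calc g * ((g * x * g⁻¹)⁻¹ * y * x) * g⁻¹
          = (g * ((g * x * g⁻¹)⁻¹ * y)) * x * g⁻¹ := by group
        _ = ((g * x * g⁻¹)⁻¹ * y) * g * x * g⁻¹ := by rw [hc]
        _ = ((g * x * g⁻¹)⁻¹ * y) * (g * x * g⁻¹) := by group
        _ = y := h3.symm

/-- the orbits of the centre on the classes are the classes of the central quotient -/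
noncomputable def orbitsEquiv :
    Quotient (MulAction.orbitRel (Subgroup.center S) (ConjClasses S))
      ≃ ConjClasses (S ⧸ Subgroup.center S) :=
  Equiv.ofBijective
    (Quotient.lift toQuotClass (by
      intro C C' h
      obtain ⟨z, hz⟩ := (MulAction.orbitRel_apply.1 h)
      have hz' : z • C' = C := hz
      rw [← hz', toQuotClass_smul]))
    (by
      constructor
      · intro a b hab
        induction a using Quotient.inductionOn with
        | h C =>
          induction b using Quotient.inductionOn with
          | h C' =>
            apply Quotient.sound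
            have h' : toQuotClass C = toQuotClass C' := hab
            obtain ⟨z, hz⟩ := exists_smul_of_toQuotClass_eq C' C h'.symm
            exact MulAction.orbitRel_apply.2 ⟨z, hz⟩
      · intro C
        obtain ⟨C0, hC0⟩ := toQuotClass_surjective C
        exact ⟨Quotient.mk _ C0, hC0⟩)

/-- Burnside's count for the central quotient -/
theorem card_center_mul_card_quot [Finite S] :
    Nat.card (ConjClasses (S ⧸ Subgroup.center S)) * Nat.card (Subgroup.center S)
      = ∑ᶠ z : Subgroup.center S, Nat.card (MulAction.fixedBy (ConjClasses S) z) := by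
  classical
  have : Fintype (Subgroup.center S) := Fintype.ofFinite _
  have : Fintype (ConjClasses S) := Fintype.ofFinite _
  have : Fintype (Quotient (MulAction.orbitRel (Subgroup.center S) (ConjClasses S))) :=
    Fintype.ofFinite _
  have h := MulAction.sum_card_fixedBy_eq_card_orbits_mul_card_group (Subgroup.center S)
    (ConjClasses S)
  rw [finsum_eq_sum_of_fintype, ← Nat.card_congr (orbitsEquiv (S := S)),
    Nat.card_eq_fintype_card, Nat.card_eq_fintype_card, ← h]
  apply Finset.sum_congr rfl
  intro z _
  rw [Nat.card_eq_fintype_card]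

end Cfsg.Agent.Helper44.SLk
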