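/-
helper44: the dimensions of the kernels of `f(φ)` on sums of cyclic modules `F[X]/(p^e)`.
-/
import Cfsg.Agent.Helper44.SLkQuotDet

set_option autoImplicit false

namespace Cfsg.Agent.Helper44.SLk

open Polynomial

universe u v w

variable {F : Type u} [Field F]

/-- the dimension of the kernel of multiplication by `f` -/
noncomputable def kd (M : Type v) [AddCommGroup M] [Module F M] [Module F[X] M]
    [IsScalarTower F F[X] M] (f : F[X]) : ℕ :=
  Module.finrank F (LinearMap.ker (mulPoly M f))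

theorem kd_congr {M : Type v} {N : Type w} [AddCommGroup M] [Module F M] [Module F[X] M]
    [IsScalarTower F F[X] M] [AddCommGroup N] [Module F N] [Module F[X] N]
    [IsScalarTower F F[X] N] (E : M ≃ₗ[F[X]] N) (f : F[X]) : kd M f = kd N f := by
  unfold kd
  have h : LinearMap.ker (mulPoly N f)
      = (LinearMap.ker (mulPoly M f)).map (E.restrictScalars F : M →ₗ[F] N) := by
    ext y
    rw [Submodule.mem_map, LinearMap.mem_ker]
    constructor
    · intro hy
      refine ⟨E.symm y, ?_, E.apply_symm_apply y⟩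
      rw [LinearMap.mem_ker, mulPoly_apply, ← map_smul, ← mulPoly_apply N, hy, map_zero]
    · rintro ⟨x, hx, rfl⟩
      rw [LinearMap.mem_ker, mulPoly_apply] at hx
      show f • E x = 0
      rw [← map_smul, hx, map_zero]
  rw [h]
  exact (LinearEquiv.finrank_map_eq (E.restrictScalars F) _).symm

/-- the kernel on a product -/
noncomputable def kerPiEquiv {ι : Type w} (M : ι → Type v) [∀ i, AddCommGroup (M i)]
    [∀ i, Module F (M i)] [∀ i, Module F[X] (M i)] [∀ i, IsScalarTower F F[X] (M i)] (f : F[X]) :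
    LinearMap.ker (mulPoly ((i : ι) → M i) f) ≃ₗ[F] ((i : ι) → LinearMap.ker (mulPoly (M i) f)) where
  toFun x i := ⟨x.1 i, by
    have := x.2
    rw [LinearMap.mem_ker, mulPoly_apply] at this
    rw [LinearMap.mem_ker, mulPoly_apply]
    exact congrFun this i⟩
  invFun y := ⟨fun i => (y i).1, by
    rw [LinearMap.mem_ker, mulPoly_apply]
    funext i
    have := (y i).2
    rw [LinearMap.mem_ker, mulPoly_apply] at this
    exact this⟩
  map_add' _ _ := rfl
  map_smul' _ _ := rfl
  left_inv _ := rfl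
  right_inv _ := rfl

theorem kd_pi {ι : Type w} [Fintype ι] (M : ι → Type v) [∀ i, AddCommGroup (M i)]
    [∀ i, Module F (M i)] [∀ i, Module F[X] (M i)] [∀ i, IsScalarTower F F[X] (M i)]
    [∀ i, Module.Finite F (M i)] (f : F[X]) :
    kd ((i : ι) → M i) f = ∑ i, kd (M i) f := by
  unfold kd
  rw [LinearEquiv.finrank_eq (kerPiEquiv M f), Module.finrank_pi_fintype]

theorem kd_Qm_coprime (f g : F[X]) (h : IsCoprime f g) : kd (Qm g) f = 0 := by
  unfold kd
  have hb : LinearMap.ker (mulPoly (Qm g) f) = ⊥ := by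
    rw [LinearMap.ker_eq_bot']
    intro m hm
    rw [mulPoly_apply] at hm
    obtain ⟨a, b, hab⟩ := h
    have h1 : g • m = 0 := by
      obtain ⟨k, rfl⟩ := Submodule.Quotient.mk_surjective _ m
      rw [← Submodule.Quotient.mk_smul, Submodule.Quotient.mk_eq_zero, Submodule.mem_span_singleton]
      exact ⟨k, by rw [smul_eq_mul, smul_eq_mul, mul_comm]⟩
    calc m = (a * f + b * g) • m := by rw [hab, one_smul]
      _ = a • (f • m) + b • (g • m) := by rw [add_smul, mul_smul, mul_smul]
      _ = 0 := by rw [hm, h1, smul_zero, smul_zero, add_zero]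
  rw [hb]
  exact finrank_bot F (Qm g)

/-- multiplication by `g`, from `F[X]/(f)` to `F[X]/(g f)` -/
noncomputable def inclG (f g : F[X]) : Qm f →ₗ[F[X]] Qm (g * f) :=
  Submodule.mapQ _ _ (LinearMap.lsmul F[X] F[X] g) (by
    rw [Submodule.span_le]
    intro k hk
    rw [Set.mem_singleton_iff] at hk
    subst hk
    show g • k ∈ Submodule.span F[X] {g * k}
    rw [smul_eq_mul]
    exact Submodule.mem_span_singleton_self _)

theorem inclG_mk (f g k : F[X]) :
    inclG f g (Submodule.Quotient.mk k) = Submodule.Quotient.mk (g * k) := rfl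

theorem inclG_injective (f g : F[X]) (hg : g ≠ 0) : Function.Injective (inclG f g) := by
  rw [← LinearMap.ker_eq_bot, LinearMap.ker_eq_bot']
  intro x hx
  obtain ⟨k, rfl⟩ := Submodule.Quotient.mk_surjective _ x
  rw [inclG_mk, Submodule.Quotient.mk_eq_zero, Submodule.mem_span_singleton] at hx
  obtain ⟨c, hc⟩ := hx
  rw [Submodule.Quotient.mk_eq_zero, Submodule.mem_span_singleton]
  refine ⟨c, ?_⟩
  apply mul_left_cancel₀ hg
  rw [← hc, smul_eq_mul, smul_eq_mul]
  ring

theorem range_inclG (f g : F[X]) (hf : f ≠ 0) :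
    LinearMap.range ((inclG f g).restrictScalars F) = LinearMap.ker (mulPoly (Qm (g * f)) f) := by
  ext y
  obtain ⟨k, rfl⟩ := Submodule.Quotient.mk_surjective _ y
  rw [LinearMap.mem_range, LinearMap.mem_ker, mulPoly_apply, ← Submodule.Quotient.mk_smul,
    Submodule.Quotient.mk_eq_zero, Submodule.mem_span_singleton]
  constructor
  · rintro ⟨x, hx⟩
    obtain ⟨h, rfl⟩ := Submodule.Quotient.mk_surjective _ x
    have hx' : inclG f g (Submodule.Quotient.mk h) = Submodule.Quotient.mk k := hx
    rw [inclG_mk, Submodule.Quotient.eq, Submodule.mem_span_singleton] at hx'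
    obtain ⟨c, hc⟩ := hx'
    refine ⟨h - c * f, ?_⟩
    have : k = g * h - c • (g * f) := by rw [hc]; ring
    rw [this, smul_eq_mul, smul_eq_mul, smul_eq_mul]
    ring
  · rintro ⟨c, hc⟩
    refine ⟨Submodule.Quotient.mk c, ?_⟩
    show inclG f g (Submodule.Quotient.mk c) = Submodule.Quotient.mk k
    rw [inclG_mk]
    congr 1
    apply mul_left_cancel₀ hf
    rw [smul_eq_mul, smul_eq_mul] at hc
    rw [← hc]
    ring

theorem finrank_Qm (f : F[X]) (_hf : f ≠ 0) : Module.finrank F (Qm f) = f.natDegree :=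
  finrank_quotient_span_eq_natDegree

theorem kd_Qm_mul (f g : F[X]) (hf : f ≠ 0) (hg : g ≠ 0) : kd (Qm (g * f)) f = f.natDegree := by
  unfold kd
  rw [← range_inclG f g hf, LinearMap.finrank_range_of_inj, finrank_Qm f hf]
  exact inclG_injective f g hg

theorem kd_Qm_of_dvd (f g : F[X]) (hg : g ≠ 0) (h : g ∣ f) : kd (Qm g) f = g.natDegree := by
  unfold kd
  have ht : LinearMap.ker (mulPoly (Qm g) f) = ⊤ := by
    rw [eq_top_iff]
    intro m _
    obtain ⟨k, rfl⟩ := Submodule.Quotient.mk_surjective _ m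
    rw [LinearMap.mem_ker, mulPoly_apply, ← Submodule.Quotient.mk_smul,
      Submodule.Quotient.mk_eq_zero, Submodule.mem_span_singleton]
    obtain ⟨c, hc⟩ := h
    exact ⟨c * k, by rw [smul_eq_mul, smul_eq_mul, hc]; ring⟩
  rw [ht, finrank_top, finrank_Qm g hg]

theorem kd_Qm_pow (π : F[X]) (hπ : π ≠ 0) (j e : ℕ) :
    kd (Qm (π ^ e)) (π ^ j) = min j e * π.natDegree := by
  rcases Nat.lt_or_ge j e with h | h
  · obtain ⟨k, rfl⟩ : ∃ k, e = k + j := ⟨e - j, by omega⟩
    rw [pow_add, kd_Qm_mul _ _ (pow_ne_zero _ hπ) (pow_ne_zero _ hπ), natDegree_pow,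
      Nat.min_eq_left (by omega)]
  · rw [kd_Qm_of_dvd _ _ (pow_ne_zero _ hπ) (pow_dvd_pow π h), natDegree_pow, Nat.min_eq_right h]

end Cfsg.Agent.Helper44.SLk
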