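/-
helper44: uniqueness of the invariants of the primary decomposition.
-/
import Cfsg.Agent.Helper44.SLkKd
import Cfsg.Agent.Helper44.GLkStruct

set_option autoImplicit false

namespace Cfsg.Agent.Helper44.SLk

open Polynomial Cfsg.Agent.Helper44.GLk

universe u v w

section comb

theorem sum_min_succ {ι : Type v} (A : Finset ι) (e : ι → ℕ) (j : ℕ) :
    ∑ i ∈ A, min (j + 1) (e i) = ∑ i ∈ A, min j (e i) + (A.filter (fun i => j < e i)).card := by
  rw [Finset.card_filter, ← Finset.sum_add_distrib]
  apply Finset.sum_congr rfl
  intro i _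
  split_ifs with h
  · rw [Nat.min_eq_left (by omega), Nat.min_eq_left (by omega)]
  · rw [Nat.min_eq_right (by omega), Nat.min_eq_right (by omega)]
    rfl

theorem card_gt_eq {ι : Type v} (A : Finset ι) (e : ι → ℕ) (j : ℕ) :
    (A.filter (fun i => j < e i)).card
      = (A.filter (fun i => e i = j + 1)).card + (A.filter (fun i => j + 1 < e i)).card := by
  rw [Finset.card_filter, Finset.card_filter, Finset.card_filter, ← Finset.sum_add_distrib]
  apply Finset.sum_congr rfl
  intro i _
  split_ifs <;> omega

theorem card_eq_of_sum_min_eq {ι : Type v} {ι' : Type w} (A : Finset ι) (B : Finset ι')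
    (e : ι → ℕ) (e' : ι' → ℕ)
    (h : ∀ j, ∑ i ∈ A, min j (e i) = ∑ k ∈ B, min j (e' k)) (j : ℕ) :
    (A.filter (fun i => e i = j + 1)).card = (B.filter (fun k => e' k = j + 1)).card := by
  have hgt : ∀ j, (A.filter (fun i => j < e i)).card = (B.filter (fun k => j < e' k)).card := by
    intro j
    have h1 := sum_min_succ A e j
    have h2 := sum_min_succ B e' j
    have h3 := h j
    have h4 := h (j + 1)
    omega
  have h1 := card_gt_eq A e j
  have h2 := card_gt_eq B e' j
  have h3 := hgt j
  have h4 := hgt (j + 1)
  omega

end comb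

variable {F : Type u} [Field F]

theorem kd_decomp {ι : Type v} [Fintype ι] (p : ι → F[X]) (e : ι → ℕ)
    (hp : ∀ i, Irreducible (p i)) (π : F[X]) (hπ : Irreducible π) (j : ℕ)
    [DecidablePred (fun i => Associated (p i) π)] :
    kd ((i : ι) → Qm (p i ^ e i)) (π ^ j)
      = (∑ i ∈ Finset.univ.filter (fun i => Associated (p i) π), min j (e i)) * π.natDegree := by
  haveI : ∀ i, Module.Finite F (Qm (p i ^ e i)) :=
    fun i => finite_Qm _ (pow_ne_zero _ (hp i).ne_zero)
  rw [kd_pi, Finset.sum_mul, Finset.sum_filter]
  apply Finset.sum_congr rfl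
  intro i _
  split_ifs with h
  · have h1 : Submodule.span F[X] {p i ^ e i} = Submodule.span F[X] {π ^ e i} :=
      Ideal.span_singleton_eq_span_singleton.2 (h.pow_pow)
    rw [kd_congr (Submodule.quotEquivOfEq _ _ h1), kd_Qm_pow π hπ.ne_zero]
  · apply kd_Qm_coprime
    apply IsCoprime.pow
    apply (hπ.coprime_iff_not_dvd).2
    intro hdvd
    exact h ((hπ.associated_of_dvd (hp i) hdvd).symm)

variable [DecidableEq F]

/-- two decompositions of the same module have the same invariants -/
theorem cseq_eq_of_equiv {ι : Type v} {ι' : Type w} [Fintype ι] [Fintype ι']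
    (p : ι → F[X]) (e : ι → ℕ) (p' : ι' → F[X]) (e' : ι' → ℕ)
    (hp : ∀ i, Irreducible (p i)) (hp' : ∀ i, Irreducible (p' i))
    (T : ((i : ι) → Qm (p i ^ e i)) ≃ₗ[F[X]] ((k : ι') → Qm (p' k ^ e' k))) (j : ℕ) :
    cseq p e (j + 1) = cseq p' e' (j + 1) := by
  classical
  have hsum : ∀ π : F[X], Irreducible π → ∀ j,
      ∑ i ∈ Finset.univ.filter (fun i => Associated (p i) π), min j (e i)
        = ∑ k ∈ Finset.univ.filter (fun k => Associated (p' k) π), min j (e' k) := by
    intro π hπ j
    have h1 := kd_congr T (π ^ j)
    rw [kd_decomp p e hp π hπ, kd_decomp p' e' hp' π hπ] at h1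
    exact Nat.eq_of_mul_eq_mul_right hπ.natDegree_pos h1
  have hcount : ∀ π : F[X], Irreducible π →
      ((Finset.univ.filter (fun i => Associated (p i) π)).filter (fun i => e i = j + 1)).card
        = ((Finset.univ.filter (fun k => Associated (p' k) π)).filter
            (fun k => e' k = j + 1)).card :=
    fun π hπ => card_eq_of_sum_min_eq _ _ e e' (hsum π hπ) j
  have hfib : ∀ r : F[X], Fintype.card {i // (e i, normalize (p i)) = (j + 1, r)}
      = Fintype.card {k // (e' k, normalize (p' k)) = (j + 1, r)} := by
    intro r
    by_cases hr : Irreducible r ∧ normalize r = r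
    · have k1 : Fintype.card {i // (e i, normalize (p i)) = (j + 1, r)}
          = ((Finset.univ.filter (fun i => Associated (p i) r)).filter
              (fun i => e i = j + 1)).card := by
        rw [Fintype.card_subtype, Finset.filter_filter]
        congr 1
        ext i
        simp only [Finset.mem_filter, Finset.mem_univ, true_and, Prod.mk.injEq]
        constructor
        · rintro ⟨h1, h2⟩
          refine ⟨?_, h1⟩
          rw [← normalize_eq_normalize_iff_associated, h2, hr.2]
        · rintro ⟨h1, h2⟩
          refine ⟨h2, ?_⟩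
          rw [normalize_eq_normalize_iff_associated.2 h1, hr.2]
      have k2 : Fintype.card {k // (e' k, normalize (p' k)) = (j + 1, r)}
          = ((Finset.univ.filter (fun k => Associated (p' k) r)).filter
              (fun k => e' k = j + 1)).card := by
        rw [Fintype.card_subtype, Finset.filter_filter]
        congr 1
        ext i
        simp only [Finset.mem_filter, Finset.mem_univ, true_and, Prod.mk.injEq]
        constructor
        · rintro ⟨h1, h2⟩
          refine ⟨?_, h1⟩
          rw [← normalize_eq_normalize_iff_associated, h2, hr.2]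
        · rintro ⟨h1, h2⟩
          refine ⟨h2, ?_⟩
          rw [normalize_eq_normalize_iff_associated.2 h1, hr.2]
      rw [k1, k2]
      exact hcount r hr.1
    · have k1 : IsEmpty {i // (e i, normalize (p i)) = (j + 1, r)} := by
        constructor
        rintro ⟨i, hi⟩
        apply hr
        have h2 : normalize (p i) = r := congrArg Prod.snd hi
        rw [← h2]
        exact ⟨(normalize_associated (p i)).symm.irreducible (hp i), normalize_idem _⟩
      have k2 : IsEmpty {k // (e' k, normalize (p' k)) = (j + 1, r)} := by
        constructor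
        rintro ⟨i, hi⟩
        apply hr
        have h2 : normalize (p' i) = r := congrArg Prod.snd hi
        rw [← h2]
        exact ⟨(normalize_associated (p' i)).symm.irreducible (hp' i), normalize_idem _⟩
      rw [Fintype.card_eq_zero, Fintype.card_eq_zero]
  have hmon1 : (cseq p e (j + 1)).Monic := by
    rw [cseq_def]
    apply monic_prod_of_monic
    intro i _
    exact monic_normalize (hp i).ne_zero
  have hmon2 : (cseq p' e' (j + 1)).Monic := by
    rw [cseq_def]
    apply monic_prod_of_monic
    intro i _
    exact monic_normalize (hp' i).ne_zero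
  apply eq_of_monic_of_associated hmon1 hmon2
  rw [UniqueFactorizationMonoid.associated_iff_normalizedFactors_eq_normalizedFactors
    hmon1.ne_zero hmon2.ne_zero]
  apply Multiset.ext.2
  intro r
  rw [← card_fiber p e hp, ← card_fiber p' e' hp']
  exact hfib r

/-- the invariants of an endomorphism are unique -/
theorem isInv_unique {V : Type u} [AddCommGroup V] [Module F V] (φ : Module.End F V)
    (c c' : ℕ → F[X]) (h : IsInv φ c) (h' : IsInv φ c') (j : ℕ) : c (j + 1) = c' (j + 1) := by
  obtain ⟨ι, hι, p, e, hp, ⟨E⟩, hc⟩ := h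
  obtain ⟨ι', hι', p', e', hp', ⟨E'⟩, hc'⟩ := h'
  rw [hc, hc']
  exact cseq_eq_of_equiv p e p' e' hp hp' (E.symm.trans E') j

end Cfsg.Agent.Helper44.SLk
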