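/-
helper44: the invariants of a scalar multiple of an endomorphism, and of a conjugate.
-/
import Cfsg.Agent.Helper44.SLkUniq

set_option autoImplicit false

namespace Cfsg.Agent.Helper44.SLk

open Polynomial Module Cfsg.Agent.Helper44.GLk

universe u

variable {F : Type u} [Field F]

/-- the substitution `X ↦ a X` -/
noncomputable def subst (a : F) (ha : a ≠ 0) : F[X] ≃ₐ[F] F[X] :=
  algEquivOfCompEqX (C a * X) (C a⁻¹ * X)
    (by rw [mul_comp, C_comp, X_comp, ← mul_assoc, ← C_mul, mul_inv_cancel₀ ha, C_1, one_mul])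
    (by rw [mul_comp, C_comp, X_comp, ← mul_assoc, ← C_mul, inv_mul_cancel₀ ha, C_1, one_mul])

theorem subst_apply (a : F) (ha : a ≠ 0) (f : F[X]) : subst a ha f = f.comp (C a * X) := by
  rw [subst, algEquivOfCompEqX_apply, comp_eq_aeval]

theorem subst_X (a : F) (ha : a ≠ 0) : subst a ha X = C a * X := by
  rw [subst_apply, X_comp]

theorem subst_C (a : F) (ha : a ≠ 0) (b : F) : subst a ha (C b) = C b := by
  rw [subst_apply, C_comp]

theorem coeff_subst (a : F) (ha : a ≠ 0) (f : F[X]) (i : ℕ) :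
    (subst a ha f).coeff i = f.coeff i * a ^ i := by
  rw [subst_apply, comp_C_mul_X_coeff]

theorem natDegree_subst (a : F) (ha : a ≠ 0) (f : F[X]) :
    (subst a ha f).natDegree = f.natDegree := by
  rw [subst_apply, natDegree_comp, natDegree_C_mul_X a ha, mul_one]

theorem leadingCoeff_subst (a : F) (ha : a ≠ 0) (f : F[X]) :
    (subst a ha f).leadingCoeff = f.leadingCoeff * a ^ f.natDegree := by
  rw [leadingCoeff, natDegree_subst, coeff_subst, leadingCoeff]

/-- the isomorphism of the quotients induced by the substitution -/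
noncomputable def substQ (a : F) (ha : a ≠ 0) (f g : F[X]) (h : g = subst a ha f) :
    Qm f ≃ₗ[F] Qm g :=
  (Ideal.quotientEquivAlg (Ideal.span {f}) (Ideal.span {g}) (subst a ha) (by
    rw [Ideal.map_span, Set.image_singleton, h]
    rfl)).toLinearEquiv

theorem substQ_mk (a : F) (ha : a ≠ 0) (f g : F[X]) (h : g = subst a ha f) (k : F[X]) :
    substQ a ha f g h (Submodule.Quotient.mk k) = Submodule.Quotient.mk (subst a ha k) := rfl

theorem substQ_smul (a : F) (ha : a ≠ 0) (f g : F[X]) (h : g = subst a ha f) (w : F[X])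
    (m : Qm f) : substQ a ha f g h (w • m) = subst a ha w • substQ a ha f g h m := by
  obtain ⟨k, rfl⟩ := Submodule.Quotient.mk_surjective _ m
  rw [← Submodule.Quotient.mk_smul, substQ_mk, substQ_mk, ← Submodule.Quotient.mk_smul,
    smul_eq_mul, smul_eq_mul, map_mul]

variable [DecidableEq F]

/-- conjugate endomorphisms have the same invariants -/
theorem isInv_of_conj {V : Type u} [AddCommGroup V] [Module F V] (φ ψ : Module.End F V)
    (L : V ≃ₗ[F] V) (h : ∀ v, L (φ v) = ψ (L v)) (c : ℕ → F[X]) (hc : IsInv φ c) :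
    IsInv ψ c := by
  obtain ⟨ι, hι, p, e, hp, ⟨E⟩, hce⟩ := hc
  have hf : ∀ m : V, (L.symm.trans (AEval'.of φ)) (ψ • m)
      = (X : F[X]) • (L.symm.trans (AEval'.of φ)) m := by
    intro m
    show AEval'.of φ (L.symm (ψ m)) = (X : F[X]) • AEval'.of φ (L.symm m)
    rw [AEval'.X_smul_of]
    congr 1
    apply L.injective
    rw [h, L.apply_symm_apply, L.apply_symm_apply]
  exact ⟨ι, hι, p, e, hp,
    ⟨(LinearEquiv.ofAEval ψ (L.symm.trans (AEval'.of φ)) hf).trans E⟩, hce⟩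

/-- the twist of a polynomial: the roots are multiplied by `ζ` -/
noncomputable def tw (ζ : F) (f : F[X]) : F[X] :=
  if hζ : ζ = 0 then f else C (ζ ^ f.natDegree) * subst ζ⁻¹ (inv_ne_zero hζ) f

theorem tw_def (ζ : F) (hζ : ζ ≠ 0) (f : F[X]) :
    tw ζ f = C (ζ ^ f.natDegree) * subst ζ⁻¹ (inv_ne_zero hζ) f := by
  rw [tw, dif_neg hζ]

theorem coeff_tw (ζ : F) (hζ : ζ ≠ 0) (f : F[X]) (i : ℕ) :
    (tw ζ f).coeff i = ζ ^ f.natDegree * (f.coeff i * (ζ⁻¹) ^ i) := by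
  rw [tw_def ζ hζ, coeff_C_mul, coeff_subst]

theorem tw_one (ζ : F) (hζ : ζ ≠ 0) : tw ζ (1 : F[X]) = 1 := by
  rw [tw_def ζ hζ, natDegree_one, pow_zero, C_1, one_mul, map_one]

theorem tw_mul (ζ : F) (hζ : ζ ≠ 0) (f g : F[X]) (hf : f ≠ 0) (hg : g ≠ 0) :
    tw ζ (f * g) = tw ζ f * tw ζ g := by
  rw [tw_def ζ hζ, tw_def ζ hζ, tw_def ζ hζ, natDegree_mul hf hg, pow_add, C_mul, map_mul]
  ring

theorem tw_ne_zero (ζ : F) (hζ : ζ ≠ 0) (f : F[X]) (hf : f ≠ 0) : tw ζ f ≠ 0 := by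
  rw [tw_def ζ hζ]
  apply mul_ne_zero
  · rw [Ne, C_eq_zero]
    exact pow_ne_zero _ hζ
  · rw [Ne, map_eq_zero_iff _ (subst ζ⁻¹ (inv_ne_zero hζ)).injective]
    exact hf

theorem tw_prod (ζ : F) (hζ : ζ ≠ 0) {ι : Type*} (s : Finset ι) (f : ι → F[X])
    (hf : ∀ i ∈ s, f i ≠ 0) : tw ζ (∏ i ∈ s, f i) = ∏ i ∈ s, tw ζ (f i) := by
  classical
  induction s using Finset.induction_on with
  | empty => rw [Finset.prod_empty, Finset.prod_empty, tw_one ζ hζ]
  | insert a s ha ih =>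
    rw [Finset.prod_insert ha, Finset.prod_insert ha,
      tw_mul ζ hζ _ _ (hf a (Finset.mem_insert_self a s))
        (Finset.prod_ne_zero_iff.2 (fun i hi => hf i (Finset.mem_insert_of_mem hi))),
      ih (fun i hi => hf i (Finset.mem_insert_of_mem hi))]

theorem tw_monic (ζ : F) (hζ : ζ ≠ 0) (f : F[X]) (hf : f.Monic) : (tw ζ f).Monic := by
  rw [tw_def ζ hζ, Monic, leadingCoeff_mul, leadingCoeff_C, leadingCoeff_subst, hf.leadingCoeff,
    one_mul, ← mul_pow, mul_inv_cancel₀ hζ, one_pow]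

theorem normalize_subst (ζ : F) (hζ : ζ ≠ 0) (p : F[X]) (hp : p ≠ 0) :
    normalize (subst ζ⁻¹ (inv_ne_zero hζ) p) = tw ζ (normalize p) := by
  have hm : (tw ζ (normalize p)).Monic := tw_monic ζ hζ _ (monic_normalize hp)
  rw [← hm.normalize_eq_self]
  apply normalize_eq_normalize_iff_associated.2
  rw [tw_def ζ hζ]
  have h1 : Associated (subst ζ⁻¹ (inv_ne_zero hζ) p)
      (subst ζ⁻¹ (inv_ne_zero hζ) (normalize p)) :=
    (normalize_associated p).symm.map (subst ζ⁻¹ (inv_ne_zero hζ))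
  refine h1.trans ?_
  have hu : IsUnit (C (ζ ^ (normalize p).natDegree) : F[X]) :=
    isUnit_C.2 (isUnit_iff_ne_zero.2 (pow_ne_zero _ hζ))
  exact (associated_isUnit_mul_left_iff hu).2 (Associated.refl _) |>.symm

/-- the invariants of a scalar multiple -/
theorem isInv_smul {V : Type u} [AddCommGroup V] [Module F V] (φ : Module.End F V)
    (ζ : F) (hζ : ζ ≠ 0) (c : ℕ → F[X]) (hc : IsInv φ c) :
    IsInv (ζ • φ) (fun j => tw ζ (c j)) := by
  classical
  obtain ⟨ι, hι, p, e, hp, ⟨E⟩, hce⟩ := hc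
  have hζ' : ζ⁻¹ ≠ 0 := inv_ne_zero hζ
  refine ⟨ι, hι, fun i => subst ζ⁻¹ hζ' (p i), e, ?_, ⟨?_⟩, ?_⟩
  · intro i
    exact (MulEquiv.irreducible_iff (subst ζ⁻¹ hζ')).2 (hp i)
  · have hT : ∀ i, subst ζ⁻¹ hζ' (p i) ^ e i = subst ζ⁻¹ hζ' (p i ^ e i) :=
      fun i => (map_pow _ _ _).symm
    apply LinearEquiv.ofAEval (ζ • φ) ((AEval'.of φ).trans ((E.restrictScalars F).trans
      (LinearEquiv.piCongrRight (fun i => substQ ζ⁻¹ hζ' (p i ^ e i)
        (subst ζ⁻¹ hζ' (p i) ^ e i) (hT i)))))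
    intro m
    funext i
    show substQ ζ⁻¹ hζ' (p i ^ e i) (subst ζ⁻¹ hζ' (p i) ^ e i) (hT i)
        (E (AEval'.of φ ((ζ • φ) m)) i)
      = (X : F[X]) • substQ ζ⁻¹ hζ' (p i ^ e i) (subst ζ⁻¹ hζ' (p i) ^ e i) (hT i)
        (E (AEval'.of φ m) i)
    have h1 : AEval'.of φ ((ζ • φ) m) = (C ζ * X : F[X]) • AEval'.of φ m := by
      rw [mul_smul, AEval'.X_smul_of, LinearMap.smul_apply, map_smul]
      rw [C_eq_algebraMap, algebraMap_smul]
    rw [h1, map_smul, Pi.smul_apply, substQ_smul, map_mul, subst_C, subst_X, ← mul_assoc, ← C_mul,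
      mul_inv_cancel₀ hζ, C_1, one_mul]
  · intro j
    show tw ζ (c j) = cseq (fun i => subst ζ⁻¹ hζ' (p i)) e j
    rw [hce, cseq_def, cseq_def, tw_prod ζ hζ]
    · apply Finset.prod_congr rfl
      intro i _
      rw [normalize_subst ζ hζ _ (hp i).ne_zero]
    · intro i _
      rw [Ne, normalize_eq_zero]
      exact (hp i).ne_zero

end Cfsg.Agent.Helper44.SLk
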