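/-
helper44: the conjugacy classes of `SL_n(F)` fixed by a central element have twist-invariant
invariants; the resulting bound.
-/
import Cfsg.Agent.Helper44.SLkTwist
import Cfsg.Agent.Helper44.SLkClass
import Cfsg.Agent.Helper44.SLkBurnside

set_option autoImplicit false

namespace Cfsg.Agent.Helper44.SLk

open Polynomial Module Cfsg.Agent.Helper44.GLk Matrix

universe u

variable {F : Type u} [Field F] [DecidableEq F]

theorem tw_eq_of_conj_smul {n : ℕ} (x g : GL (Fin n) F) (ζ : F) (hζ : ζ ≠ 0)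
    (hg : (g : Matrix (Fin n) (Fin n) F) * (ζ • (x : Matrix (Fin n) (Fin n) F))
      = (x : Matrix (Fin n) (Fin n) F) * (g : Matrix (Fin n) (Fin n) F))
    (c' : ℕ → F[X]) (hc : IsInv (Matrix.toLin' (x : Matrix (Fin n) (Fin n) F)) c') (j : ℕ) :
    tw ζ (c' (j + 1)) = c' (j + 1) := by
  have h1 := isInv_smul (Matrix.toLin' (x : Matrix (Fin n) (Fin n) F)) ζ hζ c' hc
  have hgi : ((g⁻¹ : GL (Fin n) F) : Matrix (Fin n) (Fin n) F) * (g : Matrix (Fin n) (Fin n) F)
      = 1 := by
    rw [← Units.val_mul, inv_mul_cancel, Units.val_one]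
  have hgi' : (g : Matrix (Fin n) (Fin n) F) * ((g⁻¹ : GL (Fin n) F) : Matrix (Fin n) (Fin n) F)
      = 1 := by
    rw [← Units.val_mul, mul_inv_cancel, Units.val_one]
  have h2 := isInv_of_conj (ζ • Matrix.toLin' (x : Matrix (Fin n) (Fin n) F))
    (Matrix.toLin' (x : Matrix (Fin n) (Fin n) F)) (Matrix.toLin'OfInv hgi hgi') (by
      intro v
      show Matrix.toLin' (g : Matrix (Fin n) (Fin n) F)
          ((ζ • Matrix.toLin' (x : Matrix (Fin n) (Fin n) F)) v)
        = Matrix.toLin' (x : Matrix (Fin n) (Fin n) F)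
          (Matrix.toLin' (g : Matrix (Fin n) (Fin n) F) v)
      rw [← map_smul Matrix.toLin' ζ (x : Matrix (Fin n) (Fin n) F), ← Matrix.toLin'_mul_apply,
        ← Matrix.toLin'_mul_apply, hg]) _ h1
  exact isInv_unique _ _ c' h2 hc j

omit [DecidableEq F] in
theorem isConj_mul_of_central {G : Type*} [Group G] (zg : G) (hz : ∀ y, zg * y = y * zg)
    {x y : G} (h : IsConj x y) : IsConj (zg * x) (zg * y) := by
  obtain ⟨a, ha⟩ := isConj_iff.1 h
  apply isConj_iff.2
  refine ⟨a, ?_⟩
  calc a * (zg * x) * a⁻¹ = (a * zg) * x * a⁻¹ := by group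
    _ = zg * (a * x * a⁻¹) := by rw [← hz a]; group
    _ = zg * y := by rw [ha]

omit [DecidableEq F] in
theorem exists_conj_of_fixed {n : ℕ} (z : Subgroup.center (SpecialLinearGroup (Fin n) F)) (ζ : F)
    (hz : ((z : SpecialLinearGroup (Fin n) F) : Matrix (Fin n) (Fin n) F)
      = ζ • (1 : Matrix (Fin n) (Fin n) F))
    (C : ConjClasses (SpecialLinearGroup (Fin n) F)) (hC : z • C = C) (x : GL (Fin n) F)
    (hx : ConjClasses.mk x = ConjClasses.map Matrix.SpecialLinearGroup.toGL C) :
    ∃ g : GL (Fin n) F, (g : Matrix (Fin n) (Fin n) F) * (ζ • (x : Matrix (Fin n) (Fin n) F))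
      = (x : Matrix (Fin n) (Fin n) F) * (g : Matrix (Fin n) (Fin n) F) := by
  induction C using Quotient.inductionOn with
  | h s =>
    have hC' : ConjClasses.mk ((z : SpecialLinearGroup (Fin n) F) * s) = ConjClasses.mk s := hC
    have h1 : IsConj ((z : SpecialLinearGroup (Fin n) F) * s) s :=
      ConjClasses.mk_eq_mk_iff_isConj.1 hC'
    have h2 := (Matrix.SpecialLinearGroup.toGL (n := Fin n) (R := F)).map_isConj h1
    rw [map_mul] at h2
    have hx' : ConjClasses.mk x = ConjClasses.mk (Matrix.SpecialLinearGroup.toGL s) := hx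
    have h3 : IsConj x (Matrix.SpecialLinearGroup.toGL s) := ConjClasses.mk_eq_mk_iff_isConj.1 hx'
    have hzm : ((Matrix.SpecialLinearGroup.toGL (z : SpecialLinearGroup (Fin n) F) :
        GL (Fin n) F) : Matrix (Fin n) (Fin n) F) = ζ • (1 : Matrix (Fin n) (Fin n) F) := hz
    have hcen : ∀ y : GL (Fin n) F,
        Matrix.SpecialLinearGroup.toGL (z : SpecialLinearGroup (Fin n) F) * y
          = y * Matrix.SpecialLinearGroup.toGL (z : SpecialLinearGroup (Fin n) F) := by
      intro y
      apply Units.ext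
      rw [Units.val_mul, Units.val_mul, hzm, Matrix.smul_mul, Matrix.mul_smul, one_mul, mul_one]
    have h4 := isConj_mul_of_central _ hcen h3
    have h5 : IsConj (Matrix.SpecialLinearGroup.toGL (z : SpecialLinearGroup (Fin n) F) * x) x :=
      (h4.trans h2).trans h3.symm
    obtain ⟨g, hg⟩ := isConj_iff.1 h5
    refine ⟨g, ?_⟩
    have h6 : g * (Matrix.SpecialLinearGroup.toGL (z : SpecialLinearGroup (Fin n) F) * x)
        = x * g := mul_inv_eq_iff_eq_mul.1 hg
    have h7 := congrArg (fun y : GL (Fin n) F => (y : Matrix (Fin n) (Fin n) F)) h6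
    simp only [Units.val_mul] at h7
    rw [hzm, Matrix.smul_mul, one_mul] at h7
    exact h7

/-- twist-invariant sequences -/
def TwInv (ζ : F) {n s : ℕ} (c : Seqs F n s) : Prop := ∀ j : Fin n, tw ζ (c.1 j) = c.1 j

/-- the weight restricted to twist-invariant sequences -/
noncomputable def wtZ [Fintype F] (ζ : F) {n s : ℕ} (c : Seqs F n s) : ℕ := by
  classical exact if TwInv ζ c then wt c else 0

theorem wtZ_def [Fintype F] (ζ : F) {n s : ℕ} (c : Seqs F n s) [Decidable (TwInv ζ c)] :
    wtZ ζ c = if TwInv ζ c then wt c else 0 := by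
  unfold wtZ
  congr 1

/-- the number of classes of `SL_n(F)` fixed by the central element `ζ • 1` -/
theorem card_fixedBy_le [Fintype F] (n : ℕ)
    (z : Subgroup.center (SpecialLinearGroup (Fin n) F)) (ζ : F) (hζ : ζ ≠ 0)
    (hz : ((z : SpecialLinearGroup (Fin n) F) : Matrix (Fin n) (Fin n) F)
      = ζ • (1 : Matrix (Fin n) (Fin n) F)) :
    Nat.card (MulAction.fixedBy (ConjClasses (SpecialLinearGroup (Fin n) F)) z)
      ≤ ∑ᶠ c : Seqs F n n, wtZ ζ c := by
  classical
  have : Fintype (ConjClasses (GL (Fin n) F)) := Fintype.ofFinite _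
  have : Fintype (Seqs F n n) := Fintype.ofFinite _
  rw [finsum_eq_sum_of_fintype]
  have hex : ∀ C : ConjClasses (GL (Fin n) F), ∃ c : Seqs F n n, ∃ c' : ℕ → F[X],
      IsInv (Matrix.toLin' ((Quotient.out C : GL (Fin n) F) : Matrix (Fin n) (Fin n) F)) c' ∧
      c' 0 = 1 ∧ (∀ j, n < j → c' j = 1) ∧ (∀ j : Fin n, c.1 j = c' (j.1 + 1)) ∧
      ((Quotient.out C : GL (Fin n) F) : Matrix (Fin n) (Fin n) F).det = Dval c ∧
      ∀ j : Fin n, c.1 j ≠ 1 → ∀ a : F, a ≠ 0 → ∃ z : GL (Fin n) F,
        z * (Quotient.out C) = (Quotient.out C) * z ∧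
        (z : Matrix (Fin n) (Fin n) F).det = a ^ (j.1 + 1) :=
    fun C => exists_classInv_full _
  choose κ c' hc' using hex
  have hinj : Function.Injective κ := by
    intro C C' hCC'
    have h1 : c' C = c' C' := by
      funext j
      rcases Nat.eq_zero_or_pos j with rfl | hj
      · rw [(hc' C).2.1, (hc' C').2.1]
      · by_cases hjn : n < j
        · rw [(hc' C).2.2.1 j hjn, (hc' C').2.2.1 j hjn]
        · have e1 := (hc' C).2.2.2.1 ⟨j - 1, by omega⟩
          have e2 := (hc' C').2.2.2.1 ⟨j - 1, by omega⟩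
          have e3 : j - 1 + 1 = j := by omega
          simp only [e3] at e1 e2
          rw [← e1, ← e2, hCC']
    have h2 : IsConj (Quotient.out C) (Quotient.out C') := by
      apply isConj_of_isInv _ _ (c' C) (hc' C).1
      rw [h1]
      exact (hc' C').1
    rw [← Quotient.out_eq C, ← Quotient.out_eq C']
    exact ConjClasses.mk_eq_mk_iff_isConj.2 h2
  -- fixed classes have twist-invariant invariants
  have htw : ∀ C : ConjClasses (SpecialLinearGroup (Fin n) F), z • C = C →
      TwInv ζ (κ (ConjClasses.map Matrix.SpecialLinearGroup.toGL C)) := by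
    intro C hC j
    obtain ⟨g, hg⟩ := exists_conj_of_fixed z ζ hz C hC
      (Quotient.out (ConjClasses.map Matrix.SpecialLinearGroup.toGL C)) (Quotient.out_eq _)
    rw [(hc' _).2.2.2.1 j]
    exact tw_eq_of_conj_smul _ g ζ hζ hg _ (hc' _).1 j.1
  have h1 : Nat.card (MulAction.fixedBy (ConjClasses (SpecialLinearGroup (Fin n) F)) z)
      = ∑ D : ConjClasses (GL (Fin n) F),
        Nat.card {s : MulAction.fixedBy (ConjClasses (SpecialLinearGroup (Fin n) F)) z //
          ConjClasses.map (Matrix.SpecialLinearGroup.toGL) s.1 = D} := by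
    rw [← Nat.card_sigma]
    exact Nat.card_congr (Equiv.sigmaFiberEquiv _).symm
  rw [h1]
  have h2 : ∀ D : ConjClasses (GL (Fin n) F),
      Nat.card {s : MulAction.fixedBy (ConjClasses (SpecialLinearGroup (Fin n) F)) z //
          ConjClasses.map (Matrix.SpecialLinearGroup.toGL) s.1 = D} ≤ wtZ ζ (κ D) := by
    intro D
    rw [wtZ_def]
    split_ifs with hD
    · have h3 := card_fiber_SL_le (Quotient.out D) (κ D) (hc' D).2.2.2.2.1 (hc' D).2.2.2.2.2
      have h4 : ConjClasses.mk (Quotient.out D) = D := Quotient.out_eq D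
      rw [h4] at h3
      refine le_trans ?_ h3
      apply Nat.card_le_card_of_injective
        (fun s : {s : MulAction.fixedBy (ConjClasses (SpecialLinearGroup (Fin n) F)) z //
          ConjClasses.map (Matrix.SpecialLinearGroup.toGL) s.1 = D} =>
          (⟨s.1.1, s.2⟩ : {s : ConjClasses (SpecialLinearGroup (Fin n) F) //
            ConjClasses.map (Matrix.SpecialLinearGroup.toGL) s = D}))
      intro s s' hss
      apply Subtype.ext
      apply Subtype.ext
      have h5 : (⟨s.1.1, s.2⟩ : {s : ConjClasses (SpecialLinearGroup (Fin n) F) //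
            ConjClasses.map (Matrix.SpecialLinearGroup.toGL) s = D})
          = ⟨s'.1.1, s'.2⟩ := hss
      exact Subtype.mk_eq_mk.1 h5
    · have hempty : IsEmpty {s : MulAction.fixedBy (ConjClasses (SpecialLinearGroup (Fin n) F)) z //
          ConjClasses.map (Matrix.SpecialLinearGroup.toGL) s.1 = D} := by
        constructor
        rintro ⟨⟨C, hC⟩, hCD⟩
        apply hD
        have := htw C hC
        rw [hCD] at this
        exact this
      simp
  refine le_trans (Finset.sum_le_sum (fun D _ => h2 D)) ?_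
  rw [← Finset.sum_image (f := fun c => wtZ ζ c) (s := Finset.univ) (g := κ)
    (fun a _ b _ h => hinj h)]
  exact Finset.sum_le_sum_of_subset (Finset.subset_univ _)

end Cfsg.Agent.Helper44.SLk
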