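/-
helper44: sequences of monic polynomials with non-zero constant term, indexed from an offset,
and the bound on their number.
-/
import Cfsg.Agent.Helper44.GLkCount

set_option autoImplicit false

namespace Cfsg.Agent.Helper44.SLk

open Polynomial Cfsg.Agent.Helper44.GLk

universe u

variable (F : Type u) [Field F]

/-- sequences `(c_{o+1}, …, c_{o+J})` of monic polynomials with non-zero constant term and
`∑ j * deg c_j = s` -/
def SeqsO (o J s : ℕ) : Type u :=
  {c : Fin J → F[X] // (∀ j, (c j).Monic ∧ (c j).coeff 0 ≠ 0) ∧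
    ∑ j : Fin J, (j.1 + o + 1) * (c j).natDegree = s}

/-- numeric count for offset sequences -/
def aO (r o : ℕ) : ℕ → ℕ → ℕ
  | 0, s => if s = 0 then 1 else 0
  | J + 1, s =>
      ∑ k ∈ Finset.range (s / (J + o + 1) + 1), goodCount (r + 1) k * aO r o J (s - (J + o + 1) * k)

theorem aO_zero (r o s : ℕ) : aO r o 0 s = if s = 0 then 1 else 0 := by
  rw [aO]

theorem aO_succ (r o J s : ℕ) : aO r o (J + 1) s
    = ∑ k ∈ Finset.range (s / (J + o + 1) + 1),
        goodCount (r + 1) k * aO r o J (s - (J + o + 1) * k) := by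
  rw [aO]

variable {F}

theorem seqsO_sum (o J s : ℕ) (c : SeqsO F o (J + 1) s) :
    ∑ j : Fin J, (j.1 + o + 1) * (c.1 j.castSucc).natDegree
      + (J + o + 1) * (c.1 (Fin.last J)).natDegree = s := by
  have := c.2.2
  rw [Fin.sum_univ_castSucc] at this
  simpa using this

/-- split off the last polynomial -/
noncomputable def seqsOSplit (o J s : ℕ) (c : SeqsO F o (J + 1) s) :
    Σ k : Fin (s / (J + o + 1) + 1), Good F k.1 × SeqsO F o J (s - (J + o + 1) * k.1) :=
  ⟨⟨(c.1 (Fin.last J)).natDegree, by
      rw [Nat.lt_succ_iff, Nat.le_div_iff_mul_le (by omega)]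
      have := seqsO_sum o J s c
      rw [mul_comm]
      omega⟩,
    Good.mk' (c.1 (Fin.last J)) (c.2.1 _).1 rfl (c.2.1 _).2,
    ⟨fun j => c.1 j.castSucc, fun j => c.2.1 _, by
      have := seqsO_sum o J s c
      show ∑ j : Fin J, (j.1 + o + 1) * (c.1 j.castSucc).natDegree
        = s - (J + o + 1) * (c.1 (Fin.last J)).natDegree
      omega⟩⟩

/-- forget the proofs -/
noncomputable def seqsOProj (o J s : ℕ)
    (x : Σ k : Fin (s / (J + o + 1) + 1), Good F k.1 × SeqsO F o J (s - (J + o + 1) * k.1)) :
    F[X] × (Fin J → F[X]) := (x.2.1.poly, x.2.2.1)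

theorem seqsOSplit_injective (o J s : ℕ) : Function.Injective (seqsOSplit (F := F) o J s) := by
  apply Function.Injective.of_comp (f := seqsOProj o J s)
  intro c c' h
  have h1 : c.1 (Fin.last J) = c'.1 (Fin.last J) := congrArg Prod.fst h
  have h2 : (fun j : Fin J => c.1 j.castSucc) = (fun j => c'.1 j.castSucc) := congrArg Prod.snd h
  apply Subtype.ext
  funext j
  exact Fin.lastCases h1 (fun j => congrFun h2 j) j

section fin

variable [Fintype F]

theorem seqsO_finite (o : ℕ) : ∀ J s, Finite (SeqsO F o J s)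
  | 0, s => by
    unfold SeqsO
    infer_instance
  | J + 1, s => by
    haveI : ∀ s', Finite (SeqsO F o J s') := seqsO_finite o J
    exact Finite.of_injective _ (seqsOSplit_injective o J s)

instance (o J s : ℕ) : Finite (SeqsO F o J s) := seqsO_finite o J s

theorem card_seqsO_le (o : ℕ) : ∀ J s, Nat.card (SeqsO F o J s) ≤ aO (Fintype.card F - 1) o J s
  | 0, s => by
    rw [aO_zero]
    split_ifs with h
    · haveI : Subsingleton (SeqsO F o 0 s) := by
        unfold SeqsO
        infer_instance
      exact Finite.card_le_one_iff_subsingleton.2 inferInstance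
    · haveI : IsEmpty (SeqsO F o 0 s) := by
        constructor
        intro c
        have := c.2.2
        simp at this
        omega
      simp
  | J + 1, s => by
    have hq : Fintype.card F - 1 + 1 = Fintype.card F := by
      have := Fintype.card_pos (α := F)
      omega
    rw [aO_succ]
    refine le_trans (Nat.card_le_card_of_injective _ (seqsOSplit_injective o J s)) ?_
    rw [Nat.card_sigma, ← Fin.sum_univ_eq_sum_range (fun k => goodCount (Fintype.card F - 1 + 1) k
      * aO (Fintype.card F - 1) o J (s - (J + o + 1) * k))]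
    apply Finset.sum_le_sum
    intro k _
    rw [Nat.card_prod, card_good, hq]
    exact Nat.mul_le_mul_left _ (card_seqsO_le o J _)

end fin

theorem sum_fin_drop (o m : ℕ) (f : Fin (o + m) → ℕ)
    (hf : ∀ j : Fin (o + m), j.1 < o → f j = 0) :
    ∑ j : Fin m, f (Fin.natAdd o j) = ∑ j, f j := by
  have h1 : ∑ i : Fin o, f (Fin.castAdd m i) = 0 :=
    Finset.sum_eq_zero (fun i _ => hf _ (by rw [Fin.val_castAdd]; exact i.2))
  rw [Fin.sum_univ_add, h1, zero_add]

/-- dropping the first `o` (trivial) entries of a sequence -/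
noncomputable def dropSeq {n s : ℕ} (o m : ℕ) (hn : n = o + m) (c : Seqs F n s)
    (h : ∀ j : Fin n, j.1 < o → c.1 j = 1) : SeqsO F o m s :=
  ⟨fun j => c.1 ⟨o + j.1, by omega⟩, fun j => c.2.1 _, by
    subst hn
    have h1 := c.2.2
    rw [← sum_fin_drop o m (fun j => (j.1 + 1) * (c.1 j).natDegree)
      (fun j hj => by rw [h j hj, natDegree_one, mul_zero])] at h1
    refine Eq.trans ?_ h1
    apply Finset.sum_congr rfl
    intro j _
    show (j.1 + o + 1) * _ = ((Fin.natAdd o j).1 + 1) * _
    rw [Fin.val_natAdd, Nat.add_comm j.1 o]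
    rfl⟩

theorem dropSeq_apply {n s : ℕ} (o m : ℕ) (hn : n = o + m) (c : Seqs F n s)
    (h : ∀ j : Fin n, j.1 < o → c.1 j = 1) (j : Fin m) :
    (dropSeq o m hn c h).1 j = c.1 ⟨o + j.1, by omega⟩ := rfl

/-- the number of sequences whose first `o` entries are trivial -/
theorem card_trivial_le [Fintype F] {n s : ℕ} (o m : ℕ) (hn : n = o + m) :
    Nat.card {c : Seqs F n s // ∀ j : Fin n, j.1 < o → c.1 j = 1}
      ≤ aO (Fintype.card F - 1) o m s := by
  refine le_trans ?_ (card_seqsO_le o m s)
  apply Nat.card_le_card_of_injective (fun c => dropSeq o m hn c.1 c.2)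
  intro c c' hcc
  apply Subtype.ext
  apply Subtype.ext
  funext j
  by_cases hj : j.1 < o
  · rw [c.2 j hj, c'.2 j hj]
  · have h1 := congrArg (fun x : SeqsO F o m s => x.1 ⟨j.1 - o, by omega⟩) hcc
    simp only [dropSeq_apply] at h1
    have h2 : (⟨o + (j.1 - o), by omega⟩ : Fin n) = j := Fin.ext (by simp; omega)
    rw [h2] at h1
    exact h1

end Cfsg.Agent.Helper44.SLk
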