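/-
helper44: the weighted count of invariant sequences of determinant one.
-/
import Cfsg.Agent.Helper44.SLkAct
import Cfsg.Agent.Helper44.SLkSeqO

set_option autoImplicit false

namespace Cfsg.Agent.Helper44.SLk

open Polynomial Cfsg.Agent.Helper44.GLk

universe u

variable {F : Type u} [Field F]

theorem supp_nonempty {n s : ℕ} (hs : s ≠ 0) (c : Seqs F n s) : (supp c).Nonempty := by
  by_contra h
  rw [Finset.not_nonempty_iff_eq_empty] at h
  apply hs
  rw [← c.2.2]
  apply Finset.sum_eq_zero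
  intro j _
  have hj : c.1 j = 1 := by
    by_contra hj
    have := (mem_supp c j).2 hj
    rw [h] at this
    exact absurd this (Finset.notMem_empty j)
  rw [hj, natDegree_one, mul_zero]

/-- the smallest index in the support -/
noncomputable def j0 {n s : ℕ} (hs : s ≠ 0) (c : Seqs F n s) : Fin n :=
  (supp c).min' (supp_nonempty hs c)

theorem j0_mem {n s : ℕ} (hs : s ≠ 0) (c : Seqs F n s) : j0 hs c ∈ supp c :=
  Finset.min'_mem _ _

theorem j0_le {n s : ℕ} (hs : s ≠ 0) (c : Seqs F n s) {i : Fin n} (hi : i ∈ supp c) :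
    j0 hs c ≤ i := Finset.min'_le _ _ hi

theorem j0_ne_one {n s : ℕ} (hs : s ≠ 0) (c : Seqs F n s) : c.1 (j0 hs c) ≠ 1 :=
  (mem_supp c _).1 (j0_mem hs c)

theorem j0_act {n s : ℕ} (hs : s ≠ 0) (j : Fin n) (a : Fˣ) (c : Seqs F n s) :
    j0 hs (act j a c) = j0 hs c := by
  unfold j0
  simp only [supp_act]

section fin

variable [Fintype F]

/-- the number of solutions of `a ^ m = v` in `Fˣ` -/
theorem card_roots_le [DecidableEq F] (m : ℕ) (v : F) :
    (Finset.univ.filter (fun a : Fˣ => (a : F) ^ m = v)).card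
      ≤ Nat.gcd m (Fintype.card F - 1) := by
  classical
  by_cases hne : (Finset.univ.filter (fun a : Fˣ => (a : F) ^ m = v)).Nonempty
  · obtain ⟨a₀, ha₀⟩ := hne
    rw [Finset.mem_filter] at ha₀
    have hker : Nat.card (powMonoidHom m : Fˣ →* Fˣ).ker = Nat.gcd m (Fintype.card F - 1) := by
      rw [IsCyclic.card_powMonoidHom_ker, Nat.card_units, Nat.card_eq_fintype_card, Nat.gcd_comm]
    have hker2 : (Finset.univ.filter (fun z : Fˣ => z ^ m = 1)).card
        = Nat.gcd m (Fintype.card F - 1) := by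
      rw [← hker, Nat.card_eq_fintype_card, Fintype.card_subtype]
      apply congrArg Finset.card
      ext z
      simp only [Finset.mem_filter, Finset.mem_univ, true_and, MonoidHom.mem_ker,
        powMonoidHom_apply]
    rw [← hker2]
    refine le_trans (Finset.card_le_card ?_) (Finset.card_image_le (f := fun z : Fˣ => z * a₀))
    intro a ha
    rw [Finset.mem_filter] at ha
    rw [Finset.mem_image]
    refine ⟨a * a₀⁻¹, ?_, by rw [inv_mul_cancel_right]⟩
    rw [Finset.mem_filter]
    refine ⟨Finset.mem_univ _, ?_⟩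
    apply Units.ext
    rw [mul_pow, inv_pow, Units.val_mul, Units.val_pow_eq_pow_val, ha.2,
      Units.val_inv_eq_inv_val, Units.val_pow_eq_pow_val, ha₀.2, Units.val_one]
    apply mul_inv_cancel₀
    rw [← ha.2]
    exact pow_ne_zero _ a.ne_zero
  · rw [Finset.not_nonempty_iff_eq_empty] at hne
    rw [hne, Finset.card_empty]
    exact Nat.zero_le _


theorem trivial_iff {n s : ℕ} (hs : s ≠ 0) (c : Seqs F n s) (o : ℕ) :
    (∀ j : Fin n, j.1 < o → c.1 j = 1) ↔ o ≤ (j0 hs c).1 := by
  constructor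
  · intro h
    by_contra hlt
    exact j0_ne_one hs c (h _ (by omega))
  · intro h j hj
    by_contra hne
    have h1 : j0 hs c ≤ j := j0_le hs c ((mem_supp c j).2 hne)
    have h2 : (j0 hs c).1 ≤ j.1 := h1
    omega

theorem card_Y_le [DecidableEq F] {n s : ℕ} (hs : s ≠ 0) [Fintype (Seqs F n s)] (j : Fin n) :
    ((Finset.univ.filter (fun c : Seqs F n s => j0 hs c = j)).filter
        (fun c => Dval c = 1)).card * (Fintype.card F - 1)
      ≤ Nat.gcd (j.1 + 1) (Fintype.card F - 1)
        * (Finset.univ.filter (fun c : Seqs F n s => j0 hs c = j)).card := by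
  classical
  have hcard : (((Finset.univ.filter (fun c : Seqs F n s => j0 hs c = j)).filter
      (fun c => Dval c = 1)) ×ˢ (Finset.univ : Finset Fˣ)).card
      = ((Finset.univ.filter (fun c : Seqs F n s => j0 hs c = j)).filter
        (fun c => Dval c = 1)).card * (Fintype.card F - 1) := by
    rw [Finset.card_product, Finset.card_univ, Fintype.card_units]
  rw [← hcard]
  apply Finset.card_le_mul_card_image_of_maps_to
    (f := fun p : Seqs F n s × Fˣ => act j p.2 p.1)
  · intro p hp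
    rw [Finset.mem_product, Finset.mem_filter, Finset.mem_filter] at hp
    rw [Finset.mem_filter]
    refine ⟨Finset.mem_univ _, ?_⟩
    rw [j0_act]
    exact hp.1.1.2
  · intro c' _
    refine le_trans ?_ (card_roots_le (j.1 + 1) (Dval c'))
    apply Finset.card_le_card_of_injOn (fun p => p.2)
    · intro p hp
      rw [Finset.mem_coe, Finset.mem_filter, Finset.mem_product, Finset.mem_filter,
        Finset.mem_filter] at hp
      rw [Finset.mem_coe, Finset.mem_filter]
      refine ⟨Finset.mem_univ _, ?_⟩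
      have h1 : p.1.1 j ≠ 1 := by
        rw [← hp.1.1.1.2]
        exact j0_ne_one hs p.1
      rw [← hp.2, Dval_act j p.2 p.1 h1, hp.1.1.2, mul_one]
    · intro p hp p' hp' h
      rw [Finset.mem_coe, Finset.mem_filter] at hp hp'
      have h' : p.2 = p'.2 := h
      have h2 : p.1 = p'.1 := by
        rw [← act_inv j p.2 p.1, ← act_inv j p'.2 p'.1, hp.2, hp'.2, h']
      exact Prod.ext h2 h'

theorem wt_le [DecidableEq F] {n s : ℕ} (hs : s ≠ 0) (c : Seqs F n s) :
    wt c ≤ if Dval c = 1 then Nat.gcd ((j0 hs c).1 + 1) (Fintype.card F - 1) else 0 := by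
  rw [wt_def]
  split_ifs with h
  · apply Nat.le_of_dvd (Nat.gcd_pos_of_pos_left _ (Nat.succ_pos _))
    apply Nat.gcd_dvd_gcd_of_dvd_left
    unfold dval
    exact Finset.gcd_dvd (j0_mem hs c)
  · exact le_refl _

theorem sum_wt_le [DecidableEq F] {n s : ℕ} (hs : s ≠ 0) [Fintype (Seqs F n s)] :
    (Fintype.card F - 1) * ∑ c : Seqs F n s, wt c
      ≤ ∑ c : Seqs F n s, Nat.gcd ((j0 hs c).1 + 1) (Fintype.card F - 1) ^ 2 := by
  classical
  have h1 : ∑ c : Seqs F n s, wt c ≤ ∑ c : Seqs F n s,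
      (if Dval c = 1 then Nat.gcd ((j0 hs c).1 + 1) (Fintype.card F - 1) else 0) :=
    Finset.sum_le_sum (fun c _ => wt_le hs c)
  refine le_trans (Nat.mul_le_mul_left _ h1) ?_
  rw [← Finset.sum_fiberwise (s := Finset.univ) (g := j0 hs)
    (f := fun c => if Dval c = 1 then Nat.gcd ((j0 hs c).1 + 1) (Fintype.card F - 1) else 0)]
  rw [← Finset.sum_fiberwise (s := Finset.univ) (g := j0 hs)
    (f := fun c => Nat.gcd ((j0 hs c).1 + 1) (Fintype.card F - 1) ^ 2)]
  rw [Finset.mul_sum]
  apply Finset.sum_le_sum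
  intro j _
  have e1 : ∑ c ∈ Finset.univ.filter (fun c : Seqs F n s => j0 hs c = j),
      (if Dval c = 1 then Nat.gcd ((j0 hs c).1 + 1) (Fintype.card F - 1) else 0)
      = ((Finset.univ.filter (fun c : Seqs F n s => j0 hs c = j)).filter
        (fun c => Dval c = 1)).card * Nat.gcd (j.1 + 1) (Fintype.card F - 1) := by
    rw [← Finset.sum_filter, ← smul_eq_mul, ← Finset.sum_const]
    apply Finset.sum_congr rfl
    intro c hc
    rw [Finset.mem_filter, Finset.mem_filter] at hc
    rw [hc.1.2]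
  have e2 : ∑ c ∈ Finset.univ.filter (fun c : Seqs F n s => j0 hs c = j),
      Nat.gcd ((j0 hs c).1 + 1) (Fintype.card F - 1) ^ 2
      = (Finset.univ.filter (fun c : Seqs F n s => j0 hs c = j)).card
        * Nat.gcd (j.1 + 1) (Fintype.card F - 1) ^ 2 := by
    rw [← smul_eq_mul, ← Finset.sum_const]
    apply Finset.sum_congr rfl
    intro c hc
    rw [Finset.mem_filter] at hc
    rw [hc.2]
  rw [e1, e2]
  have h2 := card_Y_le (F := F) hs j
  calc (Fintype.card F - 1) * (((Finset.univ.filter (fun c : Seqs F n s => j0 hs c = j)).filter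
        (fun c => Dval c = 1)).card * Nat.gcd (j.1 + 1) (Fintype.card F - 1))
      = (((Finset.univ.filter (fun c : Seqs F n s => j0 hs c = j)).filter
        (fun c => Dval c = 1)).card * (Fintype.card F - 1))
          * Nat.gcd (j.1 + 1) (Fintype.card F - 1) := by ring
    _ ≤ (Nat.gcd (j.1 + 1) (Fintype.card F - 1)
        * (Finset.univ.filter (fun c : Seqs F n s => j0 hs c = j)).card)
          * Nat.gcd (j.1 + 1) (Fintype.card F - 1) := Nat.mul_le_mul_right _ h2
    _ = _ := by ring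


theorem sum_phi_le {n s : ℕ} (hs : s ≠ 0) [Fintype (Seqs F n s)] (A2 B2 : ℕ) (φ : ℕ → ℕ)
    (h1 : φ 1 = 1) (hA1 : 1 ≤ A2) (hAB : A2 ≤ B2) (h2 : φ 2 ≤ A2)
    (h3 : ∀ j, 3 ≤ j → j ≤ n → φ j ≤ B2) :
    ∑ c : Seqs F n s, φ ((j0 hs c).1 + 1)
      ≤ Nat.card (Seqs F n s)
        + (A2 - 1) * Nat.card {c : Seqs F n s // ∀ j : Fin n, j.1 < 1 → c.1 j = 1}
        + (B2 - A2) * Nat.card {c : Seqs F n s // ∀ j : Fin n, j.1 < 2 → c.1 j = 1} := by
  classical
  have e0 : Nat.card (Seqs F n s) = ∑ c : Seqs F n s, 1 := by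
    rw [Nat.card_eq_fintype_card, Finset.sum_const, smul_eq_mul, mul_one, Finset.card_univ]
  have e1 : ∀ o : ℕ, Nat.card {c : Seqs F n s // ∀ j : Fin n, j.1 < o → c.1 j = 1}
      = ∑ c : Seqs F n s, if o ≤ (j0 hs c).1 then 1 else 0 := by
    intro o
    rw [Nat.card_eq_fintype_card, Fintype.card_subtype, Finset.card_filter]
    apply Finset.sum_congr rfl
    intro c _
    simp only [trivial_iff hs c o]
  rw [e0, e1 1, e1 2, Finset.mul_sum, Finset.mul_sum, ← Finset.sum_add_distrib,
    ← Finset.sum_add_distrib]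
  apply Finset.sum_le_sum
  intro c _
  have hlt : (j0 hs c).1 < n := (j0 hs c).2
  rcases Nat.lt_or_ge (j0 hs c).1 1 with h | h
  · have h0 : (j0 hs c).1 = 0 := by omega
    rw [h0, if_neg (by omega), if_neg (by omega), h1]
    omega
  · rcases Nat.lt_or_ge (j0 hs c).1 2 with h' | h'
    · have h0 : (j0 hs c).1 = 1 := by omega
      rw [h0, if_pos (by omega), if_neg (by omega)]
      show φ 2 ≤ _
      omega
    · rw [if_pos h, if_pos h']
      have := h3 ((j0 hs c).1 + 1) (by omega) (by omega)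
      omega

open Matrix in
/-- the main inequality for the number of classes of `SL_n(F)` -/
theorem card_SL_mul_le [DecidableEq F] (m A B : ℕ) (hA : 1 ≤ A) (hAB : A ≤ B)
    (h2 : Nat.gcd 2 (Fintype.card F - 1) ≤ A)
    (h3 : ∀ j, 3 ≤ j → j ≤ m + 2 → Nat.gcd j (Fintype.card F - 1) ≤ B) :
    (Fintype.card F - 1) * Nat.card (ConjClasses (SpecialLinearGroup (Fin (m + 2)) F))
      ≤ aN (Fintype.card F - 1) (m + 2) (m + 2)
        + (A ^ 2 - 1) * aO (Fintype.card F - 1) 1 (m + 1) (m + 2)
        + (B ^ 2 - A ^ 2) * aO (Fintype.card F - 1) 2 m (m + 2) := by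
  classical
  haveI : Fintype (Seqs F (m + 2) (m + 2)) := Fintype.ofFinite _
  have hs : m + 2 ≠ 0 := by omega
  have k1 := card_conjClasses_SL_le (F := F) (m + 2)
  rw [finsum_eq_sum_of_fintype] at k1
  refine le_trans (Nat.mul_le_mul_left _ k1) ?_
  refine le_trans (sum_wt_le hs) ?_
  have k2 := sum_phi_le (F := F) (n := m + 2) hs (A ^ 2) (B ^ 2)
    (fun j => Nat.gcd j (Fintype.card F - 1) ^ 2)
    (by simp) (Nat.one_le_pow _ _ hA) (Nat.pow_le_pow_left hAB 2) (Nat.pow_le_pow_left h2 2)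
    (fun j hj hj' => Nat.pow_le_pow_left (h3 j hj hj') 2)
  refine le_trans k2 ?_
  have k3 := card_seqs_le (F := F) (m + 2) (m + 2)
  have k4 := card_trivial_le (F := F) (n := m + 2) (s := m + 2) 1 (m + 1) (by omega)
  have k5 := card_trivial_le (F := F) (n := m + 2) (s := m + 2) 2 m (by omega)
  exact Nat.add_le_add (Nat.add_le_add k3 (Nat.mul_le_mul_left _ k4)) (Nat.mul_le_mul_left _ k5)

end fin

end Cfsg.Agent.Helper44.SLk
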