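/-
helper44: sequences of polynomials in `X ^ e`: twist-invariant sequences, their stability under the
scaling action, and their number.
-/
import Cfsg.Agent.Helper44.SLkFix
import Cfsg.Agent.Helper44.SLkSum

set_option autoImplicit false

namespace Cfsg.Agent.Helper44.SLk

open Polynomial Cfsg.Agent.Helper44.GLk

universe u

variable {F : Type u} [Field F] [DecidableEq F]

/-- the support of `f` consists of multiples of `e` -/
def IsExp (e : ℕ) (f : F[X]) : Prop := ∀ i, f.coeff i ≠ 0 → e ∣ i

theorem isExp_of_tw_eq (ζ : F) (hζ : ζ ≠ 0) (f : F[X]) (hf0 : f.coeff 0 ≠ 0)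
    (h : tw ζ f = f) : IsExp (orderOf ζ) f := by
  have h0 := congrArg (fun g : F[X] => g.coeff 0) h
  simp only [coeff_tw ζ hζ, pow_zero, mul_one] at h0
  have hdeg : ζ ^ f.natDegree = 1 := by
    have : (ζ ^ f.natDegree - 1) * f.coeff 0 = 0 := by rw [sub_mul, h0, one_mul, sub_self]
    rcases mul_eq_zero.1 this with h1 | h1
    · exact sub_eq_zero.1 h1
    · exact absurd h1 hf0
  intro i hi
  have h1 := congrArg (fun g : F[X] => g.coeff i) h
  simp only [coeff_tw ζ hζ, hdeg, one_mul] at h1
  have h2 : (ζ⁻¹) ^ i = 1 := by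
    have : f.coeff i * ((ζ⁻¹) ^ i - 1) = 0 := by rw [mul_sub, h1, mul_one, sub_self]
    rcases mul_eq_zero.1 this with h3 | h3
    · exact absurd h3 hi
    · exact sub_eq_zero.1 h3
  apply orderOf_dvd_of_pow_eq_one
  rw [inv_pow] at h2
  exact inv_eq_one.1 h2

theorem isExp_scaleConst (e : ℕ) (a : F) (f : F[X]) (h : IsExp e f) :
    IsExp e (scaleConst a f) := by
  unfold scaleConst
  split_ifs with h0
  · exact h
  · intro i hi
    rcases Nat.eq_zero_or_pos i with rfl | hpos
    · exact dvd_zero e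
    · apply h
      rw [coeff_add, coeff_C, if_neg (by omega), add_zero] at hi
      exact hi

theorem isExp_act (e : ℕ) {n s : ℕ} (j : Fin n) (a : Fˣ) (c : Seqs F n s)
    (h : ∀ i, IsExp e (c.1 i)) : ∀ i, IsExp e ((act j a c).1 i) := by
  intro i
  by_cases hi : i = j
  · subst hi
    rw [act_self]
    exact isExp_scaleConst e _ _ (h i)
  · rw [act_ne _ _ _ hi]
    exact h i

theorem isExp_dvd_natDegree (e : ℕ) (f : F[X]) (hf : f ≠ 0) (h : IsExp e f) : e ∣ f.natDegree :=
  h _ (by rw [coeff_natDegree]; exact leadingCoeff_ne_zero.2 hf)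

theorem expand_contract_of_isExp (e : ℕ) (he : 0 < e) (f : F[X]) (h : IsExp e f) :
    expand F e (contract e f) = f := by
  ext i
  rw [coeff_expand he]
  split_ifs with hi
  · rw [coeff_contract (by omega), Nat.div_mul_cancel hi]
  · by_contra hne
    exact hi (h i (Ne.symm hne))

/-- the smallest index of the support is small -/
theorem j0_mul_le (e : ℕ) {n s : ℕ} (hs : s ≠ 0) (c : Seqs F n s)
    (h : ∀ i, IsExp e (c.1 i)) : ((j0 hs c).1 + 1) * e ≤ s := by
  have h1 : c.1 (j0 hs c) ≠ 1 := j0_ne_one hs c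
  have hm := (c.2.1 (j0 hs c)).1
  have h2 : (c.1 (j0 hs c)).natDegree ≠ 0 := fun h0 => h1 (hm.natDegree_eq_zero.1 h0)
  have h3 : e ∣ (c.1 (j0 hs c)).natDegree := isExp_dvd_natDegree e _ hm.ne_zero (h _)
  have h4 : e ≤ (c.1 (j0 hs c)).natDegree := Nat.le_of_dvd (Nat.pos_of_ne_zero h2) h3
  have h5 : ((j0 hs c).1 + 1) * (c.1 (j0 hs c)).natDegree ≤ s :=
    le_of_le_of_eq (Finset.single_le_sum (f := fun j : Fin n => (j.1 + 1) * (c.1 j).natDegree)
      (fun _ _ => Nat.zero_le _) (Finset.mem_univ _)) c.2.2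
  exact le_trans (Nat.mul_le_mul_left _ h4) h5

/-- contracting all the entries -/
noncomputable def contractSeq (e : ℕ) (he : 0 < e) {n s : ℕ} (c : Seqs F n (e * s))
    (h : ∀ i, IsExp e (c.1 i)) : Seqs F n s :=
  ⟨fun j => contract e (c.1 j), by
    intro j
    constructor
    · rw [← monic_expand_iff he, expand_contract_of_isExp e he _ (h j)]
      exact (c.2.1 j).1
    · rw [coeff_contract (by omega), zero_mul]
      exact (c.2.1 j).2, by
    have h1 : ∀ j : Fin n, (c.1 j).natDegree = (contract e (c.1 j)).natDegree * e := by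
      intro j
      rw [← natDegree_expand, expand_contract_of_isExp e he _ (h j)]
    have h2 := c.2.2
    rw [Finset.sum_congr rfl (fun j _ => by rw [h1 j])] at h2
    have h3 : (∑ j : Fin n, (j.1 + 1) * (contract e (c.1 j)).natDegree) * e = e * s := by
      rw [Finset.sum_mul]
      refine Eq.trans (Finset.sum_congr rfl ?_) h2
      intro j _
      ring
    exact Nat.eq_of_mul_eq_mul_right he (h3.trans (mul_comm e s))⟩

theorem contractSeq_apply (e : ℕ) (he : 0 < e) {n s : ℕ} (c : Seqs F n (e * s))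
    (h : ∀ i, IsExp e (c.1 i)) (j : Fin n) :
    (contractSeq e he c h).1 j = contract e (c.1 j) := rfl

/-- the number of sequences of polynomials in `X ^ e` -/
theorem card_isExp_le [Fintype F] (e : ℕ) (he : 0 < e) (n s : ℕ) :
    Nat.card {c : Seqs F n (e * s) // ∀ i, IsExp e (c.1 i)}
      ≤ aN (Fintype.card F - 1) n s := by
  refine le_trans ?_ (card_seqs_le (F := F) n s)
  apply Nat.card_le_card_of_injective (fun c => contractSeq e he c.1 c.2)
  intro c c' hcc
  apply Subtype.ext
  apply Subtype.ext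
  funext j
  have h1 := congrArg (fun x : Seqs F n s => x.1 j) hcc
  simp only [contractSeq_apply] at h1
  rw [← expand_contract_of_isExp e he _ (c.2 j), ← expand_contract_of_isExp e he _ (c'.2 j), h1]

end Cfsg.Agent.Helper44.SLk
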