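/-
helper44: the weighted count over a set of invariant sequences stable under the scaling action;
the bound for the classes fixed by a central element.
-/
import Cfsg.Agent.Helper44.SLkExp

set_option autoImplicit false

namespace Cfsg.Agent.Helper44.SLk

open Polynomial Cfsg.Agent.Helper44.GLk

universe u

variable {F : Type u} [Field F] [Fintype F] [DecidableEq F]

theorem card_Y_le' {n s : ℕ} (hs : s ≠ 0) (U : Finset (Seqs F n s))
    (hU : ∀ (j : Fin n) (a : Fˣ) (c : Seqs F n s), c ∈ U → act j a c ∈ U) (j : Fin n) :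
    ((U.filter (fun c : Seqs F n s => j0 hs c = j)).filter
        (fun c => Dval c = 1)).card * (Fintype.card F - 1)
      ≤ Nat.gcd (j.1 + 1) (Fintype.card F - 1)
        * (U.filter (fun c : Seqs F n s => j0 hs c = j)).card := by
  classical
  have hcard : (((U.filter (fun c : Seqs F n s => j0 hs c = j)).filter
      (fun c => Dval c = 1)) ×ˢ (Finset.univ : Finset Fˣ)).card
      = ((U.filter (fun c : Seqs F n s => j0 hs c = j)).filter
        (fun c => Dval c = 1)).card * (Fintype.card F - 1) := by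
    rw [Finset.card_product, Finset.card_univ, Fintype.card_units]
  rw [← hcard]
  apply Finset.card_le_mul_card_image_of_maps_to
    (f := fun p : Seqs F n s × Fˣ => act j p.2 p.1)
  · intro p hp
    rw [Finset.mem_product, Finset.mem_filter, Finset.mem_filter] at hp
    rw [Finset.mem_filter]
    refine ⟨hU _ _ _ hp.1.1.1, ?_⟩
    rw [j0_act]
    exact hp.1.1.2
  · intro c' _
    refine le_trans ?_ (card_roots_le (j.1 + 1) (Dval c'))
    apply Finset.card_le_card_of_injOn (fun p => p.2)
    · intro p hp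
      rw [Finset.mem_coe, Finset.mem_filter, Finset.mem_product, Finset.mem_filter,
        Finset.mem_filter] at hp
      rw [Finset.mem_coe, Finset.mem_filter]
      refine ⟨Finset.mem_univ _, ?_⟩
      have h1 : p.1.1 j ≠ 1 := by
        rw [← hp.1.1.1.2]
        exact j0_ne_one hs p.1
      rw [← hp.2, Dval_act j p.2 p.1 h1, hp.1.1.2, mul_one]
    · intro p hp p' hp' h
      rw [Finset.mem_coe, Finset.mem_filter] at hp hp'
      have h' : p.2 = p'.2 := h
      have h2 : p.1 = p'.1 := by
        rw [← act_inv j p.2 p.1, ← act_inv j p'.2 p'.1, hp.2, hp'.2, h']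
      exact Prod.ext h2 h'

theorem sum_wt_le' {n s : ℕ} (hs : s ≠ 0) (U : Finset (Seqs F n s))
    (hU : ∀ (j : Fin n) (a : Fˣ) (c : Seqs F n s), c ∈ U → act j a c ∈ U) :
    (Fintype.card F - 1) * ∑ c ∈ U, wt c
      ≤ ∑ c ∈ U, Nat.gcd ((j0 hs c).1 + 1) (Fintype.card F - 1) ^ 2 := by
  classical
  have h1 : ∑ c ∈ U, wt c ≤ ∑ c ∈ U,
      (if Dval c = 1 then Nat.gcd ((j0 hs c).1 + 1) (Fintype.card F - 1) else 0) :=
    Finset.sum_le_sum (fun c _ => wt_le hs c)
  refine le_trans (Nat.mul_le_mul_left _ h1) ?_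
  rw [← Finset.sum_fiberwise (s := U) (g := j0 hs)
    (f := fun c => if Dval c = 1 then Nat.gcd ((j0 hs c).1 + 1) (Fintype.card F - 1) else 0)]
  rw [← Finset.sum_fiberwise (s := U) (g := j0 hs)
    (f := fun c => Nat.gcd ((j0 hs c).1 + 1) (Fintype.card F - 1) ^ 2)]
  rw [Finset.mul_sum]
  apply Finset.sum_le_sum
  intro j _
  have e1 : ∑ c ∈ U.filter (fun c : Seqs F n s => j0 hs c = j),
      (if Dval c = 1 then Nat.gcd ((j0 hs c).1 + 1) (Fintype.card F - 1) else 0)
      = ((U.filter (fun c : Seqs F n s => j0 hs c = j)).filter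
        (fun c => Dval c = 1)).card * Nat.gcd (j.1 + 1) (Fintype.card F - 1) := by
    rw [← Finset.sum_filter, ← smul_eq_mul, ← Finset.sum_const]
    apply Finset.sum_congr rfl
    intro c hc
    rw [Finset.mem_filter, Finset.mem_filter] at hc
    rw [hc.1.2]
  have e2 : ∑ c ∈ U.filter (fun c : Seqs F n s => j0 hs c = j),
      Nat.gcd ((j0 hs c).1 + 1) (Fintype.card F - 1) ^ 2
      = (U.filter (fun c : Seqs F n s => j0 hs c = j)).card
        * Nat.gcd (j.1 + 1) (Fintype.card F - 1) ^ 2 := by
    rw [← smul_eq_mul, ← Finset.sum_const]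
    apply Finset.sum_congr rfl
    intro c hc
    rw [Finset.mem_filter] at hc
    rw [hc.2]
  rw [e1, e2]
  have h2 := card_Y_le' (F := F) hs U hU j
  calc (Fintype.card F - 1) * (((U.filter (fun c : Seqs F n s => j0 hs c = j)).filter
        (fun c => Dval c = 1)).card * Nat.gcd (j.1 + 1) (Fintype.card F - 1))
      = (((U.filter (fun c : Seqs F n s => j0 hs c = j)).filter
        (fun c => Dval c = 1)).card * (Fintype.card F - 1))
          * Nat.gcd (j.1 + 1) (Fintype.card F - 1) := by ring
    _ ≤ (Nat.gcd (j.1 + 1) (Fintype.card F - 1)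
        * (U.filter (fun c : Seqs F n s => j0 hs c = j)).card)
          * Nat.gcd (j.1 + 1) (Fintype.card F - 1) := Nat.mul_le_mul_right _ h2
    _ = _ := by ring

/-- the weighted count of the sequences of polynomials in `X ^ e` -/
theorem sum_wt_isExp_le (e : ℕ) (he : 0 < e) (n s : ℕ) (hs : s ≠ 0)
    [Fintype (Seqs F n (e * s))]
    [DecidablePred (fun c : Seqs F n (e * s) => ∀ i, IsExp e (c.1 i))] :
    (Fintype.card F - 1) *
        ∑ c ∈ Finset.univ.filter (fun c : Seqs F n (e * s) => ∀ i, IsExp e (c.1 i)), wt c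
      ≤ min s (Fintype.card F - 1) ^ 2 * aN (Fintype.card F - 1) n s := by
  classical
  have hes : e * s ≠ 0 := Nat.mul_ne_zero (by omega) hs
  have hr : 1 ≤ Fintype.card F - 1 := by
    have := Fintype.one_lt_card (α := F)
    omega
  refine le_trans (sum_wt_le' hes _ ?_) ?_
  · intro j a c hc
    rw [Finset.mem_filter] at hc ⊢
    exact ⟨Finset.mem_univ _, isExp_act e j a c hc.2⟩
  · have h1 : ∀ c ∈ Finset.univ.filter (fun c : Seqs F n (e * s) => ∀ i, IsExp e (c.1 i)),
        Nat.gcd ((j0 hes c).1 + 1) (Fintype.card F - 1) ^ 2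
          ≤ min s (Fintype.card F - 1) ^ 2 := by
      intro c hc
      rw [Finset.mem_filter] at hc
      apply Nat.pow_le_pow_left
      apply le_min
      · have h2 := j0_mul_le e hes c hc.2
        have h3 : (j0 hes c).1 + 1 ≤ s :=
          Nat.le_of_mul_le_mul_right (le_of_le_of_eq h2 (mul_comm e s)) he
        exact le_trans (Nat.gcd_le_left _ (Nat.succ_pos _)) h3
      · exact Nat.gcd_le_right _ (by omega)
    refine le_trans (Finset.sum_le_sum h1) ?_
    rw [Finset.sum_const, smul_eq_mul, mul_comm]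
    apply Nat.mul_le_mul_left
    refine le_trans (le_of_eq ?_) (card_isExp_le (F := F) e he n s)
    rw [Nat.card_eq_fintype_card, Fintype.card_subtype]

end Cfsg.Agent.Helper44.SLk
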