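/-
helper44: the centre of `SL_n(F)` over a finite field, and the number of classes fixed by a central
element in terms of the order of its scalar.
-/
import Cfsg.Agent.Helper44.SLkSum2

set_option autoImplicit false

namespace Cfsg.Agent.Helper44.SLk

open Polynomial Cfsg.Agent.Helper44.GLk Matrix

universe u

variable {F : Type u} [Field F]

section center

variable (m : ℕ)

/-- the scalar of a central element -/
def zeta (z : Subgroup.center (SpecialLinearGroup (Fin (m + 2)) F)) : F :=
  ((z : SpecialLinearGroup (Fin (m + 2)) F) : Matrix (Fin (m + 2)) (Fin (m + 2)) F) 0 0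

theorem coe_center (z : Subgroup.center (SpecialLinearGroup (Fin (m + 2)) F)) :
    ((z : SpecialLinearGroup (Fin (m + 2)) F) : Matrix (Fin (m + 2)) (Fin (m + 2)) F)
      = zeta m z • (1 : Matrix (Fin (m + 2)) (Fin (m + 2)) F) := by
  have h := Matrix.SpecialLinearGroup.scalar_eq_coe_self_center z 0
  rw [← h, Matrix.scalar_apply, ← Matrix.smul_one_eq_diagonal]
  rfl

theorem zeta_pow (z : Subgroup.center (SpecialLinearGroup (Fin (m + 2)) F)) :
    zeta m z ^ (m + 2) = 1 := by
  have h1 := (z : SpecialLinearGroup (Fin (m + 2)) F).2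
  rw [coe_center, Matrix.det_smul, Matrix.det_one, mul_one, Fintype.card_fin] at h1
  exact h1

theorem zeta_ne_zero (z : Subgroup.center (SpecialLinearGroup (Fin (m + 2)) F)) :
    zeta m z ≠ 0 := by
  intro h
  have := zeta_pow m z
  rw [h, zero_pow (by omega)] at this
  exact zero_ne_one this

theorem zeta_injective : Function.Injective (zeta (F := F) m) := by
  intro z z' h
  apply Subtype.ext
  apply Subtype.ext
  rw [coe_center, coe_center, h]

theorem zeta_one : zeta (F := F) m 1 = 1 := by
  unfold zeta
  simp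

theorem zeta_eq_one_iff (z : Subgroup.center (SpecialLinearGroup (Fin (m + 2)) F)) :
    zeta m z = 1 ↔ z = 1 := by
  constructor
  · intro h
    apply zeta_injective m
    rw [h, zeta_one]
  · rintro rfl
    exact zeta_one m

theorem orderOf_zeta_dvd (z : Subgroup.center (SpecialLinearGroup (Fin (m + 2)) F)) :
    orderOf (zeta m z) ∣ m + 2 := orderOf_dvd_of_pow_eq_one (zeta_pow m z)

theorem card_center [Fintype F] :
    Nat.card (Subgroup.center (SpecialLinearGroup (Fin (m + 2)) F))
      = Nat.gcd (m + 2) (Fintype.card F - 1) := by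
  rw [Nat.card_congr (Matrix.SpecialLinearGroup.center_equiv_rootsOfUnity' (0 : Fin (m + 2))).toEquiv,
    Fintype.card_fin, rootsOfUnity_eq_ker, IsCyclic.card_powMonoidHom_ker, Nat.card_units,
    Nat.card_eq_fintype_card, Nat.gcd_comm]

end center

variable [Fintype F] [DecidableEq F]

/-- the number of classes fixed by the central element with scalar of order `e` -/
theorem card_fixedBy_mul_le (n e s : ℕ) (hn : n = e * s) (he0 : 0 < e) (hs : s ≠ 0)
    (z : Subgroup.center (SpecialLinearGroup (Fin n) F)) (ζ : F) (hζ : ζ ≠ 0)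
    (he : orderOf ζ = e)
    (hz : ((z : SpecialLinearGroup (Fin n) F) : Matrix (Fin n) (Fin n) F)
      = ζ • (1 : Matrix (Fin n) (Fin n) F)) :
    (Fintype.card F - 1)
        * Nat.card (MulAction.fixedBy (ConjClasses (SpecialLinearGroup (Fin n) F)) z)
      ≤ min s (Fintype.card F - 1) ^ 2 * aN (Fintype.card F - 1) n s := by
  classical
  subst hn
  have : Fintype (Seqs F (e * s) (e * s)) := Fintype.ofFinite _
  have h1 := card_fixedBy_le (e * s) z ζ hζ hz
  rw [finsum_eq_sum_of_fintype] at h1
  refine le_trans (Nat.mul_le_mul_left _ h1) ?_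
  refine le_trans (Nat.mul_le_mul_left _ ?_) (sum_wt_isExp_le e he0 (e * s) s hs)
  rw [Finset.sum_filter]
  apply Finset.sum_le_sum
  intro c _
  rw [wtZ_def]
  split_ifs with h2 h3 h3
  · exact le_refl _
  · exfalso
    apply h3
    intro i
    have h4 := isExp_of_tw_eq ζ hζ _ (c.2.1 i).2 (h2 i)
    exact he ▸ h4
  · exact Nat.zero_le _
  · exact le_refl _

end Cfsg.Agent.Helper44.SLk
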