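/-
helper44: numeric bounds for the count of sequences without the first entry.
-/
import Cfsg.Agent.Helper44.SLkSeqO

set_option autoImplicit false

namespace Cfsg.Agent.Helper44.SLk

open Cfsg.Agent.Helper44.GLk

theorem goodCount_succ_le (q k : ℕ) (hq : 1 ≤ q) : goodCount q (k + 1) ≤ q * goodCount q k := by
  rw [goodCount, if_neg (by omega), goodCount, Nat.add_sub_cancel]
  split_ifs with h
  · subst h
    rw [pow_zero, mul_one, mul_one]
    omega
  · obtain ⟨m, rfl⟩ : ∃ m, k = m + 1 := ⟨k - 1, by omega⟩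
    rw [Nat.add_sub_cancel, pow_succ]
    apply le_of_eq
    ring

theorem aO_at_zero (r o : ℕ) : ∀ J, aO r o J 0 = 1
  | 0 => by rw [aO_zero, if_pos rfl]
  | J + 1 => by
    rw [aO_succ, Nat.zero_div, zero_add, Finset.sum_range_one, goodCount, if_pos rfl, one_mul,
      mul_zero, Nat.sub_zero, aO_at_zero r o J]

theorem aO_succ_of_lt (r o J s : ℕ) (hs : s < J + o + 1) : aO r o (J + 1) s = aO r o J s := by
  rw [aO_succ, Nat.div_eq_of_lt hs, zero_add, Finset.sum_range_one, goodCount, if_pos rfl, one_mul,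
    mul_zero, Nat.sub_zero]

theorem aO_succ_le (r o J s : ℕ) (hs : J + o + 1 ≤ s) :
    aO r o (J + 1) s ≤ aO r o J s + (r + 1) * aO r o (J + 1) (s - (J + o + 1)) := by
  obtain ⟨w, hw⟩ : ∃ w, w = J + o + 1 := ⟨_, rfl⟩
  rw [← hw] at hs ⊢
  have hw0 : 0 < w := by omega
  obtain ⟨K, hK⟩ : ∃ K, s / w = K + 1 := by
    have : 1 ≤ s / w := (Nat.one_le_div_iff hw0).2 hs
    exact ⟨s / w - 1, by omega⟩
  have hK' : (s - w) / w = K := by
    have := Nat.sub_mul_div s w 1
    rw [mul_one] at this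
    rw [this, hK, Nat.add_sub_cancel]
  rw [aO_succ r o J s, aO_succ r o J (s - w), ← hw, hK, hK', Finset.sum_range_succ', goodCount,
    if_pos rfl, one_mul, mul_zero, Nat.sub_zero, add_comm, Finset.mul_sum]
  apply Nat.add_le_add_left
  apply Finset.sum_le_sum
  intro k _
  have h1 : s - w * (k + 1) = s - w - w * k := by
    rw [Nat.mul_succ, Nat.sub_sub, Nat.add_comm]
  rw [h1, ← mul_assoc]
  exact Nat.mul_le_mul_right _ (goodCount_succ_le (r + 1) k (by omega))

/-- weighted number of compositions with parts at least two -/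
def Gf (q : ℕ) : ℕ → ℕ
  | 0 => 1
  | 1 => 0
  | s + 2 => Gf q (s + 1) + q * Gf q s

theorem Gf_zero (q : ℕ) : Gf q 0 = 1 := by rw [Gf]

theorem Gf_one (q : ℕ) : Gf q 1 = 0 := by rw [Gf]

theorem Gf_add_two (q s : ℕ) : Gf q (s + 2) = Gf q (s + 1) + q * Gf q s := by rw [Gf]

/-- partial sums -/
def Tsum (q m : ℕ) : ℕ := ∑ i ∈ Finset.range m, Gf q i

theorem Tsum_zero (q : ℕ) : Tsum q 0 = 0 := by
  rw [Tsum, Finset.sum_range_zero]

theorem Tsum_succ (q m : ℕ) : Tsum q (m + 1) = Tsum q m + Gf q m := by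
  rw [Tsum, Tsum, Finset.sum_range_succ]

theorem Gf_eq_Tsum (q : ℕ) : ∀ s, Gf q (s + 2) = q * Tsum q (s + 1)
  | 0 => by
    rw [Gf_add_two, Gf_one, Gf_zero, Tsum_succ, Tsum_zero, Gf_zero, zero_add, zero_add]
  | s + 1 => by
    rw [Gf_add_two, Gf_eq_Tsum q s, Tsum_succ q (s + 1), Nat.mul_add]

/-- the key inductive bound -/
theorem aO_le_Gf_aux (r : ℕ) : ∀ J s, 1 ≤ s →
    aO r 1 J s + (r + 1) * Tsum (r + 1) (s - J - 1) ≤ Gf (r + 1) s := by
  intro J
  induction J with
  | zero =>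
    intro s hs
    rw [aO_zero, if_neg (by omega), zero_add, Nat.sub_zero]
    obtain ⟨t, rfl⟩ : ∃ t, s = t + 1 := ⟨s - 1, by omega⟩
    rw [Nat.add_sub_cancel]
    rcases t with _ | t
    · rw [Tsum_zero, mul_zero]
      exact Nat.zero_le _
    · rw [Gf_eq_Tsum]
  | succ J ih =>
    intro s
    induction s using Nat.strong_induction_on with
    | _ s ihs =>
      intro hs
      by_cases hlt : s < J + 1 + 1
      · rw [aO_succ_of_lt r 1 J s hlt]
        have h1 : s - (J + 1) - 1 = 0 := by omega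
        rw [h1, Tsum_zero, mul_zero, add_zero]
        exact le_trans (Nat.le_add_right _ _) (ih s hs)
      · have hge : J + 1 + 1 ≤ s := by omega
        have h1 := aO_succ_le r 1 J s hge
        have h2 := ih s hs
        have h3 : s - J - 1 = (s - (J + 1) - 1) + 1 := by omega
        rw [h3, Tsum_succ, Nat.mul_add] at h2
        have h4 : aO r 1 (J + 1) (s - (J + 1 + 1)) ≤ Gf (r + 1) (s - (J + 1) - 1) := by
          have e1 : s - (J + 1 + 1) = s - (J + 1) - 1 := by omega
          rw [e1]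
          by_cases h0 : s - (J + 1) - 1 = 0
          · rw [h0, aO_at_zero, Gf_zero]
          · have := ihs (s - (J + 1) - 1) (by omega) (by omega)
            exact le_trans (Nat.le_add_right _ _) this
        have h5 := Nat.mul_le_mul_left (r + 1) h4
        omega

theorem aO_le_Gf (r J s : ℕ) : aO r 1 J s ≤ Gf (r + 1) s := by
  rcases Nat.eq_zero_or_pos s with rfl | hs
  · rw [aO_at_zero, Gf_zero]
  · exact le_trans (Nat.le_add_right _ _) (aO_le_Gf_aux r J s hs)

end Cfsg.Agent.Helper44.SLk
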