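/-
helper44: the numeric evaluation of the bounds for the class number of `SL_n(F)`.
-/
import Cfsg.Agent.Helper44.SLkSum
import Cfsg.Agent.Helper44.SLkFib

set_option autoImplicit false

namespace Cfsg.Agent.Helper44.SLk

open Cfsg.Agent.Helper44.GLk

theorem Gf_two (q : ℕ) : Gf q 2 = q := by
  rw [Gf_add_two, Gf_one, Gf_zero]; ring

theorem Gf_three (q : ℕ) : Gf q 3 = q := by
  rw [Gf_add_two, Gf_two, Gf_one]; ring

theorem Gf_four (q : ℕ) : Gf q 4 = q ^ 2 + q := by
  rw [Gf_add_two, Gf_three, Gf_two]; ring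

theorem Gf_five (q : ℕ) : Gf q 5 = 2 * q ^ 2 + q := by
  rw [Gf_add_two, Gf_four, Gf_three]; ring

theorem Gf_six (q : ℕ) : Gf q 6 = q ^ 3 + 3 * q ^ 2 + q := by
  rw [Gf_add_two, Gf_five, Gf_four]; ring

theorem Gf_bound (t : ℕ) : ∀ m,
    t * (t + 2) * Gf (t + 2) (m + 5) ≤ (2 * t + 1) * (t + 2) ^ (m + 3) ∧
    t * (t + 2) * Gf (t + 2) (m + 6) ≤ (2 * t + 1) * (t + 2) ^ (m + 4) := by
  intro m
  induction m with
  | zero =>
    rw [Gf_five, Gf_six]
    constructor
    · have e : t * (t + 2) * (2 * (t + 2) ^ 2 + (t + 2)) + 2 * (t + 2) ^ 2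
          = (2 * t + 1) * (t + 2) ^ (0 + 3) := by ring
      omega
    · have e : t * (t + 2) * ((t + 2) ^ 3 + 3 * (t + 2) ^ 2 + (t + 2))
          + (t + 2) ^ 2 * (t ^ 3 + 2 * t ^ 2 + t + 4)
          = (2 * t + 1) * (t + 2) ^ (0 + 4) := by ring
      omega
  | succ m ih =>
    refine ⟨ih.2, ?_⟩
    have e : m + 1 + 6 = (m + 5) + 2 := by ring
    rw [e, Gf_add_two, mul_add]
    have h1 := ih.1
    have h2 := ih.2
    have e2 : m + 5 + 1 = m + 6 := by ring
    rw [e2]
    have h3 : t * (t + 2) * ((t + 2) * Gf (t + 2) (m + 5))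
        = (t + 2) * (t * (t + 2) * Gf (t + 2) (m + 5)) := by ring
    rw [h3]
    have h4 : (t + 2) * (t * (t + 2) * Gf (t + 2) (m + 5))
        ≤ (t + 2) * ((2 * t + 1) * (t + 2) ^ (m + 3)) := Nat.mul_le_mul_left _ h1
    have h5 : (2 * t + 1) * (t + 2) ^ (m + 1 + 4)
        = (t + 2) * ((2 * t + 1) * (t + 2) ^ (m + 4)) := by ring
    have h6 : (t + 2) * ((2 * t + 1) * (t + 2) ^ (m + 3)) = (2 * t + 1) * (t + 2) ^ (m + 4) := by
      ring
    rw [h5]
    have h7 : 2 * ((2 * t + 1) * (t + 2) ^ (m + 4)) ≤ (t + 2) * ((2 * t + 1) * (t + 2) ^ (m + 4)) :=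
      Nat.mul_le_mul_right _ (by omega)
    omega

theorem aN_2_2 (r : ℕ) : aN r 2 2 = r * (r + 2) := by
  simp [aN, goodCount, Finset.sum_range_succ]
  ring

theorem aN_3_3 (r : ℕ) : aN r 3 3 = r * ((r + 1) * (r + 2)) := by
  simp [aN, goodCount, Finset.sum_range_succ]
  ring

theorem aN_4_4 (r : ℕ) : aN r 4 4 = r * ((r + 1) * (r ^ 2 + 3 * r + 3)) := by
  simp [aN, goodCount, Finset.sum_range_succ]
  ring

theorem aO_1_1_2 (r : ℕ) : aO r 1 1 2 = r := by
  simp [aO, goodCount, Finset.sum_range_succ]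

theorem aO_1_2_3 (r : ℕ) : aO r 1 2 3 = r := by
  simp [aO, goodCount, Finset.sum_range_succ]

theorem aO_1_3_4 (r : ℕ) : aO r 1 3 4 = r * (r + 2) := by
  simp [aO, goodCount, Finset.sum_range_succ]
  ring

theorem aO_2_2_4 (r : ℕ) : aO r 2 2 4 = r := by
  simp [aO, goodCount, Finset.sum_range_succ]

theorem aO_2_0 (r s : ℕ) (hs : s ≠ 0) : aO r 2 0 s = 0 := by
  rw [aO_zero, if_neg hs]

theorem aO_2_1_3 (r : ℕ) : aO r 2 1 3 = r := by
  simp [aO, goodCount, Finset.sum_range_succ]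


section field

open Matrix

universe u

variable {F : Type u} [Field F] [Fintype F]

theorem exists_card_eq : ∃ t, Fintype.card F = t + 2 :=
  ⟨Fintype.card F - 2, by have := Fintype.one_lt_card (α := F); omega⟩

theorem gcd_le_min (j i r : ℕ) (hj : 0 < j) (hji : j ≤ i) (hr : 0 < r) : Nat.gcd j r ≤ min i r :=
  le_min (le_trans (Nat.gcd_le_left _ hj) hji) (Nat.gcd_le_right _ hr)

theorem upper_ge5 (m : ℕ) :
    Nat.card (ConjClasses (SpecialLinearGroup (Fin (m + 5)) F))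
      ≤ Fintype.card F ^ (m + 4) + 3 * Fintype.card F ^ (m + 3) := by
  classical
  obtain ⟨t, ht⟩ := exists_card_eq (F := F)
  have hr : Fintype.card F - 1 = t + 1 := by omega
  have h := card_SL_mul_le (F := F) (m + 3) (t + 1) (t + 1) (by omega) le_rfl
    (by rw [hr]; exact Nat.gcd_le_right _ (by omega))
    (fun j _ _ => by rw [hr]; exact Nat.gcd_le_right _ (by omega))
  rw [hr, Nat.sub_self, zero_mul, add_zero] at h
  have h' : (t + 1) * Nat.card (ConjClasses (SpecialLinearGroup (Fin (m + 5)) F))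
      ≤ aN (t + 1) (m + 5) (m + 5) + ((t + 1) ^ 2 - 1) * aO (t + 1) 1 (m + 4) (m + 5) := h
  have h1 : aN (t + 1) (m + 5) (m + 5) ≤ (t + 2) ^ (m + 5) := aN_le (t + 1) (m + 5)
  have h2 : aO (t + 1) 1 (m + 4) (m + 5) ≤ Gf (t + 2) (m + 5) := aO_le_Gf (t + 1) _ _
  have h3 : (t + 1) ^ 2 - 1 = t * (t + 2) := by
    have : (t + 1) ^ 2 = t * (t + 2) + 1 := by ring
    omega
  have h4 := (Gf_bound t m).1
  rw [ht]
  refine Nat.le_of_mul_le_mul_left (c := t + 1) ?_ (by omega)
  refine le_trans h' ?_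
  rw [h3]
  have h5 : t * (t + 2) * aO (t + 1) 1 (m + 4) (m + 5) ≤ (2 * t + 1) * (t + 2) ^ (m + 3) :=
    le_trans (Nat.mul_le_mul_left _ h2) h4
  have h6 : (t + 1) * ((t + 2) ^ (m + 4) + 3 * (t + 2) ^ (m + 3))
      = (t + 2) ^ (m + 5) + (2 * t + 1) * (t + 2) ^ (m + 3) := by ring
  rw [h6]
  exact Nat.add_le_add h1 h5

theorem upper_2 :
    2 * Nat.card (ConjClasses (SpecialLinearGroup (Fin 2) F)) ≤ 5 * Fintype.card F := by
  classical
  obtain ⟨t, ht⟩ := exists_card_eq (F := F)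
  have hr : Fintype.card F - 1 = t + 1 := by omega
  have h := card_SL_mul_le (F := F) 0 (min 2 (t + 1)) (min 2 (t + 1)) (by omega) le_rfl
    (by rw [hr]; exact gcd_le_min _ _ _ (by omega) le_rfl (by omega))
    (fun j hj hj' => by omega)
  rw [hr, Nat.sub_self, zero_mul, add_zero] at h
  have h' : (t + 1) * Nat.card (ConjClasses (SpecialLinearGroup (Fin 2) F))
      ≤ aN (t + 1) 2 2 + (min 2 (t + 1) ^ 2 - 1) * aO (t + 1) 1 1 2 := h
  rw [aN_2_2, aO_1_1_2] at h'
  rw [ht]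
  generalize Nat.card (ConjClasses (SpecialLinearGroup (Fin 2) F)) = K at h' ⊢
  rcases Nat.eq_zero_or_pos t with rfl | htpos
  · norm_num at h'
    omega
  · have hmin : min 2 (t + 1) = 2 := by omega
    rw [hmin] at h'
    have h2 : (t + 1) * K ≤ (t + 1) * (t + 6) := by
      refine le_trans h' (le_of_eq ?_)
      norm_num
      ring
    have h3 := Nat.le_of_mul_le_mul_left h2 (by omega)
    omega

theorem upper_3 :
    Nat.card (ConjClasses (SpecialLinearGroup (Fin 3) F))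
      ≤ Fintype.card F ^ 2 + 3 * Fintype.card F := by
  classical
  obtain ⟨t, ht⟩ := exists_card_eq (F := F)
  have hr : Fintype.card F - 1 = t + 1 := by omega
  have h := card_SL_mul_le (F := F) 1 (min 3 (t + 1)) (min 3 (t + 1)) (by omega) le_rfl
    (by rw [hr]; exact gcd_le_min _ _ _ (by omega) (by omega) (by omega))
    (fun j hj hj' => by rw [hr]; exact gcd_le_min _ _ _ (by omega) (by omega) (by omega))
  rw [hr, Nat.sub_self, zero_mul, add_zero] at h
  have h' : (t + 1) * Nat.card (ConjClasses (SpecialLinearGroup (Fin 3) F))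
      ≤ aN (t + 1) 3 3 + (min 3 (t + 1) ^ 2 - 1) * aO (t + 1) 1 2 3 := h
  rw [aN_3_3, aO_1_2_3] at h'
  rw [ht]
  generalize Nat.card (ConjClasses (SpecialLinearGroup (Fin 3) F)) = K at h' ⊢
  rcases Nat.lt_or_ge t 2 with htlt | htge
  · interval_cases t
    · norm_num at h'
      omega
    · norm_num at h'
      omega
  · have hmin : min 3 (t + 1) = 3 := by omega
    rw [hmin] at h'
    have h2 : (t + 1) * K ≤ (t + 1) * ((t + 2) * (t + 3) + 8) := by
      refine le_trans h' (le_of_eq ?_)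
      norm_num
      ring
    have h3 := Nat.le_of_mul_le_mul_left h2 (by omega)
    nlinarith

theorem upper_4 :
    Nat.card (ConjClasses (SpecialLinearGroup (Fin 4) F))
      ≤ Fintype.card F ^ 3 + 3 * Fintype.card F ^ 2 := by
  classical
  obtain ⟨t, ht⟩ := exists_card_eq (F := F)
  have hr : Fintype.card F - 1 = t + 1 := by omega
  have h := card_SL_mul_le (F := F) 2 (min 2 (t + 1)) (min 4 (t + 1)) (by omega) (by omega)
    (by rw [hr]; exact gcd_le_min _ _ _ (by omega) (by omega) (by omega))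
    (fun j hj hj' => by rw [hr]; exact gcd_le_min _ _ _ (by omega) (by omega) (by omega))
  rw [hr] at h
  have h' : (t + 1) * Nat.card (ConjClasses (SpecialLinearGroup (Fin 4) F))
      ≤ aN (t + 1) 4 4 + (min 2 (t + 1) ^ 2 - 1) * aO (t + 1) 1 3 4
        + (min 4 (t + 1) ^ 2 - min 2 (t + 1) ^ 2) * aO (t + 1) 2 2 4 := h
  rw [aN_4_4, aO_1_3_4, aO_2_2_4] at h'
  rw [ht]
  generalize Nat.card (ConjClasses (SpecialLinearGroup (Fin 4) F)) = K at h' ⊢
  rcases Nat.lt_or_ge t 3 with htlt | htge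
  · interval_cases t
    · norm_num at h'
      omega
    · norm_num at h'
      omega
    · norm_num at h'
      omega
  · have hmin : min 2 (t + 1) = 2 := by omega
    have hmin' : min 4 (t + 1) = 4 := by omega
    rw [hmin, hmin'] at h'
    have h2 : (t + 1) * K
        ≤ (t + 1) * ((t + 2) * ((t + 1) ^ 2 + 3 * (t + 1) + 3) + 3 * (t + 3) + 12) := by
      refine le_trans h' (le_of_eq ?_)
      norm_num
      ring
    have h3 := Nat.le_of_mul_le_mul_left h2 (by omega)
    nlinarith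

end field

end Cfsg.Agent.Helper44.SLk
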