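/-
helper44: the lower bound `q ^ (n - 1) < k(SL_n(q))`.
-/
import Cfsg.Agent.Helper44.GLkLower

set_option autoImplicit false

namespace Cfsg.Agent.Helper44.SLk

open Polynomial Matrix Cfsg.Agent.Helper44.GLk

universe u

variable {F : Type u} [Field F]

/-- every monic polynomial of degree `n` with constant term `(-1) ^ n` is the characteristic
polynomial of a matrix of determinant one -/
theorem exists_SL_charpoly {n : ℕ} (f : F[X]) (hfm : f.Monic) (hfd : f.natDegree = n)
    (hf0 : f.coeff 0 = (-1) ^ n) :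
    ∃ g : SpecialLinearGroup (Fin n) F, (g : Matrix (Fin n) (Fin n) F).charpoly = f := by
  have hne : f.coeff 0 ≠ 0 := by
    rw [hf0]
    exact pow_ne_zero _ (by norm_num)
  obtain ⟨g, hg⟩ := exists_GL_charpoly (Good.mk' f hfm hfd hne)
  rw [Good.mk'_poly] at hg
  have hdet : (g : Matrix (Fin n) (Fin n) F).det = 1 := by
    rw [Matrix.det_eq_sign_charpoly_coeff, hg, hf0, Fintype.card_fin, ← mul_pow]
    norm_num
  exact ⟨⟨(g : Matrix (Fin n) (Fin n) F), hdet⟩, hg⟩

/-- the characteristic polynomial on conjugacy classes of the special linear group -/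
noncomputable def classCharpolySL (n : ℕ) :
    ConjClasses (SpecialLinearGroup (Fin n) F) → F[X] :=
  fun C => classCharpoly n (ConjClasses.map Matrix.SpecialLinearGroup.toGL C)

theorem classCharpolySL_mk (n : ℕ) (g : SpecialLinearGroup (Fin n) F) :
    classCharpolySL n (ConjClasses.mk g) = (g : Matrix (Fin n) (Fin n) F).charpoly := rfl

/-- the coefficient equivalence for monic polynomials of degree `k + 1` -/
noncomputable def monicCoeffEquiv (k : ℕ) :
    {p : F[X] // p.Monic ∧ p.natDegree = k + 1} ≃ (Fin (k + 1) → F) :=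
  (monicEquivDegreeLT (k + 1)).trans (degreeLTEquiv F (k + 1)).toEquiv

theorem monicCoeffEquiv_zero (k : ℕ) (p : {p : F[X] // p.Monic ∧ p.natDegree = k + 1}) :
    monicCoeffEquiv k p 0 = p.1.coeff 0 := by
  show (p.1.eraseLead).coeff 0 = p.1.coeff 0
  rw [eraseLead_coeff_of_ne 0 (by rw [p.2.2]; omega)]

/-- the polynomial with prescribed middle coefficients and constant term `(-1) ^ (k + 1)` -/
noncomputable def polyOf (k : ℕ) (v : Fin k → F) : {p : F[X] // p.Monic ∧ p.natDegree = k + 1} :=
  (monicCoeffEquiv k).symm (Fin.cons ((-1) ^ (k + 1)) v)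

theorem polyOf_injective (k : ℕ) : Function.Injective (polyOf (F := F) k) := by
  intro v w h
  have h1 := (monicCoeffEquiv k).symm.injective h
  exact (Fin.cons_injective2 h1).2

theorem polyOf_coeff_zero (k : ℕ) (v : Fin k → F) : (polyOf k v).1.coeff 0 = (-1) ^ (k + 1) := by
  rw [← monicCoeffEquiv_zero, polyOf, Equiv.apply_symm_apply, Fin.cons_zero]

/-- the transvection used for strictness -/
noncomputable def tvSL (k : ℕ) (hk : 1 ≤ k) : SpecialLinearGroup (Fin (k + 1)) F :=
  ⟨Matrix.transvection (0 : Fin (k + 1)) (Fin.last k) 1,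
    Matrix.det_transvection_of_ne _ _ (by
      intro h
      have := congrArg Fin.val h
      simp at this
      omega) 1⟩

theorem tvSL_ne_one (k : ℕ) (hk : 1 ≤ k) : tvSL (F := F) k hk ≠ 1 := by
  intro h
  have h1 := congrArg (fun g : SpecialLinearGroup (Fin (k + 1)) F =>
    (g : Matrix (Fin (k + 1)) (Fin (k + 1)) F) 0 (Fin.last k)) h
  have hne : (0 : Fin (k + 1)) ≠ Fin.last k := by
    intro h
    have := congrArg Fin.val h
    simp at this
    omega
  simp [tvSL, Matrix.transvection, Matrix.one_apply_ne hne] at h1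

theorem tvSL_charpoly (k : ℕ) (hk : 1 ≤ k) :
    ((tvSL (F := F) k hk : SpecialLinearGroup (Fin (k + 1)) F) :
      Matrix (Fin (k + 1)) (Fin (k + 1)) F).charpoly
      = ((1 : SpecialLinearGroup (Fin (k + 1)) F) : Matrix (Fin (k + 1)) (Fin (k + 1)) F).charpoly := by
  have hne : (0 : Fin (k + 1)) ≠ Fin.last k := by
    intro h
    have := congrArg Fin.val h
    simp at this
    omega
  have h1 : (Matrix.transvection (0 : Fin (k + 1)) (Fin.last k) (1 : F)).IsUpperTriangular :=
    Matrix.blockTriangular_transvection (b := id) (Fin.zero_le _) 1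
  have h2 : (1 : Matrix (Fin (k + 1)) (Fin (k + 1)) F).IsUpperTriangular :=
    Matrix.blockTriangular_one
  show (Matrix.transvection (0 : Fin (k + 1)) (Fin.last k) (1 : F)).charpoly
    = (1 : Matrix (Fin (k + 1)) (Fin (k + 1)) F).charpoly
  rw [Matrix.charpoly_of_isUpperTriangular _ h1, Matrix.charpoly_of_isUpperTriangular _ h2]
  apply Finset.prod_congr rfl
  intro i _
  congr 2
  rw [Matrix.transvection, Matrix.add_apply, Matrix.one_apply_eq]
  rw [Matrix.single_apply_of_ne, add_zero]
  rintro ⟨h3, h4⟩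
  exact hne (h3.trans h4.symm)

theorem lower_bound_SL [Fintype F] (k : ℕ) (hk : 1 ≤ k) :
    Fintype.card F ^ k < Nat.card (ConjClasses (SpecialLinearGroup (Fin (k + 1)) F)) := by
  classical
  have hex : ∀ v : Fin k → F, ∃ C : ConjClasses (SpecialLinearGroup (Fin (k + 1)) F),
      classCharpolySL (k + 1) C = (polyOf k v).1 := by
    intro v
    obtain ⟨g, hg⟩ := exists_SL_charpoly (polyOf k v).1 (polyOf k v).2.1 (polyOf k v).2.2
      (polyOf_coeff_zero k v)
    exact ⟨ConjClasses.mk g, hg⟩
  choose ψ hψ using hex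
  have hinj : Function.Injective ψ := by
    intro v w h
    apply polyOf_injective k
    apply Subtype.ext
    rw [← hψ v, ← hψ w, h]
  have hcard : Nat.card (Fin k → F) = Fintype.card F ^ k := by
    rw [Nat.card_eq_fintype_card, Fintype.card_fun, Fintype.card_fin]
  by_contra hlt
  rw [not_lt, ← hcard] at hlt
  have hbij := hinj.bijective_of_nat_card_le hlt
  obtain ⟨v1, hv1⟩ := hbij.2 (ConjClasses.mk (1 : SpecialLinearGroup (Fin (k + 1)) F))
  obtain ⟨v2, hv2⟩ := hbij.2 (ConjClasses.mk (tvSL (F := F) k hk))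
  have h1 : (polyOf k v1).1 = (polyOf k v2).1 := by
    rw [← hψ v1, ← hψ v2, hv1, hv2, classCharpolySL_mk, classCharpolySL_mk, tvSL_charpoly]
  have h2 : v1 = v2 := polyOf_injective k (Subtype.ext h1)
  rw [h2, hv2] at hv1
  have h3 := ConjClasses.mk_eq_mk_iff_isConj.1 hv1
  exact tvSL_ne_one k hk (isConj_one_left.1 h3)

end Cfsg.Agent.Helper44.SLk
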