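/-
helper44: the class number of `PSL_n(F)`: Burnside's formula and the numeric evaluation.
-/
import Cfsg.Agent.Helper44.SLkCenter
import Cfsg.Agent.Helper44.SLkFinal
import Cfsg.Agent.Helper44.SLkLower

set_option autoImplicit false

namespace Cfsg.Agent.Helper44.SLk

open Polynomial Cfsg.Agent.Helper44.GLk Matrix

universe u

variable {F : Type u} [Field F] [Fintype F]

theorem psl_burnside (m : ℕ) :
    Nat.gcd (m + 2) (Fintype.card F - 1)
        * Nat.card (ConjClasses (Matrix.ProjectiveSpecialLinearGroup (Fin (m + 2)) F))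
      = ∑ᶠ z : Subgroup.center (SpecialLinearGroup (Fin (m + 2)) F),
          Nat.card (MulAction.fixedBy (ConjClasses (SpecialLinearGroup (Fin (m + 2)) F)) z) := by
  rw [← card_center m, mul_comm]
  exact card_center_mul_card_quot

theorem card_fixedBy_one (m : ℕ) :
    Nat.card (MulAction.fixedBy (ConjClasses (SpecialLinearGroup (Fin (m + 2)) F))
      (1 : Subgroup.center (SpecialLinearGroup (Fin (m + 2)) F)))
      = Nat.card (ConjClasses (SpecialLinearGroup (Fin (m + 2)) F)) := by
  rw [MulAction.fixedBy_one_eq_univ]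
  exact Nat.card_congr (Equiv.Set.univ _)

theorem psl_lower (m : ℕ) :
    Fintype.card F ^ (m + 1) ≤ Nat.gcd (m + 2) (Fintype.card F - 1)
        * Nat.card (ConjClasses (Matrix.ProjectiveSpecialLinearGroup (Fin (m + 2)) F)) := by
  classical
  have : Fintype (Subgroup.center (SpecialLinearGroup (Fin (m + 2)) F)) := Fintype.ofFinite _
  rw [psl_burnside, finsum_eq_sum_of_fintype]
  refine le_trans ?_ (Finset.single_le_sum (f := fun z =>
    Nat.card (MulAction.fixedBy (ConjClasses (SpecialLinearGroup (Fin (m + 2)) F)) z))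
    (fun _ _ => Nat.zero_le _) (Finset.mem_univ 1))
  show _ ≤ Nat.card (MulAction.fixedBy (ConjClasses (SpecialLinearGroup (Fin (m + 2)) F))
      (1 : Subgroup.center (SpecialLinearGroup (Fin (m + 2)) F)))
  rw [card_fixedBy_one]
  exact le_of_lt (lower_bound_SL (m + 1) (by omega))

theorem sum_fixed_le [DecidableEq F] (m : ℕ) (a : F) (B1 B2 : ℕ)
    (hB : ∀ z : Subgroup.center (SpecialLinearGroup (Fin (m + 2)) F), z ≠ 1 →
      (Fintype.card F - 1)
          * Nat.card (MulAction.fixedBy (ConjClasses (SpecialLinearGroup (Fin (m + 2)) F)) z)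
        ≤ (if zeta m z = a then B1 else 0) + B2) :
    (Fintype.card F - 1) * ∑ᶠ z : Subgroup.center (SpecialLinearGroup (Fin (m + 2)) F),
          Nat.card (MulAction.fixedBy (ConjClasses (SpecialLinearGroup (Fin (m + 2)) F)) z)
      ≤ (Fintype.card F - 1) * Nat.card (ConjClasses (SpecialLinearGroup (Fin (m + 2)) F))
        + B1 + (Nat.gcd (m + 2) (Fintype.card F - 1) - 1) * B2 := by
  classical
  have : Fintype (Subgroup.center (SpecialLinearGroup (Fin (m + 2)) F)) := Fintype.ofFinite _
  rw [finsum_eq_sum_of_fintype, ← Finset.add_sum_erase Finset.univ _ (Finset.mem_univ 1),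
    mul_add, card_fixedBy_one, add_assoc]
  apply Nat.add_le_add_left
  rw [Finset.mul_sum]
  have h1 : ∀ z ∈ Finset.univ.erase (1 : Subgroup.center (SpecialLinearGroup (Fin (m + 2)) F)),
      (Fintype.card F - 1)
          * Nat.card (MulAction.fixedBy (ConjClasses (SpecialLinearGroup (Fin (m + 2)) F)) z)
        ≤ (if zeta m z = a then B1 else 0) + B2 :=
    fun z hz => hB z (Finset.ne_of_mem_erase hz)
  refine le_trans (Finset.sum_le_sum h1) ?_
  rw [Finset.sum_add_distrib]
  apply Nat.add_le_add
  · rw [← Finset.sum_filter, Finset.sum_const, smul_eq_mul]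
    have hc : (Finset.filter (fun z => zeta m z = a)
        (Finset.univ.erase (1 : Subgroup.center (SpecialLinearGroup (Fin (m + 2)) F)))).card
          ≤ 1 := by
      apply Finset.card_le_one.2
      intro z hz z' hz'
      rw [Finset.mem_filter] at hz hz'
      apply zeta_injective m
      rw [hz.2, hz'.2]
    calc _ ≤ 1 * B1 := Nat.mul_le_mul_right _ hc
      _ = B1 := one_mul _
  · rw [Finset.sum_const, smul_eq_mul, Finset.card_erase_of_mem (Finset.mem_univ _),
      Finset.card_univ, ← Nat.card_eq_fintype_card, card_center]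

variable [DecidableEq F]

theorem fixed_le_of_ne_one (m : ℕ) (z : Subgroup.center (SpecialLinearGroup (Fin (m + 2)) F))
    (hz : z ≠ 1) :
    ∃ e s, 2 ≤ e ∧ m + 2 = e * s ∧ s ≠ 0 ∧ orderOf (zeta m z) = e ∧
      (Fintype.card F - 1)
          * Nat.card (MulAction.fixedBy (ConjClasses (SpecialLinearGroup (Fin (m + 2)) F)) z)
        ≤ min s (Fintype.card F - 1) ^ 2 * aN (Fintype.card F - 1) (m + 2) s := by
  obtain ⟨s, hs⟩ := orderOf_zeta_dvd m z
  have he0 : orderOf (zeta m z) ≠ 0 := by
    intro h
    rw [h, zero_mul] at hs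
    omega
  have he1 : orderOf (zeta m z) ≠ 1 := by
    intro h
    exact hz ((zeta_eq_one_iff m z).1 (orderOf_eq_one_iff.1 h))
  have hs0 : s ≠ 0 := by
    intro h
    rw [h, mul_zero] at hs
    omega
  refine ⟨orderOf (zeta m z), s, by omega, hs, hs0, rfl, ?_⟩
  exact card_fixedBy_mul_le (m + 2) _ s hs (by omega) hs0 z (zeta m z) (zeta_ne_zero m z) rfl
    (coe_center m z)

end Cfsg.Agent.Helper44.SLk
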