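/-
helper44: the upper bounds for the class number of `PSL_n(F)`.
-/
import Cfsg.Agent.Helper44.SLkPSL

set_option autoImplicit false

namespace Cfsg.Agent.Helper44.SLk

open Polynomial Cfsg.Agent.Helper44.GLk Matrix

universe u

theorem aN_2_1 (r : ℕ) : aN r 2 1 = r := by
  simp [aN, goodCount, Finset.sum_range_succ]

theorem aN_3_1 (r : ℕ) : aN r 3 1 = r := by
  simp [aN, goodCount, Finset.sum_range_succ]

theorem aN_4_1 (r : ℕ) : aN r 4 1 = r := by
  simp [aN, goodCount, Finset.sum_range_succ]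

theorem aN_4_2 (r : ℕ) : aN r 4 2 = r * (r + 2) := by
  simp [aN, goodCount, Finset.sum_range_succ]
  ring

theorem num_ge5 (t m : ℕ) :
    (Nat.gcd (m + 5) (t + 1) - 1) * (min ((m + 5) / 2) (t + 1) ^ 2 * (t + 2) ^ ((m + 5) / 2))
      ≤ 2 * ((t + 1) * (t + 2) ^ (m + 3)) := by
  have hd : Nat.gcd (m + 5) (t + 1) - 1 ≤ t := by
    have := Nat.gcd_le_right (m + 5) (show 0 < t + 1 by omega)
    omega
  rcases m with _ | _ | m
  · have h1 : (0 + 5) / 2 = 2 := by norm_num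
    rw [h1]
    have h2 : min 2 (t + 1) ^ 2 ≤ 4 :=
      le_trans (Nat.pow_le_pow_left (min_le_left 2 (t + 1)) 2) (by norm_num)
    calc (Nat.gcd (0 + 5) (t + 1) - 1) * (min 2 (t + 1) ^ 2 * (t + 2) ^ 2)
        ≤ t * (4 * (t + 2) ^ 2) :=
          Nat.mul_le_mul hd (Nat.mul_le_mul_right _ h2)
      _ ≤ 2 * ((t + 1) * (t + 2) ^ (0 + 3)) := by
          have h3 : 4 * t ≤ 2 * ((t + 1) * (t + 2)) := by nlinarith [sq_nonneg t]
          have h4 : (t + 2) ^ (0 + 3) = (t + 2) * (t + 2) ^ 2 := by ring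
          rw [h4]
          calc t * (4 * (t + 2) ^ 2) = (4 * t) * (t + 2) ^ 2 := by ring
            _ ≤ (2 * ((t + 1) * (t + 2))) * (t + 2) ^ 2 := Nat.mul_le_mul_right _ h3
            _ = 2 * ((t + 1) * ((t + 2) * (t + 2) ^ 2)) := by ring
  · have h1 : (0 + 1 + 5) / 2 = 3 := by norm_num
    rw [h1]
    have h2 : min 3 (t + 1) ^ 2 ≤ 9 :=
      le_trans (Nat.pow_le_pow_left (min_le_left 3 (t + 1)) 2) (by norm_num)
    calc (Nat.gcd (0 + 1 + 5) (t + 1) - 1) * (min 3 (t + 1) ^ 2 * (t + 2) ^ 3)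
        ≤ t * (9 * (t + 2) ^ 3) :=
          Nat.mul_le_mul hd (Nat.mul_le_mul_right _ h2)
      _ ≤ 2 * ((t + 1) * (t + 2) ^ (0 + 1 + 3)) := by
          have h3 : 9 * t ≤ 2 * ((t + 1) * (t + 2)) := by nlinarith [sq_nonneg (t - 1), sq_nonneg t]
          have h4 : (t + 2) ^ (0 + 1 + 3) = (t + 2) * (t + 2) ^ 3 := by ring
          rw [h4]
          calc t * (9 * (t + 2) ^ 3) = (9 * t) * (t + 2) ^ 3 := by ring
            _ ≤ (2 * ((t + 1) * (t + 2))) * (t + 2) ^ 3 := Nat.mul_le_mul_right _ h3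
            _ = 2 * ((t + 1) * ((t + 2) * (t + 2) ^ 3)) := by ring
  · have hh : (m + 1 + 1 + 5) / 2 ≤ m + 3 := by omega
    have h2 : min ((m + 1 + 1 + 5) / 2) (t + 1) ^ 2 ≤ (t + 1) ^ 2 :=
      Nat.pow_le_pow_left (min_le_right _ _) 2
    have h3 : (t + 2) ^ ((m + 1 + 1 + 5) / 2) ≤ (t + 2) ^ (m + 3) :=
      Nat.pow_le_pow_right (by omega) hh
    calc (Nat.gcd (m + 1 + 1 + 5) (t + 1) - 1)
          * (min ((m + 1 + 1 + 5) / 2) (t + 1) ^ 2 * (t + 2) ^ ((m + 1 + 1 + 5) / 2))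
        ≤ t * ((t + 1) ^ 2 * (t + 2) ^ (m + 3)) :=
          Nat.mul_le_mul hd (Nat.mul_le_mul h2 h3)
      _ ≤ 2 * ((t + 1) * (t + 2) ^ (m + 1 + 1 + 3)) := by
          have h4 : (t + 2) ^ (m + 1 + 1 + 3) = (t + 2) ^ 2 * (t + 2) ^ (m + 3) := by ring
          rw [h4]
          have h5 : t * (t + 1) ^ 2 ≤ 2 * ((t + 1) * (t + 2) ^ 2) := by nlinarith [sq_nonneg t]
          calc t * ((t + 1) ^ 2 * (t + 2) ^ (m + 3)) = (t * (t + 1) ^ 2) * (t + 2) ^ (m + 3) := by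
                ring
            _ ≤ (2 * ((t + 1) * (t + 2) ^ 2)) * (t + 2) ^ (m + 3) := Nat.mul_le_mul_right _ h5
            _ = 2 * ((t + 1) * ((t + 2) ^ 2 * (t + 2) ^ (m + 3))) := by ring


section field

variable {F : Type u} [Field F] [Fintype F]

theorem upper_psl_2 :
    Nat.gcd 2 (Fintype.card F - 1)
        * Nat.card (ConjClasses (Matrix.ProjectiveSpecialLinearGroup (Fin 2) F))
      ≤ Fintype.card F + 5 := by
  classical
  obtain ⟨t, ht⟩ := exists_card_eq (F := F)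
  have hr : Fintype.card F - 1 = t + 1 := by omega
  have hb := psl_burnside (F := F) 0
  have hk := card_SL_mul_le (F := F) 0 (min 2 (t + 1)) (min 2 (t + 1)) (by omega) le_rfl
    (by rw [hr]; exact gcd_le_min _ _ _ (by omega) le_rfl (by omega))
    (fun j hj hj' => by omega)
  have hs := sum_fixed_le (F := F) 0 0 0 (t + 1) (by
    intro z hz
    obtain ⟨e, s, he2, hes, hs0, _, hle⟩ := fixed_le_of_ne_one 0 z hz
    have h1 : e ≤ 2 := Nat.le_of_dvd (by norm_num) ⟨s, hes⟩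
    obtain rfl : e = 2 := by omega
    obtain rfl : s = 1 := by omega
    rw [hr] at hle ⊢
    rw [aN_2_1, Nat.min_eq_left (by omega)] at hle
    refine le_trans hle ?_
    simp)
  rw [← hb, hr] at hs
  rw [hr, Nat.sub_self, zero_mul, add_zero] at hk
  have hk' : (t + 1) * Nat.card (ConjClasses (SpecialLinearGroup (Fin 2) F))
      ≤ aN (t + 1) 2 2 + (min 2 (t + 1) ^ 2 - 1) * aO (t + 1) 1 1 2 := hk
  rw [aN_2_2, aO_1_1_2] at hk'
  rw [hr, ht]
  have hd : Nat.gcd 2 (t + 1) ≤ 2 := Nat.gcd_le_left _ (by norm_num)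
  have hA : min 2 (t + 1) ^ 2 - 1 ≤ 3 := by
    have : min 2 (t + 1) ^ 2 ≤ 4 :=
      le_trans (Nat.pow_le_pow_left (min_le_left 2 (t + 1)) 2) (by norm_num)
    omega
  have hs' : (t + 1) * (Nat.gcd (0 + 2) (t + 1)
        * Nat.card (ConjClasses (Matrix.ProjectiveSpecialLinearGroup (Fin (0 + 2)) F)))
      ≤ (t + 1) * Nat.card (ConjClasses (SpecialLinearGroup (Fin (0 + 2)) F)) + 0
        + (Nat.gcd (0 + 2) (t + 1) - 1) * (t + 1) := hs
  refine Nat.le_of_mul_le_mul_left (c := t + 1) ?_ (by omega)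
  refine le_trans hs' ?_
  have h3 : (min 2 (t + 1) ^ 2 - 1) * (t + 1) ≤ 3 * (t + 1) := Nat.mul_le_mul_right _ hA
  have h4 : (Nat.gcd (0 + 2) (t + 1) - 1) * (t + 1) ≤ 1 * (t + 1) :=
    Nat.mul_le_mul_right _ (by
      have : Nat.gcd (0 + 2) (t + 1) ≤ 2 := hd
      omega)
  have h5 : (t + 1) * (t + 2 + 5) = (t + 1) * (t + 1 + 2) + 3 * (t + 1) + 1 * (t + 1) := by ring
  rw [h5]
  have hk'' : (t + 1) * Nat.card (ConjClasses (SpecialLinearGroup (Fin (0 + 2)) F))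
      ≤ (t + 1) * (t + 1 + 2) + (min 2 (t + 1) ^ 2 - 1) * (t + 1) := hk'
  omega

theorem upper_psl_3 :
    Nat.gcd 3 (Fintype.card F - 1)
        * Nat.card (ConjClasses (Matrix.ProjectiveSpecialLinearGroup (Fin 3) F))
      ≤ Fintype.card F ^ 2 + 5 * Fintype.card F := by
  classical
  obtain ⟨t, ht⟩ := exists_card_eq (F := F)
  have hr : Fintype.card F - 1 = t + 1 := by omega
  have hb := psl_burnside (F := F) 1
  have hk := upper_3 (F := F)
  have hs := sum_fixed_le (F := F) 1 0 0 (t + 1) (by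
    intro z hz
    obtain ⟨e, s, he2, hes, hs0, _, hle⟩ := fixed_le_of_ne_one 1 z hz
    have h1 : e ≤ 3 := Nat.le_of_dvd (by norm_num) ⟨s, hes⟩
    have h2 : e ≠ 2 := by
      rintro rfl
      omega
    obtain rfl : e = 3 := by omega
    obtain rfl : s = 1 := by omega
    rw [hr] at hle ⊢
    rw [aN_3_1, Nat.min_eq_left (by omega)] at hle
    refine le_trans hle ?_
    simp)
  rw [← hb, hr] at hs
  rw [ht] at hk
  rw [hr, ht]
  have hd : Nat.gcd 3 (t + 1) ≤ 3 := Nat.gcd_le_left _ (by norm_num)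
  have hs' : (t + 1) * (Nat.gcd 3 (t + 1)
        * Nat.card (ConjClasses (Matrix.ProjectiveSpecialLinearGroup (Fin 3) F)))
      ≤ (t + 1) * Nat.card (ConjClasses (SpecialLinearGroup (Fin 3) F)) + 0
        + (Nat.gcd 3 (t + 1) - 1) * (t + 1) := hs
  refine Nat.le_of_mul_le_mul_left (c := t + 1) ?_ (by omega)
  refine le_trans hs' ?_
  have h3 : (t + 1) * Nat.card (ConjClasses (SpecialLinearGroup (Fin 3) F))
      ≤ (t + 1) * ((t + 2) ^ 2 + 3 * (t + 2)) := Nat.mul_le_mul_left _ hk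
  have h4 : (Nat.gcd 3 (t + 1) - 1) * (t + 1) ≤ 2 * (t + 1) :=
    Nat.mul_le_mul_right _ (by omega)
  have h5 : (t + 1) * ((t + 2) ^ 2 + 5 * (t + 2))
      = (t + 1) * ((t + 2) ^ 2 + 3 * (t + 2)) + 2 * (t + 1) + 2 * (t + 1) * (t + 1) := by ring
  rw [h5]
  have h6 : 0 ≤ 2 * (t + 1) * (t + 1) := Nat.zero_le _
  omega

theorem upper_psl_4 :
    Nat.gcd 4 (Fintype.card F - 1)
        * Nat.card (ConjClasses (Matrix.ProjectiveSpecialLinearGroup (Fin 4) F))
      ≤ Fintype.card F ^ 3 + 5 * Fintype.card F ^ 2 := by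
  classical
  obtain ⟨t, ht⟩ := exists_card_eq (F := F)
  have hr : Fintype.card F - 1 = t + 1 := by omega
  have hb := psl_burnside (F := F) 2
  have hk := upper_4 (F := F)
  have hs := sum_fixed_le (F := F) 2 (-1) (min 2 (t + 1) ^ 2 * aN (t + 1) 4 2) (t + 1) (by
    intro z hz
    obtain ⟨e, s, he2, hes, hs0, hord, hle⟩ := fixed_le_of_ne_one 2 z hz
    have h1 : e ≤ 4 := Nat.le_of_dvd (by norm_num) ⟨s, hes⟩
    have h3 : e ≠ 3 := by
      rintro rfl
      omega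
    rw [hr] at hle ⊢
    rcases (show e = 2 ∨ e = 4 by omega) with rfl | rfl
    · obtain rfl : s = 2 := by omega
      have hz2 : zeta 2 z ^ 2 = 1 := by
        have h := pow_orderOf_eq_one (zeta 2 z)
        rw [hord] at h
        exact h
      have hz1 : zeta 2 z ≠ 1 := fun h => hz ((zeta_eq_one_iff 2 z).1 h)
      have hzm : zeta 2 z = -1 := by
        have : (zeta 2 z - 1) * (zeta 2 z + 1) = 0 := by
          have : (zeta 2 z - 1) * (zeta 2 z + 1) = zeta 2 z ^ 2 - 1 := by ring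
          rw [this, hz2, sub_self]
        rcases mul_eq_zero.1 this with h | h
        · exact absurd (sub_eq_zero.1 h) hz1
        · exact eq_neg_of_add_eq_zero_left h
      rw [if_pos hzm]
      exact le_trans hle (Nat.le_add_right _ _)
    · obtain rfl : s = 1 := by omega
      rw [aN_4_1, Nat.min_eq_left (by omega)] at hle
      refine le_trans hle ?_
      simp)
  rw [← hb, hr, aN_4_2] at hs
  rw [ht] at hk
  rw [hr, ht]
  have hs' : (t + 1) * (Nat.gcd 4 (t + 1)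
        * Nat.card (ConjClasses (Matrix.ProjectiveSpecialLinearGroup (Fin 4) F)))
      ≤ (t + 1) * Nat.card (ConjClasses (SpecialLinearGroup (Fin 4) F))
        + min 2 (t + 1) ^ 2 * ((t + 1) * (t + 1 + 2))
        + (Nat.gcd 4 (t + 1) - 1) * (t + 1) := hs
  refine Nat.le_of_mul_le_mul_left (c := t + 1) ?_ (by omega)
  refine le_trans hs' ?_
  have h3 : (t + 1) * Nat.card (ConjClasses (SpecialLinearGroup (Fin 4) F))
      ≤ (t + 1) * ((t + 2) ^ 3 + 3 * (t + 2) ^ 2) := Nat.mul_le_mul_left _ hk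
  have hd : Nat.gcd 4 (t + 1) - 1 ≤ t := by
    have := Nat.gcd_le_right 4 (show 0 < t + 1 by omega)
    omega
  have h4 : (Nat.gcd 4 (t + 1) - 1) * (t + 1) ≤ t * (t + 1) := Nat.mul_le_mul_right _ hd
  have h5 : min 2 (t + 1) ^ 2 * ((t + 1) * (t + 1 + 2)) + t * (t + 1)
      ≤ (t + 1) * (2 * (t + 2) ^ 2) := by
    rcases Nat.eq_zero_or_pos t with rfl | htpos
    · norm_num
    · have hmin : min 2 (t + 1) = 2 := by omega
      rw [hmin]
      nlinarith [sq_nonneg t]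
  have h6 : (t + 1) * ((t + 2) ^ 3 + 5 * (t + 2) ^ 2)
      = (t + 1) * ((t + 2) ^ 3 + 3 * (t + 2) ^ 2) + (t + 1) * (2 * (t + 2) ^ 2) := by ring
  rw [h6]
  omega

theorem upper_psl_ge5 (m : ℕ) :
    Nat.gcd (m + 5) (Fintype.card F - 1)
        * Nat.card (ConjClasses (Matrix.ProjectiveSpecialLinearGroup (Fin (m + 5)) F))
      ≤ Fintype.card F ^ (m + 4) + 5 * Fintype.card F ^ (m + 3) := by
  classical
  obtain ⟨t, ht⟩ := exists_card_eq (F := F)
  have hr : Fintype.card F - 1 = t + 1 := by omega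
  have hb := psl_burnside (F := F) (m + 3)
  have hk := upper_ge5 (F := F) m
  have hs := sum_fixed_le (F := F) (m + 3) 0 0
    (min ((m + 5) / 2) (t + 1) ^ 2 * (t + 2) ^ ((m + 5) / 2)) (by
    intro z hz
    obtain ⟨e, s, he2, hes, hs0, _, hle⟩ := fixed_le_of_ne_one (m + 3) z hz
    rw [hr] at hle ⊢
    have hsh : s ≤ (m + 5) / 2 := by
      rw [Nat.le_div_iff_mul_le (by norm_num)]
      calc s * 2 ≤ s * e := Nat.mul_le_mul_left _ he2
        _ = m + 5 := by rw [mul_comm, ← hes]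
    refine le_trans hle ?_
    refine le_trans ?_ (Nat.le_add_left _ _)
    apply Nat.mul_le_mul
    · exact Nat.pow_le_pow_left (min_le_min_right _ hsh) 2
    · exact le_trans (aN_bound (t + 1) (m + 3 + 2) s).1 (Nat.pow_le_pow_right (by omega) hsh))
  rw [← hb, hr] at hs
  rw [ht] at hk
  rw [hr, ht]
  have hs' : (t + 1) * (Nat.gcd (m + 5) (t + 1)
        * Nat.card (ConjClasses (Matrix.ProjectiveSpecialLinearGroup (Fin (m + 5)) F)))
      ≤ (t + 1) * Nat.card (ConjClasses (SpecialLinearGroup (Fin (m + 5)) F)) + 0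
        + (Nat.gcd (m + 5) (t + 1) - 1)
          * (min ((m + 5) / 2) (t + 1) ^ 2 * (t + 2) ^ ((m + 5) / 2)) := hs
  refine Nat.le_of_mul_le_mul_left (c := t + 1) ?_ (by omega)
  refine le_trans hs' ?_
  have h3 : (t + 1) * Nat.card (ConjClasses (SpecialLinearGroup (Fin (m + 5)) F))
      ≤ (t + 1) * ((t + 2) ^ (m + 4) + 3 * (t + 2) ^ (m + 3)) := Nat.mul_le_mul_left _ hk
  have h4 := num_ge5 t m
  have h6 : (t + 1) * ((t + 2) ^ (m + 4) + 5 * (t + 2) ^ (m + 3))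
      = (t + 1) * ((t + 2) ^ (m + 4) + 3 * (t + 2) ^ (m + 3))
        + 2 * ((t + 1) * (t + 2) ^ (m + 3)) := by ring
  rw [h6]
  omega

end field

end Cfsg.Agent.Helper44.SLk
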