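import Mathlib
import Cfsg.Agent.Helper44.TensDefs
import Cfsg.Agent.Helper44.TensT
import Cfsg.Agent.Helper12.TensT1
import Cfsg.Agent.Helper12.TensT2

set_option autoImplicit false

/-!
# S5979: consequences of Lemma (T) for matrices with the invariants of a Kronecker product
-/

namespace Cfsg.Agent.Helper44.Tens

open Matrix Cfsg.Geo Cfsg.Agent.Helper44.QSim Polynomial Cfsg.Agent.Helper12.Tens
open scoped Kronecker

universe u

variable {F : Type u} [Field F] {n a b : ℕ}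

theorem smul_one_kronecker_sub (α c : F) (B : Matrix (Fin b) (Fin b) F) :
    (α • (1 : Matrix (Fin a) (Fin a) F)) ⊗ₖ B - c • (1 : Matrix (Fin a × Fin b) (Fin a × Fin b) F)
      = (1 : Matrix (Fin a) (Fin a) F) ⊗ₖ (α • B - c • (1 : Matrix (Fin b) (Fin b) F)) := by
  ext ⟨i, j⟩ ⟨i', j'⟩
  simp only [Matrix.sub_apply, Matrix.kroneckerMap_apply, Matrix.smul_apply, Matrix.one_apply,
    smul_eq_mul, Prod.mk.injEq]
  by_cases hi : i = i' <;> by_cases hj : j = j' <;> simp [hi, hj]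

theorem KronInv.dvd_rank {M : Matrix (Fin n) (Fin n) F} (h : KronInv a b M) (c : F)
    (hc : (M - c • (1 : Matrix (Fin n) (Fin n) F)).rank < b) (c' : F) :
    a ∣ (M - c' • (1 : Matrix (Fin n) (Fin n) F)).rank := by
  obtain ⟨A, B, hAB⟩ := h
  have h1 := (hAB 1).1
  simp only [pow_one] at h1
  rw [h1 c] at hc
  obtain ⟨α, hα⟩ := scalar_of_rank_kron_lt A B c hc
  rw [h1 c', hα, smul_one_kronecker_sub, rank_one_kronecker]
  exact dvd_mul_right _ _

theorem KronInv.charpoly_eq_pow {M : Matrix (Fin n) (Fin n) F} (h : KronInv a b M) (c : F)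
    (hc : (M - c • (1 : Matrix (Fin n) (Fin n) F)).rank < b) :
    ∃ B' : Matrix (Fin b) (Fin b) F, M.charpoly = B'.charpoly ^ a := by
  obtain ⟨A, B, hAB⟩ := h
  have h1 := (hAB 1).1
  have h2 := (hAB 1).2
  simp only [pow_one] at h1 h2
  rw [h1 c] at hc
  obtain ⟨α, hα⟩ := scalar_of_rank_kron_lt A B c hc
  refine ⟨α • (B : Matrix (Fin b) (Fin b) F), ?_⟩
  rw [h2, hα, ← charpoly_one_kronecker]
  congr 1
  have := smul_one_kronecker_sub (a := a) α 0 (B : Matrix (Fin b) (Fin b) F)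
  simpa using this

theorem KronInv.charpoly_pow_card [Fintype F] {M : Matrix (Fin n) (Fin n) F} (h : KronInv a b M) :
    ∃ B' : Matrix (Fin b) (Fin b) F,
      (M ^ Nat.card (GL (Fin a) F)).charpoly = B'.charpoly ^ a := by
  obtain ⟨A, B, hAB⟩ := h
  refine ⟨(B : Matrix (Fin b) (Fin b) F) ^ Nat.card (GL (Fin a) F), ?_⟩
  rw [(hAB _).2, ← charpoly_one_kronecker]
  congr 2
  rw [← Units.val_pow_eq_pow_val, pow_card_eq_one']
  rfl

theorem not_kronInv_of_rank {M : Matrix (Fin n) (Fin n) F} (c c' : F)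
    (h1 : (M - c • (1 : Matrix (Fin n) (Fin n) F)).rank < b)
    (h2 : ¬ a ∣ (M - c' • (1 : Matrix (Fin n) (Fin n) F)).rank) : ¬ KronInv a b M :=
  fun h => h2 (KronInv.dvd_rank h c h1 c')

theorem sub_one_eq (M : Matrix (Fin n) (Fin n) F) :
    M - 1 = M - (1 : F) • (1 : Matrix (Fin n) (Fin n) F) := by rw [one_smul]

end Cfsg.Agent.Helper44.Tens
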