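import Mathlib
import Cfsg.Agent.Helper44.TensCons
import Cfsg.Agent.Helper44.IrredOrder
import Cfsg.Agent.Helper43.LagrD
import Cfsg.Agent.Helper12.TensPC
import Cfsg.Agent.Helper70.TensEU
import Cfsg.Agent.Helper70.TensE2a
import Cfsg.Agent.Helper89.TensES1
import Cfsg.Agent.Helper88.TensE2b
import Cfsg.Agent.Helper88.TensES2a
import Cfsg.Agent.Helper67.TensES2b

set_option autoImplicit false
open scoped MatrixGroups

/-!
# S5979: the derangements of prime order of `PSL_n(q)` on the cosets of the tensor product subgroup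
-/

namespace Cfsg.Agent.Helper44.Tens

open Matrix Cfsg.Geo Cfsg.Agent.Helper44.QSim Polynomial
open Cfsg.Agent.Helper12.Tens Cfsg.Agent.Helper70.Tens Cfsg.Agent.Helper89.Tens
  Cfsg.Agent.Helper88.Tens Cfsg.Agent.Helper67.Tens
open scoped Kronecker

universe u

variable {F : Type u} [Field F] {n a b : ℕ}

/-- (DU) -/
theorem exists_unipotent_not_kronInv (p : ℕ) [Fact p.Prime] [CharP F p] (hab : n = a * b)
    (ha : 2 ≤ a) (hlt : a < b) :
    ∃ x : GL (Fin n) F, IsPrimeElt p x ∧ ¬ KronInv a b (x : Matrix (Fin n) (Fin n) F) := by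
  have hn : 2 ≤ n := by nlinarith
  obtain ⟨x, hx, hrk⟩ := exists_transvection (F := F) (n := n) p hn
  refine ⟨x, hx, ?_⟩
  rw [sub_one_eq] at hrk
  apply not_kronInv_of_rank 1 1
  · rw [hrk]; omega
  · rw [hrk]
    intro h
    have := Nat.le_of_dvd one_pos h
    omega

/-- (DS1) -/
theorem exists_diag_not_kronInv [Fintype F] {q : ℕ} (hq : Fintype.card F = q) (hab : n = a * b)
    (ha : 2 ≤ a) (hlt : a < b) (r : ℕ) (hr : r.Prime) (hr2 : r ≠ 2) (hrq : r ∣ q - 1) :
    ∃ x : GL (Fin n) F, IsPrimeElt r x ∧ ¬ KronInv a b (x : Matrix (Fin n) (Fin n) F) := by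
  have hn : 3 ≤ n := by nlinarith
  obtain ⟨x, ζ, hx, hrk1, hrk2⟩ := exists_diag_two (n := n) hq hn r hr hr2 hrq
  refine ⟨x, hx, ?_⟩
  rw [sub_one_eq] at hrk1
  apply not_kronInv_of_rank 1 ζ
  · rw [hrk1]; omega
  · rw [hrk2]
    intro h
    have h1 : a ∣ n := ⟨b, hab⟩
    have h2 : a ∣ 1 := by
      have := (Nat.dvd_sub h1 h)
      have h3 : n - (n - 1) = 1 := by omega
      rwa [h3] at this
    have := Nat.le_of_dvd one_pos h2
    omega

/-- (D2a) -/
theorem exists_invol_not_kronInv (h2 : (2 : F) ≠ 0) (hab : n = a * b) (ha : 3 ≤ a) (hlt : a < b) :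
    ∃ x : GL (Fin n) F, IsPrimeElt 2 x ∧ ¬ KronInv a b (x : Matrix (Fin n) (Fin n) F) := by
  have hn : 3 ≤ n := by nlinarith
  obtain ⟨x, hx, hrk⟩ := exists_invol_two (n := n) h2 hn
  refine ⟨x, hx, ?_⟩
  rw [sub_one_eq] at hrk
  apply not_kronInv_of_rank 1 1
  · rw [hrk]; omega
  · rw [hrk]
    intro h
    have := Nat.le_of_dvd two_pos h
    omega

/-- (D2b) -/
theorem exists_refl_not_kronInv [Fintype F] {q : ℕ} (hq : Fintype.card F = q) (h2 : (2 : F) ≠ 0)
    (hab : n = 2 * b) (hlt : 2 < b) (hv : padicValNat 2 n < padicValNat 2 (q - 1)) :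
    ∃ x : GL (Fin n) F, IsPrimeElt 2 x ∧ ¬ KronInv 2 b (x : Matrix (Fin n) (Fin n) F) := by
  have hn : 2 ≤ n := by omega
  obtain ⟨x, c, hx, hrk⟩ := exists_refl (n := n) hq h2 hn hv
  refine ⟨x, hx, ?_⟩
  apply not_kronInv_of_rank c c
  · rw [hrk]; omega
  · rw [hrk]
    intro h
    have := Nat.le_of_dvd one_pos h
    omega

/-- (NC) -/
theorem not_dvd_card_gl [Fintype F] (p : ℕ) [Fact p.Prime] [CharP F p] {q : ℕ}
    (hq : Fintype.card F = q) (r : ℕ) (hr : r.Prime) (hrp : r ≠ p)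
    (ha : a < orderOf (q : ZMod r)) : ¬ r ∣ Nat.card (GL (Fin a) F) := by
  intro h1
  have hq1 : 1 ≤ q := by
    rw [← hq]
    exact Fintype.card_pos
  rw [Matrix.card_GL_field, hq, Cfsg.Agent.Helper43.Lagr.prod_gl_eq q a hq1] at h1
  have hrq : ¬ r ∣ q := by
    intro h
    obtain ⟨k, -, hk⟩ := FiniteField.card F p
    rw [hq] at hk
    rw [hk] at h
    have := (Nat.prime_dvd_prime_iff_eq hr (Fact.out : p.Prime)).mp (hr.dvd_of_dvd_pow h)
    exact hrp this
  rcases (Nat.Prime.dvd_mul hr).mp h1 with h2 | h2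
  · obtain ⟨i, -, hi⟩ := (Prime.dvd_finsetProd_iff (Nat.Prime.prime hr) _).mp h2
    exact hrq (hr.dvd_of_dvd_pow hi)
  · obtain ⟨i, hi, hdvd⟩ := (Prime.dvd_finsetProd_iff (Nat.Prime.prime hr) _).mp h2
    rw [Finset.mem_range] at hi
    have hpow : ((q : ℕ) : ZMod r) ^ (i + 1) = 1 := by
      have h3 : ((q ^ (i + 1) - 1 : ℕ) : ZMod r) = 0 := (ZMod.natCast_eq_zero_iff _ _).mpr hdvd
      rw [Nat.cast_sub (Nat.one_le_pow _ _ hq1), Nat.cast_pow, Nat.cast_one] at h3
      exact sub_eq_zero.mp h3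
    have h4 := orderOf_dvd_of_pow_eq_one hpow
    have h5 := Nat.le_of_dvd (Nat.succ_pos i) h4
    omega

/-- (DS2), with the order `i` of `q` modulo `r` and the element `u` of order `r` of `GL_i(q)` as
parameters -/
theorem exists_irred_not_kronInv_aux [Fintype F] (p : ℕ) [Fact p.Prime] [CharP F p] {q : ℕ}
    (hq : Fintype.card F = q) (ha : 2 ≤ a) (hlt : a < b) (r : ℕ) (hr : r.Prime)
    (hrp : r ≠ p) (hrq : ¬ r ∣ q - 1) (i : ℕ) (hidef : orderOf (q : ZMod r) = i) (hi : i ≤ n)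
    (u : GL (Fin i) F) (hu : orderOf u = r) :
    ∃ x : GL (Fin n) F, IsPrimeElt r x ∧ ¬ KronInv a b (x : Matrix (Fin n) (Fin n) F) := by
  have hp : p.Prime := Fact.out
  have hq1 : 1 ≤ q := by
    rw [← hq]
    exact Fintype.card_pos
  have hi0 : i ≠ 0 := by
    intro h0
    subst h0
    have : u = 1 := Subsingleton.elim _ _
    rw [this, orderOf_one] at hu
    exact hr.one_lt.ne hu
  have hi1 : i ≠ 1 := by
    intro h1
    rw [h1] at hidef
    have h2 := orderOf_eq_one_iff.mp hidef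
    apply hrq
    have h3 : ((q - 1 : ℕ) : ZMod r) = 0 := by
      rw [Nat.cast_sub hq1, h2, Nat.cast_one, sub_self]
    exact (ZMod.natCast_eq_zero_iff _ _).mp h3
  have hi2 : 2 ≤ i := by omega
  obtain ⟨x, hdet, hrk, hN⟩ := exists_block_embed hi u
  have hur : u ^ r = 1 := by rw [← hu]; exact pow_orderOf_eq_one u
  -- the determinant
  have hdetu : (u : Matrix (Fin i) (Fin i) F).det = 1 := by
    set d := (u : Matrix (Fin i) (Fin i) F).det with hd
    have hdr : d ^ r = 1 := by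
      rw [hd, ← Matrix.det_pow, ← Units.val_pow_eq_pow_val, hur]
      simp
    have hd0 : d ≠ 0 := by
      intro h0
      rw [h0, zero_pow hr.ne_zero] at hdr
      exact zero_ne_one hdr
    have hdq : d ^ (q - 1) = 1 := by
      rw [← hq]
      exact FiniteField.pow_card_sub_one_eq_one d hd0
    have h1 : orderOf d ∣ r := orderOf_dvd_of_pow_eq_one hdr
    have h2 : orderOf d ∣ q - 1 := orderOf_dvd_of_pow_eq_one hdq
    rcases (Nat.dvd_prime hr).mp h1 with h3 | h3
    · exact orderOf_eq_one_iff.mp h3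
    · exact absurd (h3 ▸ h2) hrq
  -- the characteristic polynomials of the powers
  have hK : ∀ N : ℕ, ¬ r ∣ N → ∃ f : F[X], Irreducible f ∧ f.natDegree = i ∧
      ((x : Matrix (Fin n) (Fin n) F) ^ N).charpoly = f * (X - C 1) ^ (n - i) := by
    intro N hrN
    set A : Matrix (Fin i) (Fin i) F := (u : Matrix (Fin i) (Fin i) F) ^ N with hA
    have hAr : A ^ r = 1 := by
      rw [hA, ← pow_mul, mul_comm, pow_mul, ← Units.val_pow_eq_pow_val, hur]
      simp
    have hA1 : A ≠ 1 := by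
      intro h1
      have h2 : u ^ N = 1 := by
        apply Units.ext
        rw [Units.val_pow_eq_pow_val]
        exact h1
      have := orderOf_dvd_of_pow_eq_one h2
      rw [hu] at this
      exact hrN this
    obtain ⟨hirr, hdeg⟩ := Cfsg.Agent.Helper44.minpoly_irreducible_of_order (p := p) hq hr hrp
      hidef A hAr hA1
    have hcp : A.charpoly = minpoly F A := by
      apply Polynomial.eq_of_monic_of_dvd_of_natDegree_le
        (minpoly.monic (Algebra.IsIntegral.isIntegral A)) (Matrix.charpoly_monic A)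
        (Matrix.minpoly_dvd_charpoly A)
      rw [Matrix.charpoly_natDegree_eq_dim, Fintype.card_fin, hdeg]
    refine ⟨A.charpoly, hcp ▸ hirr, hcp ▸ hdeg, (hN N).2⟩
  have hnd1 : ¬ r ∣ 1 := fun h => hr.one_lt.ne' (Nat.dvd_one.mp h)
  refine ⟨x, ⟨?_, ?_, ?_⟩, ?_⟩
  · exact (mem_specialLinear_iff x).mpr (hdet.trans hdetu)
  · refine ⟨1, ?_⟩
    rw [(hN r).1 hur, one_smul]
    rfl
  · intro z hz
    obtain ⟨f, hf, hfd, hfc⟩ := hK 1 hnd1
    rw [pow_one, hz] at hfc
    have h1 : (z • (1 : Matrix (Fin n) (Fin n) F)).charpoly = (X - C z) ^ n := by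
      rw [Matrix.smul_one_eq_diagonal, Matrix.charpoly_diagonal]
      simp
    rw [h1] at hfc
    have h2 : f ∣ (X - C z) ^ n := ⟨_, hfc⟩
    have h3 : f ∣ X - C z := hf.prime.dvd_of_dvd_pow h2
    have h4 := Polynomial.natDegree_le_of_dvd h3 (Polynomial.X_sub_C_ne_zero z)
    rw [Polynomial.natDegree_X_sub_C] at h4
    omega
  · intro h
    by_cases hib : i < b
    · have hrk' : ((x : Matrix (Fin n) (Fin n) F) - (1 : F) • (1 : Matrix (Fin n) (Fin n) F)).rank
          < b := by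
        rw [← sub_one_eq]
        omega
      obtain ⟨B', hB'⟩ := KronInv.charpoly_eq_pow h 1 hrk'
      obtain ⟨f, hf, hfd, hfc⟩ := hK 1 hnd1
      rw [pow_one] at hfc
      exact irreducible_mul_pow_ne_pow f B'.charpoly hf (by omega) (n - i) a ha
        (hfc.symm.trans hB')
    · have hrN : ¬ r ∣ Nat.card (GL (Fin a) F) :=
        not_dvd_card_gl p hq r hr hrp (by omega)
      obtain ⟨B', hB'⟩ := KronInv.charpoly_pow_card h
      obtain ⟨f, hf, hfd, hfc⟩ := hK _ hrN
      exact irreducible_mul_pow_ne_pow f B'.charpoly hf (by omega) (n - i) a ha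
        (hfc.symm.trans hB')

/-- (DS2) -/
theorem exists_irred_not_kronInv [Fintype F] (p : ℕ) [Fact p.Prime] [CharP F p] {q : ℕ}
    (hq : Fintype.card F = q) (ha : 2 ≤ a) (hlt : a < b) (r : ℕ) (hr : r.Prime)
    (hrp : r ≠ p) (hrq : ¬ r ∣ q - 1) (hi : orderOf (q : ZMod r) ≤ n) :
    ∃ x : GL (Fin n) F, IsPrimeElt r x ∧ ¬ KronInv a b (x : Matrix (Fin n) (Fin n) F) := by
  obtain ⟨u, hu⟩ := exists_gl_orderOf (F := F) p hq r hr hrp
  exact exists_irred_not_kronInv_aux p hq ha hlt r hr hrp hrq _ rfl hi u hu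

end Cfsg.Agent.Helper44.Tens
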