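import Mathlib
import Cfsg.Agent.Helper44.TensDefs
import Cfsg.Agent.Helper43.PGLInvRep
import Cfsg.Agent.Helper43.InvConj

set_option autoImplicit false

/-!
# Piece (G1) of S5979: an element of `GL_{2b}(q)`, `q` odd, with square a square scalar `w²` and
`rank (w⁻¹ x - 1)` even is conjugate to an element of the tensor product subgroup `GL_2 ⊗ GL_b`
-/

namespace Cfsg.Agent.Helper44.Tens

open Matrix Cfsg.Geo Cfsg.Agent.Helper44.QSim Cfsg.Agent.Helper43.PGLInv
open scoped Kronecker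

universe u

variable {F : Type u} [Field F] {n a b : ℕ}

/-- the rank of `tensElt e P A B - c` -/
theorem rank_tensElt_sub_smul (e : Fin n ≃ Fin a × Fin b) (P : GL (Fin n) F) (A : GL (Fin a) F)
    (B : GL (Fin b) F) (c : F) :
    ((tensElt e P A B : Matrix (Fin n) (Fin n) F) - c • (1 : Matrix (Fin n) (Fin n) F)).rank
      = ((A : Matrix (Fin a) (Fin a) F) ⊗ₖ (B : Matrix (Fin b) (Fin b) F)
          - c • (1 : Matrix (Fin a × Fin b) (Fin a × Fin b) F)).rank := by
  have hPP : (P : Matrix (Fin n) (Fin n) F) * ((P⁻¹ : GL (Fin n) F) : Matrix (Fin n) (Fin n) F)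
      = 1 := coe_mul_inv P
  set R : Matrix (Fin n) (Fin n) F := Matrix.reindex e.symm e.symm
    ((A : Matrix (Fin a) (Fin a) F) ⊗ₖ (B : Matrix (Fin b) (Fin b) F)) with hR
  have h1 : (tensElt e P A B : Matrix (Fin n) (Fin n) F) - c • (1 : Matrix (Fin n) (Fin n) F)
      = (P : Matrix (Fin n) (Fin n) F) * (R - c • (1 : Matrix (Fin n) (Fin n) F))
        * ((P⁻¹ : GL (Fin n) F) : Matrix (Fin n) (Fin n) F) := by
    rw [coe_tensElt, Matrix.mul_sub, Matrix.sub_mul, Matrix.mul_smul, Matrix.mul_one,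
      Matrix.smul_mul, hPP]
  have h2 : R - c • (1 : Matrix (Fin n) (Fin n) F)
      = Matrix.reindex e.symm e.symm
        ((A : Matrix (Fin a) (Fin a) F) ⊗ₖ (B : Matrix (Fin b) (Fin b) F)
          - c • (1 : Matrix (Fin a × Fin b) (Fin a × Fin b) F)) := by
    rw [hR]
    ext i j
    simp [Matrix.one_apply]
  rw [h1, rank_conj _ _ _ hPP, h2, Matrix.rank_reindex]

theorem tensElt_mul (e : Fin n ≃ Fin a × Fin b) (P : GL (Fin n) F) (A A' : GL (Fin a) F)
    (B B' : GL (Fin b) F) :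
    tensElt e P A B * tensElt e P A' B' = tensElt e P (A * A') (B * B') := by
  have h1 : kronGL (A * A') (B * B') = kronGL A B * kronGL A' B' := by
    apply Units.ext
    rw [Units.val_mul, coe_kronGL, coe_kronGL, coe_kronGL, Units.val_mul, Units.val_mul,
      Matrix.mul_kronecker_mul]
  unfold tensElt
  rw [h1, map_mul]
  group

theorem tensElt_one (e : Fin n ≃ Fin a × Fin b) (P : GL (Fin n) F) :
    tensElt e P (1 : GL (Fin a) F) (1 : GL (Fin b) F) = 1 := by
  have h1 : kronGL (1 : GL (Fin a) F) (1 : GL (Fin b) F) = 1 := by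
    apply Units.ext
    rw [coe_kronGL, Units.val_one, Units.val_one, Matrix.one_kronecker_one]
    rfl
  unfold tensElt
  rw [h1, map_one]
  group

/-- scalars in the first factor -/
theorem tensElt_scalar_mul (e : Fin n ≃ Fin a × Fin b) (P : GL (Fin n) F) (c : Fˣ)
    (A : GL (Fin a) F) (B : GL (Fin b) F) :
    tensElt e P (Matrix.GeneralLinearGroup.scalar (Fin a) c * A) B
      = Matrix.GeneralLinearGroup.scalar (Fin n) c * tensElt e P A B := by
  apply Units.ext
  rw [Units.val_mul, coe_tensElt, coe_tensElt, Units.val_mul,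
    Matrix.GeneralLinearGroup.coe_scalar, Matrix.GeneralLinearGroup.coe_scalar]
  rw [Matrix.scalar_apply, Matrix.scalar_apply, ← Matrix.smul_one_eq_diagonal,
    ← Matrix.smul_one_eq_diagonal, Matrix.smul_mul, Matrix.one_mul, Matrix.smul_mul,
    Matrix.one_mul, Matrix.smul_kronecker]
  have h1 : Matrix.reindex e.symm e.symm
      ((c : F) • ((A : Matrix (Fin a) (Fin a) F) ⊗ₖ (B : Matrix (Fin b) (Fin b) F)))
      = (c : F) • Matrix.reindex e.symm e.symm
        ((A : Matrix (Fin a) (Fin a) F) ⊗ₖ (B : Matrix (Fin b) (Fin b) F)) := by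
    ext i j
    simp
  rw [h1, Matrix.mul_smul, Matrix.smul_mul]

/-- the rank of `1 ⊗ dmat - 1` -/
theorem rank_one_kronecker_dmat_sub_one (h2 : (2 : F) ≠ 0) (t : ℕ) (ht : t ≤ b) :
    ((1 : Matrix (Fin a) (Fin a) F) ⊗ₖ dmat b t F
      - (1 : F) • (1 : Matrix (Fin a × Fin b) (Fin a × Fin b) F)).rank = a * t := by
  classical
  have h1 : (1 : Matrix (Fin a) (Fin a) F) ⊗ₖ dmat b t F
      - (1 : F) • (1 : Matrix (Fin a × Fin b) (Fin a × Fin b) F)
      = Matrix.diagonal (fun p : Fin a × Fin b => if (p.2 : ℕ) < t then (-2 : F) else 0) := by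
    unfold dmat
    rw [one_smul, ← Matrix.diagonal_one, Matrix.diagonal_kronecker_diagonal,
      ← Matrix.diagonal_one, Matrix.diagonal_sub]
    congr 1
    ext p
    simp only [Pi.one_apply, one_mul, Pi.sub_apply]
    split_ifs <;> norm_num
  rw [h1, Matrix.rank_diagonal, Fintype.card_subtype]
  have h3 : (Finset.univ.filter (fun p : Fin a × Fin b =>
      (if (p.2 : ℕ) < t then (-2 : F) else 0) ≠ 0))
      = (Finset.univ : Finset (Fin a)) ×ˢ Finset.univ.filter (fun j : Fin b => (j : ℕ) < t) := by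
    ext p
    simp only [Finset.mem_filter, Finset.mem_univ, true_and, Finset.mem_product]
    split_ifs with h <;> simp [h, h2]
  rw [h3, Finset.card_product, Finset.card_univ, Fintype.card_fin, Fin.card_filter_val_lt,
    min_eq_right ht]

/-- **(G1)** -/
theorem exists_isConj_tens_square (h2 : (2 : F) ≠ 0) (hab : n = 2 * b)
    (e : Fin n ≃ Fin 2 × Fin b) (P : GL (Fin n) F) (x : GL (Fin n) F) (w : F) (hw : w ≠ 0)
    (hxx : (x : Matrix (Fin n) (Fin n) F) * (x : Matrix (Fin n) (Fin n) F)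
      = (w * w) • (1 : Matrix (Fin n) (Fin n) F))
    (heven : Even ((w⁻¹ • (x : Matrix (Fin n) (Fin n) F) - 1).rank)) :
    ∃ y ∈ tensorProductSubgroup 2 b e P, IsConj x y := by
  classical
  set u : Matrix (Fin n) (Fin n) F := w⁻¹ • (x : Matrix (Fin n) (Fin n) F) with hu
  have huu : u * u = 1 := by
    rw [hu, Matrix.smul_mul, Matrix.mul_smul, hxx, smul_smul, smul_smul]
    have : w⁻¹ * w⁻¹ * (w * w) = 1 := by field_simp
    rw [this, one_smul]
  have hxu : (x : Matrix (Fin n) (Fin n) F) = w • u := by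
    rw [hu, smul_smul, mul_inv_cancel₀ hw, one_smul]
  obtain ⟨t, ht⟩ := heven
  have htb : t ≤ b := by
    have := Matrix.rank_le_card_width (u - 1)
    rw [Fintype.card_fin] at this
    omega
  set y₀ : GL (Fin n) F := tensElt e P (1 : GL (Fin 2) F) (dGL b t F) with hy₀
  have hy₀y₀ : y₀ * y₀ = 1 := by
    rw [hy₀, tensElt_mul, dGL_mul_self, one_mul, tensElt_one]
  have hy₀y₀' : (y₀ : Matrix (Fin n) (Fin n) F) * (y₀ : Matrix (Fin n) (Fin n) F) = 1 := by
    rw [← Units.val_mul, hy₀y₀]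
    rfl
  have hy₀rank : ((y₀ : Matrix (Fin n) (Fin n) F) - 1).rank = t + t := by
    have h0 : (y₀ : Matrix (Fin n) (Fin n) F) - 1
        = (y₀ : Matrix (Fin n) (Fin n) F) - (1 : F) • (1 : Matrix (Fin n) (Fin n) F) := by
      rw [one_smul]
    rw [h0, hy₀, rank_tensElt_sub_smul]
    have h3 := rank_one_kronecker_dmat_sub_one (a := 2) (F := F) h2 t htb
    show ((1 : Matrix (Fin 2) (Fin 2) F) ⊗ₖ dmat b t F
      - (1 : F) • (1 : Matrix (Fin 2 × Fin b) (Fin 2 × Fin b) F)).rank = t + t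
    rw [h3]
    ring
  set uGL : GL (Fin n) F := ⟨u, u, huu, huu⟩ with huGL
  have hconj := Cfsg.Agent.Helper43.Inv.isConj_of_invol h2 uGL y₀ huu hy₀y₀' (by
    show (u - 1).rank = ((y₀ : Matrix (Fin n) (Fin n) F) - 1).rank
    rw [hy₀rank, ht])
  obtain ⟨g, hg⟩ := isConj_iff.mp hconj
  set wu : Fˣ := Units.mk0 w hw with hwu
  set y : GL (Fin n) F := Matrix.GeneralLinearGroup.scalar (Fin n) wu * y₀ with hy
  have hxc : x = Matrix.GeneralLinearGroup.scalar (Fin n) wu * uGL := by
    apply Units.ext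
    rw [Units.val_mul, Matrix.GeneralLinearGroup.coe_scalar]
    show (x : Matrix (Fin n) (Fin n) F) = Matrix.scalar (Fin n) w * u
    rw [Matrix.scalar_apply, ← Matrix.smul_one_eq_diagonal, Matrix.smul_mul, Matrix.one_mul, hxu]
  refine ⟨y, ?_, ?_⟩
  · have h1 : y = tensElt e P (Matrix.GeneralLinearGroup.scalar (Fin 2) wu * 1) (dGL b t F) := by
      rw [tensElt_scalar_mul]
    rw [h1]
    exact tensElt_mem e P _ _
  · rw [isConj_iff]
    refine ⟨g, ?_⟩
    rw [hxc, hy, ← hg]
    have hcomm : g * Matrix.GeneralLinearGroup.scalar (Fin n) wu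
        = Matrix.GeneralLinearGroup.scalar (Fin n) wu * g := by
      apply Units.ext
      rw [Units.val_mul, Units.val_mul, Matrix.GeneralLinearGroup.coe_scalar]
      exact ((Matrix.scalar_commute w (fun r' => mul_comm _ _)) _).symm.eq
    calc g * (Matrix.GeneralLinearGroup.scalar (Fin n) wu * uGL) * g⁻¹
        = (g * Matrix.GeneralLinearGroup.scalar (Fin n) wu) * uGL * g⁻¹ := by group
      _ = Matrix.GeneralLinearGroup.scalar (Fin n) wu * (g * uGL * g⁻¹) := by
          rw [hcomm]; group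

end Cfsg.Agent.Helper44.Tens
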