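import Mathlib
import Cfsg.Agent.Helper44.TensDer
import Cfsg.Agent.Helper44.TensG1
import Cfsg.Agent.Helper65.QSimIDXa
import Cfsg.Agent.Helper67.TensG0
import Cfsg.Agent.Helper89.TensG2

set_option autoImplicit false
open scoped MatrixGroups

/-!
# S5979: assembly
-/

namespace Cfsg.Agent.Helper44.Tens

open Matrix Cfsg.Geo Cfsg.Agent.Helper44.QSim Polynomial
open Cfsg.Agent.Helper67.Tens Cfsg.Agent.Helper89.Tens
open scoped Kronecker

universe u

variable {F : Type u} [Field F] {n a b : ℕ}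

theorem odd_card_of_two_ne_zero [Fintype F] (h2 : (2 : F) ≠ 0) : Odd (Fintype.card F) := by
  by_contra hodd
  rw [Nat.not_odd_iff_even] at hodd
  apply h2
  have h1 : ((Fintype.card F : ℕ) : F) = 0 := Nat.cast_card_eq_zero F
  obtain ⟨p, hp⟩ := CharP.exists F
  have hpp : p.Prime := by
    rcases CharP.char_is_prime_or_zero F p with h | h
    · exact h
    · exfalso
      subst h
      have : CharZero F := CharP.charP_to_charZero F
      exact absurd h1 (Nat.cast_ne_zero.mpr Fintype.card_ne_zero)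
  have : Fact p.Prime := ⟨hpp⟩
  obtain ⟨k, -, hk⟩ := FiniteField.card F p
  rw [hk] at hodd
  have hp2 : p = 2 := by
    have := (Nat.Prime.even_iff hpp).mp ((Nat.even_pow.mp hodd).1)
    exact this
  subst hp2
  exact_mod_cast CharP.cast_eq_zero F 2

/-- the case `r = 2` of the criterion -/
theorem good_two [Fintype F] (p : ℕ) [Fact p.Prime] [CharP F p] {q : ℕ}
    (hq : Fintype.card F = q) (hab : n = 2 * b) (hb : 2 < b) (e : Fin n ≃ Fin 2 × Fin b)
    (P : GL (Fin n) F) (hodd : Odd q) (hv : padicValNat 2 (q - 1) ≤ padicValNat 2 n)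
    (x : GL (Fin n) F) (hx : x ∈ specialLinear (Fin n) F)
    (hxr : ∃ z : F, ((x ^ 2 : GL (Fin n) F) : Matrix (Fin n) (Fin n) F)
      = z • (1 : Matrix (Fin n) (Fin n) F)) :
    ∃ g ∈ specialLinear (Fin n) F, g⁻¹ * x * g ∈ tensorProductSubgroup 2 b e P := by
  have hp : p.Prime := Fact.out
  have hp2 : p ≠ 2 := by
    rintro rfl
    obtain ⟨k, -, hk⟩ := FiniteField.card F 2
    rw [hq] at hk
    rw [hk] at hodd
    have h1 : Even (2 ^ (k : ℕ)) := Nat.even_pow.mpr ⟨even_two, k.ne_zero⟩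
    exact (Nat.not_odd_iff_even.mpr h1) hodd
  have h2 : (2 : F) ≠ 0 := two_ne_zero_of_char p hp2
  obtain ⟨z, hz⟩ := hxr
  have hxx : (x : Matrix (Fin n) (Fin n) F) * (x : Matrix (Fin n) (Fin n) F)
      = z • (1 : Matrix (Fin n) (Fin n) F) := by
    rw [← hz, pow_two, Units.val_mul]
  have hn0 : n ≠ 0 := by omega
  have hz0 : z ≠ 0 := by
    rintro rfl
    rw [zero_smul] at hxx
    have h1 : (x : Matrix (Fin n) (Fin n) F) = 0 := by
      have := congrArg (fun M => ((x⁻¹ : GL (Fin n) F) : Matrix (Fin n) (Fin n) F) * M) hxx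
      simp only [Matrix.mul_zero] at this
      rwa [← Matrix.mul_assoc, coe_inv_mul, Matrix.one_mul] at this
    have h3 : (1 : Matrix (Fin n) (Fin n) F) = 0 := by
      rw [← coe_mul_inv x, h1, Matrix.zero_mul]
    have : Nonempty (Fin n) := ⟨⟨0, Nat.pos_of_ne_zero hn0⟩⟩
    exact one_ne_zero h3
  have hcop := orderOf_coprime_of_sq_scalar p hp2 x z hz0 hxx
  by_cases hsq : IsSquare z
  · obtain ⟨w, rfl⟩ := hsq
    have hw : w ≠ 0 := fun h => hz0 (by rw [h, mul_zero])
    have heven := even_rank_of_sq hq h2 hn0 hv x hx w hw hxx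
    obtain ⟨y, hy, hconj⟩ := exists_isConj_tens_square h2 hab e P x w hw hxx heven
    exact exists_conj_of_isConj_mem p _ x y hcop hy hconj
  · obtain ⟨y, hy, hconj⟩ := exists_isConj_tens_nonsquare (hq ▸ hodd) hab e P x z hsq hxx
    exact exists_conj_of_isConj_mem p _ x y hcop hy hconj

/-- the derangements -/
theorem exists_derangement [Fintype F] (p : ℕ) [Fact p.Prime] [CharP F p] {q : ℕ}
    (hq : Fintype.card F = q) (hab : n = a * b) (ha : 2 ≤ a) (hlt : a < b)
    (H : Subgroup (GL (Fin n) F)) (r : ℕ) (hr : r.Prime)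
    (hΩ : r ∣ H.relIndex (specialLinear (Fin n) F))
    (hne : ¬ (r = 2 ∧ a = 2 ∧ Odd q ∧ padicValNat 2 (q - 1) ≤ padicValNat 2 n)) :
    ∃ x : GL (Fin n) F, IsPrimeElt r x ∧ ¬ KronInv a b (x : Matrix (Fin n) (Fin n) F) := by
  have hp : p.Prime := Fact.out
  by_cases hrp : r = p
  · subst hrp
    exact exists_unipotent_not_kronInv r hab ha hlt
  have hi := Cfsg.Agent.Helper65.QSim.orderOf_le_of_dvd_index p hq H r hr hrp hΩ
  by_cases hrq : r ∣ q - 1
  · by_cases hr2 : r = 2
    · subst hr2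
      have hp2 : p ≠ 2 := fun h => hrp h.symm
      have h2 : (2 : F) ≠ 0 := two_ne_zero_of_char p hp2
      have hodd : Odd q := hq ▸ odd_card_of_two_ne_zero h2
      by_cases ha2 : a = 2
      · subst ha2
        have hv : padicValNat 2 n < padicValNat 2 (q - 1) := by
          by_contra hcon
          exact hne ⟨rfl, rfl, hodd, not_lt.mp hcon⟩
        exact exists_refl_not_kronInv hq h2 hab hlt hv
      · exact exists_invol_not_kronInv h2 hab (by omega) hlt
    · exact exists_diag_not_kronInv hq hab ha hlt r hr hr2 hrq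
  · exact exists_irred_not_kronInv p hq ha hlt r hr hrp hrq hi

end Cfsg.Agent.Helper44.Tens
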