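import Mathlib
import Cfsg.Agent.Helper97.P4K2

/-!
# S6001 piece (K2u): involutions `≠ ±1` of `M₄(F)`, `char F ≠ 2`, are classified by the trace
-/

set_option autoImplicit false

namespace Cfsg.Agent.Helper44.U4

open Matrix Polynomial

variable {F : Type*} [Field F]

/-- (K2u) involutions `≠ ±1` with the same trace have the same characteristic polynomial
(`char ≠ 2` only) -/
theorem invol_class_ne (h2 : (2 : F) ≠ 0) (y z : Matrix (Fin 4) (Fin 4) F)
    (hy : y * y = 1) (hz : z * z = 1) (hy1 : y ≠ 1) (hy2 : y ≠ -1) (hz1 : z ≠ 1) (hz2 : z ≠ -1)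
    (htr : Matrix.trace y = Matrix.trace z) : y.charpoly = z.charpoly := by
  obtain ⟨a, ha, hcha, ha4, ha0⟩ := Cfsg.Agent.Helper97.P4.invol_charpoly h2 y hy
  obtain ⟨b, hb, hchb, hb4, hb0⟩ := Cfsg.Agent.Helper97.P4.invol_charpoly h2 z hz
  have htra := Cfsg.Agent.Helper97.P4.invol_trace_eq y a ha hcha
  have htrb := Cfsg.Agent.Helper97.P4.invol_trace_eq z b hb hchb
  have hab : (a : F) = (b : F) := by
    have h : 2 * (a : F) - 4 = 2 * (b : F) - 4 := by rw [← htra, ← htrb, htr]
    have h' : (2 : F) * ((a : F) - (b : F)) = 0 := by linear_combination h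
    rcases mul_eq_zero.mp h' with h'' | h''
    · exact absurd h'' h2
    · exact sub_eq_zero.mp h''
  have h1 : (1 : F) ≠ 0 := one_ne_zero
  have ha4' : a ≠ 4 := fun h => hy1 (ha4 h)
  have ha0' : a ≠ 0 := fun h => hy2 (ha0 h)
  have hb4' : b ≠ 4 := fun h => hz1 (hb4 h)
  have hb0' : b ≠ 0 := fun h => hz2 (hb0 h)
  have hab' : a = b := by
    interval_cases a <;> interval_cases b <;> first
      | rfl
      | exact absurd rfl ha4'
      | exact absurd rfl ha0'
      | exact absurd rfl hb4'
      | exact absurd rfl hb0'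
      | (exfalso; push_cast at hab; first
          | exact h1 (by linear_combination hab)
          | exact h1 (by linear_combination -hab)
          | exact h2 (by linear_combination hab)
          | exact h2 (by linear_combination -hab))
  rw [hcha, hchb, hab']

end Cfsg.Agent.Helper44.U4
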